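import Mathlib
import Cfsg.Agent.H0.LP2
import Cfsg.Agent.H15.Spinor

/-! The universal quadratic model over `F₂` of a set of 3-transpositions. -/

set_option autoImplicit false

namespace H0

open H15

variable {G : Type*} [Group G] {D E : Set G}

open Classical in
/-- adjacency, as an element of `F₂` -/
noncomputable def bb (x y : G) : ZMod 2 := if Commute x y then 0 else 1

theorem bb_zero {x y : G} : bb x y = 0 ↔ Commute x y := by simp [bb]

theorem bb_one {x y : G} : bb x y = 1 ↔ ¬ Commute x y := by simp [bb]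

theorem bb_of {x y : G} (h : Commute x y) : bb x y = 0 := bb_zero.2 h

theorem bb_of_not {x y : G} (h : ¬ Commute x y) : bb x y = 1 := bb_one.2 h

@[simp] theorem bb_self (x : G) : bb x x = 0 := bb_of (Commute.refl x)

theorem bb_congr {x y z w : G} (h : Commute x y ↔ Commute z w) : bb x y = bb z w := by
  unfold bb; rw [h]

theorem bb_comm (x y : G) : bb x y = bb y x := bb_congr Commute.symm_iff

theorem bb_cj (g x y : G) : bb (cj g x) (cj g y) = bb x y := bb_congr commute_cj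

theorem sy_f2 : ∀ a : ZMod 2, a = 0 ∨ a = 1 := by decide

/-- adjacency is additive on the lines of a symplectic space -/
theorem Sy.add (hs : Sy E) (T : TT D) (hE : E ⊆ D) {x y z : G} (hx : x ∈ E) (hy : y ∈ E)
    (hz : z ∈ E) (h : ¬ Commute x y) : bb z (cj x y) = bb z x + bb z y := by
  by_cases h1 : Commute z x <;> by_cases h2 : Commute z y
  · rw [bb_of h1, bb_of h2, bb_of (TT.commute_cj_of h1 h2), add_zero]
  · rw [bb_of h1, bb_of_not h2, bb_of_not (T.adj_cj h1 h2), zero_add]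
  · rw [bb_of h2, bb_of_not h1, bb_of_not (T.adj_cj' (hE hx) (hE hy) h h2 h1), add_zero]
  · rw [bb_of_not h2, bb_of_not h1, bb_of]
    · rfl
    · by_cases h3 : z = cj x y
      · rw [h3]
      · exact hs x hx y hy z hz h h1 h2 h3

theorem sy_of_add (h : ∀ x ∈ E, ∀ y ∈ E, ∀ z ∈ E, ¬ Commute x y → bb z (cj x y) = bb z x + bb z y) :
    Sy E := fun x hx y hy z hz h0 h1 h2 _ => by
  rw [← bb_zero, h x hx y hy z hz h0, bb_of_not h1, bb_of_not h2]; rfl

/-- the universal model: the free `F₂`-space on `E` modulo the radical -/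
structure SM (E : Set G) {V : Type*} [AddCommGroup V] [Module (ZMod 2) V]
    (Q : QuadraticForm (ZMod 2) V) (φ : G → V) : Prop where
  rad : ∀ v, Q v = 0 → (∀ w, pol Q v w = 0) → v = 0
  one : ∀ x ∈ E, Q (φ x) = 1
  pol : ∀ x ∈ E, ∀ y ∈ E, pol Q (φ x) (φ y) = bb x y
  span : Submodule.span (ZMod 2) (φ '' E) = ⊤

theorem exists_SM {G : Type*} [Group G] [Finite G] (E : Set G) :
    ∃ (W : Submodule (ZMod 2) (E → ZMod 2)) (Q : QuadraticForm (ZMod 2) ((E → ZMod 2) ⧸ W))
      (φ : G → (E → ZMod 2) ⧸ W), SM E Q φ := by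
  classical
  have := Fintype.ofFinite E
  let n := Fintype.equivFin E
  let A : Matrix E E (ZMod 2) := fun i j => if i = j then 1 else if n i < n j then bb i.1 j.1 else 0
  let Q : QuadraticForm (ZMod 2) (E → ZMod 2) := (Matrix.toBilin' A).toQuadraticMap
  have hp : ∀ v w, pol (Q.lift _ le_rfl) (Submodule.Quotient.mk v) (Submodule.Quotient.mk w) =
      pol Q v w := fun v w => rfl
  refine ⟨Q.radical, Q.lift _ le_rfl,
    fun x => if hx : x ∈ E then Submodule.Quotient.mk (Pi.single ⟨x, hx⟩ 1) else 0,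
    fun v h1 h2 => ?_, fun x hx => ?_, fun x hx y hy => ?_, ?_⟩
  · obtain ⟨v, rfl⟩ := Submodule.Quotient.mk_surjective _ v
    exact (Submodule.Quotient.mk_eq_zero _).2 ⟨h1, LinearMap.ext fun w => h2 (Submodule.Quotient.mk w)⟩
  · simp only [hx, dif_pos, QuadraticMap.lift_mk]
    exact (Matrix.toBilin'_single A _ _).trans (if_pos rfl)
  · simp only [hx, hy, dif_pos, hp]
    rw [pol_eq, LinearMap.BilinMap.polar_toQuadraticMap, Matrix.toBilin'_single,
      Matrix.toBilin'_single]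
    simp only [A]
    by_cases h : x = y
    · subst h; simp; rfl
    · have h1 : n ⟨x, hx⟩ ≠ n ⟨y, hy⟩ := fun e => h (congrArg Subtype.val (n.injective e))
      rcases lt_or_gt_of_ne h1 with h2 | h2 <;> simp [h, Ne.symm h, h2, h2.not_gt, bb_comm x y]
  · rw [eq_top_iff]
    rintro v -
    obtain ⟨v, rfl⟩ := Submodule.Quotient.mk_surjective _ v
    rw [pi_eq_sum_univ' v, ← Submodule.mkQ_apply, map_sum]
    refine Submodule.sum_mem _ fun i _ => ?_
    rw [map_smul]
    exact Submodule.smul_mem _ _ (Submodule.subset_span ⟨i, i.2, by simp⟩)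

namespace SM

variable {V : Type*} [AddCommGroup V] [Module (ZMod 2) V] {Q : QuadraticForm (ZMod 2) V}
  {φ : G → V} (M : SM E Q φ)

omit M in
theorem add_self (v : V) : v + v = 0 := by
  rw [← two_smul (ZMod 2), show (2 : ZMod 2) = 0 from rfl, zero_smul]

omit M in
theorem pol_self' (v : V) : H15.pol Q v v = 0 := by
  rw [pol_self, show (2 : ZMod 2) = 0 from rfl, zero_mul]

include M

theorem induction {P : V → Prop} (h0 : P 0) (h1 : ∀ x ∈ E, P (φ x))
    (h2 : ∀ v w, P v → P w → P (v + w)) (v : V) : P v := by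
  have hv : v ∈ Submodule.span (ZMod 2) (φ '' E) := M.span ▸ Submodule.mem_top
  induction hv using Submodule.span_induction with
  | mem _ h => obtain ⟨x, hx, rfl⟩ := h; exact h1 x hx
  | zero => exact h0
  | add v w _ _ a b => exact h2 v w a b
  | smul c v _ a => rcases sy_f2 c with rfl | rfl <;> simpa

theorem eq_of {v w : V} (h1 : Q v = Q w) (h2 : ∀ z ∈ E, H15.pol Q (φ z) v = H15.pol Q (φ z) w) :
    v = w := by
  have h3 : ∀ u, H15.pol Q u v = H15.pol Q u w :=
    M.induction (by simp) h2 fun a b ha hb => by simp [ha, hb]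
  have h4 : v + w = 0 := M.rad _ (by
    rw [quad_add, h1, ← h3, pol_self', add_zero]; exact CharTwo.add_self_eq_zero _) fun u => by
    rw [pol_comm, map_add, h3]; exact CharTwo.add_self_eq_zero _
  rw [← add_zero v, ← add_self w, ← add_assoc, h4, zero_add]

variable (h : LP D E)
include h

theorem cj_eq (hs : Sy E) {x y : G} (hx : x ∈ E) (hy : y ∈ E) (hxy : ¬ Commute x y) :
    φ (cj x y) = φ x + φ y := by
  refine M.eq_of ?_ fun z hz => ?_
  · rw [quad_add, M.one _ (h.cj_mem hx hy), M.one x hx, M.one y hy, M.pol x hx y hy, bb_of_not hxy]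
    rfl
  · rw [map_add, M.pol z hz _ (h.cj_mem hx hy), M.pol z hz x hx, M.pol z hz y hy,
      hs.add h.tt h.le hx hy hz hxy]

theorem refl_eq (hs : Sy E) {x y : G} (hx : x ∈ E) (hy : y ∈ E) :
    (refl Q (φ x)).1 (φ y) = φ (cj x y) := by
  rw [refl_apply, M.one x hx, M.pol x hx y hy]
  by_cases hxy : Commute x y
  · simp [bb_of hxy, cj_of_commute hxy]
  · rw [bb_of_not hxy, M.cj_eq h hs hx hy hxy, add_comm, inv_one, show (-1 * 1 : ZMod 2) = 1 by decide,
      one_smul]

theorem inj [Finite G] {x y : G} (hx : x ∈ E) (hy : y ∈ E) (e : φ x = φ y) : x = y :=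
  h.eq_of_comm hx hy fun f hf _ h1 => by
    rw [← bb_zero, ← M.pol f hf y hy, ← e, M.pol f hf x hx, bb_of h1]

/-- the fourth point of a `D₄` diagram -/
theorem quad [Finite G] (hs : Sy E) {c p q r : G} (hc : c ∈ E) (hp : p ∈ E) (hq : q ∈ Dx E p)
    (hr : r ∈ Dx E p) (hqr : Commute q r) (hne : q ≠ r) (h1 : ¬ Commute c p) (h2 : ¬ Commute c q)
    (h3 : ¬ Commute c r) : ∃ s ∈ Dx E p, φ s = φ p + φ q + φ r := by
  have m1 := h.cj_mem hp hc
  have e1 := M.cj_eq h hs hp hc fun e => h1 e.symm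
  have m2 := h.cj_mem hq.1 m1
  have e2 := M.cj_eq h hs hq.1 m1 (h.tt.adj_cj hq.2.2.symm fun e => h2 e.symm)
  have m3 := h.cj_mem hr.1 m2
  have e3 := M.cj_eq h hs hr.1 m2
    (h.tt.adj_cj hqr.symm (h.tt.adj_cj hr.2.2.symm fun e => h3 e.symm))
  rw [e2, e1] at e3
  have e4 := M.cj_eq h hs hc m3 (by
    rw [← bb_one, ← M.pol _ hc _ m3, e3]
    simp only [map_add, M.pol _ hc _ hc, M.pol _ hc _ hp, M.pol _ hc _ hq.1, M.pol _ hc _ hr.1,
      bb_of_not h1, bb_of_not h2, bb_of_not h3, bb_self]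
    rfl)
  have m4 := h.cj_mem hc m3
  rw [e3, show φ c + (φ r + (φ q + (φ p + φ c))) = φ p + φ q + φ r + (φ c + φ c) by abel,
    add_self, add_zero] at e4
  refine ⟨_, ⟨m4, fun e => hne (M.inj h hq.1 hr.1 ?_), ?_⟩, e4⟩
  · rw [e, add_assoc, left_eq_add] at e4
    rw [← add_zero (φ q), ← e4, ← add_assoc, add_self, zero_add]
  · rw [← bb_zero, ← M.pol _ hp _ m4, e4]
    simp only [map_add, M.pol _ hp _ hp, M.pol _ hp _ hq.1, M.pol _ hp _ hr.1, bb_of hq.2.2,
      bb_of hr.2.2, bb_self, add_zero]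

end SM

/-- a `D₄` diagram -/
def SyD4 (E : Set G) : Prop := ∃ c ∈ E, ∃ p ∈ E, ∃ q ∈ Dx E p, ∃ r ∈ Dx E p, Commute q r ∧ q ≠ r ∧
  ¬ Commute c p ∧ ¬ Commute c q ∧ ¬ Commute c r

theorem SyD4.triple (h : SyD4 E) : Triple E :=
  let ⟨_, _, p, hp, q, hq, r, hr, h1, h2, _⟩ := h
  ⟨p, hp, q, hq, r, hr, hr.1, h2.symm, h1⟩

theorem sy_comm_closure {d g : G} (hg : g ∈ Subgroup.closure (Dx E d)) : Commute g d :=
  PTT.commute_of_mem_closure hg

/-- in a non-thick space with a `D₄`, every commuting triple is the set of leaves of a `D₄` -/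
theorem LP.sy_centre [Finite G] (h : LP D E) (hn : ¬ Thick E) (h4 : SyD4 E) {p q r : G}
    (hp : p ∈ E) (hq : q ∈ Dx E p) (hr : r ∈ Dx E p) (hqr : Commute q r) (hne : q ≠ r) :
    ∃ c ∈ E, ¬ Commute c p ∧ ¬ Commute c q ∧ ¬ Commute c r := by
  have H := h.res hn h4.triple p hp
  obtain ⟨c, hc, p', hp', q', hq', r', hr', h1, h2, h3, h4, h5⟩ := h4
  obtain ⟨g, hg, rfl⟩ := h.trans hp' hp
  have hq'' := (h.mem_Dx_cj hg).2 hq'
  have hr'' := (h.mem_Dx_cj hg).2 hr'
  obtain ⟨k, hk, rfl, rfl⟩ := H.comm_pair_trans hq'' hq (b := cj g r')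
    ⟨hr'', by simpa using h2.symm, by simpa using h1⟩ ⟨hr, hne.symm, hqr⟩
  refine ⟨cj k (cj g c), h.conj (h.conj hc hg) (Subgroup.closure_mono (Dx_subset _ _) hk), ?_,
    by simpa, by simpa⟩
  rw [← cj_of_commute (sy_comm_closure hk)]
  simpa

end H0
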