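import Mathlib

/-! The 36 nonsingular vectors of `O₆⁻(2)` and the 36 pairs of norm-one vectors of `O₅(3)`. -/

set_option autoImplicit false

namespace H18.E6

def tab : List ℕ := [0, 205, 7, 160, 202, 0, 0, 0, 4, 0, 0, 0, 157, 0, 0, 0, 90, 0, 0, 0, 0, 55, 229,
  57, 0, 232, 171, 133, 0, 30, 130, 28, 108, 0, 0, 0, 0, 19, 211, 21, 0, 214, 189, 151, 0, 12, 148,
  10, 63, 0, 0, 0, 0, 82, 121, 84, 0, 124, 36, 241, 0, 165, 238, 163]

def τ (a b c d e f : ZMod 2) (i : Fin 5) : ZMod 3 :=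
  (tab.getD (a.val + 2 * b.val + 4 * c.val + 8 * d.val + 16 * e.val + 32 * f.val) 0 / 3 ^ i.val : ℕ)

def q (a b c d e f : ZMod 2) : ZMod 2 := a + a * b + b + (c + c * d + d) + (e + e * f + f)

def dd (v w : Fin 5 → ZMod 3) : ZMod 3 :=
  -(v 0 * w 0 + v 1 * w 1 + v 2 * w 2 + v 3 * w 3 + v 4 * w 4)

theorem one : ∀ a b c d e f, q a b c d e f = 1 → dd (τ a b c d e f) (τ a b c d e f) = 1 := by
  decide +kernel

theorem comm : ∀ a b c d e f, q a b c d e f = 1 → ∀ a' b' c' d' e' f', q a' b' c' d' e' f' = 1 →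
    (a = a' ∧ b = b' ∧ c = c' ∧ d = d' ∧ e = e' ∧ f = f') ∨
    (a * b' + b * a' + (c * d' + d * c') + (e * f' + f * e') = 0 ↔
      dd (τ a b c d e f) (τ a' b' c' d' e' f') = 0) := by
  decide +kernel

theorem surj' : ∀ x y z t u : ZMod 3, dd ![x, y, z, t, u] ![x, y, z, t, u] = 1 →
    ∃ a b c d e f, q a b c d e f = 1 ∧ ((∀ i, τ a b c d e f i = ![x, y, z, t, u] i) ∨
      ∀ i, τ a b c d e f i = -![x, y, z, t, u] i) := by
  decide +kernel

theorem surj (v : Fin 5 → ZMod 3) (h : dd v v = 1) :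
    ∃ a b c d e f, q a b c d e f = 1 ∧ (τ a b c d e f = v ∨ τ a b c d e f = -v) := by
  have e : v = ![v 0, v 1, v 2, v 3, v 4] := by ext i; fin_cases i <;> rfl
  obtain ⟨a, b, c, d, e', f, h1, h2⟩ := surj' (v 0) (v 1) (v 2) (v 3) (v 4) h
  rw [← e] at h2
  exact ⟨a, b, c, d, e', f, h1, h2.imp funext funext⟩

/-- minus the dot product -/
def B : (Fin 5 → ZMod 3) →ₗ[ZMod 3] (Fin 5 → ZMod 3) →ₗ[ZMod 3] ZMod 3 :=
  -dotProductBilin (ZMod 3) (ZMod 3)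

theorem B_apply (v w : Fin 5 → ZMod 3) : B v w = dd v w := by
  simp [B, dd, dotProduct, Fin.sum_univ_five]

theorem B_symm (v w : Fin 5 → ZMod 3) : B v w = B w v := by simp [B, dotProduct_comm]

theorem B_nd (v : Fin 5 → ZMod 3) (h : ∀ w, B v w = 0) : v = 0 := by
  ext i
  simpa [B] using h (Pi.single i 1)

end H18.E6
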