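import Mathlib
import Cfsg.Agent.H6.ZII2

/-! Case II, type (a): counting and the commutator maps of `P`. -/

set_option autoImplicit false
set_option linter.unusedSectionVars false
set_option linter.unusedVariables false

namespace H18
namespace ZA

open H24 H26 H3.B71 H6.ZD Subgroup MulAction

section gen

variable {G : Type*} [Group G] [Finite G]

/-- coprime action on an abelian section -/
theorem mem_of_cent {P V K : Subgroup G} (hV : V ⊴ P) (hab : ⁅P, P⁆ ≤ V) (hKP : K ≤ N[P])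
    (hKV : K ≤ N[V]) (hcop : (♯P).Coprime ♯K) {x : G} (hx : x ∈ ⁅P, K⁆ ⊔ V) (hc : x ∈ C[K]) :
    x ∈ V := by
  have h1 := coprime_abel_cent_TI (quo_norm V hKP) (coprime_quo hcop V)
    ((abl_quo hV.norm).2 hab)
  have hPK : ⁅P, K⁆ ≤ N[V] := (comm_le_left hKP).trans hV.norm
  have hxN : x ∈ N[V] := (sup_le hPK (norm_self V)) hx
  rw [← cs_eq_one hxN, ← mem_bot, ← h1, ← quo_comm hV.norm hKV, ← quo_sup_right hPK]
  exact mem_inf.2 ⟨cs_mem_quo hx hxN, ap_mem_C _ hc hxN⟩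

theorem comm_mem_of_sq {P V : Subgroup G} (hV : P ≤ N[V]) (h : ∀ g ∈ P, g * g ∈ V) {g g' : G}
    (hg : g ∈ P) (hg' : g' ∈ P) : g * g' * g⁻¹ * g'⁻¹ ∈ V := by
  have e : g * g' * g⁻¹ * g'⁻¹ =
      (g * g') * (g * g') * (g'⁻¹ * (g⁻¹ * g⁻¹) * g'⁻¹⁻¹) * (g'⁻¹ * g'⁻¹) := by group
  rw [e]
  exact mul_mem (mul_mem (h _ (mul_mem hg hg')) (conj_mem (hV (inv_mem hg')) (h _ (inv_mem hg))))
    (h _ (inv_mem hg'))

theorem der_le_of_sq {P V : Subgroup G} (hV : P ≤ N[V]) (h : ∀ g ∈ P, g * g ∈ V) : ⁅P, P⁆ ≤ V :=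
  commutator_le.2 fun _ hg _ hg' => comm_mem_of_sq hV h hg hg'

end gen

variable {G Ω : Type*} [Group G] [Finite G] [MulAction G Ω] [Finite Ω] {Z : Set G} {d : ℕ}
  (h : C2 Ω Z d 1) {y v t g k x e : G} {a b c : Ω} {H : Subgroup G}
include h

theorem four_le : 4 ≤ 2 ^ d := by
  simpa using Nat.pow_le_pow_right (by norm_num : 0 < 2) h.two_le

theorem cardO : Nat.card Ω = (2 ^ d) ^ 3 + 1 := by
  rw [h.cardO]
  obtain ⟨r, hr⟩ : ∃ r, 2 ^ d = r + 1 := ⟨2 ^ d - 1, by have := four_le h; omega⟩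
  rw [hr, Nat.add_sub_cancel]; ring

theorem idx (hb : b ≠ a) : (stabilizer G b).relIndex (stabilizer G a) = (2 ^ d) ^ 3 := by
  have e : Orb (stabilizer G a) b = {a}ᶜ := by
    ext c
    constructor
    · rintro ⟨g, hg, rfl⟩
      exact smul_ne_of_fix hg hb
    · intro hc
      obtain ⟨g, h1, h2⟩ := h.trans hb hc
      exact ⟨g, h1, h2⟩
  have := Set.ncard_add_ncard_compl ({a} : Set Ω)
  rw [Set.ncard_singleton, cardO h, ← e, ncard_Orb] at this
  omega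

theorem isProd_odd {L : Subgroup G} (hL : L ⊴ stabilizer G a) (hH : H ≤ L)
    (ho : Odd (H.relIndex L)) (hb : b ≠ a) : IsProd H (L ⊓ stabilizer G b) L := by
  refine isProd_of_coprime_relIndex hH inf_le_left ?_
  rw [inf_relIndex_left]
  have h1 : (stabilizer G b).relIndex L ∣ (2 ^ d) ^ 3 := by
    have hp := isProd_sup' (A := stabilizer G a ⊓ stabilizer G b) (B := L)
      (inf_le_left.trans hL.norm)
    rw [← idx h hb, ← inf_relIndex_left (stabilizer G a), ← relIndex_mul_relIndex _ _ _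
      (le_sup_left (b := L)) (sup_le inf_le_left hL.le), hp.relIndex_eq]
    refine Dvd.dvd.mul_right (dvd_of_eq ?_) _
    rw [← inf_relIndex_right (stabilizer G a ⊓ _), inf_comm (stabilizer G a), inf_assoc,
      inf_eq_right.2 hL.le, inf_relIndex_right]
  refine Nat.Coprime.coprime_dvd_right h1 ?_
  rw [← pow_mul]
  exact Nat.Coprime.pow_right _ (Nat.coprime_two_right.2 ho)

theorem trans_odd (hH : H ≤ stabilizer G a) (ho : Odd (H.relIndex (stabilizer G a))) (hb : b ≠ a)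
    (hc : c ≠ a) : ∃ g ∈ H, g • b = c := by
  obtain ⟨g, h1, h2⟩ := h.trans hb hc
  obtain ⟨u, hu, w, hw, rfl⟩ := (isProd_odd h (Nml.refl _) hH ho hb).mul g h1
  exact ⟨u, hu, by rw [← h2, mul_smul, hw.2]⟩

theorem ncard_fix (hy : Wide Ω y) (ha : y • a = a) : {c | c ≠ a ∧ y • c = c}.ncard = 2 ^ d := by
  obtain ⟨b, hb, hyb⟩ := hy.exists_ne a
  obtain ⟨t, -, ht⟩ := h.bt' hy ha hyb hb
  have := ht.ncard_fix
  rw [← Set.ncard_sdiff_singleton_add_one (show a ∈ {c | y • c = c} from ha)] at this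
  have e : {c | c ≠ a ∧ y • c = c} = {c | y • c = c} \ {a} := by
    ext c; simp [and_comm]
  rw [e]; simpa using this

theorem ncard_om (hy : Wide Ω y) (ha : y • a = a) :
    {c | c ≠ a ∧ ∃ v ∈ FF Z y a, v ∉ AA Z a ∧ v • c = c}.ncard ≤ 2 ^ d * 2 ^ d := by
  classical
  have hs : {c | c ≠ a ∧ ∃ v ∈ FF Z y a, v ∉ AA Z a ∧ v • c = c} ⊆
      ↑((AA Z a : Set G).toFinite.toFinset.biUnion
        fun e => {c | c ≠ a ∧ (y * e) • c = c}.toFinite.toFinset) := by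
    rintro c ⟨hc, v, hv, hvA, hvc⟩
    obtain ⟨hw, hva, -, -, e, he, hX⟩ := h.of_mem_F hy ha hv hvA
    have hye : (y * e) • a = a := by rw [mul_smul, Az_fix he, ha]
    have := (h.of_mem_X (h.wide_mul hy ha he) hye (hX ▸ h.y_mem_X hw hva) hw.1.1).2.1 c
    simp only [Finset.coe_biUnion, Set.Finite.coe_toFinset, Set.mem_iUnion]
    exact ⟨e, he, hc, this.1 hvc⟩
  refine (Set.ncard_le_ncard hs (Finset.finite_toSet _)).trans ?_
  rw [Set.ncard_coe_finset]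
  refine (Finset.card_biUnion_le_card_mul _ _ (2 ^ d) fun e he => ?_).trans ?_
  · have he : e ∈ AA Z a := by simpa using he
    rw [← Set.ncard_eq_toFinset_card,
      ncard_fix h (h.wide_mul hy ha he) (by rw [mul_smul, Az_fix he, ha])]
  · rw [← Set.ncard_eq_toFinset_card, ← Nat.card_coe_set_eq]
    exact le_of_eq (congrArg (· * 2 ^ d) (h.cardA a))

theorem M_le_NA (a : Ω) : stabilizer G a ≤ N[AA Z a] := (h.N_A a).ge

theorem C_nml (a : Ω) : C[AA Z a] ⊴ stabilizer G a := ⟨h.C_le a, norm_C (M_le_NA h a)⟩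

theorem conj_not_mem (hy : Wide Ω y) (g : G) : g * y * g⁻¹ ∉ AA Z a := h.not_mem_A (hy.conj g)

/-- a subgroup of odd index of `M` does not permute two groups `F` -/
theorem no_perm (hy : Wide Ω y) (ha : y • a = a) (hv : Wide Ω v) (hva : v • a = a)
    (hH : H ≤ stabilizer G a) (ho : Odd (H.relIndex (stabilizer G a)))
    (hp : ∀ g ∈ H, g * y * g⁻¹ ∈ FF Z y a ∨ g * y * g⁻¹ ∈ FF Z v a) : False := by
  obtain ⟨b, hb, hyb⟩ := hy.exists_ne a
  have hs : ({a}ᶜ : Set Ω) ⊆ {c | c ≠ a ∧ ∃ w ∈ FF Z y a, w ∉ AA Z a ∧ w • c = c} ∪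
      {c | c ≠ a ∧ ∃ w ∈ FF Z v a, w ∉ AA Z a ∧ w • c = c} := fun c hc => by
    obtain ⟨g, hg, rfl⟩ := trans_odd h hH ho hb hc
    exact (hp g hg).imp (fun e => ⟨hc, _, e, conj_not_mem h hy g, conj_fix hyb⟩)
      fun e => ⟨hc, _, e, conj_not_mem h hy g, conj_fix hyb⟩
  have h1 := (Set.ncard_le_ncard hs).trans (Set.ncard_union_le _ _)
  have h2 := Set.ncard_add_ncard_compl ({a} : Set Ω)
  have h3 := ncard_om h hy ha
  have h4 := ncard_om h hv hva
  rw [Set.ncard_singleton, cardO h] at h2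
  have h5 := four_le h
  generalize 2 ^ d = q at *
  have : q ^ 3 ≤ 2 * (q * q) := by omega
  nlinarith

theorem no_perm_syl {P : Subgroup G} (hy : Wide Ω y) (ha : y • a = a) (hv : Wide Ω v)
    (hva : v • a = a) (hP : Syl 2 C[AA Z a] P)
    (hp : ∀ g ∈ N[P], g * y * g⁻¹ ∈ FF Z y a ∨ g * y * g⁻¹ ∈ FF Z v a) : False := by
  refine no_perm h hy ha hv hva (H := stabilizer G a ⊓ N[P]) inf_le_left ?_ fun g hg => hp g hg.2
  rw [(Frattini_arg Nat.prime_two (C_nml h a) hP).symm.relIndex_eq]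
  have := (piNat_compl_singleton Nat.prime_two).1
    (hP.idx_of_ge (L := stabilizer G a ⊓ N[P]) (le_inf (hP.le.trans (h.C_le a)) (norm_self P)))
  exact Nat.odd_iff.2 (by omega)

variable (hy : Wide Ω y) (ha : y • a = a)
include hy ha

theorem A_le_F : AA Z a ≤ FF Z y a := le_sup_left

theorem X_le_F : XX y a ≤ FF Z y a := le_sup_right

theorem y_mem_F : y ∈ FF Z y a := X_le_F h hy ha (h.y_mem_X hy ha)

theorem F_le_P : FF Z y a ≤ PP Z y a := (h.F_le_R hy ha).trans (h.R_le_P hy ha)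

theorem P_le_M : PP Z y a ≤ stabilizer G a := inf_le_left.trans (h.C_le a)

theorem P_ne : PP Z y a ≠ RR Z y a := fun e => by
  rw [← h.F_eq_R hy ha rfl] at e
  refine no_perm_syl h hy ha hy ha (P := PP Z y a)
    (Sylow_subnorm Nat.prime_two inf_le_left ?_) fun g hg => Or.inl ?_
  · rw [e]
    have : C[AA Z a] ⊓ N[FF Z y a] = FF Z y a := e
    rw [this]
    exact hall_self (e ▸ h.P_two hy ha)
  · rw [e] at hg
    exact conj_mem hg (y_mem_F h hy ha)

theorem card_P : ♯(PP Z y a) = 2 ^ d * (2 ^ d * ♯(XX y a)) := by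
  rw [((h.P_cases hy ha).resolve_left (P_ne h hy ha)).1, ← h.F_eq_R hy ha rfl, h.card_F hy ha]

theorem surj_y (he : e ∈ AA Z a) : ∃ g ∈ PP Z y a, g * y * g⁻¹ = y * e :=
  ((h.P_cases hy ha).resolve_left (P_ne h hy ha)).2 e he

theorem surj (hv : v ∈ FF Z y a) (h1 : v ∉ AA Z a) (he : e ∈ AA Z a) :
    ∃ g ∈ PP Z y a, g * v * g⁻¹ = v * e := by
  obtain ⟨hw, hva, hF, -⟩ := h.of_mem_F hy ha hv h1
  have := surj_y h hw hva he
  rwa [PP, hF] at this

/-- the centraliser in `C` of an element of `F - A` is `F` -/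
theorem mem_F_of_comm (hv : v ∈ FF Z y a) (h1 : v ∉ AA Z a) (hg : g ∈ C[AA Z a])
    (hc : g * v = v * g) : g ∈ FF Z y a := by
  rw [h.F_eq_R hy ha rfl, ← (h.of_mem_F hy ha hv h1).2.2.2.1]
  exact mem_inf.2 ⟨hg, mem_C1.2 hc⟩

theorem sq_mem (hg : g ∈ PP Z y a) : g * g ∈ AA Z a := by
  by_contra e
  refine h.not_wide_sq hg.1 (h.of_mem_F hy ha ?_ e).1
  refine mem_F_of_comm h hy ha (y_mem_F h hy ha) (h.not_mem_A hy) (mul_mem hg.1 hg.1) ?_
  obtain ⟨u, hu⟩ : ∃ u, u = g * y * g⁻¹ * y⁻¹ := ⟨_, rfl⟩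
  have hA : u ∈ AA Z a := hu ▸ h.P_cent hy ha hg (y_mem_F h hy ha)
  have e1 : g * y = u * y * g := by rw [hu]; group
  have e2 : g * u = u * g := mem_C'.1 hg.1 u hA
  calc g * g * y = g * u * y * g := by rw [mul_assoc, e1]; group
    _ = u * (g * y) * g := by rw [e2]; group
    _ = (u * u) * (y * (g * g)) := by rw [e1]; group
    _ = _ := by rw [h.A_sq hA, one_mul]

theorem P_le_NA : PP Z y a ≤ N[AA Z a] := inf_le_left.trans (C_le_N _)

theorem comm_mem {g' : G} (hg : g ∈ PP Z y a) (hg' : g' ∈ PP Z y a) :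
    g * g' * g⁻¹ * g'⁻¹ ∈ AA Z a :=
  comm_mem_of_sq (P_le_NA h hy ha) (fun _ => sq_mem h hy ha) hg hg'

theorem mem_P_of_conj (hg : g ∈ C[AA Z a]) (hF : g * y * g⁻¹ ∈ FF Z y a) : g ∈ PP Z y a := by
  refine mem_inf.2 ⟨hg, mem_N_iff_cj.2 ?_⟩
  rw [h.cj_F, show g • a = a from h.C_le a hg]
  exact (h.of_mem_F hy ha hF (conj_not_mem h hy g)).2.2.1

variable (ht : t ∈ Z) (hta : t • a ≠ a) (hb : y • t • a = t • a)
include ht hta hb

theorem exists_k : ∃ k ∈ KK Z a t, k ≠ 1 := by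
  refine exists_ne_one fun e => ?_
  have := (h.sing hy ha ht hta hb).cardK
  rw [e, card_bot] at this
  have := four_le h
  omega

theorem K_odd : Odd ♯(KK Z a t) := by
  have h1 := (h.sing hy ha ht hta hb).cardK
  have h2 : Even (2 ^ d) := (Nat.even_pow' (by have := h.two_le; omega)).2 even_two
  rw [← h1] at h2
  exact Nat.even_add_one.1 h2 |> Nat.not_even_iff_odd.1

theorem cop {P : Subgroup G} (hP : IsPi {2} P) : (♯P).Coprime ♯(KK Z a t) :=
  hP.coprime (odd_iff_isPi.1 (K_odd h hy ha ht hta hb))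

/-- an element of `M` centralising `K` fixes `t a` -/
theorem fix_of_cent (hg : g • a = a) (hc : g ∈ C[KK Z a t]) : g • t • a = t • a := by
  obtain ⟨k, hk, h1⟩ := exists_k h hy ha ht hta hb
  have hkb : k • t • a = t • a :=
    (h.ze.K_spec ht hta (Kz_fix hk) ((h.memK hy ha ht hta hb).1 hk).2).2.1
  exact (h.K_fix hy ha ht hta hb hk h1 (comm_fix (mem_C.1 hc k hk) hkb)).resolve_left
    (smul_ne_of_fix hg hta)

/-- `K` is fixed point free on `P / F` -/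
theorem K_fpf (hk : k ∈ KK Z a t) (hg : g ∈ PP Z y a) (e : k * g * k⁻¹ * g⁻¹ ∈ FF Z y a) :
    k = 1 ∨ g ∈ FF Z y a := by
  have hky : k * y = y * k := mem_C1.1 (h.K_cent_y hy ha ht hta hb hk)
  have hfy : (k * g * k⁻¹ * g⁻¹) * y = y * (k * g * k⁻¹ * g⁻¹) := mem_C1.1 (h.F_le_R hy ha e).2
  have hu := h.P_cent hy ha hg (y_mem_F h hy ha)
  have hfu := mem_C'.1 (h.F_le_R hy ha e).1 _ hu
  refine ((h.sing hy ha ht hta hb).free k hk _ hu ?_).imp_right fun e =>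
    mem_F_of_comm h hy ha (y_mem_F h hy ha) (h.not_mem_A hy) hg.1 ?_
  · obtain ⟨f, hf⟩ : ∃ f, f = k * g * k⁻¹ * g⁻¹ := ⟨_, rfl⟩
    rw [← hf] at hfy hfu
    have e1 : k * g = f * g * k := by rw [hf]; group
    have e2 : k * y⁻¹ = y⁻¹ * k := (Commute.inv_right hky).eq
    have e3 : k * g⁻¹ = g⁻¹ * f⁻¹ * k := by rw [hf]; group
    calc k * (g * y * g⁻¹ * y⁻¹) = (k * g) * y * g⁻¹ * y⁻¹ := by group
      _ = f * g * (k * y) * g⁻¹ * y⁻¹ := by rw [e1]; group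
      _ = f * g * y * (k * g⁻¹) * y⁻¹ := by rw [hky]; group
      _ = f * (g * y * g⁻¹ * y⁻¹) * (y * f⁻¹ * (k * y⁻¹)) := by rw [e3]; group
      _ = (g * y * g⁻¹ * y⁻¹) * (f * y * f⁻¹ * y⁻¹) * k := by rw [hfu, e2]; group
      _ = _ := by rw [hfy]; group
  · calc g * y = (g * y * g⁻¹ * y⁻¹) * (y * g) := by group
      _ = _ := by rw [e, one_mul]

end ZA
end H18
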