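import Mathlib
import Cfsg.Agent.H6.ZIIa1
import Cfsg.Agent.H6.Transfer2

/-! Case II, type (a): `P` is a Sylow subgroup of `C(A)`. -/

set_option autoImplicit false
set_option linter.unusedSectionVars false
set_option linter.unusedVariables false

namespace H18
namespace ZA

open H24 H26 H3.B71 H6.ZD Subgroup MulAction

theorem exists_sq_mem {G : Type*} [Group G] {P R : Subgroup G} (n : ℕ) {g : G} (hg : g ∈ R)
    (h1 : g ∉ P) (h2 : g ^ 2 ^ n ∈ P) : ∃ g ∈ R, g ∉ P ∧ g * g ∈ P := by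
  induction n generalizing g with
  | zero => exact absurd (by simpa using h2) h1
  | succ n ih =>
    by_cases e : g * g ∈ P
    · exact ⟨g, hg, h1, e⟩
    · exact ih (mul_mem hg hg) e (by rwa [← pow_two, ← pow_mul, ← pow_succ'])

variable {G Ω : Type*} [Group G] [Finite G] [MulAction G Ω] [Finite Ω]

/-- the data of `struct_a` -/
structure St (Z : Set G) (d : ℕ) (y t : G) (a : Ω) (B : Subgroup G) : Prop where
  h : C2 Ω Z d 1
  hy : Wide Ω y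
  ha : y • a = a
  ht : t ∈ Z
  hta : t • a ≠ a
  hb : y • t • a = t • a
  X : XX y a = zpowers y
  AB : AA Z a ≤ B
  BP : B ≤ PP Z y a
  cB : ♯B = 4 ^ d
  cP : ♯(PP Z y a) = 2 * 4 ^ d
  comm : ∀ x ∈ B, ∀ x' ∈ B, x * x' = x' * x
  sq : ∀ x ∈ B, x * x ∈ AA Z a
  om : ∀ x ∈ B, x * x = 1 → x ∈ AA Z a
  inv : ∀ x ∈ B, y * x * y⁻¹ = x⁻¹
  yB : y ∉ B
  NB : N[PP Z y a] ≤ N[B]

namespace St

variable {Z : Set G} {d : ℕ} {y t : G} {a : Ω} {B : Subgroup G} (s : St Z d y t a B)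
  {g g' v w e : G} {c : Ω} {S : Subgroup G}
include s

theorem yF : y ∈ FF Z y a := y_mem_F s.h s.hy s.ha

theorem yP : y ∈ PP Z y a := F_le_P s.h s.hy s.ha s.yF

theorem PB : PP Z y a ≤ N[B] := (norm_self _).trans s.NB

theorem cases (hg : g ∈ PP Z y a) : g ∈ B ∨ ∃ w ∈ B, g = w * y := by
  have hn : zpowers y ≤ N[B] := zp_le_N (s.PB s.yP)
  have : B ⊔ zpowers y = PP Z y a := by
    refine eq_of_card_eq (sup_le s.BP (zpowers_le_of_mem s.yP)) ?_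
    rw [card_sup_of_inf hn ((eq_bot_iff_forall (B ⊓ zpowers y)).2 fun x hx =>
      (s.hy.1.mem_zp hx.2).resolve_right fun e => s.yB (e ▸ hx.1)), s.cB, s.cP,
      s.hy.1.card_zpowers, mul_comm]
  obtain ⟨w, hw, z, hz, rfl⟩ := (mem_sup_of_norm hn).1 (this ▸ hg)
  rcases s.hy.1.mem_zp hz with rfl | rfl
  · exact Or.inl (by simpa using hw)
  · exact Or.inr ⟨w, hw, rfl⟩

theorem wide (hv : v ∈ PP Z y a) (h1 : v ∉ B) : Wide Ω v := by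
  obtain ⟨w, hw, rfl⟩ := (s.cases hv).resolve_left h1
  refine (s.h.inv_cases ⟨fun e => h1 (by rw [e]; exact one_mem _), ?_⟩
    (P_le_M s.h s.hy s.ha hv)).resolve_left fun e => h1 (s.AB e)
  calc _ = w * (y * w * y⁻¹) * (y * y) := by group
    _ = _ := by rw [s.inv w hw, s.hy.1.2]; group

theorem F_cases (hv : v ∈ FF Z y a) : v ∈ AA Z a ∨ ∃ e ∈ AA Z a, v = y * e := by
  obtain ⟨x, hx, e, he, rfl⟩ := (s.h.mem_F s.hy s.ha).1 hv
  rcases s.hy.1.mem_zp (s.X ▸ hx) with rfl | rfl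
  · exact Or.inl (by simpa using he)
  · exact Or.inr ⟨e, he, rfl⟩

theorem mem_A (hB : v ∈ B) (hv : v ∈ FF Z y a) : v ∈ AA Z a :=
  (s.F_cases hv).resolve_right fun ⟨e, he, h⟩ => s.yB ((mul_mem_cancel_right (s.AB he)).1 (h ▸ hB))

theorem conj_P (hg : g ∈ N[PP Z y a]) : g * y * g⁻¹ ∈ PP Z y a := conj_mem hg s.yP

theorem conj_B (hg : g ∈ N[PP Z y a]) : g * y * g⁻¹ ∉ B := fun e =>
  s.yB ((conj_mem_iff (s.NB hg)).1 e)

theorem Ky (hg : g ∈ KK Z a t) : g * y * g⁻¹ = y :=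
  mem_C1_iff_conj.1 (s.h.K_cent_y s.hy s.ha s.ht s.hta s.hb hg)

theorem KP : KK Z a t ≤ N[PP Z y a] := K_NP s.h s.hy s.ha s.ht s.hta s.hb

theorem ktr (hv : v ∈ PP Z y a) (hw : w ∈ PP Z y a) (h1 : v ∉ B) (h2 : w ∉ B)
    (h3 : v ∉ FF Z y a) (h4 : w ∉ FF Z y a) : ∃ k ∈ KK Z a t, k * v * k⁻¹ * w⁻¹ ∈ AA Z a := by
  have e := s.h.F_eq_R s.hy s.ha rfl
  obtain ⟨k, hk, h5⟩ := s.h.K_trans_P s.hy s.ha s.ht s.hta s.hb hv hw (e ▸ h3) (e ▸ h4)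
  refine ⟨k, hk, s.mem_A ?_ (e ▸ h5)⟩
  obtain ⟨v', hv', e1⟩ := (s.cases (conj_mem (s.KP hk) hv)).resolve_left fun e =>
    h1 ((conj_mem_iff (s.NB (s.KP hk))).1 e)
  obtain ⟨w', hw', rfl⟩ := (s.cases hw).resolve_left h2
  rw [e1, show v' * y * (w' * y)⁻¹ = v' * w'⁻¹ by group]
  exact mul_mem hv' (inv_mem hw')

theorem ktr' (hg : g ∈ N[PP Z y a]) (hg' : g' ∈ N[PP Z y a]) (ha : g' • a = a)
    (h1 : g * y * g⁻¹ ∉ FF Z y a) (h2 : g' * y * g'⁻¹ ∉ FF Z y a) :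
    ∃ k ∈ KK Z a t, (g'⁻¹ * (k * g)) * y * (g'⁻¹ * (k * g))⁻¹ ∈ FF Z y a := by
  obtain ⟨k, hk, h3⟩ := s.ktr (s.conj_P hg) (s.conj_P hg') (s.conj_B hg) (s.conj_B hg') h1 h2
  refine ⟨k, hk, ?_⟩
  have := mul_mem (A_le_F s.h s.hy s.ha (conj_mem' (M_le_NA s.h a ha) h3)) s.yF
  convert this using 1
  group

theorem card_F : ♯(FF Z y a) = 2 ^ d * 2 := by
  rw [s.h.card_F s.hy s.ha, s.X, s.hy.1.card_zpowers]

theorem inf_W (hS : IsPi {2} S) (hy : y ∈ S) : S ⊓ WW Z a (t • a) = zpowers y := by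
  rw [← s.X]
  refine (s.h.syl_X s.hy s.ha s.hb s.hta).eq_of_le (hS.inf_left _) ?_ inf_le_right
  exact le_inf (s.X ▸ zpowers_le_of_mem hy) (s.h.syl_X s.hy s.ha s.hb s.hta).le

theorem cent_y (hg : g ∈ N[zpowers y]) : g * y * g⁻¹ = y :=
  (s.hy.1.mem_zp (conj_mem hg (mem_zpowers y))).resolve_left (s.hy.1.conj g).1

theorem KR : KK Z a t ≤ N[C[AA Z a] ⊓ N[PP Z y a]] :=
  norm_inf (norm_C (K_NA s.h s.hy s.ha s.ht s.hta s.hb)) (norm_N s.KP)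

theorem PR : PP Z y a ≤ C[AA Z a] ⊓ N[PP Z y a] := le_inf inf_le_left (norm_self _)

section case1

variable (hne : ¬ C[AA Z a] ⊓ N[PP Z y a] ≤ PP Z y a)
include hne

theorem card_R1 : ♯(C[AA Z a] ⊓ N[PP Z y a]) = 2 * (2 ^ d) ^ 3 := by
  obtain ⟨g0, hg0, h0⟩ := SetLike.not_le_iff_exists.1 hne
  have h1 : {x | ∃ g ∈ C[AA Z a] ⊓ N[PP Z y a], g * y * g⁻¹ = x} = (PP Z y a : Set G) \ B := by
    ext v
    constructor
    · rintro ⟨g, hg, rfl⟩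
      exact ⟨s.conj_P hg.2, s.conj_B hg.2⟩
    rintro ⟨hv, hvB⟩
    obtain ⟨g, hg, h2⟩ : ∃ g ∈ C[AA Z a] ⊓ N[PP Z y a], g * y * g⁻¹ * v⁻¹ ∈ AA Z a := by
      by_cases hF : v ∈ FF Z y a
      · obtain ⟨e, he, rfl⟩ := (s.F_cases hF).resolve_left fun e => hvB (s.AB e)
        refine ⟨1, one_mem _, ?_⟩
        convert conj_mem (M_le_NA s.h a s.ha) (inv_mem he) using 1
        group
      · obtain ⟨k, hk, h2⟩ := s.ktr (s.conj_P hg0.2) hv (s.conj_B hg0.2) hvB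
          (fun e => h0 (mem_P_of_conj s.h s.hy s.ha hg0.1 e)) hF
        refine ⟨_, conj_mem (s.KR hk) hg0, ?_⟩
        convert h2 using 2
        calc _ = k * g0 * (k⁻¹ * y * k⁻¹⁻¹) * g0⁻¹ * k⁻¹ := by group
          _ = _ := by rw [s.Ky (inv_mem hk)]; group
    obtain ⟨p, hp, h3⟩ := surj_y s.h s.hy s.ha (inv_mem h2)
    refine ⟨g * p, mul_mem hg (s.PR hp), ?_⟩
    have h4 := mem_C'.1 (conj_mem (norm_of_le inf_le_left hg) s.yP.1) _ (inv_mem h2)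
    calc _ = g * (p * y * p⁻¹) * g⁻¹ := by group
      _ = (g * y * g⁻¹) * (g * (g * y * g⁻¹ * v⁻¹)⁻¹ * g⁻¹) := by rw [h3]; group
      _ = _ := by rw [conj_eq_of_mem_C hg.1 (inv_mem h2), h4]; group
  have h2 := card_inf_mul_relIndex C{y} (C[AA Z a] ⊓ N[PP Z y a])
  have h3 : C{y} ⊓ (C[AA Z a] ⊓ N[PP Z y a]) = FF Z y a := by
    rw [s.h.F_eq_R s.hy s.ha rfl]
    exact le_antisymm (fun x hx => mem_inf.2 ⟨hx.2.1, hx.1⟩)
      (le_inf inf_le_right ((s.h.R_le_P s.hy s.ha).trans s.PR))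
  rw [relIndex_C1, h1, h3, s.card_F, Set.ncard_sdiff s.BP, ← Nat.card_coe_set_eq,
    ← Nat.card_coe_set_eq] at h2
  rw [← h2]
  have e1 := s.cB
  have e2 := s.cP
  simp only [SetLike.coe_sort_coe, e1, e2]
  rw [show 4 ^ d = 2 ^ d * 2 ^ d by rw [← mul_pow]; rfl, show 2 * (2 ^ d * 2 ^ d) - 2 ^ d * 2 ^ d
    = 2 ^ d * 2 ^ d by omega]
  ring

theorem R1_two : IsPi {2} (C[AA Z a] ⊓ N[PP Z y a]) :=
  isPi_of_card (n := d * 3 + 1) Nat.prime_two (by rw [s.card_R1 hne]; ring)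

theorem R1_trans (hc : c ≠ a) : ∃ g ∈ C[AA Z a] ⊓ N[PP Z y a], g • t • a = c := by
  have h1 : Orb (C[AA Z a] ⊓ N[PP Z y a]) (t • a) ⊆ {a}ᶜ := by
    rintro _ ⟨g, hg, rfl⟩
    exact smul_ne_of_fix (s.h.C_le a hg.1) s.hta
  have h2 := card_inf_mul_relIndex (stabilizer G (t • a)) (C[AA Z a] ⊓ N[PP Z y a])
  have h3 : stabilizer G (t • a) ⊓ (C[AA Z a] ⊓ N[PP Z y a]) = zpowers y := by
    rw [← s.inf_W (s.R1_two hne) (s.PR s.yP)]
    exact le_antisymm (fun x hx => mem_inf.2 ⟨hx.2, mem_inf.2 ⟨hx.2.1, hx.1⟩⟩)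
      fun x hx => mem_inf.2 ⟨hx.2.2, hx.1⟩
  rw [h3, s.hy.1.card_zpowers, s.card_R1 hne, ← ncard_Orb] at h2
  have h4 := Set.ncard_add_ncard_compl ({a} : Set Ω)
  rw [Set.ncard_singleton, cardO s.h] at h4
  have := Set.eq_of_subset_of_ncard_le h1 (by omega)
  exact (this.ge hc : c ∈ Orb _ _)

theorem R1_sq (hg : g ∈ C[AA Z a] ⊓ N[PP Z y a]) : g * g ∈ B := by
  by_contra e
  refine s.h.not_wide_sq hg.1 (s.wide ?_ e)
  by_cases hP : g ∈ PP Z y a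
  · exact mul_mem hP hP
  obtain ⟨g0, hg0, h0⟩ := SetLike.not_le_iff_exists.1 hne
  obtain ⟨n, hn⟩ := ((s.R1_two hne).piElt hg0).exists_pow Nat.prime_two
  obtain ⟨g1, hg1, h1, h2⟩ := exists_sq_mem n hg0 h0
    (by rw [← hn, pow_orderOf_eq_one]; exact one_mem _)
  obtain ⟨k, hk, h3⟩ := s.ktr' hg1.2 hg.2 (s.h.C_le a hg.1)
    (fun e => h1 (mem_P_of_conj s.h s.hy s.ha hg1.1 e))
    fun e => hP (mem_P_of_conj s.h s.hy s.ha hg.1 e)
  have h4 := conj_mem (s.KR hk) hg1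
  have h5 : g⁻¹ * (k * g1 * k⁻¹) ∈ PP Z y a := by
    refine mem_P_of_conj s.h s.hy s.ha (mul_mem (inv_mem hg.1) h4.1) ?_
    convert h3 using 1
    calc _ = g⁻¹ * (k * g1) * (k⁻¹ * y * k⁻¹⁻¹) * (g⁻¹ * (k * g1))⁻¹ := by group
      _ = _ := by rw [s.Ky (inv_mem hk)]
  have := mul_mem (mul_mem (conj_mem (s.KP hk) h2) (conj_mem' h4.2 (inv_mem h5))) (inv_mem h5)
  convert this using 1
  group

theorem case1 : False := by
  have h := s.h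
  obtain ⟨S, hS, hRS⟩ := Sylow_superset Nat.prime_two (s.R1_two hne) le_top
  have AR : AA Z a ≤ C[AA Z a] ⊓ N[PP Z y a] := s.AB.trans (s.BP.trans s.PR)
  have hSM : S ≤ stabilizer G a := by
    obtain ⟨c, hc⟩ := h.sm.exists_fix hS.pi
    obtain ⟨z, hz, hza⟩ := h.ze.pt a
    rwa [h.ze.nar z hz c a (hc (hRS (AR (h.memA.2 (Or.inr ⟨hz, hza⟩))))) hza] at hc
  have hyS : y ∈ S := hRS (s.PR s.yP)
  have hW := s.inf_W hS.pi hyS
  obtain ⟨T, hT⟩ : ∃ T, T = S ⊓ stabilizer G (t • a) := ⟨_, rfl⟩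
  have TS : T ≤ S := hT ▸ inf_le_left
  have Tb : T ≤ stabilizer G (t • a) := hT ▸ inf_le_right
  have TA : T ≤ N[AA Z a] := TS.trans (hSM.trans (M_le_NA h a))
  have TX : T ≤ N[zpowers y] :=
    hW ▸ norm_inf (norm_of_le TS) (norm_inf (norm_C TA) (norm_of_le Tb))
  have TP : T ≤ N[PP Z y a] := norm_inf (norm_C TA) (norm_N (norm_sup TA (s.X ▸ TX)))
  have TK : T ≤ N[KK Z a t] := fun g hg =>
    h.norm_K s.hy s.ha s.ht s.hta s.hb (hSM (TS hg)) (Tb hg)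
  have Tab : Abl T := by
    obtain ⟨τ, hτ, h1⟩ := (h.sing s.hy s.ha s.ht s.hta s.hb).cyc_quot (hS.pi.of_le TS) TA TK
    have h2 : T ≤ zpowers y ⊔ zpowers τ := fun g hg => by
      obtain ⟨j, hj⟩ := h1 g hg
      have h3 := mul_mem hg (inv_mem (pow_mem hτ j))
      rw [show g = g * (τ ^ j)⁻¹ * τ ^ j by group]
      exact mul_mem (mem_sup_left (hW ▸ mem_inf.2 ⟨TS h3, mem_inf.2 ⟨hj, Tb h3⟩⟩))
        (mem_sup_right (pow_mem (mem_zpowers τ) j))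
    refine ((abl_zpowers y).sup (abl_zpowers τ) (cents_symm ?_)).of_le h2
    rw [C_zpowers, zpowers_le]
    exact mem_C1_iff_conj.2 (s.cent_y (TX hτ))
  obtain ⟨R, hR⟩ : ∃ R, R = C[AA Z a] ⊓ N[PP Z y a] := ⟨_, rfl⟩
  have BR : B ⊴ R := hR ▸ ⟨s.BP.trans s.PR, inf_le_right.trans s.NB⟩
  have Rder : ⁅R, R⁆ ≤ B := der_le_of_sq BR.norm fun g hg => s.R1_sq hne (hR ▸ hg)
  have KR : KK Z a t ≤ N[R] := hR ▸ s.KR
  have R2 : IsPi {2} R := hR ▸ s.R1_two hne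
  have cp := cop h s.hy s.ha s.ht s.hta s.hb R2
  have RS : R ≤ S := hR ▸ hRS
  have TQ : T ≤ N[⁅R, KK Z a t⁆ ⊔ B] :=
    norm_sup (norm_comm (hR ▸ norm_inf (norm_C TA) (norm_N TP)) TK) (TP.trans s.NB)
  have QR : ⁅R, KK Z a t⁆ ⊔ B ≤ R := sup_le (comm_le_left KR) BR.le
  have hSQ : S = (⁅R, KK Z a t⁆ ⊔ B) ⊔ T := by
    refine le_antisymm (fun g hg => ?_) (sup_le (QR.trans RS) TS)
    obtain ⟨r, hr, h1⟩ := s.R1_trans hne (smul_ne_of_fix (hSM hg) s.hta)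
    rw [← hR] at hr
    obtain ⟨u, hu, z, hz, rfl⟩ := (coprime_cent_prod KR cp (R2.sol Nat.prime_two)).mul r hr
    rw [show g = u * (z * ((u * z)⁻¹ * g)) by group]
    refine mul_mem (mem_sup_left (mem_sup_left hu)) (mem_sup_right (hT ▸ mul_mem ?_ ?_))
    · exact mem_inf.2 ⟨RS hz.1, fix_of_cent h s.hy s.ha s.ht s.hta s.hb (hSM (RS hz.1)) hz.2⟩
    · refine mem_inf.2 ⟨mul_mem (inv_mem (RS hr)) hg, ?_⟩
      rw [mem_stabilizer_iff, mul_smul, ← h1, inv_smul_smul]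
  have hder : ⁅S, S⁆ ≤ ⁅R, KK Z a t⁆ ⊔ B := by
    rw [hSQ, der1_sup TQ, der1_eq_bot.2 Tab]
    exact sup_le (sup_le (der1_le _) (comm_le_left TQ)) bot_le
  refine H6.not_mem_commutator_of_fusion (p := 2) S ⁅S, S⁆ (der1_nml S).normal
    (fun x hx z hz => commutator_mem_commutator hx hz) ?_ y hyS (fun e => ?_)
    ⟨1, s.hy.1.orderOf_eq⟩ (fun m g hg => ?_) ?_
  · rw [← relIndex_top_right]
    exact (Nat.Prime.coprime_iff_not_dvd Nat.prime_two).2 (hS.not_dvd Nat.prime_two)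
  · refine s.yB (mem_of_cent BR Rder KR (s.KP.trans s.NB) cp (hder e) ?_)
    exact mem_C_iff_le_C1.2 (h.K_cent_y s.hy s.ha s.ht s.hta s.hb)
  · rcases s.hy.1.mem_zp (zpow_mem (mem_zpowers y) m) with e | e <;> rw [e] at hg ⊢
    · simp
    have hw := s.hy.conj g
    obtain ⟨c, hc, h1⟩ := hw.exists_ne a
    obtain ⟨r, hr, rfl⟩ := s.R1_trans hne hc
    have h2 : r⁻¹ * (g * y * g⁻¹) * r⁻¹⁻¹ ∈ zpowers y := by
      rw [← hW, inv_inv]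
      refine mem_inf.2 ⟨mul_mem (mul_mem (inv_mem (hRS hr)) hg) (hRS hr), mem_inf.2
        ⟨mul_mem (mul_mem (inv_mem hr.1) (h.mem_C hw (hSM hg))) hr.1, ?_⟩⟩
      rw [mem_stabilizer_iff, mul_smul, mul_smul, h1, inv_smul_smul]
    have h3 := (s.hy.1.mem_zp h2).resolve_left (hw.1.conj _).1
    have h4 : g * y * g⁻¹ = r * y * r⁻¹ := by
      conv_rhs => rw [← h3]
      group
    rw [h4]
    exact commutator_mem_commutator (hRS hr) hyS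
  · exact commutator_mono le_top le_top (h.sm.mem_der (n := 1) s.ha (by
      rw [pow_one, pow_two, s.hy.1.2]))

end case1

end St

end ZA
end H18
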