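import Mathlib
import Cfsg.Agent.H27.JTCfg
import Cfsg.Agent.H26.S01a
import Cfsg.Agent.H22.SuzII1
import Cfsg.Agent.H21.OddInv
import Cfsg.Agent.H6.CentEA

/-! Local analysis for the Janko–Thompson–Ward theorem, first part. -/

set_option autoImplicit false
set_option linter.unusedSectionVars false
open Cfsg H24 Subgroup H27.JT

namespace H18.JT

variable {G : Type*} [Group G] [Finite G] {t : G} {V : Subgroup G} {x r : G} {a : ℕ}

theorem comm_of_conj_sq {g y : G} (hg : g ^ 3 = 1) (h : g * y * g⁻¹ = y⁻¹) : g * y = y * g := by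
  have := H21.eq_inv_of_odd_inverts (by decide) hg h
  rw [← this] at h
  exact mul_inv_eq_iff_eq_mul.1 h

section
variable (h : Cfg t V x r a)
include h

theorem tt : t * t = 1 := sq_of_two h.ordt

theorem vv {v : G} (hv : v ∈ V) : v * v = 1 :=
  have := h.klein
  congrArg Subtype.val (IsKleinFour.mul_self (⟨v, hv⟩ : V))

theorem ablV : Abl V := have := h.klein; IsKleinFour.isMulCommutative

theorem cardV : ♯V = 4 := h.klein.card_four

theorem piV : IsPi {2} V := isPi_of_card (n := 2) Nat.prime_two (cardV h)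

theorem AC : zpowers x ≤ C[V] := fun z hz => (h.CV z).2 ⟨1, one_mem _, z, hz, Or.inl (by simp)⟩

theorem tC : t ∈ C[V] := (h.CV t).2 ⟨1, one_mem _, 1, one_mem _, Or.inr (by simp)⟩

theorem r3 : r ^ 3 = 1 := h.ordr ▸ pow_orderOf_eq_one r

theorem powA {z : G} (hz : z ∈ zpowers x) : z ^ a = 1 :=
  orderOf_dvd_iff_pow_eq_one.1 (h.ordx ▸ orderOf_dvd_of_mem_zpowers hz)

theorem eq_one_A {z : G} (hz : z ∈ zpowers x) (h2 : z * z = 1) : z = 1 :=
  H21.eq_one_of_sq_of_odd h.odd_a (powA h hz) h2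

theorem invA {z : G} (hz : z ∈ zpowers x) : t * z * t⁻¹ = z⁻¹ := by
  obtain ⟨k, rfl⟩ := hz
  simp only
  rw [← conj_zpow, h.inv, inv_zpow]

theorem eq_one_of_t {z : G} (hz : z ∈ zpowers x) (h2 : z * t = t * z) : z = 1 := by
  have := invA h hz
  rw [← h2, mul_inv_cancel_right] at this
  exact eq_one_A h hz (mul_eq_one_iff_eq_inv.2 this)

theorem mem_B {g : G} : g ∈ V ⊔ zpowers x ↔ ∃ w ∈ V, ∃ z ∈ zpowers x, g = w * z :=
  mem_sup_of_norm (norm_of_cent (AC h))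

theorem sq_vzt {v z : G} (hv : v ∈ V) (hz : z ∈ zpowers x) : v * z * t * (v * z * t) = 1 := by
  have h1 := mem_C.1 (AC h hz) v hv
  have h2 := mem_C.1 (tC h) v hv
  calc _ = v * (z * (t * v)) * z * t := by group
    _ = v * v * (z * (t * z * t⁻¹)) * (t * t) := by rw [← h2, ← mul_assoc z, ← h1]; group
    _ = 1 := by rw [vv h hv, invA h hz, tt h]; simp

theorem mem_A_of_odd {g : G} (hg : g ∈ C[V]) {n : ℕ} (hn : Odd n) (ho : g ^ n = 1) :
    g ∈ zpowers x := by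
  obtain ⟨v, hv, z, hz, rfl | rfl⟩ := (h.CV g).1 hg
  · have h1 : Commute v z := mem_C.1 (AC h hz) v hv
    have h2 : (v * z) ^ (n * a) = 1 := by rw [pow_mul, ho, one_pow]
    rw [h1.mul_pow, pow_mul' z, powA h hz, one_pow, mul_one] at h2
    rwa [H21.eq_one_of_sq_of_odd (hn.mul h.odd_a) h2 (vv h hv), one_mul]
  · rw [H21.eq_one_of_sq_of_odd hn ho (sq_vzt h hv hz)]
    exact one_mem _

theorem normA : N[V] ≤ N[zpowers x] := fun g hg => mem_N_of_finite fun z hz =>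
  mem_A_of_odd h (conj_mem (N_le_NC V hg) (AC h hz)) h.odd_a (by rw [conj_pow, powA h hz]; simp)

theorem fpf {v : G} (hv : v ∈ V) (hc : r * v = v * r) : v = 1 := by
  by_contra hne
  have : Fact (Nat.Prime 3) := ⟨Nat.prime_three⟩
  have h1 := H22.card_modEq_cent (p := 3) (P := zpowers r) (U := V)
    (IsPGroup.of_card (n := 1) (by rw [Nat.card_zpowers, h.ordr]; rfl))
    fun g hg u hu => conj_mem (zpowers_le.2 h.rN hg) hu
  have h2 := card_le (inf_le_left : V ⊓ C[zpowers r] ≤ V)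
  have h3 := one_lt_card (ne_bot_of_mem (H := V ⊓ C[zpowers r])
    ⟨hv, by rw [C_zpowers]; exact mem_C1.2 hc.symm⟩ hne)
  have h4 := eq_of_card_ge (inf_le_left : V ⊓ C[zpowers r] ≤ V) (by
    rw [cardV h] at *
    unfold Nat.ModEq at h1
    omega)
  exact h.rC (cents_symm (h4.ge.trans inf_le_right) (mem_zpowers r))

theorem pm {c z : G} (hc : c ∈ C[V]) (hz : z ∈ zpowers x) :
    c * z * c⁻¹ = z ∨ c * z * c⁻¹ = z⁻¹ := by
  obtain ⟨v, hv, u, hu, e⟩ := (h.CV c).1 hc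
  have h1 : ∀ z ∈ zpowers x, v * u * z * (v * u)⁻¹ = z := fun z hz => by
    rw [mul_inv_eq_iff_eq_mul, mul_assoc, (abl_zpowers x).comm hu hz, ← mul_assoc,
      mem_C.1 (AC h hz) v hv, mul_assoc]
  rcases e with rfl | rfl
  · exact Or.inl (h1 z hz)
  · right
    rw [← h1 _ (inv_mem hz), ← invA h hz]
    group

variable {y : G} (hy : y ∈ zpowers x) (h1 : y ≠ 1)
include hy h1

theorem CC_le {v : G} (hv : v ∈ V) (hv1 : v ≠ 1) : C{y} ⊓ C{v} ≤ V ⊔ zpowers x := fun g hg =>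
  (mem_B h).2 (h.cent v hv hv1 y hy h1 g (mem_C1.1 hg.2) (mem_C1.1 hg.1))

theorem CV_le : C{y} ⊓ C[V] ≤ V ⊔ zpowers x := by
  obtain ⟨v, hv, hv1⟩ := exists_ne_one (H := V) (fun hc => by simpa [hc] using cardV h)
  exact (inf_le_inf_left _ (C_le_C1 hv)).trans (CC_le h hy h1 hv hv1)

omit hy h1 in
theorem mem_V_of_sq {g : G} (hg : g ∈ V ⊔ zpowers x) (h2 : g * g = 1) : g ∈ V := by
  obtain ⟨w, hw, z, hz, rfl⟩ := (mem_B h).1 hg
  have h3 := mem_C.1 (AC h hz) w hw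
  rw [mul_assoc, ← mul_assoc z, ← h3, ← mul_assoc, ← mul_assoc, vv h hw, one_mul] at h2
  rwa [eq_one_A h hz h2, mul_one]

omit hy h1 in
theorem sq_of_pi {g : G} (hg : PiElt {2} g) : g * g = 1 := by
  obtain ⟨k, hk⟩ := hg.exists_pow Nat.prime_two
  have h2 : ∀ k, g ^ 2 ^ (k + 1) = 1 → g ^ 2 = 1 := fun k => by
    induction k with
    | zero => exact id
    | succ k ih =>
      intro h3
      refine ih ?_
      have := h.no4 (g ^ 2 ^ k) (by rw [← pow_mul, ← h3]; congr 1; ring)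
      rwa [← pow_mul, ← pow_succ] at this
  rw [← sq]
  exact h2 k (by rw [pow_succ, pow_mul, ← hk, pow_orderOf_eq_one, one_pow])

omit hy h1 in
theorem abl_of_pi {P : Subgroup G} (hP : IsPi {2} P) : Abl P :=
  abl_iff.2 (le_C_iff.2 (h.two P (hP.isPGroup Nat.prime_two)))

theorem sylV {H : Subgroup G} (hV : V ≤ H) (hH : H ≤ C{y}) : Syl 2 H V :=
  syl_of_max Nat.prime_two (piV h) hV fun _ hQ h2 h3 _ hg =>
    mem_V_of_sq h (CV_le h hy h1 ⟨hH (h3 hg), (abl_of_pi h hQ).cents le_rfl h2 hg⟩)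
      (sq_of_pi h (hQ.piElt hg))

theorem le_B {H : Subgroup G} (hV : V ≤ H) (hH : H ≤ C{y}) (hN : H ⊓ N[V] ≤ C[V]) :
    H ≤ V ⊔ zpowers x := by
  have h2 := H26.Burnside_normal_complement Nat.prime_two (sylV h hy h1 hV hH) hN
  rw [← h2.sup]
  refine sup_le (H26.coprime_abelian_gen_cent1 (ablV h) (fun hc => ?_) h2.norm
    ((pcore_pi _ _).coprime' (piV h)) fun v hv hv1 => ?_) le_sup_left
  · have := h.klein
    exact IsKleinFour.not_isCyclic hc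
  · exact (inf_le_inf_right _ ((pcore_le _ _).trans hH)).trans (CC_le h hy h1 hv hv1)

omit h1 in
theorem VA_le : V ⊔ zpowers x ≤ C{y} :=
  sup_le (mem_C_iff_le_C1.1 (AC h hy)) (C1_le_C1_of_mem_zpowers hy |>.trans' (zpowers_le_C1 x))

theorem case_one (hr : r * y ≠ y * r) : C{y} ≤ V ⊔ zpowers x := by
  refine le_B h hy h1 (le_sup_left.trans (VA_le h hy)) le_rfl fun g hg => ?_
  have key : ∀ c ∈ C[V], ∀ s : G, s ^ 3 = 1 → c * s ∈ C{y} → s * y = y * s := fun c hc s hs h2 => by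
    have h3 : s * y * s⁻¹ = c⁻¹ * y * c⁻¹⁻¹ := by
      rw [← mem_C1_iff_conj.1 h2]
      rw [mem_C1_iff_conj.1 h2]
      conv_rhs => rw [← mem_C1_iff_conj.1 h2]
      group
    rcases pm h (inv_mem hc) hy with h4 | h4 <;> rw [h4] at h3
    · exact mul_inv_eq_iff_eq_mul.1 h3
    · exact comm_of_conj_sq hs h3
  obtain ⟨c, hc, rfl | rfl | rfl⟩ := h.NV g hg.2
  · exact hc
  · exact absurd (key c hc r (r3 h) hg.1) hr
  · exact absurd (Commute.inv_left_iff.1 (key c hc r⁻¹ (by rw [inv_pow, r3 h, inv_one]) hg.1)) hr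

omit hy h1 in
theorem not_V {k : G} (hk : k * r * k⁻¹ ∈ V) : False := by
  have h2 := orderOf_dvd_card' hk
  rw [orderOf_conj, h.ordr, cardV h] at h2
  omega

omit hy h1 in
theorem conj_t {z : G} (hz : z ∈ zpowers x) : z * t * z⁻¹ = z * z * t := by
  rw [← invA h hz, inv_of_two h.ordt, ← mul_assoc, ← mul_assoc, mul_assoc z t t, tt h, mul_one]

omit hy h1 in
theorem mem_V_of_t {g : G} (hg : g ∈ V ⊔ zpowers x) {v : G} (hv : v ∈ V) (hc : g ∈ C{v * t}) :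
    g ∈ V := by
  obtain ⟨w, hw, z, hz, rfl⟩ := (mem_B h).1 hg
  have h2 : w ∈ C{v * t} := mem_C1_comm.1 (mul_mem (C_le_C1 hw ((ablV h).le_C hv))
    (C_le_C1 hw (tC h)))
  have h3 : v * t ∈ C{z} := mem_C1_comm.1 ((mul_mem_cancel_left h2).1 hc)
  have h4 : v ∈ C{z} := mem_C1_comm.1 (C_le_C1 hv (AC h hz))
  rwa [eq_one_of_t h hz (mem_C1.1 ((mul_mem_cancel_left h4).1 h3)).symm, mul_one]

omit h hy h1 in
theorem mul_mem_C1 {u w : G} (hu : u * y * u⁻¹ = y⁻¹) (hw : w * y * w⁻¹ = y⁻¹) : u * w ∈ C{y} := by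
  rw [mem_C1_iff_conj]
  calc _ = u * (w * y * w⁻¹) * u⁻¹ := by group
    _ = (u * y * u⁻¹)⁻¹ := by rw [hw]; group
    _ = y := by rw [hu, inv_inv]

omit h hy h1 in
theorem inv_mul_C1 {u w : G} (hu : u ∈ C{y}) (hw : w * y * w⁻¹ = y⁻¹) :
    u * w * y * (u * w)⁻¹ = y⁻¹ := by
  calc _ = u * (w * y * w⁻¹) * u⁻¹ := by group
    _ = (u * y * u⁻¹)⁻¹ := by rw [hw]; group
    _ = _ := by rw [mem_C1_iff_conj.1 hu]

variable (hr : r * y = y * r)
include hr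

theorem C_vt {v : G} (hv : v ∈ V) (hv1 : v ≠ 1) : C{y} ⊓ C{v * t} ≤ V := by
  have hVy := le_sup_left.trans (VA_le h hy)
  refine fun g hg => mem_V_of_t h (le_B h hy h1 (le_inf hVy (mem_C_iff_le_C1.1
    (mul_mem ((ablV h).le_C hv) (tC h)))) inf_le_left (fun g hg => ?_) hg) hv hg.2
  have key : ∀ c ∈ C[V], ∀ s ∈ zpowers r, c * s ∈ C{y} ⊓ C{v * t} → s * v = v * s :=
    fun c hc s hs h2 => by
      have hs1 : s ∈ C{y} := zpowers_le.2 (mem_C1.2 hr) hs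
      have hs2 : s ∈ C{t} := zpowers_le.2 (mem_C1.2 h.rt) hs
      have hs3 := conj_mem (zpowers_le.2 h.rN hs) hv
      obtain ⟨w, hw, z, hz, rfl⟩ := (mem_B h).1 (CV_le h hy h1 ⟨(mul_mem_cancel_right hs1).1 h2.1, hc⟩)
      have h3 := mem_C1_iff_conj.1 h2.2
      have h4 : w * z * s * (v * t) * (w * z * s)⁻¹ =
          w * (z * (s * v * s⁻¹) * z⁻¹ * (z * (s * t * s⁻¹) * z⁻¹)) * w⁻¹ := by group
      rw [h4, mem_C1_iff_conj.1 hs2, conj_t h hz, conj_eq_of_mem_C (AC h hz) hs3,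
        mem_C1_iff_conj.1 (mem_C1_comm.1 (C_le_C1 hw (mul_mem ((ablV h).le_C hs3)
          (mul_mem (AC h (mul_mem hz hz)) (tC h))))), ← mul_assoc, mul_left_inj] at h3
      have h5 : z * z ∈ V := by
        rw [eq_inv_mul_of_mul_eq h3]
        exact mul_mem (inv_mem hs3) hv
      rw [eq_one_A h (mul_mem hz hz) (vv h h5), mul_one] at h3
      exact mul_inv_eq_iff_eq_mul.1 h3
  obtain ⟨c, hc, rfl | rfl | rfl⟩ := h.NV g hg.2
  · exact hc
  · exact absurd (fpf h hv (key c hc r (mem_zpowers r) hg.1)) hv1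
  · exact absurd (fpf h hv (Commute.inv_left_iff.1 (key c hc r⁻¹ (inv_mem (mem_zpowers r)) hg.1))) hv1

theorem not_conj {w n : G} (hw : w ∈ V) (hn : n ∈ C{y}) (he : n * t * n⁻¹ = w * t) : w = 1 := by
  by_contra hw1
  have h2 := mul_mem (mul_mem hn (mem_C1.2 hr)) (inv_mem hn)
  refine not_V h (C_vt h hy h1 hr hw hw1 ⟨h2, ?_⟩)
  rw [← he, ← cj_C1]
  exact conj_mem_cj n (mem_C1.2 h.rt)

theorem conj_mem_At {m : G} (hm : m ∈ C{y}) : ∃ z ∈ zpowers x, m * t * m⁻¹ = z * t := by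
  obtain ⟨v, hv, hv1⟩ := exists_ne_one (H := V) (fun hc => by simpa [hc] using cardV h)
  have hVy := le_sup_left.trans (VA_le h hy)
  have hu : m * t * m⁻¹ * (m * t * m⁻¹) = 1 := by
    rw [conj_mul, tt h]; simp
  have hvt : v * t * (v * t) = 1 := by simpa using sq_vzt h hv (one_mem _)
  have h2 : m * t * m⁻¹ * y * (m * t * m⁻¹)⁻¹ = y⁻¹ := by
    rw [← inv_mul_C1 hm (invA h hy)]
    conv_rhs => rw [← mem_C1_iff_conj.1 (inv_mem hm)]
    group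
  have h3 := mul_mem_C1 h2 (inv_mul_C1 (hVy hv) (invA h hy))
  by_cases ho : Odd (orderOf (m * t * m⁻¹ * (v * t)))
  · obtain ⟨k, hk⟩ := H21.conj_of_odd_mul hu hvt ho (pow_orderOf_eq_one _)
    refine absurd (not_conj h hy h1 hr hv (mul_mem (inv_mem (pow_mem h3 k)) hm) ?_) hv1
    generalize (m * t * m⁻¹ * (v * t)) ^ k = b at hk
    calc _ = b⁻¹ * (m * t * m⁻¹) * b := by group
      _ = _ := by rw [← hk]; group
  obtain ⟨s, hs1, -, h4, h5, h6⟩ := H21.exists_invol_comm_of_not_odd hu hvt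
    (isOfFinOrder_of_finite _) ho
  have h7 := C_vt h hy h1 hr hv hv1 ⟨zpowers_le.2 h3 h6, mem_C1.2 h5⟩
  obtain ⟨w, hw, z, hz, e⟩ := (mem_B h).1 (CC_le h hy h1 h7 hs1 ⟨mul_mem_C1 h2 (invA h hy),
    mul_mem (mem_C1.2 h4.symm) (C_le_C1 h7 (tC h))⟩)
  obtain ⟨k, hk⟩ := H21.exists_pow_sq_eq_of_odd h.odd_a (powA h hz)
  have hb := pow_mem hz k
  generalize z ^ k = b at hk hb
  have h8 : m * t * m⁻¹ = w * z * t := by rw [← e, mul_assoc _ t t, tt h, mul_one]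
  have h9 := not_conj h hy h1 hr hw (mul_mem (inv_mem ((le_sup_right.trans (VA_le h hy)) hb)) hm)
    (calc _ = b⁻¹ * (m * t * m⁻¹) * b := by group
      _ = b⁻¹ * w * b⁻¹⁻¹ * (b⁻¹ * (b * t * b⁻¹) * b) := by rw [h8, conj_t h hb, hk]; group
      _ = _ := by rw [conj_eq_of_mem_C (inv_mem (AC h hb)) hw]; group)
  exact ⟨z, hz, by rw [h8, h9, one_mul]⟩

theorem decomp {m : G} (hm : m ∈ C{y}) : ∃ z ∈ zpowers x, ∃ k ∈ C{y} ⊓ C{t}, m = z * k := by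
  obtain ⟨z, hz, e⟩ := conj_mem_At h hy h1 hr hm
  obtain ⟨k, hk⟩ := H21.exists_pow_sq_eq_of_odd h.odd_a (powA h hz)
  have hb := pow_mem hz k
  generalize z ^ k = b at hk hb
  have h2 := mul_mem (inv_mem ((le_sup_right.trans (VA_le h hy)) hb)) hm
  refine ⟨b, hb, b⁻¹ * m, ⟨h2, mem_C1_iff_conj.2 ?_⟩, by group⟩
  calc _ = b⁻¹ * (m * t * m⁻¹) * b := by group
    _ = _ := by rw [e, ← hk, ← conj_t h hb]; group

theorem mem_A_of_inv {m : G} (hm : m ∈ C{y}) {n : ℕ} (hn : Odd n) (ho : m ^ n = 1)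
    (hi : t * m * t⁻¹ = m⁻¹) : m ∈ zpowers x := by
  obtain ⟨z, hz, e⟩ := conj_mem_At h hy h1 hr hm
  rw [← hi, inv_of_two h.ordt, ← mul_assoc, ← mul_assoc, mul_assoc m t t, tt h, mul_one,
    mul_left_inj] at e
  obtain ⟨k, rfl⟩ := hn
  rw [← H21.eq_pow_sq_of_odd ho, e]
  exact pow_mem hz _

theorem M_le_N : C{y} ≤ N[zpowers x] := fun m hm => by
  obtain ⟨z, hz, k, hk, rfl⟩ := decomp h hy h1 hr hm
  refine mul_mem (norm_self _ hz) (mem_N_of_finite fun u hu => mem_A_of_inv h hy h1 hr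
    (mul_mem (mul_mem hk.1 ((le_sup_right.trans (VA_le h hy)) hu)) (inv_mem hk.1)) h.odd_a
    (by rw [conj_pow, powA h hu]; simp) ?_)
  calc _ = (t * k * t⁻¹) * (t * u * t⁻¹) * (t * k * t⁻¹)⁻¹ := by group
    _ = _ := by rw [mem_C1_iff_conj.1 (mem_C1_comm.1 hk.2), invA h hu]; group

omit h1 hr in
theorem V_le_K : V ≤ C{y} ⊓ C{t} :=
  le_inf (le_sup_left.trans (VA_le h hy)) (mem_C_iff_le_C1.1 (tC h))

omit hr in
theorem C_inv {s : G} (hs : s ∈ C{y} ⊓ C{t}) (hs1 : s ≠ 1) (h2 : s * s = 1) :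
    ∃ k, (C{y} ⊓ C{t}) ⊓ C{s} ≤ cj k V := by
  obtain ⟨k, hk, h3⟩ := Sylow_Jsub Nat.prime_two (sylV h hy h1 (V_le_K h hy) inf_le_left)
    (piElt_of_orderOf_prime Nat.prime_two (orderOf_eq_two hs1 h2)).isPi (zpowers_le.2 hs)
  have h4 := h3 (conj_mem_cj k (mem_zpowers s))
  refine ⟨k⁻¹, fun g hg => mem_cj.2 ?_⟩
  have h5 := mul_mem (mul_mem hk hg.1) (inv_mem hk)
  rw [inv_inv]
  refine mem_V_of_t h (CC_le h hy h1 h4 (by simpa using hs1) ⟨h5.1, ?_⟩) (one_mem _)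
    (by simpa using h5.2)
  rw [← cj_C1]
  exact conj_mem_cj k hg.2

theorem N_K {g : G} (hg : g ∈ (C{y} ⊓ C{t}) ⊓ C{r}) (hN : g ∈ N[V]) : g ∈ zpowers r := by
  have hK : zpowers r ≤ (C{y} ⊓ C{t}) ⊓ C{r} :=
    zpowers_le.2 ⟨⟨mem_C1.2 hr, mem_C1.2 h.rt⟩, self_mem_C1 r⟩
  have key : ∀ c ∈ C[V], ∀ s ∈ zpowers r, c * s ∈ (C{y} ⊓ C{t}) ⊓ C{r} → c * s ∈ zpowers r :=
    fun c hc s hs h2 => by
      have h3 := (mul_mem_cancel_right (hK hs)).1 h2
      rwa [fpf h (mem_V_of_t h (CV_le h hy h1 ⟨h3.1.1, hc⟩) (one_mem _) (by simpa using h3.1.2))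
        (mem_C1.1 h3.2).symm, one_mul]
  obtain ⟨c, hc, rfl | rfl | rfl⟩ := h.NV g hN
  · simpa using key g hc 1 (one_mem _) (by simpa using hg)
  · exact key c hc r (mem_zpowers r) hg
  · exact key c hc _ (inv_mem (mem_zpowers r)) hg

theorem cent_r : (C{y} ⊓ C{t}) ⊓ C{r} ≤ zpowers r := fun g hg => by
  by_contra hc
  have hrK : r ∈ C{y} ⊓ C{t} := ⟨mem_C1.2 hr, mem_C1.2 h.rt⟩
  have h2 : g ∉ N[V] := fun hN => hc (N_K h hy h1 hr hg hN)
  have h3 : g * g ∉ N[V] := fun hN => by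
    have h3 := N_K h hy h1 hr (mul_mem hg hg) hN
    have h4 : (g * g) ^ 3 = 1 :=
      orderOf_dvd_iff_pow_eq_one.1 (h.ordr ▸ orderOf_dvd_of_mem_zpowers h3)
    by_cases h5 : g ^ 3 = 1
    · exact hc (H21.eq_pow_sq_of_odd (m := 1) h5 ▸ pow_mem h3 _)
    obtain ⟨k, hk⟩ := C_inv h hy h1 (pow_mem hg.1 3) h5 (by rw [← h4, ← sq, ← sq, ← pow_mul, ← pow_mul])
    exact not_V h (k := k⁻¹) (by simpa using mem_cj.1 (hk ⟨hrK, mem_C1_comm.1 (pow_mem hg.2 3)⟩))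
  obtain ⟨T, hT⟩ := (sylV h hy h1 (V_le_K h hy) inf_le_left).exists_sylow Nat.prime_two
  have hT' : (T : Subgroup _) = V.subgroupOf (C{y} ⊓ C{t}) := by
    rw [← hT, subgroupOf_map_subtype']
  have hN : ∀ k : ↥(C{y} ⊓ C{t}), k ∈ N[(T : Subgroup _)] ↔ (k : G) ∈ N[V] := fun k => by
    rw [hT', ← subgroupOf_normalizer_eq (V_le_K h hy), mem_subgroupOf]
  have hE := H6.cea_of_sylow T (fun hc => by
    have := h.klein
    rw [hT'] at hc
    exact IsKleinFour.not_isCyclic ((subgroupOfEquivOfLe (V_le_K h hy)).isCyclic.1 hc))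
    (fun s hs => by
      obtain ⟨k, hk⟩ := C_inv h hy h1 s.2 (ne_one_of_two (orderOf_coe s ▸ hs))
        (sq_of_two (orderOf_coe s ▸ hs))
      have h4 : ∀ c ∈ C{s}, (c : G) ∈ cj k V := fun c hc =>
        hk ⟨c.2, mem_C1.2 (congrArg Subtype.val (mem_C1.1 hc))⟩
      refine ⟨abl_iff.2 (le_C_iff.2 fun c hc d hd => Subtype.ext
        (((ablV h).cj k).comm (h4 c hc) (h4 d hd))), fun c hc => Subtype.ext ?_⟩
      obtain ⟨v, hv, e⟩ := mem_cj'.1 (h4 c hc)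
      rw [SubgroupClass.coe_pow, e, conj_pow, sq, vv h hv]
      simp)
    fun hn => h2 ((hN ⟨g, hg.1⟩).1 (normalizer_eq_top_iff.2 hn ▸ mem_top _))
  have h4 : ∀ k : ↥(C{y} ⊓ C{t}), (k : G) ∈ C{r} → (⟨r, hrK⟩ : ↥(C{y} ⊓ C{t})) •
      (QuotientGroup.mk k : _ ⧸ N[T.1]) = QuotientGroup.mk k := fun k hk => by
    rw [MulAction.Quotient.smul_coe, eq_comm, QuotientGroup.eq, hN]
    simpa [← mul_assoc, mem_C1.1 (inv_mem hk)] using h.rN
  have h5 := hE.eq_one_of_fix_three (x := QuotientGroup.mk 1)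
    (y := QuotientGroup.mk ⟨g, hg.1⟩) (w := QuotientGroup.mk ⟨g * g, mul_mem hg.1 hg.1⟩)
    (by rw [Ne, QuotientGroup.eq, hN]; simpa using h2)
    (by rw [Ne, QuotientGroup.eq, hN]; simpa using h3)
    (by rw [Ne, QuotientGroup.eq, hN]; simpa using h2) (h4 _ (one_mem _)) (h4 _ hg.2)
    (h4 _ (mul_mem hg.2 hg.2))
  have h6 : r = 1 := congrArg Subtype.val h5
  exact h.rC (h6 ▸ one_mem _)

theorem syl3 : Syl 3 (C{y} ⊓ C{t}) (zpowers r) := by
  have h3 := (piElt_of_orderOf_prime Nat.prime_three h.ordr).isPi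
  have h4 : (♯(zpowers r)).Prime := by rw [card_zpowers', h.ordr]; exact Nat.prime_three
  refine syl_of_max Nat.prime_three h3 (zpowers_le.2 ⟨mem_C1.2 hr, mem_C1.2 h.rt⟩)
    fun Q hQ h5 h6 => ?_
  obtain ⟨z, hz, hz1⟩ := exists_ne_one (IsPi.inf_C_ne_bot Nat.prime_three hQ hQ (norm_self Q)
    (ne_bot_of_le (ne_bot_of_prime h4) h5))
  have h7 := cent_r h hy h1 hr ⟨h6 hz.1, C_le_C1 (h5 (mem_zpowers r)) hz.2⟩
  refine (le_inf h6 ?_).trans (cent_r h hy h1 hr)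
  rw [← C_zpowers, C_eq_C1_of_prime h4 h7 hz1]
  exact mem_C_iff_le_C1.1 hz.2

end

end H18.JT
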