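import Mathlib

/-!
# Elementary tools for small simple groups (helper18)
-/

set_option autoImplicit false

open MulAction Subgroup
open scoped Pointwise commutatorElement

namespace H18

section Orbits

variable {Γ X A : Type*} [Group Γ] [MulAction Γ X] [AddCommGroup A]

theorem sum_mem_of_orbit [Fintype X] (I : AddSubgroup A) (F : X → A)
    (hF : ∀ (g : Γ) x, F (g • x) = F x) (h : ∀ x, Nat.card (orbit Γ x) • F x ∈ I) :
    ∑ x, F x ∈ I := by
  classical
  rw [← Finset.sum_fiberwise (s := Finset.univ)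
    (g := fun x => (Quotient.mk'' x : orbitRel.Quotient Γ X))]
  refine I.sum_mem fun q _ => ?_
  induction q using Quotient.inductionOn' with
  | h x =>
    have h1 : ∀ y ∈ Finset.univ.filter
        (fun y => (Quotient.mk'' y : orbitRel.Quotient Γ X) = Quotient.mk'' x), F y = F x := by
      intro y hy
      obtain ⟨g, rfl⟩ := orbitRel_apply.1 (Quotient.exact' (Finset.mem_filter.1 hy).2)
      exact hF g x
    rw [Finset.sum_congr rfl h1, Finset.sum_const]
    convert h x
    rw [← Fintype.card_subtype, ← Nat.card_eq_fintype_card]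
    exact Nat.card_congr (Equiv.subtypeEquivRight fun y =>
      ⟨fun hy => orbitRel_apply.1 (Quotient.exact' hy), fun hy =>
        Quotient.sound' (orbitRel_apply.2 hy)⟩)

/-- If all orbits outside the invariant set `S` have size divisible by `m`,
then `|X| ≡ |S|` modulo `m`. -/
theorem card_modEq_of_orbits [Finite X] (m : ℕ) (S : Set X)
    (hS : ∀ (g : Γ) x, g • x ∈ S ↔ x ∈ S) (h : ∀ x, x ∉ S → m ∣ Nat.card (orbit Γ x)) :
    Nat.card X ≡ S.ncard [MOD m] := by
  classical
  have := Fintype.ofFinite X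
  have h1 := sum_mem_of_orbit (Γ := Γ) (AddSubgroup.zmultiples (m : ℤ))
    (fun x => if x ∈ S then (0 : ℤ) else 1) (fun g x => by simp [hS]) (fun x => by
      by_cases hx : x ∈ S
      · simp [hx]
      · simp only [hx, if_false, nsmul_eq_mul, mul_one, Int.mem_zmultiples_iff]
        exact_mod_cast h x hx)
  rw [Int.mem_zmultiples_iff] at h1
  have h2 : (Nat.card X : ℤ) = S.ncard + ∑ x, (if x ∈ S then (0 : ℤ) else 1) := by
    rw [Nat.card_eq_fintype_card, Set.ncard_eq_toFinset_card', Finset.sum_ite]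
    simp only [Finset.sum_const_zero, zero_add, Finset.sum_const, nsmul_eq_mul, mul_one]
    have := Finset.card_filter_add_card_filter_not (s := (Finset.univ : Finset X)) (fun x => x ∈ S)
    rw [Finset.card_univ] at this
    rw [← this, Set.toFinset_card, Fintype.card_subtype]
    push_cast; rfl
  apply Nat.ModEq.symm
  rw [Nat.modEq_iff_dvd, h2]
  simpa using h1

theorem card_orbit_mul_card_stabilizer (x : X) :
    Nat.card (orbit Γ x) * Nat.card (stabilizer Γ x) = Nat.card Γ := by
  rw [← Nat.card_prod]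
  exact Nat.card_congr (orbitProdStabilizerEquivGroup Γ x)

end Orbits

variable {G : Type*} [Group G]

section SylowBasic

variable {p : ℕ} [hp : Fact p.Prime]

theorem card_sylow_mul_card_normalizer [Finite G] (P : Sylow p G) :
    Nat.card (Sylow p G) * Nat.card (normalizer ((P : Subgroup G) : Set G)) = Nat.card G := by
  rw [P.card_eq_index_normalizer]; exact index_mul_card _

omit hp in
theorem card_orbit_sylow [Finite G] (P R : Sylow p G) :
    Nat.card (orbit (P : Subgroup G) R) = ((R : Subgroup G).subgroupOf (P : Subgroup G)).index := by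
  rw [Nat.card_coe_set_eq, ← index_stabilizer]
  congr 1
  ext x
  rw [mem_stabilizer_iff, mem_subgroupOf, Subgroup.smul_def, Sylow.smul_eq_iff_mem_normalizer]
  have := P.2.inf_normalizer_sylow R
  constructor
  · intro h
    have h2 : (x : G) ∈ (P : Subgroup G) ⊓ normalizer (R : Set G) := ⟨x.2, h⟩
    rw [this] at h2
    exact h2.2
  · intro h
    exact le_normalizer h

theorem exists_sylow_pair [Finite G] (k : ℕ) (h : ¬ Nat.card (Sylow p G) ≡ 1 [MOD p ^ k]) :
    ∃ P R : Sylow p G, P ≠ R ∧
      ((R : Subgroup G).subgroupOf (P : Subgroup G)).index ≤ p ^ (k - 1) := by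
  by_contra hc
  push Not at hc
  obtain ⟨P⟩ : Nonempty (Sylow p G) := inferInstance
  apply h
  have := card_modEq_of_orbits (Γ := (P : Subgroup G)) (p ^ k) ({P} : Set (Sylow p G))
    (fun g x => by
      have h1 : g • P = P := by
        rw [Subgroup.smul_def, Sylow.smul_eq_iff_mem_normalizer]; exact le_normalizer g.2
      simp only [Set.mem_singleton_iff]
      constructor
      · intro h2; exact smul_left_cancel g (h2.trans h1.symm)
      · rintro rfl; exact h1)
    (fun R hR => by
      rw [card_orbit_sylow]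
      have h1 := hc P R (fun h => hR (by simp [h]))
      obtain ⟨j, hj⟩ := P.2.index ((R : Subgroup G).subgroupOf (P : Subgroup G))
      rw [hj] at h1 ⊢
      have := (Nat.pow_lt_pow_iff_right hp.out.one_lt).1 h1
      exact pow_dvd_pow p (by omega))
  simpa using this

omit hp in
theorem sylow_eq_of_le {P Q : Sylow p G} (h : (P : Subgroup G) ≤ Q) : P = Q :=
  Sylow.ext (P.3 Q.2 h).symm

theorem card_sylow_eq [Finite G] (P Q : Sylow p G) :
    Nat.card (P : Subgroup G) = Nat.card (Q : Subgroup G) := by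
  rw [P.card_eq_multiplicity, Q.card_eq_multiplicity]

/-- In a finite `p`-group `P`, a proper subgroup `D` is properly contained in `P ⊓ N(D)`. -/
theorem lt_inf_normalizer_of_isPGroup [Finite G] {P D : Subgroup G} (hP : IsPGroup p P)
    (h : D < P) : D < P ⊓ normalizer (D : Set G) := by
  have : Group.IsNilpotent P := hP.isNilpotent
  have h1 : D.subgroupOf P < ⊤ := by
    rw [lt_top_iff_ne_top, Ne, subgroupOf_eq_top]
    exact fun h' => h.not_ge h'
  have h2 := Group.normalizerCondition_of_isNilpotent (G := P) _ h1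
  obtain ⟨x, hx, hx'⟩ := SetLike.exists_of_lt h2
  refine lt_of_le_of_ne (le_inf h.le le_normalizer) fun he => hx' ?_
  rw [mem_subgroupOf, he]
  refine ⟨x.2, ?_⟩
  rw [SetLike.mem_coe, mem_normalizer_iff] at *
  intro y
  constructor
  · intro hy
    exact (hx ⟨y, h.le hy⟩).1 hy
  · intro hy
    have hyP : y ∈ P := by
      have := P.mul_mem (P.mul_mem (P.inv_mem x.2) (h.le hy)) x.2
      simpa [mul_assoc] using this
    exact (hx ⟨y, hyP⟩).2 hy

end SylowBasic

section Embed

theorem exists_perm_hom_of_index [Finite G] (H : Subgroup G) :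
    ∃ f : G →* Equiv.Perm (Fin H.index), f.ker = H.normalCore := by
  have e : (G ⧸ H) ≃ Fin H.index := Finite.equivFinOfCardEq H.index_eq_card.symm
  refine ⟨(e.permCongrHom : Equiv.Perm (G ⧸ H) →* _).comp (MulAction.toPermHom G (G ⧸ H)), ?_⟩
  rw [normalCore_eq_ker, ← MonoidHom.comap_ker,
    (MonoidHom.ker_eq_bot_iff _).2 e.permCongrHom.injective]
  rfl

theorem commutator_eq_top_of_simple [IsSimpleGroup G] (hG : ¬ IsMulCommutative G) :
    commutator G = ⊤ := by
  refine (Subgroup.Normal.eq_bot_or_eq_top inferInstance).resolve_left fun h => hG ⟨⟨fun a b => ?_⟩⟩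
  have : ⁅a, b⁆ ∈ commutator G := commutator_mem_commutator (mem_top a) (mem_top b)
  rw [h, mem_bot, commutatorElement_eq_one_iff_mul_comm] at this
  exact this

theorem hom_eq_one_of_perfect (hG : commutator G = ⊤) {A : Type*} [CommGroup A] (f : G →* A)
    (g : G) : f g = 1 :=
  Abelianization.commutator_subset_ker f (hG ▸ mem_top g)

theorem sign_eq_one_of_perfect (hG : commutator G = ⊤) {α : Type*} [Fintype α] [DecidableEq α]
    (f : G →* Equiv.Perm α) (g : G) : Equiv.Perm.sign (f g) = 1 :=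
  hom_eq_one_of_perfect hG (Equiv.Perm.sign.comp f) g

theorem normalCore_eq_bot_of_simple [IsSimpleGroup G] {H : Subgroup G} (hH : H ≠ ⊤) :
    H.normalCore = ⊥ :=
  (Subgroup.Normal.eq_bot_or_eq_top inferInstance).resolve_right fun h =>
    hH (top_le_iff.1 (h ▸ H.normalCore_le))

theorem exists_injective_alternating [Finite G] [IsSimpleGroup G] (hG : ¬ IsMulCommutative G)
    (H : Subgroup G) (hH : H ≠ ⊤) :
    ∃ f : G →* ↥(alternatingGroup (Fin H.index)), Function.Injective f := by
  obtain ⟨f, hf⟩ := exists_perm_hom_of_index H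
  rw [normalCore_eq_bot_of_simple hH, MonoidHom.ker_eq_bot_iff] at hf
  refine ⟨f.codRestrict _ fun g => Equiv.Perm.mem_alternatingGroup.2
    (sign_eq_one_of_perfect (commutator_eq_top_of_simple hG) f g), fun a b h => hf ?_⟩
  exact congrArg Subtype.val h

theorem two_mul_card_dvd_factorial [Finite G] [IsSimpleGroup G] (hG : ¬ IsMulCommutative G)
    (H : Subgroup G) (hH : H ≠ ⊤) : 2 * Nat.card G ∣ H.index.factorial := by
  obtain ⟨f, hf⟩ := exists_injective_alternating hG H hH
  have h1 : 1 < H.index := one_lt_index_of_ne_top hH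
  have : Nontrivial (Fin H.index) := Fin.nontrivial_iff_two_le.2 h1
  have h2 := two_mul_nat_card_alternatingGroup (α := Fin H.index)
  rw [Nat.card_perm, Nat.card_eq_fintype_card (α := Fin H.index), Fintype.card_fin] at h2
  rw [← h2]
  exact Nat.mul_dvd_mul_left 2 (card_dvd_of_injective f hf)

end Embed

section FixedCount

theorem card_fixedBy_mul [Finite G] (H : Subgroup G) (x : G) :
    Nat.card (fixedBy (G ⧸ H) x) * Nat.card H = Nat.card {g : G // g⁻¹ * x * g ∈ H} := by
  rw [← Nat.card_prod]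
  have key : ∀ g : G, (g : G ⧸ H) ∈ fixedBy (G ⧸ H) x ↔ g⁻¹ * x * g ∈ H := by
    intro g
    rw [mem_fixedBy, Quotient.smul_mk, eq_comm, QuotientGroup.eq, smul_eq_mul, mul_assoc]
  refine Nat.card_congr
    { toFun := fun y => ⟨y.1.1.out * y.2, ?_⟩
      invFun := fun g => ⟨⟨(g.1 : G ⧸ H), (key _).2 g.2⟩,
        ⟨(g.1 : G ⧸ H).out⁻¹ * g.1, QuotientGroup.eq.1 (QuotientGroup.out_eq' _)⟩⟩
      left_inv := fun y => ?_
      right_inv := fun g => ?_ }
  · rw [← key, QuotientGroup.mk_mul_of_mem _ y.2.2, QuotientGroup.out_eq']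
    exact y.1.2
  · have : ((y.1.1.out * y.2 : G) : G ⧸ H) = y.1.1 := by
      rw [QuotientGroup.mk_mul_of_mem _ y.2.2, QuotientGroup.out_eq']
    ext <;> simp [this]
  · simp

theorem card_conj_mem [Finite G] (S : Set G) (x : G) :
    Nat.card {g : G // g⁻¹ * x * g ∈ S} =
      Nat.card (centralizer ({x} : Set G)) * Nat.card {g : G // IsConj x g ∧ g ∈ S} := by
  rw [← Nat.card_prod]
  have hc : ∀ y : {g : G // IsConj x g ∧ g ∈ S}, ∃ c : G, c⁻¹ * x * c = y := fun y => by
    obtain ⟨c, hc⟩ := isConj_iff.1 y.2.1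
    exact ⟨c⁻¹, by simpa using hc⟩
  choose c hc using hc
  refine Nat.card_congr
    { toFun := fun g => ⟨⟨g.1 * (c ⟨g.1⁻¹ * x * g.1, isConj_iff.2 ⟨g.1⁻¹, by simp⟩, g.2⟩)⁻¹, ?_⟩,
        ⟨g.1⁻¹ * x * g.1, isConj_iff.2 ⟨g.1⁻¹, by simp⟩, g.2⟩⟩
      invFun := fun z => ⟨z.1.1 * c z.2, ?_⟩
      left_inv := fun g => by simp
      right_inv := fun z => ?_ }
  · rw [mem_centralizer_singleton_iff]
    have := hc ⟨g.1⁻¹ * x * g.1, isConj_iff.2 ⟨g.1⁻¹, by simp⟩, g.2⟩
    simp only at this
    generalize c ⟨g.1⁻¹ * x * g.1, isConj_iff.2 ⟨g.1⁻¹, by simp⟩, g.2⟩ = d at this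
    calc g.1 * d⁻¹ * x = g.1 * (d⁻¹ * x * d) * d⁻¹ := by group
      _ = x * (g.1 * d⁻¹) := by rw [this]; group
  · have h1 := mem_centralizer_singleton_iff.1 z.1.2
    have : (z.1.1 * c z.2)⁻¹ * x * (z.1.1 * c z.2) = z.2 := by
      rw [← hc z.2]
      calc _ = (c z.2)⁻¹ * (z.1.1⁻¹ * (x * z.1.1)) * c z.2 := by group
        _ = _ := by rw [← h1]; group
    rw [this]; exact z.2.2.2
  · have h1 := mem_centralizer_singleton_iff.1 z.1.2
    have : (z.1.1 * c z.2)⁻¹ * x * (z.1.1 * c z.2) = z.2 := by
      rw [← hc z.2]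
      calc _ = (c z.2)⁻¹ * (z.1.1⁻¹ * (x * z.1.1)) * c z.2 := by group
        _ = _ := by rw [← h1]; group
    ext
    · simp only [this, Subtype.coe_eta]; simp
    · simp only [this]

theorem card_centralizer_mul_card_isConj [Finite G] (x : G) :
    Nat.card (centralizer ({x} : Set G)) * Nat.card {g : G // IsConj x g} = Nat.card G := by
  have := card_conj_mem Set.univ x
  simp only [Set.mem_univ, and_true] at this
  rw [← this]
  exact Nat.card_congr (Equiv.subtypeUnivEquiv fun _ => trivial)

/-- `|Fix(x)| · |H| = |C(x)| · |x^G ∩ H|`. -/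
theorem card_fixedBy_mul' [Finite G] (H : Subgroup G) (x : G) :
    Nat.card (fixedBy (G ⧸ H) x) * Nat.card H =
      Nat.card (centralizer ({x} : Set G)) * Nat.card {g : G // IsConj x g ∧ g ∈ H} := by
  rw [card_fixedBy_mul]; exact card_conj_mem (H : Set G) x

theorem card_fixedBy_mul_card_isConj [Finite G] (H : Subgroup G) (x : G) :
    Nat.card (fixedBy (G ⧸ H) x) * Nat.card {g : G // IsConj x g} =
      H.index * Nat.card {g : G // IsConj x g ∧ g ∈ H} := by
  have h1 := card_fixedBy_mul' H x
  have h2 := card_centralizer_mul_card_isConj x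
  have h3 := H.index_mul_card
  apply Nat.eq_of_mul_eq_mul_left (Nat.card_pos (α := H))
  calc _ = (Nat.card (fixedBy (G ⧸ H) x) * Nat.card H) * Nat.card {g : G // IsConj x g} := by ring
    _ = (Nat.card (centralizer ({x} : Set G)) * Nat.card {g : G // IsConj x g}) *
        Nat.card {g : G // IsConj x g ∧ g ∈ H} := by rw [h1]; ring
    _ = _ := by rw [h2, ← h3]; ring

end FixedCount

end H18
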