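import Mathlib
import Cfsg.Agent.H3.Frobenius
import Cfsg.Agent.H18.Basic

/-!
# Elementary tools for small simple groups, part 2 (helper18)
-/

set_option autoImplicit false

open MulAction Subgroup Cfsg

namespace H18

variable {G : Type*} [Group G]

theorem exists_ne_of_not_comm (hG : ¬ IsMulCommutative G) : ∃ x y : G, x * y ≠ y * x := by
  by_contra h
  push Not at h
  exact hG ⟨⟨h⟩⟩

theorem not_comm_of_not_prime [Finite G] [IsSimpleGroup G] (h : ¬ (Nat.card G).Prime) :
    ¬ IsMulCommutative G := fun hc => by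
  let _ : CommGroup G := { (inferInstance : Group G) with mul_comm := hc.1.1 }
  exact h IsSimpleGroup.prime_card

theorem not_comm_of_not_isCyclic [Finite G] [IsSimpleGroup G] (h : ¬ IsCyclic G) :
    ¬ IsMulCommutative G := not_comm_of_not_prime fun hp =>
  have := Fact.mk hp
  h (isCyclic_of_prime_card rfl)

/-- Burnside's transfer theorem for simple groups. -/
theorem not_normalizer_le_centralizer [Finite G] [IsSimpleGroup G] (hG : ¬ IsMulCommutative G)
    {p : ℕ} [Fact p.Prime] (hp : p ∣ Nat.card G) (P : Sylow p G) :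
    ¬ normalizer (P : Set G) ≤ centralizer (P : Set G) := fun h =>
  H3.not_hasNPC_of_isSimpleGroup hp (exists_ne_of_not_comm hG)
    (H3.hasNPC_of_normalizer_le_centralizer P h)

/-- Frobenius test: some prime `q ≠ p` dividing `|G|` divides `p ^ k - 1` with `p ^ k ∣ |G|`. -/
theorem frobenius_test [Finite G] [IsSimpleGroup G] (hG : ¬ IsMulCommutative G)
    {p : ℕ} (hp : p.Prime) (hd : p ∣ Nat.card G) :
    ∃ q k : ℕ, q.Prime ∧ q ≠ p ∧ q ∣ Nat.card G ∧ 1 ≤ k ∧ p ^ k ∣ Nat.card G ∧
      q ∣ p ^ k - 1 := by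
  have := Fact.mk hp
  obtain ⟨P⟩ : Nonempty (Sylow p G) := inferInstance
  obtain ⟨Q, hQ, g, q, k, hq, hqp, hk, hn, hc⟩ := H3.exists_of_not_hasNPC P
    (H3.not_hasNPC_of_isSimpleGroup hd (exists_ne_of_not_comm hG))
  have h1 := H3.card_modEq_card_inf_centralizer hq hn hk
  have h2 : Q ⊓ centralizer {g} < Q := lt_of_le_of_ne inf_le_left fun e => hc (by
    rw [mem_centralizer_iff]
    intro y hy
    exact mem_centralizer_singleton_iff.mp (inf_eq_left.mp e hy))
  have h3 := H2.card_lt_of_lt h2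
  have hQp : IsPGroup p Q := P.2.to_le hQ
  obtain ⟨a, ha⟩ := IsPGroup.iff_card.1 hQp
  obtain ⟨b, hb⟩ := IsPGroup.iff_card.1 (hQp.to_le (inf_le_left : Q ⊓ centralizer {g} ≤ Q))
  rw [ha, hb] at h1 h3
  have hab : b < a := (Nat.pow_lt_pow_iff_right hp.one_lt).1 h3
  obtain ⟨c, rfl⟩ := Nat.exists_eq_add_of_lt hab
  have hg1 : g ≠ 1 := fun h => hc (h ▸ one_mem _)
  have hqG : q ∣ Nat.card G := by
    obtain ⟨j, -, hj⟩ := (Nat.dvd_prime_pow hq).mp (orderOf_dvd_of_pow_eq_one hk)
    rcases j with _ | j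
    · exact absurd (orderOf_eq_one_iff.mp hj) hg1
    · exact (hj ▸ dvd_pow_self q j.succ_ne_zero).trans (orderOf_dvd_natCard g)
  refine ⟨q, c + 1, hq, hqp, hqG, by omega, ?_, ?_⟩
  · exact (pow_dvd_pow p (by omega)).trans (ha ▸ card_subgroup_dvd_card Q)
  · have h4 := (Nat.modEq_iff_dvd' h3.le).mp h1.symm
    rw [add_assoc, pow_add, ← Nat.mul_sub_one] at h4
    refine ((Nat.Prime.dvd_mul hq).1 h4).resolve_left fun h5 => hqp ?_
    exact (Nat.prime_dvd_prime_iff_eq hq hp).1 (hq.dvd_of_dvd_pow h5)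

theorem twelve_or_sixteen_or_fiftysix [Finite G] [IsSimpleGroup G] (hG : ¬ IsMulCommutative G)
    (h2 : Even (Nat.card G)) : 12 ∣ Nat.card G ∨ 16 ∣ Nat.card G ∨ 56 ∣ Nat.card G := by
  obtain ⟨q, k, hq, hq2, hqG, hk, hkG, h⟩ := frobenius_test hG Nat.prime_two h2.two_dvd
  by_cases h4 : 4 ≤ k
  · exact Or.inr (Or.inl ((pow_dvd_pow 2 h4).trans hkG))
  · interval_cases k
    · exact absurd (Nat.dvd_one.1 h) hq.one_lt.ne'
    · obtain rfl := (Nat.prime_dvd_prime_iff_eq hq Nat.prime_three).1 h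
      exact Or.inl (Nat.Coprime.mul_dvd_of_dvd_of_dvd (by norm_num : Nat.Coprime 4 3) hkG hqG)
    · obtain rfl := (Nat.prime_dvd_prime_iff_eq hq (by norm_num : Nat.Prime 7)).1 h
      exact Or.inr (Or.inr
        (Nat.Coprime.mul_dvd_of_dvd_of_dvd (by norm_num : Nat.Coprime 8 7) hkG hqG))

theorem card_ne_one (T : Type*) [One T] [Finite T] :
    Nat.card {x : T // x ≠ 1} = Nat.card T - 1 := by
  classical
  have := Fintype.ofFinite T
  rw [Nat.card_eq_fintype_card, Fintype.card_subtype_compl, Fintype.card_subtype_eq,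
    Nat.card_eq_fintype_card]

theorem card_mulAut_dvd_factorial (T : Type*) [Group T] [Finite T] :
    Nat.card (MulAut T) ∣ (Nat.card T - 1).factorial := by
  classical
  let f : MulAut T →* Equiv.Perm {x : T // x ≠ 1} :=
    { toFun := fun φ => Equiv.Perm.subtypePerm φ.toEquiv fun x => by simp
      map_one' := by ext; simp
      map_mul' := fun _ _ => by ext; simp }
  have hf : Function.Injective f := by
    rw [injective_iff_map_eq_one]
    intro φ hφ
    ext x
    by_cases hx : x = 1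
    · simp [hx]
    · exact congrArg (fun σ : Equiv.Perm {x : T // x ≠ 1} => (σ ⟨x, hx⟩ : T)) hφ
  have := card_dvd_of_injective f hf
  rwa [Nat.card_perm, card_ne_one] at this

theorem relIndex_centralizer_dvd (P : Subgroup G) :
    (centralizer (P : Set G)).relIndex (normalizer (P : Set G)) ∣ Nat.card (MulAut P) := by
  have key := card_dvd_of_injective _ (QuotientGroup.kerLift_injective P.normalizerMonoidHom)
  rwa [normalizerMonoidHom_ker, ← index, ← relIndex] at key

theorem relIndex_centralizer_coprime [Finite G] {p : ℕ} [Fact p.Prime] (P : Sylow p G)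
    (hP : IsMulCommutative (P : Subgroup G)) :
    ¬ p ∣ (centralizer (P : Set G)).relIndex (normalizer (P : Set G)) := fun h =>
  P.not_dvd_index (h.trans ((relIndex_dvd_of_le_left _ (P : Subgroup G).le_centralizer).trans
    (relIndex_dvd_index_of_le (P : Subgroup G).le_normalizer)))

theorem klein_of_not_eight_dvd [Finite G] [IsSimpleGroup G] (hG : ¬ IsMulCommutative G)
    (h2 : Even (Nat.card G)) (h8 : ¬ 8 ∣ Nat.card G) (T : Sylow 2 G) :
    IsKleinFour ↥(T : Subgroup G) ∧ (centralizer ((T : Subgroup G) : Set G)).relIndex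
      (normalizer ((T : Subgroup G) : Set G)) = 3 := by
  have hN := not_normalizer_le_centralizer hG h2.two_dvd T
  have hcyc : ¬ IsCyclic (T : Subgroup G) := fun h => hN
    (IsCyclic.normalizer_le_centralizer ((Nat.minFac_eq_two_iff _).2 h2.two_dvd) h)
  obtain ⟨k, hk⟩ := IsPGroup.iff_card.1 T.2
  have hk3 : k < 3 := by
    by_contra h
    exact h8 ((pow_dvd_pow 2 (not_lt.1 h)).trans (hk ▸ card_subgroup_dvd_card _))
  have hk2 : k = 2 := by
    interval_cases k
    · have : Subsingleton (T : Subgroup G) := (Nat.card_eq_one_iff_unique.1 hk).1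
      exact absurd isCyclic_of_subsingleton hcyc
    · exact absurd (isCyclic_of_prime_card (p := 2) hk) hcyc
    · rfl
  subst hk2
  have hK : IsKleinFour (T : Subgroup G) :=
    ⟨hk, (not_isCyclic_iff_exponent_eq_prime (α := (T : Subgroup G)) Nat.prime_two hk).1 hcyc⟩
  refine ⟨hK, ?_⟩
  have h1 := (relIndex_centralizer_dvd (T : Subgroup G)).trans (card_mulAut_dvd_factorial _)
  have h3 := relIndex_centralizer_coprime T hK.isMulCommutative
  have h4 : (centralizer ((T : Subgroup G) : Set G)).relIndex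
      (normalizer ((T : Subgroup G) : Set G)) ≠ 1 := fun h => hN (relIndex_eq_one.1 h)
  rw [hk] at h1
  change ¬ 2 ∣ (centralizer ((T : Subgroup G) : Set G)).relIndex
      (normalizer ((T : Subgroup G) : Set G)) at h3
  generalize (centralizer ((T : Subgroup G) : Set G)).relIndex
      (normalizer ((T : Subgroup G) : Set G)) = m at *
  have := Nat.le_of_dvd (by norm_num) h1
  norm_num [Nat.factorial] at h1 this
  interval_cases m <;> omega

section PrimeSylow

variable [Finite G] {p : ℕ} [hp : Fact p.Prime]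

theorem zpowers_eq_of_mem {P : Subgroup G} (hP : Nat.card P = p) {y : G} (hy : y ∈ P)
    (h1 : y ≠ 1) : zpowers y = P := by
  have h2 : zpowers y ≤ P := zpowers_le.2 hy
  have h3 : orderOf y = p := by
    have := P.orderOf_dvd_natCard hy
    rw [hP] at this
    exact ((Nat.dvd_prime hp.out).1 this).resolve_left fun h => h1 (orderOf_eq_one_iff.1 h)
  exact eq_of_le_of_card_ge h2 (by rw [Nat.card_zpowers, h3, hP])

theorem orderOf_eq_of_mem {P : Subgroup G} (hP : Nat.card P = p) {y : G} (hy : y ∈ P)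
    (h1 : y ≠ 1) : orderOf y = p := by
  rw [← Nat.card_zpowers, zpowers_eq_of_mem hP hy h1, hP]

theorem exists_sylow_eq_zpowers (P : Sylow p G) (hP : Nat.card (P : Subgroup G) = p) {y : G}
    (hy : orderOf y = p) : ∃ Q : Sylow p G, (Q : Subgroup G) = zpowers y := by
  have h1 : IsPGroup p (zpowers y) := IsPGroup.of_card (n := 1) (by rw [Nat.card_zpowers, hy, pow_one])
  obtain ⟨Q, hQ⟩ := h1.exists_le_sylow
  refine ⟨Q, (zpowers_eq_of_mem ((card_sylow_eq Q P).trans hP) (hQ (mem_zpowers y)) ?_).symm⟩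
  rintro rfl
  rw [orderOf_one] at hy
  exact hp.out.one_lt.ne hy

theorem card_orderOf_eq_prime (P : Sylow p G) (hP : Nat.card (P : Subgroup G) = p) :
    Nat.card {g : G // orderOf g = p} = Nat.card (Sylow p G) * (p - 1) := by
  classical
  have h1 : ∀ Q : Sylow p G, Nat.card {x : (Q : Subgroup G) // x ≠ 1} = p - 1 := fun Q => by
    rw [card_ne_one, card_sylow_eq Q P, hP]
  have := Fintype.ofFinite (Sylow p G)
  have h2 : Nat.card (Σ Q : Sylow p G, {x : (Q : Subgroup G) // x ≠ 1}) =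
      Nat.card (Sylow p G) * (p - 1) := by
    rw [Nat.card_sigma]
    simp only [h1, Finset.sum_const, Finset.card_univ, smul_eq_mul, Nat.card_eq_fintype_card]
  rw [← h2]
  symm
  refine Nat.card_eq_of_bijective (fun z => ⟨z.2.1, orderOf_eq_of_mem
    ((card_sylow_eq z.1 P).trans hP) z.2.1.2 fun h => z.2.2 (Subtype.ext h)⟩) ⟨?_, ?_⟩
  · rintro ⟨Q, ⟨x, hx⟩, hx1⟩ ⟨R, ⟨y, hy⟩, hy1⟩ h
    obtain rfl : x = y := congrArg Subtype.val h
    have hx1' : x ≠ 1 := fun h => hx1 (Subtype.ext h)
    obtain rfl : Q = R := Sylow.ext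
      ((zpowers_eq_of_mem ((card_sylow_eq Q P).trans hP) hx hx1').symm.trans
        (zpowers_eq_of_mem ((card_sylow_eq R P).trans hP) hy hx1'))
    rfl
  · rintro ⟨y, hy⟩
    obtain ⟨Q, hQ⟩ := exists_sylow_eq_zpowers P hP hy
    refine ⟨⟨Q, ⟨y, hQ ▸ mem_zpowers y⟩, fun h => ?_⟩, rfl⟩
    have : y = 1 := congrArg Subtype.val h
    rw [this, orderOf_one] at hy
    exact hp.out.one_lt.ne hy

end PrimeSylow

/-- Counting a union of conjugacy classes of common size `k`. -/
theorem card_eq_card_classes_mul [Finite G] (S : G → Prop)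
    (hS : ∀ a b, IsConj a b → S a → S b) (k : ℕ)
    (hk : ∀ a, S a → Nat.card {g : G // IsConj a g} = k) :
    Nat.card {g : G // S g} =
      Nat.card {c : ConjClasses G // ∃ g : G, ConjClasses.mk g = c ∧ S g} * k := by
  classical
  have := Fintype.ofFinite {c : ConjClasses G // ∃ g : G, ConjClasses.mk g = c ∧ S g}
  let f : {g : G // S g} → {c : ConjClasses G // ∃ g : G, ConjClasses.mk g = c ∧ S g} :=
    fun g => ⟨ConjClasses.mk g.1, g.1, rfl, g.2⟩
  rw [← Nat.card_congr (Equiv.sigmaFiberEquiv f), Nat.card_sigma, Nat.card_eq_fintype_card,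
    ← Finset.card_univ, ← smul_eq_mul, ← Finset.sum_const]
  refine Finset.sum_congr rfl fun c _ => ?_
  obtain ⟨c, a, rfl, ha⟩ := c
  rw [← hk a ha]
  exact Nat.card_congr
    { toFun := fun x => ⟨x.1.1, (ConjClasses.mk_eq_mk_iff_isConj.1
        (congrArg Subtype.val x.2)).symm⟩
      invFun := fun g => ⟨⟨g.1, hS _ _ g.2 ha⟩,
        Subtype.ext (ConjClasses.mk_eq_mk_iff_isConj.2 g.2.symm)⟩
      left_inv := fun _ => rfl
      right_inv := fun _ => rfl }

end H18
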