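import Mathlib
import Cfsg.Agent.H17.Second
import Cfsg.Agent.H5.Misc
import Cfsg.Agent.H4.Misc
import Cfsg.Agent.H18.Elem

/-!
# Easy block-theoretic consequences for simple groups (helper18)
-/

set_option autoImplicit false

open Cfsg H4 H17 Subgroup
open scoped ComplexConjugate

namespace H18

variable {G : Type*} [Group G] [Finite G]

theorem exists_PM {p : ℕ} (hp : p.Prime) : ∃ M : Ideal AlgInt, PM p M := by
  obtain ⟨M, hM⟩ := H5.exists_isPModular hp
  exact ⟨M, ⟨hM⟩⟩

omit [Finite G] in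
theorem irr_ne_one_iff {χ : Irr G} : χ ≠ irrOne G ↔ χ.1 ≠ fun _ => 1 :=
  not_congr ⟨fun h => h ▸ rfl, fun h => Subtype.ext h⟩

omit [Finite G] in
theorem center_eq_bot_of_simple [IsSimpleGroup G] (hG : ¬ IsMulCommutative G) :
    center G = ⊥ := by
  refine (Subgroup.Normal.eq_bot_or_eq_top inferInstance).resolve_right fun h => hG ?_
  exact ⟨⟨fun a b => (mem_center_iff.mp (h ▸ mem_top b) a)⟩⟩

theorem norm_ne_of_simple [IsSimpleGroup G] (hG : ¬ IsMulCommutative G) {χ : Irr G}
    (h1 : χ ≠ irrOne G) {g : G} (hg : g ≠ 1) : ‖χ.1 g‖ ≠ (χ.1 1).re := by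
  intro h2
  rw [irr_ne_one_iff] at h1
  obtain ⟨χ, n, ρ, hρ, rfl⟩ := χ
  have hinj := rep_injective_of_simple ρ h1
  obtain ⟨c, hc⟩ := (rep_norm_char_eq_iff ρ g).mp (by simpa using h2)
  have hz : g ∈ Subgroup.center G := by
    rw [Subgroup.mem_center_iff]
    intro x
    apply hinj
    rw [map_mul, map_mul, hc, ← Module.End.one_eq_id]
    simp
  rw [center_eq_bot_of_simple hG] at hz
  exact hg hz

/-- An element of the centre of a Sylow `p`-subgroup. -/
theorem exists_central_pElt {p : ℕ} [hp : Fact p.Prime] (hd : p ∣ Nat.card G) :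
    ∃ z : G, z ≠ 1 ∧ PElt p z ∧ ¬ p ∣ (centralizer ({z} : Set G)).index := by
  obtain ⟨P⟩ := (inferInstance : Nonempty (Sylow p G))
  have hP : (P : Subgroup G) ≠ ⊥ := P.ne_bot_of_dvd_card hd
  obtain ⟨z, h1, h2, h3⟩ := exists_center_ne_one P.isPGroup' hP
  refine ⟨z, h2, PElt.of_mem P.isPGroup' h1, fun h => P.not_dvd_index ?_⟩
  exact h.trans (index_dvd_of_le (le_centralizer_singleton_iff.mpr h3))

variable {p : ℕ} [hp : Fact p.Prime] {M : Ideal AlgInt} [PM p M]

theorem deg_eq_one_iff_of_perfect (hG : commutator G = ⊤) {χ : Irr G} :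
    deg χ = 1 ↔ χ = irrOne G := by
  refine ⟨fun h => ?_, fun h => h ▸ deg_irrOne⟩
  obtain ⟨lam, hl⟩ := χ.2.isCharacter.exists_linear (by rw [← deg_eq, h, Nat.cast_one])
  have := hom_eq_one_of_perfect hG lam
  apply Subtype.ext
  ext g
  rw [hl]
  simp [this]

theorem eq_irrOne_of_deg_pow [IsSimpleGroup G] (hG : ¬ IsMulCommutative G) {χ : Irr G}
    (hχ : SB M (irrOne G) χ) {k : ℕ} (hk : deg χ = p ^ k) : χ = irrOne G := by
  by_contra h1
  rcases Nat.eq_zero_or_pos k with rfl | hk0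
  · exact h1 ((deg_eq_one_iff_of_perfect (commutator_eq_top_of_simple hG)).1 (by simpa using hk))
  have hd : p ∣ Nat.card G := (hk ▸ dvd_pow_self p hk0.ne').trans (deg_dvd_card χ)
  obtain ⟨z, hz1, hz2, hz3⟩ := exists_central_pElt hd
  have hcop : Nat.Coprime (deg χ) (centralizer ({z} : Set G)).index := by
    rw [hk]; exact Nat.Coprime.pow_left _ ((Nat.Prime.coprime_iff_not_dvd hp.out).2 hz3)
  rcases χ.2.eq_zero_or_norm_eq_of_coprime z (deg_eq χ).symm hcop with h | h
  · have h3 := SB_iff_cls.1 hχ z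
    rw [cls_eq_div, cls_eq_div, h, deg_irrOne] at h3
    simp only [Nat.cast_one, div_one, irrOne_apply, mul_one, mul_zero, sub_zero] at h3
    exact hz3 (natCast_mem_Pm.1 h3)
  · exact norm_ne_of_simple hG h1 hz1 h

variable (M) in
/-- From weak block orthogonality: a non-principal character of the principal block with degree
prime to `q` not vanishing at a given `p`-singular element. -/
theorem exists_principal_not_dvd {q : ℕ} (hq : q.Prime) {g : G} (hg : p ∣ orderOf g) :
    ∃ χ : Irr G, SB M (irrOne G) χ ∧ χ ≠ irrOne G ∧ ¬ q ∣ deg χ ∧ χ.1 g ≠ 0 := by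
  classical
  by_contra hc
  push Not at hc
  obtain ⟨M', hM'⟩ := exists_PM hq
  have h := weak_block_orth (fb_mem_ZS (M := M) (irrOne G)) (x := 1) reg_one hg
  rw [← Finset.add_sum_erase _ _ (Finset.mem_univ (irrOne G))] at h
  have h2 : ∑ χ ∈ Finset.univ.erase (irrOne G),
      ind (blockOf M (irrOne G).1) χ * (χ.1 1 * conj (χ.1 g)) ∈ Pm M' := by
    refine sum_mem fun χ hχ => ?_
    rw [ind_apply]
    split_ifs with h1
    · by_cases h3 : q ∣ deg χ
      · rw [one_mul, ← deg_eq]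
        exact natCast_mul_mem_Pm h3 (conj_irr_mem_S χ g)
      · rw [hc χ h1 (Finset.ne_of_mem_erase hχ) h3]; simp [(Pm M').zero_mem]
    · simp [(Pm M').zero_mem]
  rw [ind_of_mem (self_mem_blockOf _)] at h
  simp only [irrOne_apply, map_one, mul_one] at h
  rw [← eq_neg_iff_add_eq_zero] at h
  exact one_notMem_Pm (M := M') (h ▸ neg_mem h2)

omit hp in
/-- In a non-abelian simple group of order `p^a q^b r` there is no element of order
divisible by `p r`. -/
theorem not_dvd_orderOf_of_three_primes [IsSimpleGroup G] (hG : ¬ IsMulCommutative G)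
    {q r a b : ℕ} (hp : p.Prime) (hq : q.Prime) (hr : r.Prime) (hpr : p ≠ r) (hqr : q ≠ r)
    (hcard : Nat.card G = p ^ a * q ^ b * r) {g : G} (h1 : p ∣ orderOf g) : ¬ r ∣ orderOf g := by
  intro h2
  have := Fact.mk hp
  have := Fact.mk hr
  obtain ⟨M, hM⟩ := exists_PM hp
  obtain ⟨M', hM'⟩ := exists_PM hr
  obtain ⟨χ, c1, c2, c3, c4⟩ := exists_principal_not_dvd M hq h1
  have c5 : ¬ r ∣ deg χ := fun h => c4 (eq_zero_of_defect_zero M' (by
    rw [hcard, Nat.factorization_mul (mul_pos (pow_pos hp.pos _) (pow_pos hq.pos _)).ne' hr.ne_zero,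
      Nat.factorization_mul (pow_pos hp.pos _).ne' (pow_pos hq.pos _).ne', hp.factorization_pow,
      hq.factorization_pow, hr.factorization]
    simp only [Finsupp.coe_add, Pi.add_apply, Finsupp.single_eq_of_ne hpr.symm,
      Finsupp.single_eq_of_ne hqr.symm, Finsupp.single_eq_same]
    exact (hr.dvd_iff_one_le_factorization (deg_ne_zero χ)).1 h) h2)
  have c6 : deg χ ∣ p ^ a := by
    have h3 := deg_dvd_card χ
    rw [hcard] at h3
    exact (Nat.Coprime.pow_right b ((Nat.Prime.coprime_iff_not_dvd hq).2 c3).symm).dvd_of_dvd_mul_right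
      (((Nat.Prime.coprime_iff_not_dvd hr).2 c5).symm.dvd_of_dvd_mul_right h3)
  obtain ⟨k, -, hk⟩ := (Nat.dvd_prime_pow hp).1 c6
  exact c2 (eq_irrOne_of_deg_pow hG c1 hk)

omit hp in
theorem centralizer_eq_zpowers_of_three_primes [IsSimpleGroup G] (hG : ¬ IsMulCommutative G)
    {q r a b : ℕ} (hp : p.Prime) (hq : q.Prime) (hr : r.Prime) (hpr : p ≠ r) (hqr : q ≠ r)
    (hcard : Nat.card G = p ^ a * q ^ b * r) {x : G} (hx : orderOf x = r) :
    centralizer ({x} : Set G) = zpowers x := by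
  have := Fact.mk hr
  symm
  have hle : zpowers x ≤ centralizer ({x} : Set G) := by
    rw [zpowers_le, mem_centralizer_singleton_iff]
  apply eq_of_le_of_card_ge hle
  have key : ∀ s : ℕ, s.Prime → s ≠ r → (s = p ∨ s = q) →
      ¬ s ∣ Nat.card (centralizer ({x} : Set G)) := by
    intro s hs hsr hs' hd
    have := Fact.mk hs
    obtain ⟨⟨y, hy⟩, hy'⟩ := exists_prime_orderOf_dvd_card' s hd
    rw [← orderOf_coe] at hy'
    simp only at hy'
    have hc : Commute y x := H17.mem_centralizer_singleton.1 hy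
    have ho : orderOf (y * x) = s * r := by
      rw [hc.orderOf_mul_eq_mul_orderOf_of_coprime (by
        rw [hy', hx]; exact (Nat.coprime_primes hs hr).2 hsr), hy', hx]
    rcases hs' with rfl | rfl
    · exact not_dvd_orderOf_of_three_primes hG hp hq hr hpr hqr hcard (g := y * x)
        (ho ▸ dvd_mul_right _ _) (ho ▸ dvd_mul_left _ _)
    · exact not_dvd_orderOf_of_three_primes hG hq hp hr hqr hpr (by rw [hcard, mul_comm (p ^ a)])
        (g := y * x) (ho ▸ dvd_mul_right _ _) (ho ▸ dvd_mul_left _ _)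
  have h3 := card_subgroup_dvd_card (centralizer ({x} : Set G))
  rw [hcard] at h3
  have h4 : (Nat.card (centralizer ({x} : Set G))).Coprime (p ^ a * q ^ b) :=
    Nat.Coprime.mul_right
      (Nat.Coprime.pow_right _ ((Nat.Prime.coprime_iff_not_dvd hp).2 (key p hp hpr (.inl rfl))).symm)
      (Nat.Coprime.pow_right _ ((Nat.Prime.coprime_iff_not_dvd hq).2 (key q hq hqr (.inr rfl))).symm)
  rw [Nat.card_zpowers, hx]
  exact Nat.le_of_dvd hr.pos (h4.dvd_of_dvd_mul_left h3)

end H18
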