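import Mathlib

/-!
# Local symmetric orders over a complete discrete valuation ring (helper18)

The abstract part of Brauer's theory of blocks of defect one.
-/

set_option autoImplicit false

open Polynomial IsLocalRing

namespace H18.Order

variable {O : Type*} [CommRing O] [IsDomain O] [IsDiscreteValuationRing O] {π : O}

theorem max_eq (hπ : Irreducible π) : maximalIdeal O = Ideal.span {π} :=
  (IsDiscreteValuationRing.irreducible_iff_uniformizer π).1 hπ

theorem isUnit_iff (hπ : Irreducible π) {x : O} : IsUnit x ↔ ¬ π ∣ x := by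
  rw [← Ideal.mem_span_singleton, ← max_eq hπ, mem_maximalIdeal, mem_nonunits_iff, not_not]

theorem residue_eq_zero (hπ : Irreducible π) {x : O} : residue O x = 0 ↔ π ∣ x := by
  rw [residue_eq_zero_iff, max_eq hπ, Ideal.mem_span_singleton]

section Module

variable {E : Type*} [AddCommGroup E] [Module O E] [Module.Finite O E]

theorem eq_zero_of_forall (hπ : Irreducible π) {y : E} (h : ∀ n : ℕ, ∃ w, y = π ^ n • w) :
    y = 0 := by
  refine IsHausdorff.haus (I := maximalIdeal O) inferInstance y fun n => ?_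
  obtain ⟨w, rfl⟩ := h n
  rw [SModEq.zero]
  refine Submodule.smul_mem_smul ?_ Submodule.mem_top
  rw [max_eq hπ]
  exact Ideal.pow_mem_pow (Ideal.mem_span_singleton_self π) n

theorem exists_limit_base (hπ : Irreducible π) [IsAdicComplete (maximalIdeal O) O] (w : ℕ → O) :
    ∃ L : O, ∀ n, ∃ r, L = ∑ i ∈ Finset.range n, π ^ i * w i + π ^ n * r := by
  have key : ∀ (n : ℕ) (a b : O), a ≡ b [SMOD ((maximalIdeal O) ^ n • ⊤ : Submodule O O)] ↔
      π ^ n ∣ a - b := by
    intro n a b
    rw [SModEq.sub_mem, max_eq hπ, Ideal.span_singleton_pow, smul_eq_mul, Ideal.mul_top,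
      Ideal.mem_span_singleton]
  obtain ⟨L, hL⟩ := IsPrecomplete.prec (I := maximalIdeal O) (M := O) inferInstance
    (f := fun n => ∑ i ∈ Finset.range n, π ^ i * w i) (fun {m n} hmn => by
      rw [key, ← dvd_neg, neg_sub, ← Finset.sum_Ico_eq_sub _ hmn]
      exact Finset.dvd_sum fun i hi => (pow_dvd_pow π (Finset.mem_Ico.1 hi).1).mul_right _)
  refine ⟨L, fun n => ?_⟩
  obtain ⟨r, hr⟩ := (key _ _ _).1 (hL n)
  exact ⟨-r, by linear_combination -hr⟩

theorem exists_limit (hπ : Irreducible π) [IsAdicComplete (maximalIdeal O) O] (w : ℕ → E) :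
    ∃ L : E, ∀ n, ∃ r, L = ∑ i ∈ Finset.range n, π ^ i • w i + π ^ n • r := by
  obtain ⟨m, f, hf⟩ := Module.Finite.exists_fin' O E
  choose v hv using fun i => hf (w i)
  choose L hL using fun j => exists_limit_base hπ fun i => v i j
  choose r hr using hL
  refine ⟨f L, fun n => ⟨f fun j => r j n, ?_⟩⟩
  have : L = ∑ i ∈ Finset.range n, π ^ i • v i + π ^ n • fun j => r j n := by
    ext j; simp [hr j n]
  rw [this]
  simp [hv]

theorem exists_socle (hπ : Irreducible π) (P : Submodule O E → Prop) (S W : Submodule O E)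
    (hS : ∀ w, π • w ∈ S) (hSW : S < W) (hW : P W) :
    ∃ Y, S < Y ∧ Y ≤ W ∧ P Y ∧ ∀ Y', S < Y' → Y' ≤ Y → P Y' → Y' = Y := by
  let I := maximalIdeal O
  have : IsArtinian (O ⧸ I) (E ⧸ I • (⊤ : Submodule O E)) := by
    let _ := Ideal.Quotient.field I
    have : Module.Finite (O ⧸ I) (E ⧸ I • (⊤ : Submodule O E)) :=
      Module.Finite.of_restrictScalars_finite O _ _
    infer_instance
  have : IsArtinian O (E ⧸ I • (⊤ : Submodule O E)) :=
    isArtinian_of_surjective_algebraMap (R := O ⧸ I) Ideal.Quotient.mk_surjective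
  have hI : I • (⊤ : Submodule O E) ≤ S := by
    refine Submodule.smul_le.2 fun r hr w _ => ?_
    rw [show I = Ideal.span {π} from max_eq hπ, Ideal.mem_span_singleton] at hr
    obtain ⟨c, rfl⟩ := hr
    rw [mul_smul]; exact hS _
  obtain ⟨Y, hY, hmin⟩ := (InvImage.wf (fun Y : Submodule O E => Y.map (I • ⊤ : Submodule O E).mkQ)
    (wellFounded_lt (α := Submodule O (E ⧸ I • (⊤ : Submodule O E))))).has_min
      {Y | S < Y ∧ Y ≤ W ∧ P Y} ⟨W, hSW, le_rfl, hW⟩
  refine ⟨Y, hY.1, hY.2.1, hY.2.2, fun Y' h1 h2 h3 => ?_⟩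
  by_contra hne
  refine hmin Y' ⟨h1, h2.trans hY.2.1, h3⟩ (lt_of_le_of_ne (Submodule.map_mono h2) fun h => hne ?_)
  have := congrArg (Submodule.comap (I • ⊤ : Submodule O E).mkQ) h
  rwa [Submodule.comap_map_mkQ, Submodule.comap_map_mkQ, sup_eq_right.2 (hI.trans h1.le),
    sup_eq_right.2 (hI.trans hY.1.le)] at this

end Module

section Alg

variable {E : Type*} [Ring E] [Algebra O E] [Module.Finite O E]

theorem dedekind (O : Type*) [CommRing O] [IsNoetherianRing O] (E : Type*) [Ring E] [Algebra O E]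
    [Module.Finite O E] : IsDedekindFiniteMonoid E := by
  have : IsNoetherianRing E := IsNoetherianRing.of_finite O E
  infer_instance

theorem isUnit_one_sub_smul (hπ : Irreducible π) (w : E) : IsUnit (1 - π • w) := by
  have := dedekind O E
  have h : (⊤ : Submodule O E) ≤ LinearMap.range (LinearMap.mulLeft O (1 - π • w)) := by
    refine Submodule.le_of_le_smul_of_le_jacobson_bot Module.Finite.fg_top
      (I := maximalIdeal O) (maximalIdeal_le_jacobson _) fun x _ => ?_
    have : x = (1 - π • w) * x + π • (w * x) := by rw [sub_mul, smul_mul_assoc]; simp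
    rw [this]
    refine Submodule.add_mem_sup ⟨x, rfl⟩ (Submodule.smul_mem_smul ?_ Submodule.mem_top)
    rw [max_eq hπ]; exact Ideal.mem_span_singleton_self π
  obtain ⟨u, hu⟩ := h (Submodule.mem_top : (1 : E) ∈ ⊤)
  exact IsUnit.of_mul_eq_one u hu

theorem IsUnit.add_smul (hπ : Irreducible π) {u : E} (hu : IsUnit u) (w : E) :
    IsUnit (u + π • w) := by
  obtain ⟨u, rfl⟩ := hu
  have : (u : E) + π • w = u * (1 - π • (-((u⁻¹ : Eˣ) * w))) := by
    rw [mul_sub, mul_smul_comm, mul_neg, ← mul_assoc]; simp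
  rw [this]
  exact u.isUnit.mul (isUnit_one_sub_smul hπ _)

theorem exists_idem (hπ : Irreducible π) [IsAdicComplete (maximalIdeal O) O] {z a : E}
    (h : z * z - z = π • a) : ∃ e w : E, IsIdempotentElem e ∧ e = z + π • w := by
  let N : E → E := fun x => 3 * x ^ 2 - 2 * x ^ 3
  have h1 : ∀ x, N x * N x - N x = (x * x - x) * (x * x - x) * (4 * x ^ 2 - 4 * x - 3) := by
    intro x; simp only [N]; noncomm_ring
  have h2 : ∀ x, N x = x + (x * x - x) * (1 - 2 * x) := by
    intro x; simp only [N]; noncomm_ring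
  have h3 : ∀ n : ℕ, ∃ b, N^[n] z * N^[n] z - N^[n] z = π ^ (n + 1) • b := by
    intro n
    induction n with
    | zero => exact ⟨a, by simpa using h⟩
    | succ n ih =>
      obtain ⟨b, hb⟩ := ih
      refine ⟨π ^ n • (b * b * (4 * (N^[n] z) ^ 2 - 4 * N^[n] z - 3)), ?_⟩
      rw [Function.iterate_succ_apply', h1, hb, smul_mul_smul_comm, smul_mul_assoc, smul_smul]
      congr 1; ring
  choose b hb using h3
  obtain ⟨L, hL⟩ := exists_limit hπ fun n => π • (b n * (1 - 2 * N^[n] z))
  have h4 : ∀ n, N^[n] z = z + ∑ i ∈ Finset.range n, π ^ i • π • (b i * (1 - 2 * N^[i] z)) := by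
    intro n
    induction n with
    | zero => simp
    | succ n ih =>
      rw [Finset.sum_range_succ, ← add_assoc, ← ih, Function.iterate_succ_apply', h2, hb,
        smul_mul_assoc, smul_smul, pow_succ]
  obtain ⟨r, hr⟩ := hL 1
  refine ⟨z + L, b 0 * (1 - 2 * z) + r, ?_, by rw [hr]; simp⟩
  rw [IsIdempotentElem, ← sub_eq_zero]
  refine eq_zero_of_forall hπ fun n => ?_
  obtain ⟨r, hr⟩ := hL n
  have h5 : z + L = N^[n] z + π ^ n • r := by rw [hr, h4 n, add_assoc]
  refine ⟨π • b n + (N^[n] z * r + r * (z + L) - r), ?_⟩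
  have h6 := hb n
  rw [pow_succ, mul_smul] at h6
  rw [smul_add, ← h6]
  nth_rw 1 [h5]
  nth_rw 2 [h5]
  rw [add_mul, h5]
  simp only [mul_add, smul_add, smul_sub, mul_smul_comm, smul_mul_assoc]
  abel

omit [Module.Finite O E] in
theorem aeval_congr (hπ : Irreducible π) (y : E) {f g : O[X]}
    (h : f.map (residue O) = g.map (residue O)) : ∃ w, aeval y f = aeval y g + π • w := by
  have : C π ∣ f - g := by
    rw [C_dvd_iff_dvd_coeff]
    intro i
    rw [← residue_eq_zero hπ, ← coeff_map, Polynomial.map_sub, h, sub_self, coeff_zero]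
  obtain ⟨q, hq⟩ := this
  refine ⟨aeval y q, ?_⟩
  rw [Algebra.smul_def, ← aeval_C y, ← map_mul, ← hq, map_sub]; abel

/-- topologically nilpotent -/
def TN (π : O) (z : E) : Prop := ∃ (n : ℕ) (w : E), z ^ n = π • w

theorem TN.isUnit_one_sub (hπ : Irreducible π) {z : E} (h : TN π z) : IsUnit (1 - z) := by
  have := dedekind O E
  obtain ⟨n, w, h⟩ := h
  have h1 := isUnit_one_sub_smul hπ w
  rw [← h, ← mul_neg_geom_sum] at h1
  exact isUnit_of_mul_isUnit_left h1

theorem isUnit_or_TN (hπ : Irreducible π) [IsAdicComplete (maximalIdeal O) O]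
    (hid : ∀ e : E, IsIdempotentElem e → e = 0 ∨ e = 1) (y : E) : IsUnit y ∨ TN π y := by
  have := dedekind O E
  obtain ⟨f, hf, hfy⟩ : IsIntegral O y := Algebra.IsIntegral.isIntegral y
  rw [← aeval_def] at hfy
  obtain ⟨g', hg, hg'⟩ := exists_eq_pow_rootMultiplicity_mul_and_not_dvd (f.map (residue O))
    (hf.map _).ne_zero 0
  generalize rootMultiplicity 0 (f.map (residue O)) = n at hg
  rw [C_0, sub_zero] at hg hg'
  obtain ⟨a', b', hab⟩ : IsCoprime (X ^ (n + 1)) g' :=
    ((irreducible_X.coprime_iff_not_dvd).2 hg').pow_left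
  obtain ⟨a, rfl⟩ := map_surjective _ (residue_surjective (R := O)) a'
  obtain ⟨b, rfl⟩ := map_surjective _ (residue_surjective (R := O)) b'
  obtain ⟨w, hw⟩ := aeval_congr hπ y (f := (a * X ^ (n + 1)) * (a * X ^ (n + 1)) - a * X ^ (n + 1))
    (g := -(a * b * X) * f) (by
      simp only [Polynomial.map_sub, Polynomial.map_mul, Polynomial.map_pow, map_X,
        Polynomial.map_neg, hg]
      linear_combination (map (residue O) a * X ^ (n + 1)) * hab)
  rw [map_mul _ _ f, hfy, mul_zero, zero_add, map_sub, map_mul] at hw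
  obtain ⟨e, v, he, hev⟩ := exists_idem hπ hw
  rcases hid e he with h0 | h0
  · right
    obtain ⟨w', hw'⟩ := aeval_congr hπ y (f := X ^ (n + 1))
      (g := (a * X ^ (n + 1)) * X ^ (n + 1) + b * X * f) (by
      simp only [Polynomial.map_add, Polynomial.map_mul, Polynomial.map_pow, map_X, hg]
      linear_combination (-X ^ (n + 1)) * hab)
    rw [map_add, map_mul _ _ f, hfy, mul_zero, add_zero, map_mul,
      eq_neg_of_add_eq_zero_left (hev.symm.trans h0)] at hw'
    refine ⟨n + 1, -v * y ^ (n + 1) + w', ?_⟩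
    simpa using hw'
  · left
    have h1 := isUnit_one_sub_smul hπ v
    rw [← h0, hev, add_sub_cancel_right, pow_succ, ← mul_assoc, map_mul, aeval_X] at h1
    exact isUnit_of_mul_isUnit_right h1

theorem TN.not_isUnit [Nontrivial E] (hπ : Irreducible π) {z : E} (h : TN π z) : ¬ IsUnit z := by
  intro hz
  obtain ⟨n, w, h⟩ := h
  have h1 := IsUnit.add_smul hπ (hz.pow n) (-w)
  rw [h, smul_neg, add_neg_cancel] at h1
  exact not_isUnit_zero h1

theorem exists_not_isUnit_sub [Nontrivial E] (hπ : Irreducible π) [IsAlgClosed (ResidueField O)]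
    (y : E) : ∃ c : O, ¬ IsUnit (y - algebraMap O E c) := by
  by_contra hc
  push Not at hc
  have key : ∀ (n : ℕ) (f : O[X]), (f.map (residue O)).natDegree = n → f.map (residue O) ≠ 0 →
      IsUnit (aeval y f) := by
    intro n
    induction n with
    | zero =>
      intro f h1 h2
      rw [natDegree_eq_zero] at h1
      obtain ⟨c', hc'⟩ := h1
      obtain ⟨c, rfl⟩ := residue_surjective c'
      obtain ⟨w, hw⟩ := aeval_congr hπ y (f := f) (g := C c) (by rw [← hc', map_C])
      rw [hw, aeval_C]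
      refine IsUnit.add_smul hπ (IsUnit.map _ ?_) _
      rw [isUnit_iff hπ, ← residue_eq_zero hπ]
      intro h
      rw [← hc', h, C_0] at h2
      exact h2 rfl
    | succ n ih =>
      intro f h1 h2
      obtain ⟨r', hr⟩ := IsAlgClosed.exists_root (f.map (residue O)) (by
        rw [degree_eq_natDegree h2, h1]; exact_mod_cast n.succ_ne_zero)
      obtain ⟨g', hg⟩ := dvd_iff_isRoot.2 hr
      obtain ⟨r, rfl⟩ := residue_surjective r'
      obtain ⟨g, rfl⟩ := map_surjective _ (residue_surjective (R := O)) g'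
      have h3 : g.map (residue O) ≠ 0 := fun h => h2 (by rw [hg, h, mul_zero])
      obtain ⟨w, hw⟩ := aeval_congr hπ y (f := f) (g := (X - C r) * g) (by
        rw [hg]; simp)
      rw [hw, map_mul]
      refine IsUnit.add_smul hπ (IsUnit.mul (by simpa using hc r) (ih g ?_ h3)) _
      rw [hg, natDegree_mul (X_sub_C_ne_zero _) h3, natDegree_X_sub_C] at h1
      omega
  obtain ⟨f, hf, hfy⟩ : IsIntegral O y := Algebra.IsIntegral.isIntegral y
  rw [← aeval_def] at hfy
  exact not_isUnit_zero (hfy ▸ key _ f rfl (hf.map _).ne_zero)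

omit [IsDiscreteValuationRing O] in
theorem mul_eq_of_mul_eq (htf : ∀ (c : O) (y : E), c ≠ 0 → c • y = 0 → y = 0) {a b : E} {c : O}
    (hc : c ≠ 0) (h : b * a = algebraMap O E c) : a * b = algebraMap O E c := by
  have key : ∀ (n : ℕ) (g : O[X]), g.natDegree = n → g ≠ 0 → aeval a g = 0 →
      ∃ (x : E) (c' : O), c' ≠ 0 ∧ a * x = algebraMap O E c' := by
    intro n
    induction n using Nat.strong_induction_on with
    | _ n ih =>
    intro g h1 h2 h3
    have h4 : a * aeval a g.divX = -algebraMap O E (g.coeff 0) := by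
      rw [← divX_mul_X_add g, mul_comm, map_add, map_mul, aeval_X, aeval_C] at h3
      exact eq_neg_of_add_eq_zero_left h3
    by_cases h0 : g.coeff 0 = 0
    · have h5 : g.divX ≠ 0 := fun h => h2 (by rw [← divX_mul_X_add g, h, h0]; simp)
      have h6 : g.natDegree ≠ 0 := fun h => h2 (by rw [eq_C_of_natDegree_eq_zero h, h0, C_0])
      refine ih _ ?_ g.divX rfl h5 (htf c _ hc ?_)
      · rw [natDegree_divX_eq_natDegree_tsub_one]; omega
      · rw [Algebra.smul_def, ← h, mul_assoc, h4, h0]; simp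
    · exact ⟨-aeval a g.divX, g.coeff 0, h0, by rw [mul_neg, h4, neg_neg]⟩
  obtain ⟨f, hf, hfy⟩ : IsIntegral O a := Algebra.IsIntegral.isIntegral a
  rcases subsingleton_or_nontrivial E with hE | hE
  · exact Subsingleton.elim _ _
  obtain ⟨x, c', h1, h2⟩ := key _ f rfl hf.ne_zero hfy
  rw [← sub_eq_zero]
  refine htf c' _ h1 ?_
  rw [Algebra.smul_def, Algebra.commutes, ← h2, ← mul_assoc, sub_mul, mul_assoc a b, h,
    Algebra.commutes, sub_self, zero_mul]

omit [IsDomain O] [IsDiscreteValuationRing O] [Module.Finite O E] in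
theorem TN.pow_mul {z : E} (h : TN π z) (n : ℕ) : ∃ (m : ℕ) (w : E), z ^ m = π ^ n • w := by
  obtain ⟨k, w, h⟩ := h
  exact ⟨k * n, w ^ n, by rw [_root_.pow_mul, h, _root_.smul_pow]⟩

theorem comm_of_gen (hπ : Irreducible π) (T : Set E) {κ ϖ c : E} (hϖ : TN π ϖ)
    (hT : ∀ z ∈ T, ∃ μ : O, ∃ z' ∈ T, z = μ • κ + ϖ * z') (h1 : κ * c = c * κ)
    (h2 : ϖ * c = c * ϖ) : ∀ z ∈ T, z * c = c * z := by
  have key : ∀ n : ℕ, ∀ z ∈ T, ∃ r, z * c - c * z = ϖ ^ n * r := by
    intro n
    induction n with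
    | zero => exact fun z _ => ⟨_, by rw [pow_zero, one_mul]⟩
    | succ n ih =>
      intro z hz
      obtain ⟨μ, z', hz', rfl⟩ := hT z hz
      obtain ⟨r, hr⟩ := ih z' hz'
      refine ⟨r, ?_⟩
      rw [pow_succ', mul_assoc, ← hr, add_mul, mul_add, smul_mul_assoc, mul_smul_comm, h1,
        ← mul_assoc c, ← h2]
      noncomm_ring
  intro z hz
  rw [← sub_eq_zero]
  refine eq_zero_of_forall hπ fun n => ?_
  obtain ⟨m, w, hw⟩ := hϖ.pow_mul n
  obtain ⟨r, hr⟩ := key m z hz
  exact ⟨w * r, by rw [hr, hw, smul_mul_assoc]⟩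

end Alg

section Sym

variable {E : Type*} [Ring E] [Algebra O E]

/-- A local symmetric order. -/
structure Loc (π : O) (s : E →ₗ[O] O) : Prop where
  irr : Irreducible π
  nontriv : Nontrivial E
  tf : ∀ (c : O) (y : E), c ≠ 0 → c • y = 0 → y = 0
  tn : ∀ y : E, IsUnit y ∨ TN π y
  res : ∀ y : E, ∃ c : O, ¬ IsUnit (y - algebraMap O E c)
  symm : ∀ x y, s (x * y) = s (y * x)
  nd : ∀ y, (∀ x, π ∣ s (y * x)) → ∃ w, y = π • w

/-- `p` times a proper central idempotent with integral traces on the radical. -/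
structure Good (π : O) (s : E →ₗ[O] O) (η : E) : Prop where
  central : ∀ x, η * x = x * η
  sq : η * η = π • η
  ne_zero : η ≠ 0
  ne_one : η ≠ π • 1
  rad : ∀ z, ¬ IsUnit z → π ∣ s (η * z)

variable [Module.Finite O E] {s : E →ₗ[O] O} (h : Loc π s)
include h

omit [Module.Finite O E] [IsDiscreteValuationRing O] [IsDomain O] in
theorem Loc.cancel {x y : E} (hxy : π • x = π • y) : x = y := by
  rw [← sub_eq_zero]
  exact h.tf π _ h.irr.ne_zero (by rw [smul_sub, hxy, sub_self])

theorem Loc.tn_iff {y : E} : TN π y ↔ ¬ IsUnit y :=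
  have := h.nontriv
  ⟨fun h1 => h1.not_isUnit h.irr, fun h1 => (h.tn y).resolve_left h1⟩

omit [IsDiscreteValuationRing O] [IsDomain O] h in
theorem Loc.nu_mul_left [IsNoetherianRing O] (_ : Loc π s) {y : E} (hy : ¬ IsUnit y) (x : E) : ¬ IsUnit (x * y) := fun h1 =>
  have := dedekind O E
  hy (isUnit_of_mul_isUnit_right h1)

omit [IsDiscreteValuationRing O] [IsDomain O] h in
theorem Loc.nu_mul_right [IsNoetherianRing O] (_ : Loc π s) {y : E} (hy : ¬ IsUnit y) (x : E) : ¬ IsUnit (y * x) := fun h1 =>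
  have := dedekind O E
  hy (isUnit_of_mul_isUnit_left h1)

theorem Loc.isUnit_add {u z : E} (hu : IsUnit u) (hz : ¬ IsUnit z) : IsUnit (u + z) := by
  obtain ⟨u, rfl⟩ := hu
  have : (u : E) + z = u * (1 - (-(u⁻¹ : Eˣ) : E) * z) := by
    rw [mul_sub, neg_mul, mul_neg, ← mul_assoc]; simp
  rw [this]
  exact u.isUnit.mul ((h.tn_iff.2 (h.nu_mul_left hz _)).isUnit_one_sub h.irr)

/-- The radical. -/
def Loc.J : Submodule O E where
  carrier := {y | ¬ IsUnit y}
  add_mem' := fun {a b} ha hb hab => hb (by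
    have := h.isUnit_add hab (z := -a) (by rwa [IsUnit.neg_iff])
    simpa using this)
  zero_mem' := have := h.nontriv; not_isUnit_zero
  smul_mem' := fun c y hy => by rw [Algebra.smul_def]; exact h.nu_mul_left hy _

theorem Loc.mem_J {y : E} : y ∈ h.J ↔ ¬ IsUnit y := Iff.rfl

omit [Module.Finite O E] [IsDiscreteValuationRing O] [IsDomain O] in
theorem Loc.soc {y : E} (h1 : ∀ z, ¬ IsUnit z → π ∣ s (y * z)) (h2 : π ∣ s y) :
    ∃ w, y = π • w := by
  refine h.nd y fun x => ?_
  obtain ⟨c, hc⟩ := h.res x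
  have : y * x = c • y + y * (x - algebraMap O E c) := by
    rw [mul_sub, ← Algebra.commutes, ← Algebra.smul_def]; abel
  rw [this, map_add, map_smul]
  exact dvd_add (h2.mul_left c) (h1 _ hc)

theorem Loc.isUnit_s {η : E} (hη : Good π s η) : IsUnit (s η) := by
  rw [isUnit_iff h.irr]
  intro hd
  obtain ⟨w, hw⟩ := h.soc hη.rad hd
  have h1 : w * w = w := by
    have := hη.sq
    rw [hw, smul_mul_smul_comm, mul_smul] at this
    exact h.cancel (h.cancel this)
  by_cases hu : IsUnit w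
  · exact hη.ne_one (by rw [hw, hu.mul_left_cancel (h1.trans (mul_one w).symm)])
  · have h2 := (h.tn_iff.2 hu).isUnit_one_sub h.irr
    have h3 : w = 0 := h2.mul_right_cancel (by rw [mul_sub, h1, mul_one, sub_self, zero_mul])
    exact hη.ne_zero (by rw [hw, h3, smul_zero])

/-- At most two constituents. -/
theorem Loc.three {η₁ η₂ η₃ : E} (h₁ : Good π s η₁) (h₂ : Good π s η₂) (h12 : η₁ * η₂ = 0)
    (h13 : η₁ * η₃ = 0) (h23 : η₂ * η₃ = 0) : η₃ = 0 := by
  obtain ⟨w, hw⟩ := h.soc (y := s η₁ • η₂ - s η₂ • η₁) (fun z hz => by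
    rw [sub_mul, smul_mul_assoc, smul_mul_assoc, map_sub, map_smul, map_smul]
    exact dvd_sub ((h₂.rad z hz).mul_left _) ((h₁.rad z hz).mul_left _))
    (by rw [map_sub, map_smul, map_smul, smul_eq_mul, smul_eq_mul, mul_comm, sub_self]; simp)
  by_cases hu : IsUnit w
  · apply hu.mul_left_cancel
    apply h.cancel
    rw [← smul_mul_assoc, ← hw, sub_mul, smul_mul_assoc, smul_mul_assoc, h13, h23]; simp
  · exfalso
    have h1 : IsUnit (algebraMap O E (s η₁) + -w) :=
      h.isUnit_add ((h.isUnit_s h₁).map _) (by rwa [IsUnit.neg_iff])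
    refine h₂.ne_zero (h1.mul_left_cancel (h.cancel ?_))
    rw [add_mul, smul_add, neg_mul, smul_neg, ← smul_mul_assoc π w, ← hw, sub_mul, smul_mul_assoc,
      smul_mul_assoc, h12, h₂.sq, ← Algebra.smul_def, smul_comm]
    simp

theorem Loc.exists_proj {η : E} (hη : Good π s η) {z : E} (hz : ¬ IsUnit z) :
    ∃ z₁, η * z = π • z₁ ∧ η * z₁ = π • z₁ := by
  obtain ⟨w, hw⟩ := h.soc (y := η * z) (fun x hx => by
    rw [mul_assoc]; exact hη.rad _ (h.nu_mul_left hx _)) (hη.rad z hz)
  refine ⟨w, hw, h.cancel ?_⟩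
  rw [← mul_smul_comm, ← hw, ← mul_assoc, hη.sq, smul_mul_assoc]

theorem Loc.soc_proj {η : E} (hη : Good π s η) {y : E} (hy : η * y = π • y)
    (h1 : ∀ z, ¬ IsUnit z → π ∣ s (y * z)) : ∃ (μ : O) (w : E), η * w = π • w ∧
      y = μ • η + π • w := by
  obtain ⟨u, hu⟩ := h.isUnit_s hη
  obtain ⟨w, hw⟩ := h.soc (y := y - (s y * (u⁻¹ : Oˣ)) • η) (fun z hz => by
    rw [sub_mul, smul_mul_assoc, map_sub, map_smul]
    exact dvd_sub (h1 z hz) ((hη.rad z hz).mul_left _))
    (by rw [map_sub, map_smul, ← hu, smul_eq_mul, mul_assoc]; simp)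
  refine ⟨_, w, h.cancel ?_, by rw [← hw]; abel⟩
  rw [← mul_smul_comm, ← hw, mul_sub, mul_smul_comm, hy, hη.sq, smul_sub, smul_comm]

theorem Loc.comm_rad {η : E} (hη : Good π s η) {x y : E} (hx : η * x = π • x)
    (hy : η * y = π • y) : x * y = y * x := by
  let T : Submodule O E :=
    { carrier := {z | η * z = π • z}
      add_mem' := fun {a b} ha hb => by
        simp only [Set.mem_ofPred_eq] at ha hb ⊢
        rw [mul_add, ha, hb, smul_add]
      zero_mem' := by simp
      smul_mem' := fun c z hz => by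
        simp only [Set.mem_ofPred_eq] at hz ⊢
        rw [mul_smul_comm, hz, smul_comm] }
  have hT : ∀ z, z ∈ T ↔ η * z = π • z := fun z => Iff.rfl
  have hTr : ∀ z ∈ T, ∀ a, z * a ∈ T := fun z hz a => by
    rw [hT] at hz ⊢; rw [← mul_assoc, hz, smul_mul_assoc]
  have hTJ : ∀ z ∈ T, ¬ IsUnit z := fun z hz hu =>
    hη.ne_one (hu.mul_right_cancel (by rw [(hT z).1 hz, smul_mul_assoc, one_mul]))
  let S : Submodule O E :=
    { carrier := {y | ∀ z, ¬ IsUnit z → π ∣ s (y * z)}
      add_mem' := fun {a b} ha hb z hz => by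
        rw [add_mul, map_add]; exact dvd_add (ha z hz) (hb z hz)
      zero_mem' := fun z _ => by simp
      smul_mem' := fun c y hy z hz => by
        rw [smul_mul_assoc, map_smul]; exact (hy z hz).mul_left _ }
  have hSr : ∀ z ∈ S, ∀ a, z * a ∈ S := fun z hz a b hb => by
    rw [mul_assoc]; exact hz _ (h.nu_mul_left hb _)
  by_cases hTS : T ≤ S
  · refine comm_of_gen h.irr T (κ := η) (ϖ := π • 1) ⟨1, 1, by simp⟩ (fun z hz => ?_)
      (hη.central y) (by simp) x hx
    obtain ⟨μ, w, h1, h2⟩ := h.soc_proj hη hz (hTS hz)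
    exact ⟨μ, w, h1, by simpa using h2⟩
  · obtain ⟨Y, hY1, hY2, hY3, hY4⟩ := exists_socle h.irr (fun Y => ∀ z ∈ Y, ∀ a, z * a ∈ Y) S
      (S ⊔ T) (fun w z _ => by rw [smul_mul_assoc, map_smul]; exact dvd_mul_right _ _)
      (left_lt_sup.2 hTS) (fun z hz a => by
        obtain ⟨b, hb, c, hc, rfl⟩ := Submodule.mem_sup.1 hz
        rw [add_mul]
        exact Submodule.add_mem_sup (hSr b hb a) (hTr c hc a))
    obtain ⟨y₀, hy₀, hy₀'⟩ := SetLike.exists_of_lt hY1
    have h1 : ∀ z, ¬ IsUnit z → y₀ * z ∈ S := by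
      intro z hz
      by_contra hc
      have h2 := hY4 (S ⊔ h.J.map (LinearMap.mulLeft O y₀))
        (left_lt_sup.2 fun hle => hc (hle ⟨z, hz, rfl⟩))
        (sup_le hY1.le (by rintro _ ⟨a, -, rfl⟩; exact hY3 _ hy₀ a)) (fun b' hb' a => by
          obtain ⟨b, hb, _, ⟨c, hc, rfl⟩, rfl⟩ := Submodule.mem_sup.1 hb'
          rw [add_mul]
          exact Submodule.add_mem_sup (hSr b hb a)
            ⟨c * a, h.nu_mul_right hc a, by simp [mul_assoc]⟩)
      rw [← h2] at hy₀
      obtain ⟨b, hb, _, ⟨c, hc, rfl⟩, h3⟩ := Submodule.mem_sup.1 hy₀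
      obtain ⟨u, hu⟩ := (h.tn_iff.2 hc).isUnit_one_sub h.irr
      have h4 : y₀ = b * (u⁻¹ : Eˣ) := by
        rw [Units.eq_mul_inv_iff_mul_eq, hu, mul_sub, mul_one, sub_eq_iff_eq_add]
        exact h3.symm
      exact hy₀' (h4 ▸ hSr b hb _)
    obtain ⟨σ, hσ, y₁, hy₁, rfl⟩ := Submodule.mem_sup.1 (hY2 hy₀)
    have h2 : ∀ z, ¬ IsUnit z → y₁ * z ∈ S := fun z hz => by
      have := S.sub_mem (h1 z hz) (hSr σ hσ z)
      rwa [add_mul, add_sub_cancel_left] at this
    have h3 : y₁ ∉ S := fun hc => hy₀' (S.add_mem hσ hc)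
    obtain ⟨P₀, hP₀, hP₀'⟩ : ∃ z, ¬ IsUnit z ∧ ¬ π ∣ s (y₁ * z) := by
      by_contra hc
      push Not at hc
      exact h3 hc
    obtain ⟨μ, w, h4, h5⟩ := h.soc_proj hη (hTr _ hy₁ P₀) (h2 _ hP₀)
    have hμ : IsUnit μ := by
      rw [isUnit_iff h.irr]
      intro hd
      apply hP₀'
      rw [h5, map_add, map_smul, map_smul]
      exact dvd_add (hd.mul_right _) (dvd_mul_right _ _)
    obtain ⟨P₁, h6, h7⟩ := h.exists_proj hη hP₀
    have h8 : y₁ * P₁ = y₁ * P₀ := h.cancel (by
      rw [← mul_smul_comm, ← h6, ← mul_assoc, ← hη.central, (hT _).1 hy₁, smul_mul_assoc])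
    obtain ⟨u, hu⟩ := h.isUnit_add (hμ.map (algebraMap O E)) (hTJ w h4)
    set P := P₁ * (u⁻¹ : Eˣ) with hP
    have hPT : P ∈ T := hTr _ h7 _
    have h9 : y₁ * P = η := by
      rw [hP, ← mul_assoc, Units.mul_inv_eq_iff_eq_mul, h8, h5, hu, mul_add, h4,
        ← Algebra.commutes, ← Algebra.smul_def]
    have h10 : P * y₁ = η := by
      have e1 : ∀ z ∈ T, (π • 1 - η) * z = 0 := fun z hz => by
        rw [sub_mul, (hT z).1 hz, smul_mul_assoc, one_mul, sub_self]
      have e2 : ∀ z ∈ T, z * (π • 1 - η) = 0 := fun z hz => by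
        rw [mul_sub, ← hη.central, (hT z).1 hz, mul_smul_comm, mul_one, sub_self]
      have e3 : (π • 1 - η) * (π • 1 - η) = π • (π • 1 - η) := by
        rw [mul_sub _ (π • 1), e1 η hη.sq, sub_zero, mul_smul_comm, mul_one]
      have e4 := mul_eq_of_mul_eq h.tf (a := P + (π • 1 - η)) (b := π • y₁ + (π • 1 - η))
        (c := π * π) (mul_ne_zero h.irr.ne_zero h.irr.ne_zero) (by
          rw [add_mul, mul_add, mul_add, e1 P hPT, e3, smul_mul_assoc, smul_mul_assoc, h9,
            e2 y₁ hy₁, Algebra.algebraMap_eq_smul_one, mul_smul, smul_sub]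
          simp)
      rw [add_mul, mul_add, mul_add, e2 P hPT, e3, mul_smul_comm, mul_smul_comm, e1 y₁ hy₁,
        Algebra.algebraMap_eq_smul_one, mul_smul, smul_sub] at e4
      apply h.cancel
      rw [← sub_eq_zero, ← sub_eq_zero.2 e4]
      simp only [smul_zero]
      abel
    have h11 : ∀ z ∈ (T : Set E), ∃ μ : O, ∃ z' ∈ (T : Set E), z = μ • P + P * z' := by
      intro z hz
      obtain ⟨μ', w', e1, e2⟩ := h.soc_proj hη (hTr _ hy₁ z) (h2 _ (hTJ z hz))
      refine ⟨μ', w', e1, h.cancel ?_⟩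
      rw [← (hT z).1 hz, ← h10, mul_assoc, e2, mul_add, mul_smul_comm, mul_smul_comm,
        ← hη.central, (hT P).1 hPT, smul_add, smul_comm]
    have hPn := h.tn_iff.2 (hTJ P hPT)
    have h12 := comm_of_gen h.irr T hPn h11 rfl rfl
    exact comm_of_gen h.irr T hPn h11 (h12 y hy).symm (h12 y hy).symm x hx

/-- Each constituent is commutative. -/
theorem Loc.comm {η : E} (hη : Good π s η) (x y : E) : η * (x * y) = η * (y * x) := by
  have key : ∀ x : E, ∃ (c : O) (z : E), η * z = π • z ∧ η * x = c • η + π • z := by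
    intro x
    obtain ⟨c, hc⟩ := h.res x
    obtain ⟨z, h1, h2⟩ := h.exists_proj hη hc
    refine ⟨c, z, h2, ?_⟩
    rw [← h1, mul_sub, ← Algebra.commutes, ← Algebra.smul_def]; abel
  obtain ⟨c, z, h1, h2⟩ := key x
  obtain ⟨d, w, h3, h4⟩ := key y
  have e : ∀ x y : E, π • (η * (x * y)) = (η * x) * (η * y) := fun x y => by
    rw [← smul_mul_assoc, ← hη.sq, mul_assoc η x, ← mul_assoc x, ← hη.central x]
    simp only [mul_assoc]
  apply h.cancel
  rw [e, e, h2, h4]
  simp only [add_mul, mul_add, smul_mul_smul_comm]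
  rw [h.comm_rad hη h1 h3, hη.central z, hη.central w, mul_comm c d, mul_comm d π, mul_comm π c]
  abel

end Sym

section Corner

variable {L : Type*} [Ring L] [Algebra O L]

/-- The corner ring `e L e`. -/
def Cor {e : L} (he : IsIdempotentElem e) : Type _ := he.Corner

instance instRingCor {e : L} (he : IsIdempotentElem e) : Ring (Cor he) :=
  inferInstanceAs (Ring he.Corner)

/-- Underlying element. -/
def Cor.val {e : L} {he : IsIdempotentElem e} (x : Cor he) : L := x.1

/-- Projection to the corner. -/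
def Cor.mk {e : L} (he : IsIdempotentElem e) (x : L) : Cor he := ⟨e * x * e, x, rfl⟩

section
variable {e : L} {he : IsIdempotentElem e}

theorem Cor.ext {x y : Cor he} (h : x.val = y.val) : x = y := Subtype.ext h
@[simp] theorem Cor.val_mk (x : L) : (Cor.mk he x).val = e * x * e := rfl
@[simp] theorem Cor.val_mul (x y : Cor he) : (x * y).val = x.val * y.val := rfl
@[simp] theorem Cor.val_add (x y : Cor he) : (x + y).val = x.val + y.val := rfl
@[simp] theorem Cor.val_zero : (0 : Cor he).val = 0 := rfl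
@[simp] theorem Cor.val_one : (1 : Cor he).val = e := rfl
@[simp] theorem Cor.mul_val (x : Cor he) : e * x.val = x.val :=
  ((Subsemigroup.mem_corner_iff he).1 x.2).1
@[simp] theorem Cor.val_mul' (x : Cor he) : x.val * e = x.val :=
  ((Subsemigroup.mem_corner_iff he).1 x.2).2

theorem Cor.val_pow (x : Cor he) (n : ℕ) : (x ^ (n + 1)).val = x.val ^ (n + 1) := by
  induction n with
  | zero => simp
  | succ n ih => rw [pow_succ, Cor.val_mul, ih, ← pow_succ]

end

noncomputable instance instAlgebraCor {e : L} (he : IsIdempotentElem e) : Algebra O (Cor he) :=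
  RingHom.toAlgebra'
    { toFun := fun c => Cor.mk he (c • 1)
      map_one' := Cor.ext (by simp [he.eq])
      map_mul' := fun a b => Cor.ext (by simp [he.eq, smul_smul, mul_comm])
      map_zero' := Cor.ext (by simp)
      map_add' := fun a b => Cor.ext (by simp [add_smul, mul_add, add_mul, he.eq]) }
    fun c x => Cor.ext (by
      change e * (c • 1) * e * x.val = x.val * (e * (c • 1) * e)
      simp [he.eq])

omit [IsDomain O] [IsDiscreteValuationRing O] in
@[simp] theorem Cor.val_smul {e : L} {he : IsIdempotentElem e} (c : O) (x : Cor he) :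
    (c • x).val = c • x.val := by
  change e * (c • 1) * e * x.val = _
  simp [he.eq]

variable (O) in
/-- Inclusion of the corner as a linear map. -/
def Cor.incl {e : L} (he : IsIdempotentElem e) : Cor he →ₗ[O] L where
  toFun := Cor.val
  map_add' := Cor.val_add
  map_smul' := Cor.val_smul

/-- Primitive idempotent. -/
structure Prim (e : L) : Prop where
  idem : IsIdempotentElem e
  ne_zero : e ≠ 0
  prim : ∀ f, IsIdempotentElem f → e * f = f → f * e = f → f = 0 ∨ f = e

/-- A symmetric order. -/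
structure Sym (π : O) (s : L →ₗ[O] O) : Prop where
  irr : Irreducible π
  tf : ∀ (c : O) (y : L), c ≠ 0 → c • y = 0 → y = 0
  symm : ∀ x y, s (x * y) = s (y * x)
  nd : ∀ y, (∀ x, π ∣ s (y * x)) → ∃ w, y = π • w

/-- `Good`, localised at an idempotent. -/
structure GoodAt (π : O) (s : L →ₗ[O] O) (e η : L) : Prop where
  central : ∀ x, η * x = x * η
  sq : η * η = π • η
  ne_zero : η * e ≠ 0
  ne_one : η * e ≠ π • e
  rad : ∀ (z w : L) (n : ℕ), z ^ n = π • w → π ∣ s (η * z)

variable [Module.Finite O L]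

variable (O) in
include O in
theorem idem_induction (Q : L → Prop) (h0 : Q 0)
    (hadd : ∀ f g, IsIdempotentElem f → IsIdempotentElem g → f * g = 0 → g * f = 0 → Q f → Q g →
      Q (f + g)) (hprim : ∀ e, Prim e → Q e) (e : L) (he : IsIdempotentElem e) : Q e := by
  induction e using (InvImage.wf (fun e : L => LinearMap.range (LinearMap.mulLeft O (1 - e)))
    (wellFounded_gt (α := Submodule O L))).induction with
  | _ e ih =>
  by_cases h1 : e = 0
  · exact h1 ▸ h0
  by_cases h2 : Prim e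
  · exact hprim e h2
  obtain ⟨f, hf, h3, h4, h5, h6⟩ : ∃ f, IsIdempotentElem f ∧ e * f = f ∧ f * e = f ∧ f ≠ 0 ∧
      f ≠ e := by
    by_contra hc
    push Not at hc
    exact h2 ⟨he, h1, fun f a b c => or_iff_not_imp_left.2 (hc f a b c)⟩
  have key : ∀ f, IsIdempotentElem f → e * f = f → f * e = f → f ≠ e → Q f := by
    intro f hf h3 h4 h6
    refine ih f (lt_of_le_of_ne ?_ fun h => h6 ?_) hf
    · rintro _ ⟨x, rfl⟩
      exact ⟨(1 - e) * x, by simp [← mul_assoc, sub_mul, mul_sub, h4]⟩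
    · have : e - f ∈ LinearMap.range (LinearMap.mulLeft O (1 - f)) :=
        ⟨e, by simp [sub_mul, h4]⟩
      obtain ⟨x, hx⟩ := h.ge this
      have h7 := congrArg (e * ·) hx
      simp only [LinearMap.mulLeft_apply, ← mul_assoc, mul_sub, mul_one, he.eq, sub_self, zero_mul,
        h3] at h7
      exact (sub_eq_zero.1 h7.symm).symm
  have hg : IsIdempotentElem (e - f) := by
    simp [IsIdempotentElem, mul_sub, sub_mul, he.eq, hf.eq, h3, h4]
  have := hadd f (e - f) hf hg (by simp [mul_sub, h4, hf.eq]) (by simp [sub_mul, h3, hf.eq])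
    (key f hf h3 h4 h6) (key _ hg (by simp [mul_sub, he.eq, h3]) (by simp [sub_mul, he.eq, h4])
      (by simpa using h5))
  simpa using this

instance instFiniteCor {e : L} (he : IsIdempotentElem e) : Module.Finite O (Cor he) :=
  Module.Finite.of_injective (Cor.incl O he) fun _ _ h => Cor.ext h

variable [IsAdicComplete (maximalIdeal O) O] [IsAlgClosed (ResidueField O)]
  {s : L →ₗ[O] O} (h : Sym π s) {e : L} (he : Prim e)
include h he

theorem Sym.loc : Loc π (s ∘ₗ Cor.incl O he.idem) := by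
  have hnt : Nontrivial (Cor he.idem) := ⟨1, 0, fun h => he.ne_zero (congrArg Cor.val h)⟩
  refine ⟨h.irr, hnt, fun c y hc hy => Cor.ext (h.tf c _ hc ?_), isUnit_or_TN h.irr fun f hf => ?_,
    exists_not_isUnit_sub h.irr, fun x y => h.symm _ _, fun y hy => ?_⟩
  · simpa using congrArg Cor.val hy
  · exact (he.prim f.val (congrArg Cor.val hf) (by simp) (by simp)).imp Cor.ext Cor.ext
  · obtain ⟨w, hw⟩ := h.nd y.val fun x => by
      have := hy (Cor.mk he.idem x)
      change π ∣ s (y.val * (e * x * e)) at this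
      rwa [← mul_assoc, h.symm, ← mul_assoc, ← mul_assoc, Cor.mul_val,
        Cor.val_mul'] at this
    refine ⟨Cor.mk he.idem w, Cor.ext ?_⟩
    rw [Cor.val_smul, Cor.val_mk, ← smul_mul_assoc, ← mul_smul_comm, ← hw]; simp

omit [IsAdicComplete (maximalIdeal O) O] [IsAlgClosed (ResidueField O)] [Module.Finite O L]
  [IsDomain O] [IsDiscreteValuationRing O] h in
theorem val_mk_central {η : L} (hη : ∀ x, η * x = x * η) : (Cor.mk he.idem η).val = η * e := by
  rw [Cor.val_mk, ← hη, mul_assoc, he.idem.eq]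

theorem Sym.good {η : L} (hη : GoodAt π s e η) :
    Good π (s ∘ₗ Cor.incl O he.idem) (Cor.mk he.idem η) := by
  have h1 := val_mk_central he hη.central
  refine ⟨fun x => Cor.ext ?_, Cor.ext ?_, fun h => hη.ne_zero ?_, fun h => hη.ne_one ?_,
    fun z hz => ?_⟩
  · rw [Cor.val_mul, Cor.val_mul, h1, mul_assoc, Cor.mul_val, hη.central e, ← mul_assoc,
      Cor.val_mul', hη.central]
  · rw [Cor.val_mul, Cor.val_smul, h1, mul_assoc, ← mul_assoc e, ← hη.central e, mul_assoc,
      he.idem.eq, ← mul_assoc, hη.sq, smul_mul_assoc]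
  · rw [← h1, h, Cor.val_zero]
  · rw [← h1, h]; simp
  · obtain ⟨n, w, hw⟩ := (h.loc he).tn_iff.2 hz
    have h2 : z ^ (n + 1) = π • (w * z) := by rw [pow_succ, hw, smul_mul_assoc]
    have h3 := congrArg Cor.val h2
    rw [Cor.val_pow, Cor.val_smul] at h3
    change π ∣ s ((Cor.mk he.idem η).val * z.val)
    rw [h1, mul_assoc, Cor.mul_val]
    exact hη.rad _ _ _ h3

theorem Sym.isUnit_s {η : L} (hη : GoodAt π s e η) : IsUnit (s (η * e)) := by
  have := (h.loc he).isUnit_s (h.good he hη)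
  rwa [← val_mk_central he hη.central]

theorem Sym.three {η₁ η₂ η₃ : L} (h₁ : GoodAt π s e η₁) (h₂ : GoodAt π s e η₂)
    (h₃ : ∀ x, η₃ * x = x * η₃) (h12 : η₁ * η₂ = 0) (h13 : η₁ * η₃ = 0) (h23 : η₂ * η₃ = 0) :
    η₃ * e = 0 := by
  have key : ∀ a b : L, (∀ x, a * x = x * a) → (∀ x, b * x = x * b) → a * b = 0 →
      Cor.mk he.idem a * Cor.mk he.idem b = 0 := fun a b ha hb hab => Cor.ext (by
    rw [Cor.val_mul, val_mk_central he ha, val_mk_central he hb, mul_assoc, ← mul_assoc e, ← hb e,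
      ← mul_assoc, ← mul_assoc, hab]; simp)
  have := (h.loc he).three (h.good he h₁) (h.good he h₂) (key _ _ h₁.central h₂.central h12)
    (key _ _ h₁.central h₃ h13) (key _ _ h₂.central h₃ h23)
  rw [← val_mk_central he h₃, this, Cor.val_zero]

theorem Sym.comm {η : L} (hη : GoodAt π s e η) (x y : L) :
    η * (e * x * e * y * e) = η * (e * y * e * x * e) := by
  have := congrArg Cor.val ((h.loc he).comm (h.good he hη) (Cor.mk he.idem x) (Cor.mk he.idem y))
  simp only [Cor.val_mul, val_mk_central he hη.central] at this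
  simp only [Cor.val_mk, mul_assoc] at this ⊢
  simpa only [← mul_assoc e e, he.idem.eq] using this

end Corner

end H18.Order
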