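import Mathlib
import Cfsg.Agent.H18.Order
import Cfsg.Agent.H17.Local

/-!
# An unramified `p`-modular system inside `ℂ` (helper18)
-/

set_option autoImplicit false

open Polynomial IsLocalRing Cfsg H17
open scoped Cardinal

namespace H18

theorem exists_modSys (p : ℕ) [hp : Fact p.Prime] :
    ∃ (O : Type) (_ : CommRing O) (_ : IsDomain O) (_ : IsDiscreteValuationRing O)
      (_ : IsAdicComplete (maximalIdeal O) O) (_ : IsAlgClosed (ResidueField O))
      (_ : Algebra O ℂ) (_ : FaithfulSMul O ℂ), Irreducible (p : O) := by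
  let k := AlgebraicClosure (ZMod p)
  let O := WittVector p k
  have hirr : Irreducible (p : O) := WittVector.irreducible p
  have hmax := Order.max_eq hirr
  have hcz : CharZero O := by
    refine charZero_of_inj_zero fun n hn => ?_
    by_contra h0
    obtain ⟨a, m, hm, rfl⟩ := Nat.exists_eq_pow_mul_and_not_dvd h0 p hp.out.ne_one
    rw [Nat.cast_mul, Nat.cast_pow, mul_eq_zero] at hn
    rcases hn with hn | hn
    · exact hirr.ne_zero (eq_zero_of_pow_eq_zero hn)
    · have := congrArg (WittVector.constantCoeff (p := p) (R := k)) hn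
      rw [map_natCast, map_zero, CharP.cast_eq_zero_iff k p] at this
      exact hm this
  let L := AlgebraicClosure (FractionRing O)
  have hk : #k = ℵ₀ := by
    refine le_antisymm ?_ (Cardinal.aleph0_le_mk k)
    refine (Algebra.IsAlgebraic.cardinalMk_le_max (ZMod p) k).trans (max_le ?_ le_rfl)
    exact (Cardinal.lt_aleph0_of_finite _).le
  have hO : #O = 𝔠 := by
    have e : O ≃ (ℕ → k) := ⟨fun x => x.coeff, fun f => WittVector.mk p f, fun _ => rfl, fun _ => rfl⟩
    rw [Cardinal.mk_congr e]
    simp [hk]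
  have hF : #(FractionRing O) = 𝔠 := by
    rw [← hO]; exact IsFractionRing.cardinalMk O (FractionRing O)
  have hL : #L = 𝔠 := by
    refine le_antisymm ?_ ?_
    · refine (Algebra.IsAlgebraic.cardinalMk_le_max (FractionRing O) L).trans (max_le hF.le ?_)
      exact Cardinal.aleph0_le_continuum
    · rw [← hF]
      exact Cardinal.mk_le_of_injective (algebraMap (FractionRing O) L).injective
  obtain ⟨e⟩ := IsAlgClosed.ringEquiv_of_equiv_of_charZero (K := L) (L := ℂ)
    (hL ▸ Cardinal.aleph0_lt_continuum) (Cardinal.eq.1 (hL.trans Cardinal.mk_complex.symm))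
  let ι : O →+* ℂ := e.toRingHom.comp
    ((algebraMap (FractionRing O) L).comp (algebraMap O (FractionRing O)))
  have hι : Function.Injective ι := e.injective.comp
    ((algebraMap (FractionRing O) L).injective.comp (IsFractionRing.injective O _))
  let _ := ι.toAlgebra
  refine ⟨O, inferInstance, inferInstance, inferInstance, ?_, ?_, inferInstance,
    (faithfulSMul_iff_algebraMap_injective O ℂ).2 hι, hirr⟩
  · rw [hmax]; infer_instance
  · exact IsAlgClosed.of_ringEquiv k _
      ((Ideal.quotEquivOfEq hmax).trans WittVector.quotientPEquiv).symm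

section Val

variable {O : Type*} [CommRing O] [IsDomain O] [IsDiscreteValuationRing O] [Algebra O ℂ]
  {p : ℕ} (hπ : Irreducible (p : O))

/-- A valuation ring of `ℂ` dominating `O`. -/
structure Dom (O : Type*) [CommRing O] [Algebra O ℂ] (p : ℕ) (A : ValuationSubring ℂ) : Prop where
  le_one : ∀ x : O, A.valuation (algebraMap O ℂ x) ≤ 1
  lt_one : A.valuation (p : ℂ) < 1

include hπ in
theorem exists_dom : ∃ A, Dom O p A := by
  obtain ⟨A, h1, h2⟩ := IsLocalRing.exists_factor_valuationRing (algebraMap O ℂ)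
  refine ⟨A, fun x => (A.valuation_le_one_iff _).2 (h1 x), ?_⟩
  have h3 : ¬ IsUnit ((algebraMap O ℂ).codRestrict A.toSubring h1 p) := fun h =>
    hπ.not_isUnit (h2.1 _ h)
  have h4 := (A.valuation_lt_one_iff ⟨algebraMap O ℂ p, h1 p⟩).1 h3
  simpa using h4

variable {A : ValuationSubring ℂ} (hA : Dom O p A)
include hA

omit [IsDomain O] [IsDiscreteValuationRing O] in
theorem Dom.of_isIntegral {z : ℂ} (hz : IsIntegral O z) : A.valuation z ≤ 1 := by
  let f : O →+* A.valuation.integer := (algebraMap O ℂ).codRestrict _ hA.le_one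
  let _ := f.toAlgebra
  have : IsScalarTower O A.valuation.integer ℂ := IsScalarTower.of_algebraMap_eq fun _ => rfl
  exact (Valuation.integer.integers A.valuation).mem_of_integral hz.tower_top

omit [IsDomain O] [IsDiscreteValuationRing O] in
theorem Dom.of_isIntegral_int {z : ℂ} (hz : IsIntegral ℤ z) : A.valuation z ≤ 1 :=
  hA.of_isIntegral hz.tower_top

include hπ

theorem Dom.lt_one_iff {x : O} : A.valuation (algebraMap O ℂ x) < 1 ↔ (p : O) ∣ x := by
  constructor
  · intro h
    by_contra hd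
    obtain ⟨y, hy⟩ := ((Order.isUnit_iff hπ).2 hd).exists_right_inv
    have := congrArg (fun t => A.valuation (algebraMap O ℂ t)) hy
    simp only [map_mul, map_one] at this
    exact (mul_lt_one_of_lt_of_le h (hA.le_one y)).ne this
  · rintro ⟨y, rfl⟩
    rw [map_mul, map_mul, map_natCast]
    exact mul_lt_one_of_lt_of_le hA.lt_one (hA.le_one y)

theorem Dom.mem_range [FaithfulSMul O ℂ] {z : ℂ} (hz : A.valuation z ≤ 1) {a b : O} (hb : b ≠ 0)
    (h : z * algebraMap O ℂ b = algebraMap O ℂ a) : z ∈ (algebraMap O ℂ).range := by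
  have hb' : algebraMap O ℂ b ≠ 0 := by simpa using hb
  rcases ValuationRing.dvd_total a b with ⟨c, rfl⟩ | ⟨c, rfl⟩
  · by_cases hc : IsUnit c
    · obtain ⟨d, hd⟩ := hc.exists_right_inv
      refine ⟨d, mul_right_cancel₀ hb' ?_⟩
      rw [h, ← map_mul, mul_left_comm, mul_comm d, hd, mul_one]
    · exfalso
      rw [Order.isUnit_iff hπ, not_not, ← hA.lt_one_iff hπ] at hc
      have ha : algebraMap O ℂ a ≠ 0 := by simpa using left_ne_zero_of_mul hb
      have h1 : z * algebraMap O ℂ c = 1 := mul_left_cancel₀ ha (by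
        rw [mul_one, mul_left_comm, ← map_mul, h])
      have := congrArg A.valuation h1
      rw [map_mul, map_one, mul_comm] at this
      exact (mul_lt_one_of_lt_of_le hc hz).ne this
  · exact ⟨c, mul_right_cancel₀ hb' (by rw [h, map_mul, mul_comm])⟩

omit hπ [IsDomain O] [IsDiscreteValuationRing O] in
theorem Dom.exists_PM (hp : p.Prime) :
    ∃ M : Ideal AlgInt, ∃ _ : PM p M, ∀ z ∈ S M, A.valuation z ≤ 1 := by
  let M : Ideal AlgInt :=
    { carrier := {a | A.valuation (a : ℂ) < 1}
      add_mem' := fun {a b} ha hb => by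
        simp only [Set.mem_ofPred_eq] at ha hb ⊢
        exact Valuation.map_add_lt _ ha hb
      zero_mem' := by simp
      smul_mem' := fun c a ha => by
        simp only [Set.mem_ofPred_eq, smul_eq_mul] at ha ⊢
        rw [Subalgebra.coe_mul, map_mul, mul_comm]
        exact mul_lt_one_of_lt_of_le ha (hA.of_isIntegral_int c.2) }
  have hM : ∀ a : AlgInt, a ∈ M ↔ A.valuation (a : ℂ) < 1 := fun a => Iff.rfl
  have hM1 : ∀ a : AlgInt, a ∉ M → A.valuation (a : ℂ) = 1 := fun a ha =>
    le_antisymm (hA.of_isIntegral_int a.2) (not_lt.1 ha)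
  have hprime : M.IsPrime := ⟨by rw [Ideal.ne_top_iff_one, hM]; simp, fun {a b} hab => by
    by_contra hc
    push Not at hc
    rw [hM, Subalgebra.coe_mul, map_mul, hM1 a hc.1, hM1 b hc.2] at hab
    simp at hab⟩
  have hpM : (p : AlgInt) ∈ M := by rw [hM]; simpa using hA.lt_one
  have hmax : M.IsMaximal := by
    refine Ideal.isMaximal_of_isIntegral_of_isMaximal_comap (R := ℤ) M ?_
    refine Ideal.IsPrime.isMaximal inferInstance fun h => ?_
    have : (p : ℤ) ∈ M.comap (algebraMap ℤ AlgInt) := by simpa using hpM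
    rw [h, Ideal.mem_bot] at this
    exact hp.ne_zero (by exact_mod_cast this)
  refine ⟨M, ⟨hp, hmax, hpM⟩, ?_⟩
  rintro _ ⟨a, b, hb, rfl⟩
  rw [map_div₀, hM1 b hb, div_one]
  exact hA.of_isIntegral_int a.2

end Val

theorem root_mem_range {O : Type*} [CommRing O] [IsDomain O] [IsDiscreteValuationRing O]
    [IsAdicComplete (maximalIdeal O) O] [IsAlgClosed (ResidueField O)] [Algebra O ℂ]
    [FaithfulSMul O ℂ] {p : ℕ} (hp : p.Prime) (hπ : Irreducible (p : O)) {m : ℕ} (hm : ¬ p ∣ m)
    {z : ℂ} (hz : z ^ m = 1) : z ∈ (algebraMap O ℂ).range := by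
  have hm0 : m ≠ 0 := by rintro rfl; exact hm (dvd_zero p)
  have : CharP (ResidueField O) p := (CharP.charP_iff_prime_eq_zero hp).2 (by
    rw [← map_natCast (residue O), Order.residue_eq_zero hπ])
  have hmk : (m : ResidueField O) ≠ 0 := fun h => hm ((CharP.cast_eq_zero_iff _ p m).1 h)
  have : NeZero (m : ResidueField O) := ⟨hmk⟩
  have : NeZero m := ⟨hm0⟩
  obtain ⟨ζ', hζ'⟩ := HasEnoughRootsOfUnity.exists_primitiveRoot (ResidueField O) m
  obtain ⟨a₀, rfl⟩ := residue_surjective ζ'
  obtain ⟨ζ, h1, h2⟩ := HenselianRing.is_henselian (I := maximalIdeal O) (X ^ m - C 1)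
    (monic_X_pow_sub_C 1 hm0) a₀ (by
      rw [← residue_eq_zero_iff]; simp [hζ'.pow_eq_one]) (by
      change IsUnit (residue O _)
      simp only [derivative_sub, derivative_X_pow, derivative_C, sub_zero, eval_mul,
        eval_pow, eval_X, map_mul, map_natCast, map_pow, isUnit_iff_ne_zero, eval_natCast]
      exact mul_ne_zero hmk (pow_ne_zero _ (hζ'.ne_zero hm0)))
  have h3 : residue O ζ = residue O a₀ := by
    rw [← sub_eq_zero, ← map_sub, residue_eq_zero_iff]; exact h2
  have h4 : IsPrimitiveRoot ζ m := ⟨by simpa [sub_eq_zero] using h1, fun l hl =>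
    hζ'.dvd_of_pow_eq_one l (by rw [← h3, ← map_pow, hl, map_one])⟩
  obtain ⟨i, -, hi⟩ := (h4.map_of_injective (FaithfulSMul.algebraMap_injective O ℂ)).eq_pow_of_pow_eq_one hz
  exact ⟨ζ ^ i, by rw [map_pow, hi]⟩

end H18
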