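import Mathlib
import Cfsg.Agent.H18.ModSys
import Cfsg.Agent.H17.Second

/-!
# Idempotents of `O G` and the edges of the Brauer tree (helper18)
-/

set_option autoImplicit false

open IsLocalRing Cfsg H4 H17 MulAction
open scoped ComplexConjugate

namespace H18

section Trace

variable {O : Type*} [CommRing O] {Ω : Type*}

theorem prod_ofFn_smul' {N : Type*} [Ring N] [Algebra O N] {m : ℕ} (c : Fin m → O)
    (a : Fin m → N) :
    (List.ofFn fun i => c i • a i).prod = (∏ i, c i) • (List.ofFn a).prod := by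
  induction m with
  | zero => simp
  | succ m ih =>
    rw [List.ofFn_succ, List.ofFn_succ, List.prod_cons, List.prod_cons, ih, Fin.prod_univ_succ,
      smul_mul_smul_comm]

theorem dvd_trace_pow_mul {p : ℕ} (hp : p.Prime) {N : Type*} [Ring N] [Algebra O N] [Fintype Ω]
    (ι : Ω → N) (c : Ω → O)
    (s : Equiv.Perm Ω) (η : N) (T : N →ₗ[O] O) (hT : ∀ a b, T (a * b) = T (b * a))
    (hη : ∀ ω, η * ι ω = ι (s ω) * η) (hc : ∀ ω, c (s ω) = c ω)
    (hfix : ∀ ω (k : ℕ), ¬ p ∣ k → (s ^ k) ω ≠ ω) (n : ℕ) :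
    (p : O) ^ n ∣ T ((∑ ω, c ω • ι ω) ^ p ^ n * η) := by
  classical
  obtain ⟨m, hm⟩ : ∃ m, p ^ n = m + 1 := Nat.exists_eq_succ_of_ne_zero (pow_ne_zero _ hp.ne_zero)
  rw [← Ideal.mem_span_singleton]
  let e := TwSeq.equiv s (p ^ n) (pow_pos hp.pos n)
  have : Finite (TwSeq s (p ^ n)) := Finite.of_equiv _ e.symm
  have := Fintype.ofFinite (TwSeq s (p ^ n))
  let F : TwSeq s (p ^ n) → O := fun U =>
    (∏ i : Fin (p ^ n), c (U.1 i)) * T ((List.ofFn fun i : Fin (p ^ n) => ι (U.1 i)).prod * η)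
  have h1 : T ((∑ ω, c ω • ι ω) ^ p ^ n * η) = ∑ U, F U := by
    rw [sum_pow_eq_sum_ofFn, Finset.sum_mul, map_sum]
    refine (Fintype.sum_equiv e _ _ fun U => ?_).symm
    rw [prod_ofFn_smul', smul_mul_assoc, map_smul]
    rfl
  rw [h1]
  have hstep : ∀ U : TwSeq s (p ^ n), F (Multiplicative.ofAdd (1 : ℤ) • U) = F U := by
    intro U
    have hU := U.2 0
    simp only [F, TwSeq.smul_apply, toAdd_ofAdd]
    generalize U.1 = V at hU ⊢
    rw [hm] at hU ⊢
    rw [Fin.prod_univ_castSucc, Fin.prod_univ_succ, List.ofFn_succ', List.ofFn_succ,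
      List.prod_concat, List.prod_cons]
    simp only [Fin.val_castSucc, Fin.val_last, Fin.val_succ, Fin.val_zero, Nat.cast_add,
      Nat.cast_one, Nat.cast_zero, zero_add] at hU ⊢
    rw [hU, hc, mul_comm (c (V 0)), mul_assoc (List.prod _), ← hη, ← mul_assoc (List.prod _),
      hT _ (ι (V 0)), mul_assoc (ι (V 0))]
  have hinv : ∀ (g : Multiplicative ℤ) (U : TwSeq s (p ^ n)), F (g • U) = F U := by
    suffices ∀ (k : ℤ) (U : TwSeq s (p ^ n)), F (Multiplicative.ofAdd k • U) = F U from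
      fun g => this g.toAdd
    intro k
    induction k using Int.induction_on with
    | zero => intro U; simp
    | succ k ih => intro U; rw [ofAdd_add, mul_smul, ih, hstep]
    | pred k ih =>
      intro U
      rw [← hstep, ← mul_smul, ← ofAdd_add, show (1 : ℤ) + (-(k : ℤ) - 1) = -k by ring, ih]
  refine H17.sum_mem_of_orbit (Γ := Multiplicative ℤ) (Ideal.span {(p : O) ^ n}).toAddSubgroup F
    hinv fun U => ?_
  obtain ⟨d, hd⟩ := TwSeq.dvd_card_orbit hp U (fun k hk => hfix _ k hk)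
  rw [Submodule.mem_toAddSubgroup, Ideal.mem_span_singleton, hd]
  exact ⟨p * d * F U, by push_cast [nsmul_eq_mul]; ring⟩

end Trace

section Ev

open MonoidAlgebra

variable {O : Type*} [CommRing O] {G : Type*} [Group G] [Fintype G]

theorem coeff_mul' (a b : MonoidAlgebra O G) (g : G) :
    (a * b).coeff g = ∑ h, a.coeff h * b.coeff (h⁻¹ * g) := by
  rw [coeff_mul_apply_left, Finsupp.sum_fintype _ _ (by simp)]

/-- An element of the group ring with given coefficients. -/
noncomputable def ofFn (f : G → O) : MonoidAlgebra O G :=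
  ofCoeff (Finsupp.equivFunOnFinite.symm f)

omit [Group G] in
@[simp] theorem coeff_ofFn (f : G → O) (g : G) : (ofFn f).coeff g = f g := rfl

variable (O G) in
/-- Coefficient of the identity. -/
def s1 : MonoidAlgebra O G →ₗ[O] O where
  toFun a := a.coeff 1
  map_add' _ _ := rfl
  map_smul' _ _ := rfl

omit [Fintype G] in
theorem s1_apply (a : MonoidAlgebra O G) : s1 O G a = a.coeff 1 := rfl

theorem sym_s1 [IsDomain O] {π : O} (hπ : Irreducible π) : Order.Sym π (s1 O G) := by
  refine ⟨hπ, fun c y hc hy => ?_, fun x y => ?_, fun y hy => ?_⟩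
  · ext g
    have := congrArg (fun a => a.coeff g) hy
    simpa [hc] using this
  · simp only [s1_apply, coeff_mul', mul_one]
    exact Fintype.sum_equiv (Equiv.inv G) _ _ fun g => by simp [mul_comm]
  · choose w hw using fun g => hy (single g⁻¹ 1)
    refine ⟨ofFn w, ?_⟩
    ext g
    have := hw g
    rw [s1_apply, coeff_mul_single_apply] at this
    simpa using this

theorem sum_coeff_conj_eq_zero [IsDomain O] [IsDiscreteValuationRing O] {p : ℕ} (hp : p.Prime)
    (hπ : Irreducible (p : O)) {e : MonoidAlgebra O G} (he : IsIdempotentElem e) {h : G}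
    (hh : p ∣ orderOf h) : ∑ u : G, e.coeff (u⁻¹ * h * u) = 0 := by
  classical
  let σ : Equiv.Perm G := Equiv.mulLeft h
  have hσ : ∀ u, σ u = h * u := fun u => rfl
  let A' : Matrix G G O := Matrix.of fun u v => e.coeff (u⁻¹ * v)
  let η : Matrix G G O := Matrix.of fun a b => if a = σ b then 1 else 0
  have hA' : ∑ ω : G × G, e.coeff (ω.1⁻¹ * ω.2) • Matrix.single ω.1 ω.2 (1 : O) = A' := by
    rw [Matrix.matrix_eq_sum_single A', Fintype.sum_prod_type]
    simp [A']
  have hidem : A' * A' = A' := by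
    ext u v
    simp only [A', Matrix.mul_apply, Matrix.of_apply]
    conv_rhs => rw [← he.eq, coeff_mul']
    refine Fintype.sum_equiv (Equiv.mulLeft u⁻¹) _ _ fun w => ?_
    simp [mul_assoc]
  have htr : Matrix.trace (A' * η) = ∑ u : G, e.coeff (u⁻¹ * h * u) := by
    simp only [Matrix.trace, Matrix.diag, Matrix.mul_apply, A', η, Matrix.of_apply, mul_ite,
      mul_one, mul_zero, Finset.sum_ite_eq', Finset.mem_univ, if_true, hσ, mul_assoc]
  refine Order.eq_zero_of_forall (E := O) hπ fun n => ?_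
  have := dvd_trace_pow_mul hp (fun ω : G × G => Matrix.single ω.1 ω.2 (1 : O))
    (fun ω => e.coeff (ω.1⁻¹ * ω.2)) (Equiv.prodCongr σ σ) η (Matrix.traceLinearMap G O O)
    (fun a b => Matrix.trace_mul_comm a b) ?_ ?_ ?_ n
  · rwa [hA', IsIdempotentElem.pow_eq hidem (pow_pos hp.pos n).ne', Matrix.traceLinearMap_apply,
      htr] at this
  · rintro ⟨u, v⟩
    ext a b
    simp only [η, Matrix.mul_apply, Matrix.of_apply, Matrix.single_apply, Equiv.prodCongr_apply,
      Prod.map_fst, Prod.map_snd, ite_and, mul_ite, mul_one, mul_zero,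
      Finset.sum_ite_eq, Finset.sum_ite_eq', Finset.mem_univ, if_true,
      EmbeddingLike.apply_eq_iff_eq]
    by_cases h1 : v = b <;> by_cases h2 : σ u = a <;> simp [h1, h2, eq_comm (a := a)]
  · rintro ⟨u, v⟩
    simp only [Equiv.prodCongr_apply, Prod.map_fst, Prod.map_snd, hσ]
    congr 1; group
  · rintro ⟨u, v⟩ k hk h1
    have h0 : ∀ (k : ℕ), (((show Equiv.Perm (G × G) from Equiv.prodCongr σ σ) ^ k) (u, v)).1 =
        h ^ k * u := by
      intro k
      induction k with
      | zero => simp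
      | succ k ih => rw [pow_succ', pow_succ', Equiv.Perm.mul_apply, mul_assoc, ← ih]; rfl
    have h2 := (h0 k).symm.trans (congrArg Prod.fst h1)
    exact hk (hh.trans (orderOf_dvd_of_pow_eq_one (by simpa using h2)))

variable [Algebra O ℂ]

/-- Linear extension of a function on `G` to the group ring. -/
noncomputable def ev (f : G → ℂ) : MonoidAlgebra O G →ₗ[O] ℂ where
  toFun a := ∑ g, algebraMap O ℂ (a.coeff g) * f g
  map_add' a b := by simp [add_mul, Finset.sum_add_distrib]
  map_smul' c a := by simp [Algebra.smul_def, Finset.mul_sum, mul_assoc]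

theorem ev_apply (f : G → ℂ) (a : MonoidAlgebra O G) :
    ev f a = ∑ g, algebraMap O ℂ (a.coeff g) * f g := rfl

@[simp] theorem ev_single (f : G → ℂ) (g : G) (r : O) :
    ev f (single g r) = algebraMap O ℂ r * f g := by
  classical
  rw [ev_apply, Finset.sum_eq_single g] <;> simp +contextual [eq_comm]

theorem ev_sum {ι : Type*} (s : Finset ι) (c : ι → ℂ) (f : ι → G → ℂ) (a : MonoidAlgebra O G) :
    ev (fun g => ∑ i ∈ s, c i * f i g) a = ∑ i ∈ s, c i * ev (f i) a := by
  simp only [ev_apply, Finset.mul_sum]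
  rw [Finset.sum_comm]
  exact Finset.sum_congr rfl fun _ _ => Finset.sum_congr rfl fun _ _ => by ring

theorem ev_mul_comm {f : G → ℂ} (hf : IsClassFunction G f) (a b : MonoidAlgebra O G) :
    ev f (a * b) = ev f (b * a) := by
  induction a using MonoidAlgebra.induction_linear with
  | zero => simp
  | add x y hx hy => simp [add_mul, mul_add, hx, hy]
  | single g r =>
    induction b using MonoidAlgebra.induction_linear with
    | zero => simp
    | add x y hx hy => simp [add_mul, mul_add, hx, hy]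
    | single h t => simp [single_mul_single, hf.mul_comm g h, mul_comm r]

theorem card_mul_s1 (a : MonoidAlgebra O G) :
    (Nat.card G : ℂ) * algebraMap O ℂ (s1 O G a) = ∑ χ : Irr G, χ.1 1 * ev χ.1 a := by
  classical
  rw [← ev_sum, ev_apply, s1_apply]
  simp only [sum_degree_mul]
  simp [mul_comm]

theorem ev_eq_zero_of_idem [IsDomain O] [IsDiscreteValuationRing O] {p : ℕ} (hp : p.Prime)
    (hπ : Irreducible (p : O)) {e : MonoidAlgebra O G} (he : IsIdempotentElem e) {f : G → ℂ}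
    (hf : IsClassFunction G f) (h0 : ∀ g, ¬ p ∣ orderOf g → f g = 0) : ev f e = 0 := by
  refine mul_left_cancel₀ (card_ne_zero G) ?_
  have h1 : (Nat.card G : ℂ) * ev f e = ∑ u : G, ∑ g, algebraMap O ℂ (e.coeff (u⁻¹ * g * u)) * f g := by
    rw [Nat.card_eq_fintype_card, ← nsmul_eq_mul, ← Finset.card_univ, ← Finset.sum_const]
    refine Finset.sum_congr rfl fun u _ => ?_
    refine Fintype.sum_equiv (MulAut.conj u).toEquiv _ _ fun g => ?_
    simp [mul_assoc, ← hf g u]
  rw [h1, Finset.sum_comm, mul_zero]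
  refine Finset.sum_eq_zero fun g _ => ?_
  by_cases hg : p ∣ orderOf g
  · rw [← Finset.sum_mul, ← map_sum, sum_coeff_conj_eq_zero hp hπ he hg]; simp
  · simp [h0 g hg]

theorem ev_conj_sum {χ : Irr G} (a b : MonoidAlgebra O G) :
    ∑ g : G, ev χ.1 (single g 1 * a * single g⁻¹ 1 * b) =
      (Nat.card G : ℂ) / χ.1 1 * (ev χ.1 a * ev χ.1 b) := by
  induction a using MonoidAlgebra.induction_linear with
  | zero => simp
  | add x y hx hy => simp only [add_mul, mul_add, map_add, Finset.sum_add_distrib, hx, hy]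
  | single g r =>
    induction b using MonoidAlgebra.induction_linear with
    | zero => simp
    | add x y hx hy => simp only [mul_add, map_add, Finset.sum_add_distrib, hx, hy]
    | single h t =>
      simp only [single_mul_single, ev_single, one_mul, mul_one, ← Finset.mul_sum,
        χ.2.sum_conj_mul, map_mul]
      ring

theorem ev_mul_sum {χ : Irr G} (a b : MonoidAlgebra O G) :
    ∑ g : G, ev χ.1 (a * single g 1) * ev χ.1 (b * single g⁻¹ 1) =
      (Nat.card G : ℂ) / χ.1 1 * ev χ.1 (a * b) := by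
  classical
  induction a using MonoidAlgebra.induction_linear with
  | zero => simp
  | add x y hx hy => simp only [add_mul, mul_add, map_add, Finset.sum_add_distrib, hx, hy]
  | single g r =>
    induction b using MonoidAlgebra.induction_linear with
    | zero => simp
    | add x y hx hy => simp only [add_mul, mul_add, map_add, Finset.sum_add_distrib, hx, hy]
    | single h t =>
      simp only [single_mul_single, ev_single, mul_one, map_mul]
      have h1 := χ.2.sum_conj_mul_mul χ.2 (g * h)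
      rw [if_pos rfl] at h1
      have h2 : ∑ x, χ.1 (g * x) * χ.1 (h * x⁻¹) = ∑ x, conj (χ.1 x) * χ.1 (x * (g * h)) := by
        refine Fintype.sum_equiv ((Equiv.inv G).trans (Equiv.mulRight g⁻¹)) _ _ fun x => ?_
        simp only [Equiv.trans_apply, Equiv.inv_apply, Equiv.coe_mulRight]
        rw [← χ.2.apply_inv, χ.2.classFun.mul_comm h]
        congr 2 <;> group
      rw [mul_left_comm, ← h1, ← h2, Finset.mul_sum]
      exact Finset.sum_congr rfl fun _ _ => by ring

/-- If the corner is commutative on `χ` then the multiplicity is `0` or `1`. -/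
theorem ev_cube {χ : Irr G} {e : MonoidAlgebra O G} (he : IsIdempotentElem e)
    (h : ∀ x y z, ev χ.1 (e * x * e * y * e * z) = ev χ.1 (e * y * e * x * e * z)) :
    ev χ.1 e ^ 3 = ev χ.1 e := by
  set c := (Nat.card G : ℂ) / χ.1 1 with hc
  have hc0 : c ≠ 0 := div_ne_zero (card_ne_zero G) χ.2.apply_one_ne_zero
  have hcl := χ.2.classFun
  have h1 : ∀ k : G, ∑ g : G, ev χ.1 (e * single g 1 * e * single k 1 * e *
      (single g⁻¹ 1 * e * single k⁻¹ 1)) =
      c * (ev χ.1 (e * single k 1) * ev χ.1 (e * single k⁻¹ 1)) := by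
    intro k
    have e1 : ∀ k : G, ev χ.1 (e * single k 1 * e) = ev χ.1 (e * single k 1) := fun k => by
      rw [ev_mul_comm hcl, ← mul_assoc, he.eq]
    rw [← e1 k, ← e1 k⁻¹, ← ev_conj_sum]
    refine Finset.sum_congr rfl fun g _ => ?_
    simp only [mul_assoc]
    rw [ev_mul_comm hcl e]
    simp only [mul_assoc]
  have h2 : ∀ k : G, ∑ g : G, ev χ.1 (e * single k 1 * e * single g 1 * e *
      (single g⁻¹ 1 * e * single k⁻¹ 1)) =
      c * (ev χ.1 e * ev χ.1 (single k⁻¹ 1 * e * single k⁻¹⁻¹ 1 * e)) := by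
    intro k
    have e1 : ev χ.1 (single k⁻¹ 1 * e * single k⁻¹⁻¹ 1 * e) =
        ev χ.1 (e * single k⁻¹ 1 * e * single k 1 * e) := by
      rw [inv_inv]
      simp only [mul_assoc]
      rw [ev_mul_comm hcl e]
      simp only [mul_assoc, he.eq]
    rw [e1, ← ev_conj_sum]
    refine Finset.sum_congr rfl fun g _ => ?_
    rw [mul_assoc (e * single k 1 * e), mul_assoc (e * single k 1 * e), ev_mul_comm hcl]
    simp only [mul_assoc]
  have h3 : ∑ k : G, c * (ev χ.1 (e * single k 1) * ev χ.1 (e * single k⁻¹ 1)) =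
      ∑ k : G, c * (ev χ.1 e * ev χ.1 (single k⁻¹ 1 * e * single k⁻¹⁻¹ 1 * e)) :=
    Finset.sum_congr rfl fun k _ => by
      rw [← h1, ← h2]
      exact Finset.sum_congr rfl fun g _ => h _ _ _
  have h5 := Equiv.sum_comp (Equiv.inv G) fun k => ev χ.1 (single k 1 * e * single k⁻¹ 1 * e)
  simp only [Equiv.inv_apply] at h5
  rw [← Finset.mul_sum, ← Finset.mul_sum, ← Finset.mul_sum, ev_mul_sum, he.eq, h5,
    ev_conj_sum, ← hc] at h3
  have h4 := mul_left_cancel₀ hc0 h3
  refine mul_left_cancel₀ hc0 ?_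
  linear_combination -h4

variable (O) in
theorem exists_rep {θ : G → ℂ} (hθ : IsCharacter G θ) :
    ∃ (m : ℕ) (φ : MonoidAlgebra O G →ₐ[O] Module.End ℂ (Fin m → ℂ)),
      ∀ a, ev θ a = LinearMap.trace ℂ _ (φ a) := by
  obtain ⟨m, ρ, rfl⟩ := hθ
  refine ⟨m, MonoidAlgebra.lift O _ G ρ, fun a => ?_⟩
  induction a using MonoidAlgebra.induction_linear with
  | zero => simp
  | add x y hx hy => simp [hx, hy]
  | single g r =>
    rw [ev_single, lift_single, ← algebraMap_smul ℂ, map_smul]; rfl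

theorem exists_nat_ev {θ : G → ℂ} (hθ : IsCharacter G θ) {e : MonoidAlgebra O G}
    (he : IsIdempotentElem e) : ∃ n : ℕ, ev θ e = n := by
  obtain ⟨m, φ, h1⟩ := exists_rep O hθ
  exact ⟨_, by rw [h1, (LinearMap.IsIdempotentElem.isProj_range _ (he.map φ)).trace]⟩

theorem val_ev_lt_one {p : ℕ} {A : ValuationSubring ℂ} (hA : Dom O p A) (hp : p ≠ 0) {θ : G → ℂ}
    (hθ : IsCharacter G θ) {z w : MonoidAlgebra O G} {n : ℕ} (h : z ^ n = (p : O) • w) :
    A.valuation (ev θ z) < 1 := by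
  obtain ⟨m, φ, h1⟩ := exists_rep O hθ
  rw [h1, Module.End.trace_eq_sum_roots_charpoly_of_splits (IsAlgClosed.splits _)]
  refine Multiset.sum_induction (fun x => A.valuation x < 1) (φ z).charpoly.roots
    (fun a b ha hb => Valuation.map_add_lt A.valuation ha hb) (by simp) fun μ hμ => ?_
  obtain ⟨v, hv⟩ := ((Module.End.hasEigenvalue_iff_isRoot_charpoly _ _).2
    (Polynomial.isRoot_of_mem_roots hμ)).exists_hasEigenvector
  have hp' : (p : ℂ) ≠ 0 := Nat.cast_ne_zero.2 hp
  have h2 : (φ w).HasEigenvector (μ ^ n / p) v := by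
    refine ⟨Module.End.mem_eigenspace_iff.2 (smul_right_injective _ hp' ?_), hv.2⟩
    have := hv.pow_apply n
    rw [← map_pow, h, map_smul, ← algebraMap_smul ℂ, map_natCast, LinearMap.smul_apply] at this
    simp only [this, smul_smul, mul_div_cancel₀ _ hp']
  obtain ⟨f, hf, hfw⟩ : IsIntegral O w := Algebra.IsIntegral.isIntegral w
  have h3 : IsIntegral O (μ ^ n / p) := by
    refine ⟨f, hf, ?_⟩
    have := Module.End.aeval_apply_of_hasEigenvector (p := f.map (algebraMap O ℂ)) h2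
    rw [Polynomial.aeval_map_algebraMap, Polynomial.aeval_algHom_apply, Polynomial.aeval_def, hfw,
      map_zero, LinearMap.zero_apply, eq_comm, smul_eq_zero, Polynomial.eval_map] at this
    exact this.resolve_right hv.2
  have h4 : A.valuation μ ^ n < 1 := by
    rw [← map_pow, ← mul_div_cancel₀ (μ ^ n) hp', map_mul]
    exact mul_lt_one_of_lt_of_le hA.lt_one (hA.of_isIntegral h3)
  by_contra hc
  exact h4.not_ge (one_le_pow_of_one_le' (not_lt.1 hc) n)

/-- `η` is the central element with Fourier transform `z`. -/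
def IsCen (η : MonoidAlgebra O G) (z : Irr G → ℂ) : Prop :=
  ∀ g, algebraMap O ℂ (η.coeff g) = co z g

theorem exists_isCen {z : Irr G → ℂ} (h : ∀ g, co z g ∈ (algebraMap O ℂ).range) :
    ∃ η : MonoidAlgebra O G, IsCen η z := by
  choose f hf using h
  exact ⟨ofFn f, hf⟩

theorem IsCen.mul {η η' : MonoidAlgebra O G} {z z' : Irr G → ℂ} (h : IsCen η z)
    (h' : IsCen η' z') : IsCen (η * η') (z * z') := fun g => by
  simp only [coeff_mul', co_mul, map_sum, map_mul, h _, h' _]

theorem IsCen.smul {η : MonoidAlgebra O G} {z : Irr G → ℂ} (h : IsCen η z) (c : O) :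
    IsCen (c • η) (algebraMap O ℂ c • z) := fun g => by
  rw [map_smul, Pi.smul_apply, ← h g, coeff_smul_apply, smul_eq_mul, smul_eq_mul, map_mul]

theorem IsCen.sum {ι : Type*} (s : Finset ι) {η : ι → MonoidAlgebra O G} {z : ι → Irr G → ℂ}
    (h : ∀ i ∈ s, IsCen (η i) (z i)) : IsCen (∑ i ∈ s, η i) (∑ i ∈ s, z i) := fun g => by
  simp only [coeff_sum, Finsupp.finsetSum_apply, map_sum, Finset.sum_apply]
  exact Finset.sum_congr rfl fun i hi => h i hi g

theorem isCen_zero : IsCen (0 : MonoidAlgebra O G) 0 := fun g => by simp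

theorem IsCen.unique [FaithfulSMul O ℂ] {η η' : MonoidAlgebra O G} {z : Irr G → ℂ} (h : IsCen η z)
    (h' : IsCen η' z) : η = η' := by
  ext g
  exact FaithfulSMul.algebraMap_injective O ℂ ((h g).trans (h' g).symm)

theorem IsCen.central [FaithfulSMul O ℂ] {η : MonoidAlgebra O G} {z : Irr G → ℂ} (h : IsCen η z)
    (x : MonoidAlgebra O G) : η * x = x * η := by
  induction x using MonoidAlgebra.induction_linear with
  | zero => simp
  | add x y hx hy => simp [add_mul, mul_add, hx, hy]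
  | single g r =>
    ext k
    rw [coeff_mul_single_apply, coeff_single_mul_apply, mul_comm r]
    congr 1
    apply FaithfulSMul.algebraMap_injective O ℂ
    rw [h, h, (co_classFun z).mul_comm]

theorem IsCen.ev_mul {η : MonoidAlgebra O G} {z : Irr G → ℂ} (h : IsCen η z) (χ : Irr G)
    (x : MonoidAlgebra O G) : ev χ.1 (η * x) = z χ * ev χ.1 x := by
  induction x using MonoidAlgebra.induction_linear with
  | zero => simp
  | add x y hx hy => simp [mul_add, hx, hy]
  | single g r =>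
    rw [ev_single, mul_left_comm, ← sum_co_mul, Finset.mul_sum, ev_apply]
    refine Fintype.sum_equiv (Equiv.mulRight g⁻¹) _ _ fun k => ?_
    simp [coeff_mul_single_apply, h _]
    ring

end Ev

section Main

variable {G : Type*} [Group G] [Fintype G] {V : Type*}

/-- The characters of `B` at the vertex `v`. -/
def fib (B : Set (Irr G)) (vx : Irr G → V) (v : V) : Set (Irr G) := {χ | χ ∈ B ∧ vx χ = v}

/-- Vertex data for a union of blocks of defect one. -/
structure VData (p : ℕ) (B : Set (Irr G)) (vx : Irr G → V) : Prop where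
  card : ∃ m, Nat.card G = p * m ∧ ¬ p ∣ m
  blk : ∀ (M : Ideal AlgInt) [PM p M], ind B ∈ ZS G M
  reg : ∀ χ ∈ B, ∀ ψ ∈ B, vx χ = vx ψ → ∀ g, ¬ p ∣ orderOf g → χ.1 g = ψ.1 g
  int : ∀ v g, p ∣ orderOf g → ∃ n : ℤ, ∑ χ, ind (fib B vx v) χ * χ.1 g = n
  ne : ∀ χ ∈ B, ∃ g, p ∣ orderOf g ∧ ∑ ψ, ind (fib B vx (vx χ)) ψ * ψ.1 g ≠ 0

/-- An edge of the Brauer tree (necessary conditions). -/
structure IsEdge (p : ℕ) (B : Set (Irr G)) (vx : Irr G → V) (v w : V) : Prop where
  ne : v ≠ w
  left : (fib B vx v).Nonempty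
  right : (fib B vx w).Nonempty
  van : ∀ g, p ∣ orderOf g →
    ∑ χ, ind (fib B vx v) χ * χ.1 g + ∑ χ, ind (fib B vx w) χ * χ.1 g = 0

omit [Fintype G] in
theorem sum_ind_fib [DecidableEq V] (B : Set (Irr G)) (vx : Irr G → V) {T : Finset V}
    (hT : ∀ χ, vx χ ∈ T) : ∑ v ∈ T, ind (fib B vx v) = ind B := by
  classical
  ext χ
  rw [Finset.sum_apply, Finset.sum_eq_single_of_mem (vx χ) (hT χ)]
  · simp [ind_apply, fib]
  · intro v _ hv
    exact ind_of_notMem fun h => hv h.2.symm

omit [Fintype G] in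
theorem ind_fib_mul (B : Set (Irr G)) (vx : Irr G → V) {v w : V} (h : v ≠ w) :
    ind (fib B vx v) * ind (fib B vx w) = 0 := by
  ext χ
  by_cases h1 : χ ∈ fib B vx v
  · rw [Pi.mul_apply, ind_of_notMem (A := fib B vx w) fun h2 => h (h1.2.symm.trans h2.2)]; simp
  · rw [Pi.mul_apply, ind_of_notMem h1]; simp

variable {O : Type*} [CommRing O] [IsDomain O] [IsDiscreteValuationRing O]
  [IsAdicComplete (maximalIdeal O) O] [IsAlgClosed (ResidueField O)] [Algebra O ℂ]
  [FaithfulSMul O ℂ] {p : ℕ} [hp : Fact p.Prime] (hπ : Irreducible (p : O))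
include hπ

omit [Fintype G] in
theorem char_mem_range {θ : G → ℂ} (hθ : IsCharacter G θ) [Finite G] {g : G}
    (hg : ¬ p ∣ orderOf g) : θ g ∈ (algebraMap O ℂ).range := by
  obtain ⟨n, ω, -, h2, h3⟩ := hθ.exists_eigenvalues g
  have := h3 1
  simp only [pow_one] at this
  rw [this]
  exact sum_mem fun i _ => root_mem_range hp.out hπ hg (h2 i)

omit [IsAdicComplete (maximalIdeal O) O] [IsAlgClosed (ResidueField O)] [FaithfulSMul O ℂ] in
theorem inv_nat_mem_range {m : ℕ} (hm : ¬ p ∣ m) : (m : ℂ)⁻¹ ∈ (algebraMap O ℂ).range := by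
  have h1 : IsUnit (m : O) := by
    rw [Order.isUnit_iff hπ]
    intro hd
    obtain ⟨a, b, hab⟩ := (Nat.isCoprime_iff_coprime.2
      ((Nat.Prime.coprime_iff_not_dvd hp.out).2 hm)).map (Int.castRingHom O)
    simp only [map_natCast] at hab
    exact hπ.not_isUnit (isUnit_of_dvd_one (hab ▸ dvd_add (dvd_mul_left _ _) (hd.mul_left _)))
  obtain ⟨y, hy⟩ := h1.exists_right_inv
  refine ⟨y, eq_inv_of_mul_eq_one_right ?_⟩
  rw [← map_natCast (algebraMap O ℂ), ← map_mul, hy, map_one]

variable {B : Set (Irr G)} {vx : Irr G → V} (hV : VData p B vx)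
include hV

theorem VData.exists_eta (v : V) :
    ∃ η : MonoidAlgebra O G, IsCen η ((p : ℂ) • ind (fib B vx v)) := by
  refine exists_isCen fun g => ?_
  obtain ⟨m, hm, hpm⟩ := hV.card
  have hp0 : (p : ℂ) ≠ 0 := Nat.cast_ne_zero.2 hp.out.ne_zero
  have h1 : co ((p : ℂ) • ind (fib B vx v)) g =
      (m : ℂ)⁻¹ * ∑ χ : Irr G, χ.1 1 * (ind (fib B vx v) χ * χ.1 g⁻¹) := by
    rw [map_smul, Pi.smul_apply, co_apply, hm, smul_eq_mul, ← mul_assoc]
    congr 1
    · push_cast; field_simp
    · exact Finset.sum_congr rfl fun χ _ => by rw [χ.2.apply_inv, mul_assoc]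
  rw [h1]
  refine mul_mem (inv_nat_mem_range hπ hpm) ?_
  by_cases hg : p ∣ orderOf g⁻¹
  · rcases (fib B vx v).eq_empty_or_nonempty with h | ⟨ψ, hψ⟩
    · simp [h, ind, zero_mem]
    · obtain ⟨n, hn⟩ := hV.int v _ hg
      have : ∑ χ : Irr G, χ.1 1 * (ind (fib B vx v) χ * χ.1 g⁻¹) = deg ψ * n := by
        rw [← hn, Finset.mul_sum]
        refine Finset.sum_congr rfl fun χ _ => ?_
        by_cases hχ : χ ∈ fib B vx v
        · rw [deg_eq, hV.reg χ hχ.1 ψ hψ.1 (hχ.2.trans hψ.2.symm) 1 reg_one]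
        · simp [ind_of_notMem hχ]
      rw [this]
      exact mul_mem (natCast_mem _ _) (intCast_mem _ _)
  · refine sum_mem fun χ _ => mul_mem (deg_eq χ ▸ natCast_mem _ _) (mul_mem ?_
      (char_mem_range hπ χ.2.isCharacter hg))
    by_cases hχ : χ ∈ fib B vx v
    · rw [ind_of_mem hχ]; exact one_mem _
    · rw [ind_of_notMem hχ]; exact zero_mem _

theorem VData.exists_eps : ∃ ε : MonoidAlgebra O G, IsCen ε (ind B) := by
  classical
  obtain ⟨A, hA⟩ := exists_dom hπ
  obtain ⟨M, hM, hMA⟩ := hA.exists_PM hp.out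
  choose η hη using hV.exists_eta hπ
  have h1 := IsCen.sum (Finset.univ.image vx) fun v _ => hη v
  rw [← Finset.smul_sum, sum_ind_fib B vx fun χ => Finset.mem_image_of_mem _ (Finset.mem_univ χ)]
    at h1
  refine exists_isCen fun g => hA.mem_range hπ (hMA _ (hV.blk M g)) hπ.ne_zero
    (a := (∑ v ∈ Finset.univ.image vx, η v).coeff g) ?_
  rw [h1 g, map_smul, map_natCast, mul_comm]; rfl

theorem VData.induction (Q : (Irr G → ℂ) → Prop) (h0 : Q 0)
    (hadd : ∀ d d', Q d → Q d' → Q (d + d'))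
    (hedge : ∀ v w, IsEdge p B vx v w → Q (ind (fib B vx v) + ind (fib B vx w)))
    {e : MonoidAlgebra O G} (he : IsIdempotentElem e) : Q fun χ => ind B χ * ev χ.1 e := by
  classical
  obtain ⟨A, hA⟩ := exists_dom hπ
  obtain ⟨ε, hε⟩ := hV.exists_eps hπ
  choose η hη using hV.exists_eta hπ
  have hS := sym_s1 (G := G) hπ
  have hp0 : (p : ℂ) ≠ 0 := Nat.cast_ne_zero.2 hp.out.ne_zero
  refine Order.idem_induction O (fun e : MonoidAlgebra O G => Q fun χ => ind B χ * ev χ.1 e)
    (by simp only [map_zero, mul_zero]; exact h0) (fun f g _ _ _ _ hf hg => by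
      simp only [map_add, mul_add]; exact hadd _ _ hf hg) (fun e he => ?_) e he
  have hεε : ε * ε = ε := (hε.mul hε).unique (by rwa [ind_mul_self])
  rcases he.prim (ε * e) (by
      rw [IsIdempotentElem, mul_assoc, ← mul_assoc e, ← hε.central e, mul_assoc, he.idem.eq,
        ← mul_assoc, hεε])
    (by rw [← mul_assoc, ← hε.central e, mul_assoc, he.idem.eq])
    (by rw [mul_assoc, he.idem.eq]) with h1 | h1
  · convert h0 using 2 with χ
    rw [← hε.ev_mul, h1, map_zero]; rfl
  have F0 : (fun χ : Irr G => ind B χ * ev χ.1 e) = fun χ => ev χ.1 e := by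
    ext χ; rw [← hε.ev_mul, h1]
  rw [F0]
  have F1 : ∀ v, ∀ χ ∈ fib B vx v, ∀ ψ ∈ fib B vx v, ev χ.1 e = ev ψ.1 e := by
    intro v χ hχ ψ hψ
    have := ev_eq_zero_of_idem hp.out hπ he.idem (χ.2.classFun.sub ψ.2.classFun) fun g hg => by
      rw [Pi.sub_apply, hV.reg χ hχ.1 ψ hψ.1 (hχ.2.trans hψ.2.symm) g hg, sub_self]
    simpa [ev_apply, mul_sub, sub_eq_zero] using this
  have F2 : ∀ χ, χ ∉ B → ev χ.1 e = 0 := fun χ hχ => by
    rw [← congrFun F0 χ, ind_of_notMem hχ, zero_mul]
  have F3 : ∀ v, η v * e = 0 → ∀ χ ∈ fib B vx v, ev χ.1 e = 0 := fun v hv χ hχ => by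
    have := (hη v).ev_mul χ e
    rw [hv, map_zero, Pi.smul_apply, ind_of_mem hχ] at this
    simpa [hp0] using this
  have F4 : ∀ g, p ∣ orderOf g → ∑ χ : Irr G, ev χ.1 e * χ.1 g = 0 := fun g hg => by
    have := ev_eq_zero_of_idem hp.out hπ he.idem
      (f := fun k => ∑ χ : Irr G, conj (χ.1 g⁻¹) * χ.1 k)
      (fun a b => by simp only [fun χ : Irr G => χ.2.classFun a b]) fun k hk => by
        simp only [mul_comm (conj _)]
        refine column_orth_of_not_isConj fun hc => hk ?_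
        rwa [orderOf_eq_of_isConj hc, orderOf_inv]
    rw [ev_sum] at this
    simpa only [fun χ : Irr G => χ.2.apply_inv g, Complex.conj_conj, mul_comm] using this
  have F5 : ∀ v w, v ≠ w → η v * η w = 0 := fun v w hvw => ((hη v).mul (hη w)).unique (by
    rw [smul_mul_smul_comm, ind_fib_mul B vx hvw, smul_zero]; exact isCen_zero)
  have F6 : ∑ v ∈ Finset.univ.image vx, η v * e = (p : O) • e := by
    have h2 := IsCen.sum (Finset.univ.image vx) fun v _ => hη v
    rw [← Finset.smul_sum,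
      sum_ind_fib B vx fun χ => Finset.mem_image_of_mem _ (Finset.mem_univ χ)] at h2
    rw [← Finset.sum_mul, h2.unique (by simpa using hε.smul p), smul_mul_assoc, h1]
  by_cases hloop : ∃ v, η v * e = (p : O) • e
  · obtain ⟨v, hv⟩ := hloop
    have h2 : ∀ χ, χ ∉ fib B vx v → ev χ.1 e = 0 := fun χ hχ => by
      by_cases h3 : χ ∈ B
      · refine F3 (vx χ) (hS.tf p _ hπ.ne_zero ?_) χ ⟨h3, rfl⟩
        rw [← mul_smul_comm, ← hv, ← mul_assoc, F5 _ _ fun h => hχ ⟨h3, h⟩, zero_mul]
      · exact F2 χ h3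
    convert h0 using 2 with χ
    by_cases h3 : χ ∈ fib B vx v
    · obtain ⟨g, hg, h4⟩ := hV.ne χ h3.1
      rw [h3.2] at h4
      refine (mul_eq_zero.1 ?_).resolve_right h4
      rw [← F4 g hg, Finset.mul_sum]
      refine Finset.sum_congr rfl fun ψ _ => ?_
      by_cases h5 : ψ ∈ fib B vx v
      · rw [ind_of_mem h5, one_mul, F1 v χ h3 ψ h5]
      · rw [ind_of_notMem h5, h2 ψ h5]; simp
    · exact h2 χ h3
  push Not at hloop
  obtain ⟨m, hm, hpm⟩ := hV.card
  have F7 : ∀ v z, (m : ℂ) * algebraMap O ℂ (s1 O G (η v * z)) =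
      ∑ χ : Irr G, χ.1 1 * (ind (fib B vx v) χ * ev χ.1 z) := fun v z => by
    refine mul_left_cancel₀ hp0 ?_
    rw [← mul_assoc, ← Nat.cast_mul, ← hm, card_mul_s1, Finset.mul_sum]
    refine Finset.sum_congr rfl fun χ _ => ?_
    rw [(hη v).ev_mul, Pi.smul_apply, smul_eq_mul]; ring
  have hgood : ∀ v, η v * e ≠ 0 → Order.GoodAt (p : O) (s1 O G) e (η v) := fun v hv => by
    refine ⟨(hη v).central, ((hη v).mul (hη v)).unique ?_, hv, hloop v, fun z w n hz => ?_⟩
    · rw [smul_mul_smul_comm, ind_mul_self, mul_smul]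
      simpa using (hη v).smul p
    · rw [← hA.lt_one_iff hπ, eq_inv_mul_iff_mul_eq₀ (Nat.cast_ne_zero.2 (by
        rintro rfl; exact hpm (dvd_zero p))) |>.2 (F7 v z), map_mul, mul_comm]
      obtain ⟨y, hy⟩ := inv_nat_mem_range hπ hpm
      refine mul_lt_one_of_lt_of_le (Valuation.map_sum_lt _ one_ne_zero fun χ _ => ?_)
        (hy ▸ hA.le_one y)
      rw [← mul_assoc, map_mul, mul_comm]
      refine mul_lt_one_of_lt_of_le (val_ev_lt_one hA hp.out.ne_zero χ.2.isCharacter hz)
        (hA.of_isIntegral_int (IsIntegral.mul (χ.2.isCharacter.isIntegral 1) ?_))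
      by_cases hχ : χ ∈ fib B vx v
      · rw [ind_of_mem hχ]; exact isIntegral_one
      · rw [ind_of_notMem hχ]; exact isIntegral_zero
  have hone : ∀ v, η v * e ≠ 0 → (fib B vx v).Nonempty ∧ ∀ χ ∈ fib B vx v, ev χ.1 e = 1 := by
    intro v hv
    have h2 : ∃ ψ ∈ fib B vx v, ev ψ.1 e ≠ 0 := by
      by_contra hc
      push Not at hc
      have h3 := F7 v e
      rw [Finset.sum_eq_zero fun χ _ => by
        by_cases hχ : χ ∈ fib B vx v
        · rw [hc χ hχ]; simp
        · rw [ind_of_notMem hχ]; simp] at h3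
      have h4 := (hS.isUnit_s he (hgood v hv)).ne_zero
      rw [mul_eq_zero, Nat.cast_eq_zero, map_eq_zero_iff _
        (FaithfulSMul.algebraMap_injective O ℂ)] at h3
      exact h3.elim (by rintro rfl; exact hpm (dvd_zero p)) h4
    obtain ⟨ψ, hψ, h3⟩ := h2
    refine ⟨⟨ψ, hψ⟩, fun χ hχ => ?_⟩
    rw [F1 v χ hχ ψ hψ]
    have h4 := ev_cube (χ := ψ) he.idem fun x y z => by
      have h5 := congrArg (fun a => ev ψ.1 (a * z)) (hS.comm he (hgood v hv) x y)
      simp only [mul_assoc (η v), (hη v).ev_mul, Pi.smul_apply, ind_of_mem hψ, smul_eq_mul,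
        mul_one] at h5
      exact mul_left_cancel₀ hp0 h5
    obtain ⟨n, hn⟩ := exists_nat_ev ψ.2.isCharacter he.idem
    rw [hn] at h3 h4 ⊢
    have h5 : n ^ 3 = n := by exact_mod_cast h4
    have h6 : n ≠ 0 := by exact_mod_cast h3
    have h7 : n ^ 2 = 1 := Nat.eq_of_mul_eq_mul_left (Nat.pos_of_ne_zero h6) (by rw [mul_one, ← pow_succ', h5])
    rw [(Nat.pow_eq_one.1 h7).resolve_right two_ne_zero, Nat.cast_one]
  obtain ⟨v, hv⟩ : ∃ v, η v * e ≠ 0 := by
    by_contra hc
    push Not at hc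
    rw [Finset.sum_eq_zero fun v _ => hc v] at F6
    exact he.ne_zero (hS.tf p _ hπ.ne_zero F6.symm)
  obtain ⟨w, hwv, hw⟩ : ∃ w, w ≠ v ∧ η w * e ≠ 0 := by
    by_contra hc
    push Not at hc
    obtain ⟨ψ, hψ⟩ := (hone v hv).1
    rw [Finset.sum_eq_single_of_mem v (hψ.2 ▸ Finset.mem_image_of_mem _ (Finset.mem_univ ψ))
      fun w _ hw => hc w hw] at F6
    exact hloop v F6
  have h2 : (fun χ : Irr G => ev χ.1 e) = ind (fib B vx v) + ind (fib B vx w) := by
    ext χ
    rw [Pi.add_apply]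
    by_cases h3 : χ ∈ fib B vx v
    · rw [ind_of_mem h3, ind_of_notMem (A := fib B vx w) fun h => hwv (h.2.symm.trans h3.2),
        (hone v hv).2 χ h3, add_zero]
    by_cases h4 : χ ∈ fib B vx w
    · rw [ind_of_notMem h3, ind_of_mem h4, (hone w hw).2 χ h4, zero_add]
    rw [ind_of_notMem h3, ind_of_notMem h4, add_zero]
    by_cases h5 : χ ∈ B
    · exact F3 (vx χ) (hS.three he (hgood v hv) (hgood w hw) (hη _).central (F5 _ _ hwv.symm)
        (F5 _ _ fun h => h3 ⟨h5, h.symm⟩) (F5 _ _ fun h => h4 ⟨h5, h.symm⟩)) χ ⟨h5, rfl⟩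
    · exact F2 χ h5
  rw [h2]
  refine hedge v w ⟨hwv.symm, (hone v hv).1, (hone w hw).1, fun g hg => ?_⟩
  rw [← F4 g hg, ← Finset.sum_add_distrib]
  exact Finset.sum_congr rfl fun χ _ => by rw [congrFun h2 χ, Pi.add_apply, add_mul]

end Main

/-- The regular character of a union of blocks of defect one is a sum of edges. -/
theorem VData.induction_one {G : Type*} [Group G] [Fintype G] {V : Type*} {p : ℕ}
    [Fact p.Prime] {B : Set (Irr G)} {vx : Irr G → V} (hV : VData p B vx)
    (Q : (Irr G → ℂ) → Prop) (h0 : Q 0) (hadd : ∀ d d', Q d → Q d' → Q (d + d'))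
    (hedge : ∀ v w, IsEdge p B vx v w → Q (ind (fib B vx v) + ind (fib B vx w))) :
    Q fun χ => ind B χ * χ.1 1 := by
  obtain ⟨O, _, _, _, _, _, _, _, hπ⟩ := exists_modSys p
  simpa [MonoidAlgebra.one_def] using
    hV.induction hπ Q h0 hadd hedge (IsIdempotentElem.one (M := MonoidAlgebra O G))

end H18
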