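import Mathlib
import Cfsg.Agent.H18.Blk
import Cfsg.Agent.H18.Tree
import Cfsg.Agent.H18.Elem
import Cfsg.Agent.H17.Princ
import Cfsg.Agent.H4.Exceptional

/-! Principal blocks of defect one, part A: the local set-up. -/

set_option autoImplicit false
set_option linter.unusedSectionVars false

open Cfsg H4 H17 Subgroup
open scoped ComplexConjugate

namespace H18

variable {G : Type*} [Group G] {p : ℕ} [hp : Fact p.Prime]

/-- `x` generates a Sylow `p`-subgroup of order `p`. -/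
structure D1 (p : ℕ) (x : G) : Prop where
  ord : orderOf x = p
  nd : ¬ p ^ 2 ∣ Nat.card G

/-- Powers with exponents modulo `p`. -/
def xp (x : G) (i : ZMod p) : G := x ^ i.val

@[simp] theorem xp_zero (x : G) : xp x (0 : ZMod p) = 1 := by simp [xp]

@[simp] theorem xp_one (x : G) : xp x (1 : ZMod p) = x := by simp [xp, ZMod.val_one]

theorem xp_natCast {x : G} (hx : orderOf x = p) (n : ℕ) : xp x (n : ZMod p) = x ^ n := by
  rw [xp, ZMod.val_natCast, ← hx, pow_mod_orderOf]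

theorem xp_add {x : G} (hx : orderOf x = p) (i j : ZMod p) : xp x (i + j) = xp x i * xp x j := by
  rw [xp, xp, xp, ← pow_add, ← xp_natCast hx (i.val + j.val)]; simp [xp]

theorem xp_mul {x : G} (hx : orderOf x = p) (i j : ZMod p) : xp x (i * j) = xp (xp x i) j := by
  rw [xp, xp, xp, ← pow_mul, ← xp_natCast hx (i.val * j.val)]; simp [xp]

theorem xp_neg {x : G} (hx : orderOf x = p) (i : ZMod p) : xp x (-i) = (xp x i)⁻¹ := by
  rw [eq_inv_iff_mul_eq_one, ← xp_add hx, neg_add_cancel, xp_zero]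

theorem xp_eq_one_iff {x : G} (hx : orderOf x = p) {i : ZMod p} : xp x i = 1 ↔ i = 0 := by
  refine ⟨fun h => ?_, fun h => by rw [h, xp_zero]⟩
  rw [xp, ← orderOf_dvd_iff_pow_eq_one, hx] at h
  exact (ZMod.val_eq_zero i).1 (Nat.eq_zero_of_dvd_of_lt h (ZMod.val_lt i))

theorem xp_injective {x : G} (hx : orderOf x = p) : Function.Injective (xp x : ZMod p → G) := by
  intro i j h
  rw [← sub_eq_zero, ← xp_eq_one_iff hx, sub_eq_add_neg, xp_add hx, xp_neg hx, h, mul_inv_cancel]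

theorem xp_mem (x : G) (i : ZMod p) : xp x i ∈ zpowers x := pow_mem (mem_zpowers x) _

theorem exists_xp_of_mem {x : G} (hx : orderOf x = p) {y : G} (hy : y ∈ zpowers x) :
    ∃ i : ZMod p, xp x i = y := by
  have : IsOfFinOrder x := orderOf_pos_iff.1 (hx ▸ hp.out.pos)
  obtain ⟨n, rfl⟩ := this.mem_powers_iff_mem_zpowers.2 hy
  exact ⟨n, xp_natCast hx n⟩

theorem orderOf_xp {x : G} (hx : orderOf x = p) {i : ZMod p} (hi : i ≠ 0) :
    orderOf (xp x i) = p := by
  refine orderOf_eq_prime ?_ fun h => hi ((xp_eq_one_iff hx).1 h)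
  have : x ^ p = 1 := hx ▸ pow_orderOf_eq_one x
  rw [xp, ← pow_mul, mul_comm, pow_mul, this, one_pow]

theorem commute_xp (x : G) (i : ZMod p) : Commute x (xp x i) := (Commute.refl x).pow_right _

theorem isConj_xp {x y : G} (h : IsConj x y) (i : ZMod p) : IsConj (xp x i) (xp y i) := h.pow _

/-- `xp` as a homomorphism. -/
def xpHom {x : G} (hx : orderOf x = p) : Multiplicative (ZMod p) →* G where
  toFun i := xp x i.toAdd
  map_one' := xp_zero x
  map_mul' _ _ := xp_add hx _ _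

/-- The automizer of `⟨x⟩` as a subgroup of `(ℤ/p)ˣ`. -/
def Aut {x : G} (hx : orderOf x = p) : Subgroup (ZMod p)ˣ where
  carrier := {a | IsConj x (xp x (a : ZMod p))}
  one_mem' := by simp only [Set.mem_ofPred_eq, Units.val_one, xp_one]; exact IsConj.refl x
  mul_mem' {a b} ha hb := by
    change IsConj x (xp x ((a : ZMod p) * (b : ZMod p)))
    rw [xp_mul hx]
    exact IsConj.trans hb (isConj_xp ha _)
  inv_mem' {a} ha := by
    have := isConj_xp (p := p) ha ((a⁻¹ : (ZMod p)ˣ) : ZMod p)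
    rw [← xp_mul hx, Units.mul_inv, xp_one] at this
    exact this.symm

theorem mem_Aut {x : G} (hx : orderOf x = p) {a : (ZMod p)ˣ} :
    a ∈ Aut hx ↔ IsConj x (xp x (a : ZMod p)) := Iff.rfl

theorem isConj_xp_iff {x : G} (hx : orderOf x = p) {i j : (ZMod p)ˣ} :
    IsConj (xp x (i : ZMod p)) (xp x (j : ZMod p)) ↔ i⁻¹ * j ∈ Aut hx := by
  rw [mem_Aut]
  constructor
  · intro h
    have := isConj_xp h ((i⁻¹ : (ZMod p)ˣ) : ZMod p)
    rwa [← xp_mul hx, ← xp_mul hx, Units.mul_inv, xp_one, mul_comm, ← Units.val_mul] at this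
  · intro h
    have := isConj_xp h (i : ZMod p)
    rwa [← xp_mul hx, ← Units.val_mul, mul_comm i⁻¹, inv_mul_cancel_right] at this

theorem D1.pElt {x : G} (h : D1 p x) : PElt p x := ⟨1, by rw [h.ord, pow_one]⟩

theorem D1.xp {x : G} (h : D1 p x) {i : ZMod p} (hi : i ≠ 0) : D1 p (xp x i) :=
  ⟨orderOf_xp h.ord hi, h.nd⟩

theorem D1.ne_one {x : G} (h : D1 p x) : x ≠ 1 := fun h1 => by
  have := h.ord
  rw [h1, orderOf_one] at this
  exact hp.out.one_lt.ne this

theorem D1.of_orderOf {x y : G} (h : D1 p x) (hy : orderOf y = p) : D1 p y := ⟨hy, h.nd⟩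

variable [Finite G]

theorem D1.dvd {x : G} (h : D1 p x) : p ∣ Nat.card G := h.ord ▸ orderOf_dvd_natCard x

theorem D1.fact {x : G} (h : D1 p x) : (Nat.card G).factorization p = 1 := by
  have h1 := (hp.out.dvd_iff_one_le_factorization Nat.card_pos.ne').1 h.dvd
  have h2 := (hp.out.pow_dvd_iff_le_factorization (k := 2) Nat.card_pos.ne').not.1 h.nd
  omega

theorem D1.card {x : G} (h : D1 p x) : ∃ m, Nat.card G = p * m ∧ ¬ p ∣ m := by
  obtain ⟨m, hm⟩ := h.dvd
  refine ⟨m, hm, fun ⟨k, hk⟩ => h.nd ⟨k, ?_⟩⟩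
  rw [hm, hk]; ring

theorem D1.sylIn {x : G} (h : D1 p x) : SylIn p (zpowers x) ⊤ :=
  sylIn_of_card le_top (by rw [Nat.card_zpowers, h.ord, Subgroup.card_top, h.fact, pow_one])

theorem D1.exists_sylow {x : G} (h : D1 p x) : ∃ P : Sylow p G, zpowers x = P :=
  h.sylIn.exists_sylow

theorem D1.card_sylow {x : G} (h : D1 p x) (P : Sylow p G) : Nat.card (P : Subgroup G) = p := by
  rw [P.card_eq_multiplicity, h.fact, pow_one]

theorem exists_D1 (h1 : p ∣ Nat.card G) (h2 : ¬ p ^ 2 ∣ Nat.card G) : ∃ x : G, D1 p x := by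
  obtain ⟨x, hx⟩ := exists_prime_orderOf_dvd_card' p h1
  exact ⟨x, hx, h2⟩

theorem D1.exists_isConj_of_pElt {x : G} (h : D1 p x) {u : G} (hu : PElt p u) (h1 : u ≠ 1) :
    ∃ i : (ZMod p)ˣ, IsConj u (H18.xp x (i : ZMod p)) := by
  obtain ⟨k, -, hk⟩ := h.sylIn.exists_cj_le hu.isPGroup_zpowers le_top
  obtain ⟨i, hi⟩ := exists_xp_of_mem h.ord (hk (conj_mem_cj.2 (mem_zpowers u)))
  have hi0 : i ≠ 0 := by
    rintro rfl
    rw [xp_zero, eq_comm, mul_inv_eq_one, mul_eq_left] at hi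
    exact h1 hi
  exact ⟨Units.mk0 i hi0, isConj_iff.2 ⟨k, hi.symm⟩⟩

theorem D1.exists_isConj_pp {x : G} (h : D1 p x) {g : G} (hg : p ∣ orderOf g) :
    ∃ i : (ZMod p)ˣ, IsConj (pp p g) (H18.xp x (i : ZMod p)) :=
  h.exists_isConj_of_pElt (pElt_pp g) fun h1 => pp_eq_one_iff.1 h1 hg

theorem D1.orderOf_of_pElt {x : G} (h : D1 p x) {u : G} (hu : PElt p u) (h1 : u ≠ 1) :
    orderOf u = p := by
  obtain ⟨i, hi⟩ := h.exists_isConj_of_pElt hu h1
  rw [orderOf_eq_of_isConj hi, orderOf_xp h.ord i.ne_zero]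

theorem D1.pp {x : G} (h : D1 p x) {g : G} (hg : p ∣ orderOf g) : D1 p (pp p g) :=
  h.of_orderOf (h.orderOf_of_pElt (pElt_pp g) fun h1 => pp_eq_one_iff.1 h1 hg)

theorem D1.selfC {x : G} (h : D1 p x) : D1 p (selfC x) :=
  ⟨by rw [← orderOf_coe]; exact h.ord, fun hd => h.nd (hd.trans (card_subgroup_dvd_card _))⟩

/-- A central Sylow subgroup of order `p` has a normal complement. -/
theorem D1.exists_complement {z : G} (h : D1 p z) (hz : ∀ g, Commute z g) :
    ∃ N : Subgroup G, N.Normal ∧ ¬ p ∣ Nat.card N ∧ (∀ g : G, ¬ p ∣ orderOf g → g ∈ N) ∧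
      N.index = p := by
  obtain ⟨P, hP⟩ := h.exists_sylow
  have hc : normalizer (P : Set G) ≤ centralizer (P : Set G) := by
    intro g _
    rw [mem_centralizer_iff]
    intro y hy
    have hy' : y ∈ zpowers z := hP ▸ hy
    obtain ⟨n, rfl⟩ := hy'
    exact (hz g).zpow_left n
  refine ⟨(MonoidHom.transferSylow P hc).ker, inferInstance,
    MonoidHom.not_dvd_card_ker_transferSylow P hc, fun g hg => ?_, ?_⟩
  · rw [MonoidHom.mem_ker]
    refine eq_one_of_PElt_of_reg (p := p) ?_ (reg_map hg _)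
    exact PElt.iff_pow.2 (P.2 _)
  · rw [(MonoidHom.ker_transferSylow_isComplement' P hc).symm.index_eq_card, h.card_sylow]

theorem D1.centralizer_xp {x : G} (h : D1 p x) {i : ZMod p} (hi : i ≠ 0) :
    centralizer ({H18.xp x i} : Set G) = centralizer {x} := by
  rw [← centralizer_zpowers, ← centralizer_zpowers x,
    zpowers_eq_of_mem (p := p) (by rw [Nat.card_zpowers, h.ord]) (xp_mem x i)
      fun h1 => hi ((xp_eq_one_iff h.ord).1 h1)]

theorem D1.card_normalizer {x : G} (h : D1 p x) :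
    Nat.card (normalizer (zpowers x : Set G)) =
      Nat.card (centralizer ({x} : Set G)) * Nat.card (Aut h.ord) := by
  have h1 := card_conj_mem (zpowers x : Set G) x
  have h2 : Nat.card {g : G // g⁻¹ * x * g ∈ (zpowers x : Set G)} =
      Nat.card (normalizer (zpowers x : Set G)) := by
    refine Nat.card_congr (Equiv.subtypeEquivRight fun g => ?_)
    constructor
    · intro hg
      rw [← inv_mem_iff]
      refine mem_normalizer_of_cj_eq (eq_of_le_of_card_ge ?_ (card_cj _ _).ge)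
      rw [cj, MonoidHom.map_zpowers, zpowers_le]
      simpa using hg
    · intro hg
      have := (mem_normalizer_iff.1 (inv_mem hg) x).1 (mem_zpowers x)
      simpa using this
  have h3 : Nat.card {g : G // IsConj x g ∧ g ∈ (zpowers x : Set G)} = Nat.card (Aut h.ord) := by
    symm
    refine Nat.card_congr (Equiv.ofBijective (fun a => ⟨H18.xp x (a.1 : ZMod p), a.2, xp_mem _ _⟩)
      ⟨fun a b hab => ?_, fun g => ?_⟩)
    · exact Subtype.ext (Units.ext (xp_injective h.ord (congrArg Subtype.val hab)))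
    · obtain ⟨i, hi⟩ := exists_xp_of_mem h.ord g.2.2
      have hi0 : i ≠ 0 := by
        rintro rfl
        have := g.2.1
        rw [← hi, xp_zero, isConj_one_left] at this
        exact h.ne_one this
      exact ⟨⟨Units.mk0 i hi0, by rw [mem_Aut]; simpa [hi] using g.2.1⟩, Subtype.ext hi⟩
  rw [← h2, h1, h3]

theorem D1.relIndex {x : G} (h : D1 p x) :
    (centralizer (zpowers x : Set G)).relIndex (normalizer (zpowers x : Set G)) =
      Nat.card (Aut h.ord) := by
  have h1 := h.card_normalizer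
  have h2 := ((centralizer (zpowers x : Set G)).subgroupOf
    (normalizer (zpowers x : Set G))).card_mul_index
  rw [Nat.card_congr (subgroupOfEquivOfLe (centralizer_le_normalizer _)).toEquiv, h1,
    centralizer_zpowers] at h2
  rw [centralizer_zpowers]
  exact Nat.eq_of_mul_eq_mul_left Nat.card_pos h2

theorem D1.index_centralizer {x : G} (h : D1 p x) :
    (centralizer ({x} : Set G)).index = Nat.card (Aut h.ord) * Nat.card (Sylow p G) := by
  obtain ⟨P, hP⟩ := h.exists_sylow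
  have h1 := card_sylow_mul_card_normalizer P
  rw [← hP, h.card_normalizer, ← (centralizer ({x} : Set G)).card_mul_index] at h1
  apply Nat.eq_of_mul_eq_mul_left (Nat.card_pos (α := centralizer ({x} : Set G)))
  rw [← h1]; ring

theorem card_Aut_mul_index {x : G} (hx : orderOf x = p) :
    Nat.card (Aut hx) * (Aut hx).index = p - 1 := by
  rw [card_mul_index, Nat.card_eq_fintype_card, ZMod.card_units]

/-- The principal `p`-block. -/
def B0 (p : ℕ) (G : Type*) [Group G] : Set (Irr G) :=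
  {χ | ∀ M : Ideal AlgInt, PM p M → SB M (irrOne G) χ}

theorem B0_eq (M : Ideal AlgInt) [PM p M] : B0 p G = principalBlock M G := by
  ext χ
  rw [principalBlock_eq, mem_blockOf]
  exact ⟨fun h => h M inferInstance, fun h M' _ => h.change M'⟩

theorem one_mem_B0 : irrOne G ∈ B0 p G := fun _ _ => SB.refl _

theorem ind_B0_mem (M : Ideal AlgInt) [PM p M] : ind (B0 p G) ∈ ZS G M := by
  rw [B0_eq M, principalBlock_eq]; exact fb_mem_ZS _

theorem not_dvd_deg_of_mem_B0 {x : G} (h : D1 p x) {χ : Irr G} (hχ : χ ∈ B0 p G) :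
    ¬ p ∣ deg χ := by
  intro hd
  obtain ⟨M, hM⟩ := exists_PM hp.out
  have h1 : blockOf M χ.1 = {χ} := blockOf_eq_singleton (p := p) (by
    rw [h.fact]; exact (hp.out.dvd_iff_one_le_factorization (deg_ne_zero χ)).1 hd)
  have h2 : irrOne G ∈ blockOf M χ.1 := mem_blockOf.2 (hχ M hM).symm
  rw [h1, Set.mem_singleton_iff] at h2
  subst h2
  have : deg (irrOne G) = 1 := by
    have := deg_eq (irrOne G)
    rw [irrOne_apply] at this
    exact_mod_cast this
  rw [this] at hd
  exact hp.out.one_lt.ne' (Nat.dvd_one.1 hd)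

theorem D1.sum_B0_mul {z : G} (h : D1 p z) {y y' : G} (hy : ¬ p ∣ orderOf y) (hy' : ¬ p ∣ orderOf y')
    (hc : Commute z y) (hc' : Commute z y') :
    ∑ χ : Irr G, ind (B0 p G) χ * (χ.1 (z * y) * conj (χ.1 (z * y'))) = p := by
  obtain ⟨M, hM⟩ := exists_PM hp.out
  obtain ⟨N, hN, h1, h2, h3⟩ := h.selfC.exists_complement (commute_self_centralizer z)
  have hy1 : ¬ p ∣ orderOf (⟨y, H17.mem_centralizer_singleton.2 hc.symm⟩ :
      centralizer ({z} : Set G)) := by rwa [← orderOf_coe]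
  have hy2 : ¬ p ∣ orderOf (⟨y', H17.mem_centralizer_singleton.2 hc'.symm⟩ :
      centralizer ({z} : Set G)) := by rwa [← orderOf_coe]
  have := principal_sum (M := M) h.pElt hy1 hy2
  rw [principal_sum_npc h1 h2 (h2 _ hy1) (h2 _ hy2), h3, ← B0_eq M] at this
  exact this

theorem D1.apply_mul {z : G} (h : D1 p z) {y : G} (hy : ¬ p ∣ orderOf y) (hc : Commute z y)
    {χ : Irr G} (hχ : χ ∈ B0 p G) : χ.1 (z * y) = χ.1 z := by
  have h1 := h.sum_B0_mul hy hy hc hc
  have h2 := h.sum_B0_mul hy reg_one hc (Commute.one_right z)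
  have h3 := h.sum_B0_mul reg_one hy (Commute.one_right z) hc
  have h4 := h.sum_B0_mul reg_one reg_one (Commute.one_right z) (Commute.one_right z)
  rw [mul_one] at h2 h3 h4
  have h5 : ∑ ξ : Irr G, ind (B0 p G) ξ * ((ξ.1 (z * y) - ξ.1 z) * conj (ξ.1 (z * y) - ξ.1 z))
      = 0 := by
    have h0 : ∀ ξ : Irr G, ind (B0 p G) ξ * ((ξ.1 (z * y) - ξ.1 z) * conj (ξ.1 (z * y) - ξ.1 z)) =
        ind (B0 p G) ξ * (ξ.1 (z * y) * conj (ξ.1 (z * y))) -
          ind (B0 p G) ξ * (ξ.1 (z * y) * conj (ξ.1 z)) -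
          ind (B0 p G) ξ * (ξ.1 z * conj (ξ.1 (z * y))) + ind (B0 p G) ξ * (ξ.1 z * conj (ξ.1 z)) :=
      fun ξ => by rw [map_sub]; ring
    simp only [h0, Finset.sum_sub_distrib, Finset.sum_add_distrib, h1, h2, h3, h4]
    ring
  classical
  have h6 : ∑ ξ : Irr G, (if ξ ∈ B0 p G then Complex.normSq (ξ.1 (z * y) - ξ.1 z) else 0) = 0 := by
    apply Complex.ofReal_injective
    rw [Complex.ofReal_zero, ← h5, Complex.ofReal_sum]
    refine Finset.sum_congr rfl fun ξ _ => ?_
    rw [ind_apply, Complex.mul_conj]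
    split_ifs <;> simp
  have h7 := (Finset.sum_eq_zero_iff_of_nonneg fun ξ _ => by
    split_ifs
    · exact Complex.normSq_nonneg _
    · exact le_rfl).1 h6 χ (Finset.mem_univ _)
  rw [if_pos hχ, Complex.normSq_eq_zero, sub_eq_zero] at h7
  exact h7

theorem D1.apply_pp {x : G} (h : D1 p x) {g : G} (hg : p ∣ orderOf g) {χ : Irr G}
    (hχ : χ ∈ B0 p G) : χ.1 g = χ.1 (H17.pp p g) := by
  conv_lhs => rw [← pp_mul_pr (p := p) g]
  exact (h.pp hg).apply_mul (reg_pr g) (commute_pp_pr g) hχ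

theorem D1.apply_of_isConj {x : G} (h : D1 p x) {g : G} {i : (ZMod p)ˣ}
    (hi : IsConj (H17.pp p g) (H18.xp x (i : ZMod p))) {χ : Irr G} (hχ : χ ∈ B0 p G) :
    χ.1 g = χ.1 (H18.xp x (i : ZMod p)) := by
  have hg : p ∣ orderOf g := by
    by_contra hg
    rw [pp_of_reg hg, isConj_one_right, xp_eq_one_iff h.ord] at hi
    exact i.ne_zero hi
  rw [h.apply_pp hg hχ, χ.2.classFun.apply_of_isConj hi]

open Classical in
theorem D1.sum_B0_xp {x : G} (h : D1 p x) (i j : (ZMod p)ˣ) :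
    ∑ χ : Irr G, ind (B0 p G) χ * (χ.1 (H18.xp x (i : ZMod p)) * conj (χ.1 (H18.xp x (j : ZMod p))))
      = if i⁻¹ * j ∈ Aut h.ord then (p : ℂ) else 0 := by
  split_ifs with hc
  · have h1 := (h.xp i.ne_zero).sum_B0_mul reg_one reg_one (Commute.one_right _)
      (Commute.one_right _)
    rw [mul_one] at h1
    rw [← h1]
    refine Finset.sum_congr rfl fun χ _ => ?_
    rw [χ.2.classFun.apply_of_isConj ((isConj_xp_iff h.ord).2 hc)]
  · obtain ⟨M, hM⟩ := exists_PM hp.out
    refine block_orth (ind_B0_mem M) ?_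
    rw [pp_of_pElt (h.xp i.ne_zero).pElt, pp_of_pElt (h.xp j.ne_zero).pElt, isConj_xp_iff h.ord]
    exact hc

theorem sum_B0_reg {g u : G} (hg : ¬ p ∣ orderOf g) (hu : p ∣ orderOf u) :
    ∑ χ : Irr G, ind (B0 p G) χ * (χ.1 g * conj (χ.1 u)) = 0 := by
  obtain ⟨M, hM⟩ := exists_PM hp.out
  exact weak_block_orth (ind_B0_mem M) hg hu

end H18
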