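import Mathlib
import Cfsg.Agent.H18.D1a

/-! Principal blocks of defect one, part B: multiplicities of eigenvalues and the Gram matrix. -/

set_option autoImplicit false
set_option linter.unusedSectionVars false

open Cfsg H4 H17 Subgroup
open scoped ComplexConjugate

namespace H18

section Psi

variable {p : ℕ} [hp : Fact p.Prime]

/-- The standard additive character of `ℤ/p`. -/
noncomputable abbrev psi (i : ZMod p) : ℂ := ZMod.stdAddChar i

theorem psi_add (i j : ZMod p) : psi (i + j) = psi i * psi j := AddChar.map_add_eq_mul _ _ _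

@[simp] theorem psi_zero : psi (0 : ZMod p) = 1 := AddChar.map_zero_eq_one _

theorem conj_psi (i : ZMod p) : conj (psi i) = psi (-i) := by
  rw [psi, psi, ZMod.stdAddChar_apply, ZMod.stdAddChar_apply, AddChar.map_neg_eq_inv,
    Circle.coe_inv_eq_conj]

theorem psi_pow (i : ZMod p) : psi i ^ p = 1 := by
  rw [psi, ← AddChar.map_nsmul_eq_pow]; simp

theorem isIntegral_psi (i : ZMod p) : IsIntegral ℤ (psi i) :=
  IsIntegral.of_pow hp.out.pos (by rw [psi_pow]; exact isIntegral_one)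

theorem sum_psi (b : ZMod p) : ∑ i, psi (i * b) = if b = 0 then (p : ℂ) else 0 := by
  have := AddChar.sum_mulShift b (ZMod.isPrimitive_stdAddChar p)
  rw [ZMod.card] at this
  rw [this]; split_ifs <;> simp

theorem sum_eq_add_sum_units {M : Type*} [AddCommMonoid M] (f : ZMod p → M) :
    ∑ i, f i = f 0 + ∑ u : (ZMod p)ˣ, f u := by
  rw [Fintype.sum_eq_add_sum_subtype_ne f 0]
  congr 1
  exact (Equiv.sum_comp unitsEquivNeZero fun a : {a : ZMod p // a ≠ 0} => f a).symm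

theorem sum_units_psi {b : ZMod p} (hb : b ≠ 0) : ∑ u : (ZMod p)ˣ, psi ((u : ZMod p) * b) = -1 := by
  have := sum_psi b
  rw [if_neg hb, sum_eq_add_sum_units fun i => psi (i * b), zero_mul, psi_zero] at this
  linear_combination this

theorem sum_units_psi' {b : ZMod p} (hb : b ≠ 0) : ∑ u : (ZMod p)ˣ, psi (b * (u : ZMod p)) = -1 := by
  simpa only [mul_comm] using sum_units_psi hb

theorem p_ne_zero' : (p : ℂ) ≠ 0 := Nat.cast_ne_zero.2 hp.out.ne_zero

theorem sum_units_key (b c : (ZMod p)ˣ) :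
    ∑ i : (ZMod p)ˣ, (psi (-((i : ZMod p) * (b : ZMod p))) - 1) * (psi ((i : ZMod p) * (c : ZMod p)) - 1) =
      p + if b = c then (p : ℂ) else 0 := by
  have h1 := sum_eq_add_sum_units fun i : ZMod p =>
    (psi (-(i * (b : ZMod p))) - 1) * (psi (i * (c : ZMod p)) - 1)
  simp only [zero_mul, psi_zero, sub_self, mul_zero, zero_add] at h1
  rw [← h1]
  have h2 : ∀ i : ZMod p, (psi (-(i * (b : ZMod p))) - 1) * (psi (i * (c : ZMod p)) - 1) =
      psi (i * ((c : ZMod p) - (b : ZMod p))) - psi (i * (-(b : ZMod p))) - psi (i * (c : ZMod p)) + 1 := by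
    intro i
    rw [mul_sub i, sub_eq_add_neg (i * (c : ZMod p)), psi_add, mul_neg]; ring
  simp only [h2, Finset.sum_add_distrib, Finset.sum_sub_distrib, sum_psi, neg_eq_zero,
    Units.ne_zero, if_false, Finset.sum_const, Finset.card_univ, ZMod.card, nsmul_eq_mul, mul_one,
    sub_eq_zero, Units.val_inj, sub_zero, eq_comm (a := c)]
  ring

/-- `psi` as a linear character of `ℤ/p`. -/
noncomputable def psiHom (j : ZMod p) : Multiplicative (ZMod p) →* ℂ where
  toFun i := psi (i.toAdd * j)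
  map_one' := by simp
  map_mul' i k := by simp [add_mul, psi_add]

end Psi

variable {G : Type*} [Group G] {p : ℕ} [hp : Fact p.Prime]

/-- Multiplicity of the eigenvalue `psi j` of `x`. -/
noncomputable def mult (x : G) (θ : G → ℂ) (j : ZMod p) : ℕ :=
  ⌊((p : ℂ)⁻¹ * ∑ i, θ (xp x i) * psi (-(i * j))).re⌋₊

theorem mult_eq {x : G} (hx : orderOf x = p) {θ : G → ℂ} (hθ : IsCharacter G θ) (j : ZMod p) :
    (mult x θ j : ℂ) = (p : ℂ)⁻¹ * ∑ i, θ (xp x i) * psi (-(i * j)) := by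
  obtain ⟨n, hn⟩ := (hθ.comp (xpHom hx)).inner_nat (isIrrCharacter_monoidHom (psiHom j)).isCharacter
  have h1 : (p : ℂ)⁻¹ * ∑ i, θ (xp x i) * psi (-(i * j)) = n := by
    rw [← hn, classInner_def]
    congr 1
    · simp
    · refine Fintype.sum_equiv Multiplicative.ofAdd _ _ fun i => ?_
      rw [← conj_psi]; rfl
  rw [mult, h1]; simp

theorem apply_xp_eq_sum_mult {x : G} (hx : orderOf x = p) {θ : G → ℂ} (hθ : IsCharacter G θ)
    (i : ZMod p) : θ (xp x i) = ∑ j, (mult x θ j : ℂ) * psi (i * j) := by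
  simp only [mult_eq hx hθ, Finset.mul_sum, Finset.sum_mul]
  rw [Finset.sum_comm]
  have : ∀ k : ZMod p, ∑ j : ZMod p, (p : ℂ)⁻¹ * (θ (xp x k) * psi (-(k * j))) * psi (i * j) =
      if k = i then θ (xp x i) else 0 := by
    intro k
    have h1 : ∀ j : ZMod p, (p : ℂ)⁻¹ * (θ (xp x k) * psi (-(k * j))) * psi (i * j) =
        (p : ℂ)⁻¹ * θ (xp x k) * psi (j * (i - k)) := fun j => by
      rw [mul_sub, sub_eq_add_neg, psi_add, mul_comm j i, mul_comm j k]; ring
    simp only [h1, ← Finset.mul_sum, sum_psi, sub_eq_zero, eq_comm (a := i)]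
    split_ifs with h
    · rw [h]; field_simp [p_ne_zero' (p := p)]
    · simp
  simp [this]

/-- Reduced multiplicities. -/
noncomputable def wt (x : G) (χ : Irr G) (j : (ZMod p)ˣ) : ℤ :=
  (mult x χ.1 (j : ZMod p) : ℤ) - mult x χ.1 (0 : ZMod p)

theorem wt_eq {x : G} (hx : orderOf x = p) (χ : Irr G) (j : (ZMod p)ˣ) :
    (wt x χ j : ℂ) = (p : ℂ)⁻¹ * ∑ i : (ZMod p)ˣ,
      χ.1 (xp x (i : ZMod p)) * (psi (-((i : ZMod p) * (j : ZMod p))) - 1) := by
  have h1 := sum_eq_add_sum_units fun i : ZMod p => χ.1 (xp x i) * (psi (-(i * (j : ZMod p))) - 1)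
  simp only [zero_mul, neg_zero, psi_zero, sub_self, mul_zero, zero_add] at h1
  rw [← h1, wt]
  push_cast
  rw [mult_eq hx χ.2.isCharacter, mult_eq hx χ.2.isCharacter, ← mul_sub, ← Finset.sum_sub_distrib]
  congr 1
  exact Finset.sum_congr rfl fun i _ => by simp [mul_sub]

theorem apply_xp_eq_sum_wt {x : G} (hx : orderOf x = p) (χ : Irr G) {i : ZMod p} (hi : i ≠ 0) :
    χ.1 (xp x i) = ∑ j : (ZMod p)ˣ, (wt x χ j : ℂ) * psi (i * (j : ZMod p)) := by
  rw [apply_xp_eq_sum_mult hx χ.2.isCharacter,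
    sum_eq_add_sum_units fun j => (mult x χ.1 j : ℂ) * psi (i * j)]
  simp only [wt, Int.cast_sub, Int.cast_natCast, sub_mul, Finset.sum_sub_distrib, ← Finset.mul_sum,
    sum_units_psi' hi, mul_zero, psi_zero]
  ring

theorem deg_eq_sum_wt {x : G} (hx : orderOf x = p) (χ : Irr G) :
    (deg χ : ℤ) = p * mult x χ.1 (0 : ZMod p) + ∑ j : (ZMod p)ˣ, wt x χ j := by
  have h1 := apply_xp_eq_sum_mult hx χ.2.isCharacter 0
  rw [xp_zero, ← deg_eq, sum_eq_add_sum_units fun j => (mult x χ.1 j : ℂ) * psi (0 * j)] at h1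
  simp only [zero_mul, psi_zero, mul_one] at h1
  have h2 : deg χ = mult x χ.1 (0 : ZMod p) + ∑ j : (ZMod p)ˣ, mult x χ.1 (j : ZMod p) := by
    exact_mod_cast h1
  have h3 : ((p - 1 : ℕ) : ℤ) = p - 1 := by
    have := hp.out.pos
    omega
  simp only [wt, Finset.sum_sub_distrib, Finset.sum_const, Finset.card_univ, ZMod.card_units,
    nsmul_eq_mul, h3, h2]
  push_cast
  ring

theorem neg_wt_le (x : G) (χ : Irr G) (j : (ZMod p)ˣ) :
    -wt x χ j ≤ mult x χ.1 (0 : ZMod p) := by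
  rw [wt]; omega

theorem wt_mul {x : G} (hx : orderOf x = p) (χ : Irr G) {a : (ZMod p)ˣ} (ha : a ∈ Aut hx)
    (j : (ZMod p)ˣ) : wt x χ (j * a) = wt x χ j := by
  apply Int.cast_injective (α := ℂ)
  rw [wt_eq hx, wt_eq hx]
  congr 1
  refine Fintype.sum_equiv (Equiv.mulRight a) _ _ fun i => ?_
  have : IsConj (xp x (i : ZMod p)) (xp x ((i * a : (ZMod p)ˣ) : ZMod p)) :=
    (isConj_xp_iff hx).2 (by simpa using ha)
  rw [χ.2.classFun.apply_of_isConj this]
  simp only [Equiv.coe_mulRight, Units.val_mul]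
  ring_nf

theorem wt_congr {x : G} (hx : orderOf x = p) (χ : Irr G) {j l : (ZMod p)ˣ}
    (h : j⁻¹ * l ∈ Aut hx) : wt x χ l = wt x χ j := by
  rw [← wt_mul hx χ h j, mul_inv_cancel_left]

theorem wt_one {x : G} (hx : orderOf x = p) (j : (ZMod p)ˣ) : wt x (irrOne G) j = -1 := by
  apply Int.cast_injective (α := ℂ)
  rw [wt_eq hx]
  simp only [irrOne_apply, one_mul, Finset.sum_sub_distrib, ← mul_neg,
    sum_units_psi (neg_ne_zero.2 j.ne_zero), Finset.sum_const, Finset.card_univ, ZMod.card_units,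
    nsmul_eq_mul, mul_one, Nat.cast_pred hp.out.pos]
  field_simp [p_ne_zero' (p := p)]
  push_cast; ring

variable [Finite G]

open Classical in
theorem D1.gram {x : G} (h : D1 p x) (j l : (ZMod p)ˣ) :
    ∑ χ : Irr G, ind (B0 p G) χ * ((wt x χ j : ℂ) * wt x χ l) =
      Nat.card (Aut h.ord) + if j⁻¹ * l ∈ Aut h.ord then 1 else 0 := by
  have h1 : ∀ χ : Irr G, (wt x χ l : ℂ) = (p : ℂ)⁻¹ * ∑ k : (ZMod p)ˣ,
      conj (χ.1 (H18.xp x (k : ZMod p))) * (psi ((k : ZMod p) * (l : ZMod p)) - 1) := fun χ => by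
    rw [← map_intCast (starRingEnd ℂ), wt_eq h.ord]
    simp [conj_psi]
  have h2 : ∀ χ : Irr G, ind (B0 p G) χ * ((wt x χ j : ℂ) * wt x χ l) =
      ∑ i : (ZMod p)ˣ, ∑ k : (ZMod p)ˣ, (p : ℂ)⁻¹ * (p : ℂ)⁻¹ *
        ((psi (-((i : ZMod p) * (j : ZMod p))) - 1) * (psi ((k : ZMod p) * (l : ZMod p)) - 1)) *
        (ind (B0 p G) χ * (χ.1 (H18.xp x (i : ZMod p)) * conj (χ.1 (H18.xp x (k : ZMod p))))) := by
    intro χ
    rw [h1, wt_eq h.ord, mul_mul_mul_comm, Finset.sum_mul_sum]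
    simp only [Finset.mul_sum]
    exact Finset.sum_congr rfl fun _ _ => Finset.sum_congr rfl fun _ _ => by ring
  simp only [h2]
  rw [Finset.sum_comm]
  have h3 : ∀ i : (ZMod p)ˣ, ∑ χ : Irr G, ∑ k : (ZMod p)ˣ, (p : ℂ)⁻¹ * (p : ℂ)⁻¹ *
        ((psi (-((i : ZMod p) * (j : ZMod p))) - 1) * (psi ((k : ZMod p) * (l : ZMod p)) - 1)) *
        (ind (B0 p G) χ * (χ.1 (H18.xp x (i : ZMod p)) * conj (χ.1 (H18.xp x (k : ZMod p))))) =
      ∑ a : (ZMod p)ˣ, (if a ∈ Aut h.ord then (p : ℂ)⁻¹ else 0) *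
        ((psi (-((i : ZMod p) * (j : ZMod p))) - 1) * (psi ((i : ZMod p) * ((a * l : (ZMod p)ˣ) : ZMod p)) - 1)) := by
    intro i
    rw [Finset.sum_comm]
    simp only [← Finset.mul_sum, h.sum_B0_xp]
    refine (Fintype.sum_equiv (Equiv.mulLeft i) _ _ fun a => ?_).symm
    simp only [Equiv.coe_mulLeft, inv_mul_cancel_left, Units.val_mul, mul_assoc]
    split_ifs
    · field_simp [p_ne_zero' (p := p)]
    · simp
  simp only [h3]
  rw [Finset.sum_comm]
  simp only [← Finset.mul_sum, sum_units_key]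
  have h4 : ∀ a : (ZMod p)ˣ, (if a ∈ Aut h.ord then (p : ℂ)⁻¹ else 0) *
      (p + if j = a * l then (p : ℂ) else 0) = (if a ∈ Aut h.ord then 1 else 0) +
        if a = j * l⁻¹ then (if j⁻¹ * l ∈ Aut h.ord then 1 else 0) else 0 := by
    intro a
    have h5 : j = a * l ↔ a = j * l⁻¹ := by rw [eq_mul_inv_iff_mul_eq, eq_comm]
    by_cases h6 : a = j * l⁻¹
    · have h7 : j⁻¹ * l ∈ Aut h.ord ↔ a ∈ Aut h.ord := by
        rw [h6, ← inv_mem_iff]; simp [mul_comm]
      simp only [h5, h7, if_pos h6]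
      split_ifs
      · field_simp [p_ne_zero' (p := p)]
      · simp
    · simp only [h5, if_neg h6]
      split_ifs
      · field_simp [p_ne_zero' (p := p)]; simp
      · simp
  simp only [h4, Finset.sum_add_distrib, Finset.sum_ite_eq', Finset.mem_univ, if_true,
    Finset.sum_boole]
  congr 2
  rw [Nat.card_eq_fintype_card, Fintype.card_subtype]

open Classical in
variable (p G) in
/-- The principal block as a finite set. -/
noncomputable def Bf : Finset (Irr G) := Finset.univ.filter (· ∈ B0 p G)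

theorem mem_Bf {χ : Irr G} : χ ∈ Bf G p ↔ χ ∈ B0 p G := by simp [Bf]

theorem sum_ind_B0 (f : Irr G → ℂ) : ∑ χ, ind (B0 p G) χ * f χ = ∑ χ ∈ Bf G p, f χ := by
  classical
  rw [Bf, Finset.sum_filter]
  refine Finset.sum_congr rfl fun χ _ => ?_
  rw [ind_apply]; split_ifs <;> simp

open Classical in
theorem D1.gram' {x : G} (h : D1 p x) (j l : (ZMod p)ˣ) :
    ∑ χ ∈ Bf G p, wt x χ j * wt x χ l =
      Nat.card (Aut h.ord) + if j⁻¹ * l ∈ Aut h.ord then 1 else 0 := by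
  apply Int.cast_injective (α := ℂ)
  have := h.gram j l
  rw [sum_ind_B0] at this
  push_cast
  exact this

theorem D1.sum_wt_reg {x : G} (h : D1 p x) (j : (ZMod p)ˣ) {g : G} (hg : ¬ p ∣ orderOf g) :
    ∑ χ ∈ Bf G p, (wt x χ j : ℂ) * χ.1 g = 0 := by
  have h1 : ∀ χ : Irr G, (wt x χ j : ℂ) = (p : ℂ)⁻¹ * ∑ k : (ZMod p)ˣ,
      conj (χ.1 (H18.xp x (k : ZMod p))) * (psi ((k : ZMod p) * (j : ZMod p)) - 1) := fun χ => by
    rw [← map_intCast (starRingEnd ℂ), wt_eq h.ord]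
    simp [conj_psi]
  have h2 : ∀ χ : Irr G, (wt x χ j : ℂ) * χ.1 g = ∑ k : (ZMod p)ˣ,
      (p : ℂ)⁻¹ * (psi ((k : ZMod p) * (j : ZMod p)) - 1) * (χ.1 g * conj (χ.1 (H18.xp x (k : ZMod p)))) := by
    intro χ
    rw [h1, Finset.mul_sum, Finset.sum_mul]
    exact Finset.sum_congr rfl fun _ _ => by ring
  simp only [h2]
  rw [Finset.sum_comm]
  refine Finset.sum_eq_zero fun k _ => ?_
  rw [← Finset.mul_sum, ← sum_ind_B0, sum_B0_reg hg (by rw [orderOf_xp h.ord k.ne_zero]), mul_zero]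

theorem D1.exists_wt_ne_zero {x : G} (h : D1 p x) {χ : Irr G} (hχ : χ ∈ B0 p G) :
    ∃ j : (ZMod p)ˣ, wt x χ j ≠ 0 := by
  by_contra hc
  push Not at hc
  apply not_dvd_deg_of_mem_B0 h hχ
  have := deg_eq_sum_wt h.ord χ
  simp only [hc, Finset.sum_const_zero, add_zero] at this
  exact ⟨_, by exact_mod_cast this⟩

theorem classInner_comb [Fintype G] (c d : Irr G → ℂ) :
    classInner (∑ χ : Irr G, c χ • χ.1) (∑ χ : Irr G, d χ • χ.1) = ∑ χ, c χ * conj (d χ) := by
  rw [(isClassFunction_sum_smul_irr c).inner_eq_sum]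
  simp only [classInner_sum_smul_irr]

end H18
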