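import Mathlib
import Cfsg.Agent.H18.D1b

/-! Principal blocks of defect one, part C: Brauer's structure theorem. -/

set_option autoImplicit false
set_option linter.unusedSectionVars false

open Cfsg H4 H17 Subgroup
open scoped ComplexConjugate

namespace H18

variable {G : Type*} [Group G] [Finite G] {p : ℕ} [hp : Fact p.Prime]

/-- The set of exceptional characters, first version. -/
structure ExcSet {x : G} (h : D1 p x) (X : Finset (Irr G)) (A : ℤ) : Prop where
  card : X.card = (Aut h.ord).index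
  sub : ∀ χ ∈ X, χ ∈ B0 p G
  one : irrOne G ∉ X
  const : ∀ χ ∈ B0 p G, χ ∉ X → ∀ j : (ZMod p)ˣ, wt x χ j = wt x χ (1 : (ZMod p)ˣ)
  reg : ∀ χ ∈ X, ∀ χ' ∈ X, ∀ g, ¬ p ∣ orderOf g → χ.1 g = χ'.1 g
  sum : ∀ j : (ZMod p)ˣ, ∑ χ ∈ X, wt x χ j = -A
  sq : (Aut h.ord).index * ∑ χ ∈ X, wt x χ (1 : (ZMod p)ˣ) ^ 2 = A ^ 2 + (Aut h.ord).index - 1

theorem D1.exists_excSet_top {x : G} (h : D1 p x) (ht : Aut h.ord = ⊤) :
    ∃ X A, ExcSet h X A := by
  classical
  have hi : (Aut h.ord).index = 1 := by rw [ht, index_top]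
  have hw : ∀ χ (j : (ZMod p)ˣ), wt x χ j = wt x χ (1 : (ZMod p)ˣ) := fun χ j =>
    wt_congr h.ord χ (ht ▸ mem_top _)
  have : ∃ χ ∈ B0 p G, χ ≠ irrOne G := by
    by_contra hc
    push Not at hc
    have h1 := h.gram' 1 1
    have h2 : Bf G p = {irrOne G} := by
      ext χ
      rw [mem_Bf, Finset.mem_singleton]
      exact ⟨hc χ, fun h => h ▸ one_mem_B0⟩
    rw [h2, Finset.sum_singleton, wt_one h.ord, if_pos (by simp)] at h1
    have := Nat.card_pos (α := Aut h.ord)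
    omega
  obtain ⟨χ, hχ, h1⟩ := this
  refine ⟨{χ}, -wt x χ (1 : (ZMod p)ˣ), by simp [hi], by simpa using hχ, by simpa using h1.symm,
    fun ξ _ _ j => hw ξ j, by simp, fun j => by simp [hw χ j], by simp [hi]⟩

theorem D1.exists_excSet_ne_top {x : G} (h : D1 p x) (ht : Aut h.ord ≠ ⊤) :
    ∃ X A, ExcSet h X A := by
  classical
  have := Fintype.ofFinite G
  let ι := (ZMod p)ˣ ⧸ Aut h.ord
  have := Fintype.ofFinite ι
  let J0 : ι := ((1 : (ZMod p)ˣ) : ι)
  let W : Irr G → ι → ℤ := fun χ J => wt x χ J.out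
  have hW : ∀ χ (j : (ZMod p)ˣ), W χ (j : ι) = wt x χ j := fun χ j =>
    wt_congr h.ord χ (QuotientGroup.eq.1 (QuotientGroup.out_eq' (j : ι)).symm)
  have hG : ∀ J L : ι, ∑ χ ∈ Bf G p, W χ J * W χ L =
      Nat.card (Aut h.ord) + if J = L then 1 else 0 := fun J L => by
    rw [h.gram', ← QuotientGroup.eq, QuotientGroup.out_eq', QuotientGroup.out_eq']
    congr
  have hsum : ∀ J : ι, ∑ L : ι, (if J = L then (1 : ℤ) else 0) = 1 := fun J => by
    rw [Finset.sum_eq_single J] <;> simp +contextual [eq_comm]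
  let n : ι → Irr G → ℤ := fun J χ => if χ ∈ Bf G p then W χ J - W χ J0 else 0
  have hn : ∀ J (f : Irr G → ℂ), ∑ χ, (n J χ : ℂ) * f χ =
      ∑ χ ∈ Bf G p, (W χ J : ℂ) * f χ - ∑ χ ∈ Bf G p, (W χ J0 : ℂ) * f χ := fun J f => by
    rw [← Finset.sum_sub_distrib, ← Finset.sum_subset (Finset.subset_univ (Bf G p))
      (fun χ _ hχ => by simp [n, hχ])]
    refine Finset.sum_congr rfl fun χ hχ => ?_
    simp only [n, if_pos hχ]
    push_cast; ring
  let τ : ι → G → ℂ := fun J => ∑ χ : Irr G, (n J χ : ℂ) • χ.1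
  have hτ : ∀ J g, ¬ p ∣ orderOf g → τ J g = 0 := fun J g hg => by
    simp only [τ, Finset.sum_apply, Pi.smul_apply, smul_eq_mul]
    rw [hn, h.sum_wt_reg _ hg, h.sum_wt_reg _ hg, sub_zero]
  have hnn : ∀ J L, ∑ χ, n J χ * n L χ = ∑ χ ∈ Bf G p, (W χ J - W χ J0) * (W χ L - W χ J0) := by
    intro J L
    rw [← Finset.sum_subset (Finset.subset_univ (Bf G p)) (fun χ _ hχ => by simp [n, hχ])]
    refine Finset.sum_congr rfl fun χ hχ => ?_
    simp only [n, if_pos hχ]
  obtain ⟨ε, hε, μ, hμ, hinj, hτμ⟩ := exceptional_of_gram J0 τ (by simp [τ, n])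
    (fun J => isGen_sum_int _) (fun J => hτ J 1 reg_one) (fun J L hJ hL => by
      rw [classInner_comb]
      simp only [map_intCast, ← Int.cast_mul, ← Int.cast_sum, hnn, sub_mul, mul_sub,
        Finset.sum_sub_distrib, hG, if_neg hJ, if_neg hL.symm, if_true]
      split_ifs <;> simp)
  let ν : ι → Irr G := fun J => ⟨μ J, hμ J⟩
  have hν : Function.Injective ν := fun J L hJL => hinj (congrArg Subtype.val hJL)
  obtain ⟨e, he, he'⟩ : ∃ e : ℤ, (e : ℂ) = ε ∧ e * e = 1 := by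
    rcases hε with rfl | rfl
    · exact ⟨1, by simp, by simp⟩
    · exact ⟨-1, by simp, by simp⟩
  have hcoef : ∀ J χ, n J χ = e * ((if ν J = χ then 1 else 0) - if ν J0 = χ then 1 else 0) := by
    intro J χ
    apply Int.cast_injective (α := ℂ)
    have h1 := classInner_sum_smul_irr (fun χ => (n J χ : ℂ)) χ
    change classInner (τ J) χ.1 = _ at h1
    rw [hτμ, classInner_smul_left, classInner_sub_left] at h1
    rw [← h1, ← he]
    have h2 := irr_inner (ν J) χ
    have h3 := irr_inner (ν J0) χ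
    change classInner (μ J) χ.1 = _ at h2
    change classInner (μ J0) χ.1 = _ at h3
    rw [h2, h3]
    push_cast
    congr
  obtain ⟨J1, hJ1⟩ : ∃ J : ι, J ≠ J0 := by
    obtain ⟨j, hj⟩ : ∃ j, j ∉ Aut h.ord := by
      by_contra hc
      push Not at hc
      exact ht (eq_top_iff.2 fun j _ => hc j)
    exact ⟨j, fun hc => hj (by simpa using QuotientGroup.eq.1 hc.symm)⟩
  have he0 : e ≠ 0 := by rintro rfl; simp at he'
  have hνB : ∀ J, ν J ∈ Bf G p := fun J => by
    by_contra hc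
    by_cases hJ : J = J0
    · subst hJ
      have := hcoef J1 (ν J0)
      simp only [n, if_neg hc, hν.eq_iff, if_neg hJ1, if_true] at this
      omega
    · have := hcoef J (ν J)
      simp only [n, if_neg hc, hν.eq_iff, if_neg (Ne.symm hJ), if_true] at this
      omega
  have hWν : ∀ J L, W (ν L) J - W (ν L) J0 =
      e * ((if J = L then 1 else 0) - if J0 = L then 1 else 0) := fun J L => by
    have := hcoef J (ν L)
    simpa only [n, if_pos (hνB L), hν.eq_iff] using this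
  let c : ℤ := W (ν J0) J0 - e
  have hc : ∀ L, W (ν L) J0 = c + e * if J0 = L then 1 else 0 := fun L => by
    by_cases hL : J0 = L
    · simp [c, ← hL]
    · have h1 : ∑ χ, n L χ * W χ J0 = -1 := by
        apply Int.cast_injective (α := ℂ)
        push_cast
        rw [hn]
        norm_cast
        rw [hG, hG, if_neg (Ne.symm hL), if_pos rfl]; simp
      simp only [hcoef, mul_sub, sub_mul, mul_ite, ite_mul, mul_one, mul_zero, zero_mul,
        Finset.sum_sub_distrib, Finset.sum_ite_eq, Finset.mem_univ, if_true] at h1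
      simp only [if_neg hL, mul_zero, add_zero, c]
      have : e * (e * W (ν L) J0 - e * W (ν J0) J0) = e * (-1) := by rw [h1]
      rw [mul_sub, ← mul_assoc, ← mul_assoc, he'] at this
      linarith
  have hWν' : ∀ J L, W (ν L) J = c + e * if J = L then 1 else 0 := fun J L => by
    have := hWν J L
    rw [hc L] at this
    linarith
  have hcard : Fintype.card ι = (Aut h.ord).index := by
    rw [index_eq_card, Nat.card_eq_fintype_card]
  refine ⟨Finset.univ.image ν, -(e + (Aut h.ord).index * c), ?_, ?_, ?_, ?_, ?_, ?_, ?_⟩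
  · rw [Finset.card_image_of_injective _ hν, Finset.card_univ, hcard]
  · intro χ hχ
    obtain ⟨J, -, rfl⟩ := Finset.mem_image.1 hχ
    exact mem_Bf.1 (hνB J)
  · intro hχ
    obtain ⟨J, -, hJ⟩ := Finset.mem_image.1 hχ
    obtain ⟨L, hL⟩ : ∃ L, L ≠ J := by
      by_cases hJ : J = J0
      · exact ⟨J1, hJ ▸ hJ1⟩
      · exact ⟨J0, Ne.symm hJ⟩
    have h1 := hWν' J J
    have h2 := hWν' L J
    simp only [hJ, W, wt_one h.ord, if_neg hL, if_true] at h1 h2
    omega
  · intro χ hχ hX j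
    have h1 : ∀ J, ν J ≠ χ := fun J hJ => hX (Finset.mem_image.2 ⟨J, Finset.mem_univ _, hJ⟩)
    have := hcoef j χ
    simp only [n, if_pos (mem_Bf.2 hχ), if_neg (h1 _), sub_self, mul_zero, J0, hW] at this
    linarith
  · intro χ hχ χ' hχ' g hg
    obtain ⟨J, -, rfl⟩ := Finset.mem_image.1 hχ
    obtain ⟨L, -, rfl⟩ := Finset.mem_image.1 hχ'
    have h1 : ∀ J, μ J g = μ J0 g := fun J => by
      have := hτ J g hg
      rw [hτμ, Pi.smul_apply, smul_eq_mul, mul_eq_zero, Pi.sub_apply, sub_eq_zero] at this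
      refine this.resolve_left ?_
      rw [← he]; exact_mod_cast he0
    exact (h1 J).trans (h1 L).symm
  · intro j
    rw [Finset.sum_image fun _ _ _ _ h => hν h]
    simp only [← hW, hWν', Finset.sum_add_distrib, ← Finset.mul_sum, hsum, Finset.sum_const,
      Finset.card_univ, hcard, nsmul_eq_mul]
    ring
  · rw [Finset.sum_image fun _ _ _ _ h => hν h]
    have h1 : ∀ L : ι, (c + e * if J0 = L then 1 else 0) ^ 2 =
        c ^ 2 + (2 * e * c + 1) * if J0 = L then 1 else 0 := fun L => by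
      split_ifs
      · linear_combination he'
      · ring
    simp only [← hW, hWν']
    change _ * ∑ L : ι, (c + e * if J0 = L then 1 else 0) ^ 2 = _
    simp only [h1, Finset.sum_add_distrib, ← Finset.mul_sum, hsum, Finset.sum_const,
      Finset.card_univ, hcard, nsmul_eq_mul]
    linear_combination (-1 : ℤ) * he'

theorem D1.exists_excSet {x : G} (h : D1 p x) : ∃ X A, ExcSet h X A := by
  by_cases ht : Aut h.ord = ⊤
  · exact h.exists_excSet_top ht
  · exact h.exists_excSet_ne_top ht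

/-- Values and degrees of a sum of characters whose reduced multiplicities are constant. -/
theorem D1.sum_apply_of_const {x : G} (h : D1 p x) {F : Finset (Irr G)} {A : ℤ}
    (hF : ∀ χ ∈ F, χ ∈ B0 p G) (hA : ∀ j : (ZMod p)ˣ, ∑ χ ∈ F, wt x χ j = -A) {g : G}
    (hg : p ∣ orderOf g) : ∑ χ ∈ F, χ.1 g = A := by
  obtain ⟨i, hi⟩ := h.exists_isConj_pp hg
  rw [Finset.sum_congr rfl fun χ hχ => (h.apply_of_isConj hi (hF χ hχ)).trans
    (apply_xp_eq_sum_wt h.ord χ i.ne_zero), Finset.sum_comm]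
  simp only [← Finset.sum_mul, ← Int.cast_sum, hA, ← Finset.mul_sum, sum_units_psi' i.ne_zero]
  simp

theorem D1.sum_deg_of_const {x : G} (h : D1 p x) {F : Finset (Irr G)} {A : ℤ}
    (hA : ∀ j : (ZMod p)ˣ, ∑ χ ∈ F, wt x χ j = -A) :
    ∑ χ ∈ F, (deg χ : ℤ) ≡ A [ZMOD p] := by
  simp only [deg_eq_sum_wt h.ord, Finset.sum_add_distrib, ← Finset.mul_sum]
  rw [Finset.sum_comm]
  simp only [hA, Finset.sum_const, Finset.card_univ, ZMod.card_units, nsmul_eq_mul,
    Nat.cast_pred hp.out.pos]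
  rw [Int.modEq_iff_dvd]
  exact ⟨A - ∑ χ ∈ F, (mult x χ.1 (0 : ZMod p) : ℤ), by ring⟩

theorem sum_ind_coe (F : Finset (Irr G)) (f : Irr G → ℂ) :
    ∑ χ, ind (F : Set (Irr G)) χ * f χ = ∑ χ ∈ F, f χ := by
  classical
  rw [← Finset.sum_subset (Finset.subset_univ F)
    (fun χ _ hχ => by rw [ind_of_notMem (by simpa using hχ), zero_mul])]
  refine Finset.sum_congr rfl fun χ hχ => ?_
  rw [ind_of_mem (by simpa using hχ), one_mul]

theorem cast_card_Aut_mul_index {x : G} (hx : orderOf x = p) :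
    (Nat.card (Aut hx) : ℤ) * (Aut hx).index = p - 1 := by
  have := card_Aut_mul_index hx
  have h2 := hp.out.pos
  zify [show 1 ≤ p from h2] at this
  exact this

theorem ExcSet.abs_eq_one {x : G} {h : D1 p x} {X : Finset (Irr G)} {A : ℤ} (hX : ExcSet h X A) :
    A ^ 2 = 1 ∧ ∀ χ ∈ B0 p G, χ ∉ X → wt x χ (1 : (ZMod p)ˣ) ^ 2 = 1 := by
  classical
  have := Fintype.ofFinite G
  set t := (Aut h.ord).index with ht
  have htpos : 0 < t := Nat.pos_of_ne_zero index_ne_zero_of_finite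
  have het := cast_card_Aut_mul_index h.ord
  let vx : Irr G → Option (Irr G) := fun χ => if χ ∈ X then none else some χ
  let F : Option (Irr G) → Finset (Irr G) := fun v => (Bf G p).filter fun χ => vx χ = v
  have hfib : ∀ v, fib (B0 p G) vx v = (F v : Set (Irr G)) := fun v => by
    ext χ; simp [fib, F, mem_Bf]
  have hFnone : F none = X := by
    ext χ
    simp only [F, vx, Finset.mem_filter, mem_Bf]
    refine ⟨fun h => ?_, fun h => ⟨hX.sub χ h, if_pos h⟩⟩
    by_contra hc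
    simp [hc] at h
  have hFsome : ∀ χ, F (some χ) = if χ ∈ B0 p G ∧ χ ∉ X then {χ} else ∅ := fun χ => by
    ext ξ
    simp only [F, vx, Finset.mem_filter, mem_Bf]
    by_cases hξ : ξ ∈ X
    · simp only [if_pos hξ, reduceCtorEq, and_false, false_iff]
      split_ifs with h1
      · rw [Finset.mem_singleton]; rintro rfl; exact h1.2 hξ
      · simp
    · simp only [if_neg hξ, Option.some.injEq]
      split_ifs with h1
      · rw [Finset.mem_singleton]
        exact ⟨fun h => h.2, fun h => ⟨h ▸ h1.1, h⟩⟩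
      · simp only [Finset.notMem_empty, iff_false, not_and]
        rintro h2 rfl
        exact h1 ⟨h2, hξ⟩
  let Av : Option (Irr G) → ℤ := fun v => -∑ χ ∈ F v, wt x χ (1 : (ZMod p)ˣ)
  have hAv : ∀ v (j : (ZMod p)ˣ), ∑ χ ∈ F v, wt x χ j = -Av v := fun v j => by
    simp only [Av, neg_neg]
    cases v with
    | none => rw [hFnone, hX.sum, hX.sum]
    | some χ =>
      rw [hFsome]
      split_ifs with h1
      · simp [hX.const χ h1.1 h1.2 j]
      · simp
  have hFB : ∀ v, ∀ χ ∈ F v, χ ∈ B0 p G := fun v χ hχ => mem_Bf.1 (Finset.mem_filter.1 hχ).1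
  have hval : ∀ v g, p ∣ orderOf g → ∑ χ, ind (fib (B0 p G) vx v) χ * χ.1 g = Av v :=
    fun v g hg => by rw [hfib, sum_ind_coe, h.sum_apply_of_const (hFB v) (hAv v) hg]
  have hdeg : ∀ v, ∑ χ ∈ F v, (deg χ : ℤ) ≡ Av v [ZMOD p] := fun v => h.sum_deg_of_const (hAv v)
  have hAnone : Av none = A := by simp [Av, hFnone, hX.sum]
  have hAsome : ∀ χ ∈ B0 p G, χ ∉ X → Av (some χ) = -wt x χ (1 : (ZMod p)ˣ) := fun χ h1 h2 => by
    simp [Av, hFsome, h1, h2]
  have hXne : X.Nonempty := Finset.card_pos.1 (hX.card ▸ htpos)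
  obtain ⟨χ0, hχ0⟩ := hXne
  have hdX : ∀ χ ∈ X, deg χ = deg χ0 := fun χ hχ => by
    apply Nat.cast_injective (R := ℂ)
    rw [deg_eq, deg_eq, hX.reg χ hχ χ0 hχ0 1 reg_one]
  have htd : (t : ℤ) * deg χ0 ≡ A [ZMOD p] := by
    have := hdeg none
    rwa [hFnone, hAnone, Finset.sum_congr rfl fun χ hχ => by rw [hdX χ hχ], Finset.sum_const,
      hX.card, nsmul_eq_mul] at this
  have hpt : ¬ p ∣ t := fun hd => by
    have h1 : t ∣ p - 1 := Dvd.intro_left _ (card_Aut_mul_index h.ord)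
    have h2 := Nat.le_of_dvd htpos hd
    have h3 := Nat.le_of_dvd (Nat.sub_pos_of_lt hp.out.one_lt) h1
    have := hp.out.pos
    omega
  have hA0 : A ≠ 0 := by
    rintro rfl
    have h1 : (p : ℤ) ∣ t * deg χ0 := Int.modEq_zero_iff_dvd.1 htd
    have h2 : p ∣ t * deg χ0 := by exact_mod_cast h1
    rcases (Nat.Prime.dvd_mul hp.out).1 h2 with h3 | h3
    · exact hpt h3
    · exact not_dvd_deg_of_mem_B0 h (hX.sub _ hχ0) h3
  have hw0 : ∀ χ ∈ B0 p G, χ ∉ X → wt x χ (1 : (ZMod p)ˣ) ≠ 0 := fun χ h1 h2 h3 => by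
    obtain ⟨j, hj⟩ := h.exists_wt_ne_zero h1
    exact hj ((hX.const χ h1 h2 j).trans h3)
  have hxs : p ∣ orderOf x := h.ord ▸ dvd_rfl
  have hV : VData p (B0 p G) vx :=
    { card := h.card
      blk := fun M _ => ind_B0_mem M
      reg := fun χ _ ξ _ hv g hg => by
        by_cases h1 : χ ∈ X <;> by_cases h2 : ξ ∈ X
        · exact hX.reg χ h1 ξ h2 g hg
        · simp [vx, h1, h2] at hv
        · simp [vx, h1, h2] at hv
        · simp only [vx, if_neg h1, if_neg h2, Option.some.injEq] at hv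
          rw [hv]
      int := fun v g hg => ⟨_, hval v g hg⟩
      ne := fun χ hχ => ⟨x, hxs, by
        rw [hval _ _ hxs, Int.cast_ne_zero]
        by_cases h1 : χ ∈ X
        · simp only [vx, if_pos h1, hAnone]; exact hA0
        · simp only [vx, if_neg h1, hAsome χ hχ h1]; exact neg_ne_zero.2 (hw0 χ hχ h1)⟩ }
  let S : Finset (Irr G) := (Bf G p).filter fun χ => Av (vx χ) ^ 2 = 1
  have hSfib : ∀ v, ∑ χ ∈ S, ind (fib (B0 p G) vx v) χ * χ.1 1 =
      if Av v ^ 2 = 1 then ((∑ χ ∈ F v, (deg χ : ℤ) : ℤ) : ℂ) else 0 := fun v => by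
    rw [hfib]
    simp only [ind_apply, Finset.mem_coe, ite_mul, one_mul, zero_mul, ← Finset.sum_filter]
    split_ifs with h1
    · push_cast
      refine Finset.sum_congr ?_ fun χ _ => (deg_eq χ).symm
      ext χ
      simp only [S, F, Finset.mem_filter]
      exact ⟨fun h => h.2, fun h => ⟨⟨h.1, h.2 ▸ h1⟩, h⟩⟩
    · refine Finset.sum_eq_zero fun χ hχ => absurd ?_ h1
      simp only [S, F, Finset.mem_filter] at hχ
      exact hχ.2.2 ▸ hχ.1.2
  obtain ⟨k, hk⟩ := hV.induction_one (fun d => ∃ n : ℤ, ∑ χ ∈ S, d χ * χ.1 1 = p * n)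
    ⟨0, by simp⟩ (fun d d' ⟨a, ha⟩ ⟨b, hb⟩ => ⟨a + b, by
      simp only [Pi.add_apply, add_mul, Finset.sum_add_distrib, ha, hb]; push_cast; ring⟩)
    (fun v w hE => by
      have h1 := hE.van x hxs
      rw [hval _ _ hxs, hval _ _ hxs] at h1
      have h2 : Av w = -Av v := by
        have : Av v + Av w = 0 := by exact_mod_cast h1
        linarith
      simp only [Pi.add_apply, add_mul, Finset.sum_add_distrib, hSfib, h2, neg_sq]
      split_ifs
      · have h3 := (hdeg v).add (hdeg w)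
        rw [h2, add_neg_cancel, Int.modEq_zero_iff_dvd] at h3
        obtain ⟨n, hn⟩ := h3
        exact ⟨n, by exact_mod_cast hn⟩
      · exact ⟨0, by simp⟩)
  have hk' : ∑ χ ∈ S, (deg χ : ℤ) ^ 2 = p * k := by
    apply Int.cast_injective (α := ℂ)
    push_cast
    rw [← hk]
    refine Finset.sum_congr rfl fun χ hχ => ?_
    simp only [ind_of_mem (mem_Bf.1 (Finset.mem_filter.1 hχ).1), deg_eq]; ring
  let N : Finset (Irr G) := (Bf G p).filter (· ∉ X)
  let N1 : Finset (Irr G) := N.filter fun χ => wt x χ (1 : (ZMod p)ˣ) ^ 2 = 1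
  have hNmem : ∀ {χ}, χ ∈ N ↔ χ ∈ B0 p G ∧ χ ∉ X := by simp [N, mem_Bf]
  have hS1 : S.filter (· ∉ X) = N1 := by
    ext χ
    simp only [S, N1, N, Finset.mem_filter, mem_Bf]
    constructor
    · rintro ⟨⟨h1, h2⟩, h3⟩
      simp only [vx, if_neg h3, hAsome χ h1 h3, neg_sq] at h2
      exact ⟨⟨h1, h3⟩, h2⟩
    · rintro ⟨⟨h1, h3⟩, h2⟩
      simp only [vx, if_neg h3, hAsome χ h1 h3, neg_sq]
      exact ⟨⟨h1, h2⟩, h3⟩
  have hS2 : S.filter (· ∈ X) = if A ^ 2 = 1 then X else ∅ := by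
    ext χ
    simp only [S, Finset.mem_filter, mem_Bf]
    by_cases h1 : χ ∈ X
    · simp only [vx, if_pos h1, hAnone, hX.sub χ h1, h1]
      split_ifs with h2 <;> simp [h1, h2]
    · split_ifs <;> simp [h1]
  have hN1 : ∑ χ ∈ N1, (deg χ : ℤ) ^ 2 ≡ N1.card [ZMOD p] := by
    rw [Finset.card_eq_sum_ones]
    push_cast
    refine Int.ModEq.sum fun χ hχ => ?_
    obtain ⟨h1, h2⟩ := Finset.mem_filter.1 hχ
    obtain ⟨h3, h4⟩ := hNmem.1 h1
    have := hdeg (some χ)
    rw [hFsome, if_pos ⟨h3, h4⟩, Finset.sum_singleton, hAsome χ h3 h4] at this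
    have := this.pow 2
    rwa [neg_sq, h2] at this
  have hmain : (p : ℤ) ∣ t * N1.card + if A ^ 2 = 1 then 1 else 0 := by
    rw [← Finset.sum_filter_not_add_sum_filter S (· ∈ X), hS1, hS2] at hk'
    have h1 : (t : ℤ) * ∑ χ ∈ (if A ^ 2 = 1 then X else ∅), (deg χ : ℤ) ^ 2 ≡
        if A ^ 2 = 1 then 1 else 0 [ZMOD p] := by
      split_ifs with h2
      · rw [Finset.sum_congr rfl fun χ hχ => by rw [hdX χ hχ], Finset.sum_const, hX.card,
          nsmul_eq_mul, ← h2]
        convert htd.pow 2 using 1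
        ring
      · simp
    have h2 := (hN1.mul_left t).add h1
    rw [← mul_add, hk'] at h2
    exact Int.modEq_zero_iff_dvd.1 (h2.symm.trans
      (Int.modEq_zero_iff_dvd.2 ((dvd_mul_right _ _).mul_left _)))
  have htot : (t : ℤ) * ∑ χ ∈ N, wt x χ (1 : (ZMod p)ˣ) ^ 2 + A ^ 2 = p := by
    have h1 := h.gram' 1 1
    rw [if_pos (by simp), ← Finset.sum_filter_not_add_sum_filter _ (· ∈ X)] at h1
    have h2 : (Bf G p).filter (· ∈ X) = X := by
      ext χ
      simp only [Finset.mem_filter, mem_Bf]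
      exact ⟨fun h => h.2, fun h => ⟨hX.sub χ h, h⟩⟩
    simp only [h2, ← pow_two] at h1
    have h3 := hX.sq
    change ∑ χ ∈ N, _ + _ = _ at h1
    linear_combination (t : ℤ) * h1 - h3 + het
  have hsplit : ∑ χ ∈ N, wt x χ (1 : (ZMod p)ˣ) ^ 2 = N1.card +
      ∑ χ ∈ N.filter (fun χ => ¬ wt x χ (1 : (ZMod p)ˣ) ^ 2 = 1), wt x χ (1 : (ZMod p)ˣ) ^ 2 := by
    rw [← Finset.sum_filter_add_sum_filter_not N (fun χ => wt x χ (1 : (ZMod p)ˣ) ^ 2 = 1)]
    congr 1
    rw [Finset.sum_congr rfl fun χ hχ => (Finset.mem_filter.1 hχ).2]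
    simp [N1]
  have hN1pos : 0 < N1.card := Finset.card_pos.2 ⟨irrOne G, Finset.mem_filter.2
    ⟨hNmem.2 ⟨one_mem_B0, hX.one⟩, by rw [wt_one h.ord]; simp⟩⟩
  have hR : 0 ≤ ∑ χ ∈ N.filter (fun χ => ¬ wt x χ (1 : (ZMod p)ˣ) ^ 2 = 1),
      wt x χ (1 : (ZMod p)ˣ) ^ 2 := Finset.sum_nonneg fun _ _ => sq_nonneg _
  have hA1 : 1 ≤ A ^ 2 := by
    have := sq_pos_of_ne_zero hA0
    omega
  have hpos : (0 : ℤ) < t * N1.card := by exact_mod_cast Nat.mul_pos htpos hN1pos
  have hle := Int.le_of_dvd (by split_ifs <;> omega) hmain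
  rw [hsplit, mul_add] at htot
  have htR := mul_nonneg (Int.natCast_nonneg t) hR
  have hA2 : A ^ 2 = 1 := by
    by_contra hc
    rw [if_neg hc] at hle
    omega
  refine ⟨hA2, fun χ h1 h2 => ?_⟩
  by_contra hc
  rw [if_pos hA2] at hle
  have h3 : (t : ℤ) * ∑ χ ∈ N.filter (fun χ => ¬ wt x χ (1 : (ZMod p)ˣ) ^ 2 = 1),
      wt x χ (1 : (ZMod p)ˣ) ^ 2 = 0 := by omega
  have h4 := (mul_eq_zero.1 h3).resolve_left (by exact_mod_cast htpos.ne')
  have h5 := (Finset.sum_eq_zero_iff_of_nonneg fun _ _ => sq_nonneg _).1 h4 χ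
    (Finset.mem_filter.2 ⟨hNmem.2 ⟨h1, h2⟩, hc⟩)
  exact hw0 χ h1 h2 (pow_eq_zero_iff two_ne_zero |>.1 h5)

end H18
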