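import Mathlib
import Cfsg.Agent.H18.D1c

/-! Principal blocks of defect one, part D: the packaged theorem. -/

set_option autoImplicit false
set_option linter.unusedSectionVars false

open Cfsg H4 H17 Subgroup
open scoped ComplexConjugate

namespace H18

variable {G : Type*} [Group G] [Finite G] {p : ℕ} [hp : Fact p.Prime]

open Classical in
/-- Brauer's description of the principal block when `p` divides `|G|` to the first power. -/
structure BData {x : G} (h : D1 p x) where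
  /-- non-exceptional characters -/
  Nx : Finset (Irr G)
  /-- their signs -/
  a : Irr G → ℤ
  /-- the sign of the exceptional family -/
  δ : ℤ
  /-- exceptional characters -/
  μ : (ZMod p)ˣ → Irr G
  mem_iff : ∀ χ, χ ∈ B0 p G ↔ χ ∈ Nx ∨ ∃ j, μ j = χ
  μ_notMem : ∀ j, μ j ∉ Nx
  one_mem : irrOne G ∈ Nx
  card_Nx : Nx.card = Nat.card (Aut h.ord)
  a_sq : ∀ χ ∈ Nx, a χ = 1 ∨ a χ = -1
  δ_sq : δ = 1 ∨ δ = -1
  wt_Nx : ∀ χ ∈ Nx, ∀ j : (ZMod p)ˣ, wt x χ j = -a χ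
  wt_μ : ∀ j l : (ZMod p)ˣ, wt x (μ j) l = if j⁻¹ * l ∈ Aut h.ord then -δ else 0
  μ_reg : ∀ j l g, ¬ p ∣ orderOf g → (μ j).1 g = (μ l).1 g

theorem D1.nonempty_bData {x : G} (h : D1 p x) : Nonempty (BData h) := by
  classical
  obtain ⟨X, A, hX⟩ := h.exists_excSet
  obtain ⟨hA, hw⟩ := hX.abs_eq_one
  let N : Finset (Irr G) := (Bf G p).filter (· ∉ X)
  have hNmem : ∀ {χ}, χ ∈ N ↔ χ ∈ B0 p G ∧ χ ∉ X := by simp [N, mem_Bf]
  have hX2 : (Bf G p).filter (· ∈ X) = X := by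
    ext χ
    simp only [Finset.mem_filter, mem_Bf]
    exact ⟨fun h => h.2, fun h => ⟨hX.sub χ h, h⟩⟩
  have hG : ∀ j l : (ZMod p)ˣ, (N.card : ℤ) + ∑ χ ∈ X, wt x χ j * wt x χ l =
      Nat.card (Aut h.ord) + if j⁻¹ * l ∈ Aut h.ord then 1 else 0 := fun j l => by
    rw [← h.gram', ← Finset.sum_filter_not_add_sum_filter (Bf G p) (· ∈ X), hX2]
    congr 1
    rw [Finset.card_eq_sum_ones]
    push_cast
    refine Finset.sum_congr rfl fun χ hχ => ?_
    obtain ⟨h1, h2⟩ := hNmem.1 hχ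
    rw [hX.const χ h1 h2 j, hX.const χ h1 h2 l, ← pow_two, hw χ h1 h2]
  have htpos : 0 < (Aut h.ord).index := Nat.pos_of_ne_zero index_ne_zero_of_finite
  have hN : N.card = Nat.card (Aut h.ord) := by
    have h1 := hG 1 1
    have h2 := hX.sq
    rw [hA, add_sub_cancel_left] at h2
    have h3 : ∑ χ ∈ X, wt x χ (1 : (ZMod p)ˣ) ^ 2 = 1 :=
      mul_left_cancel₀ (a := ((Aut h.ord).index : ℤ)) (by exact_mod_cast htpos.ne')
        (by rw [h2, mul_one])
    simp only [← pow_two, h3, if_pos (show (1 : (ZMod p)ˣ)⁻¹ * 1 ∈ Aut h.ord by simp)] at h1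
    omega
  have hG' : ∀ j l : (ZMod p)ˣ, ∑ χ ∈ X, wt x χ j * wt x χ l =
      if j⁻¹ * l ∈ Aut h.ord then 1 else 0 := fun j l => by
    have := hG j l
    rw [hN] at this
    linarith
  have hex : ∀ j : (ZMod p)ˣ, ∃ χ ∈ X, wt x χ j = -A ∧ ∀ ξ ∈ X, ξ ≠ χ → wt x ξ j = 0 := by
    intro j
    have h1 := hG' j j
    rw [if_pos (by simp)] at h1
    obtain ⟨χ, hχ, h2⟩ := Finset.exists_ne_zero_of_sum_ne_zero (h1 ▸ one_ne_zero)
    have h3 : ∀ ξ ∈ X, ξ ≠ χ → wt x ξ j = 0 := fun ξ hξ hne => by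
      rw [← Finset.add_sum_erase X _ hχ] at h1
      have h4 : 0 ≤ ∑ ξ ∈ X.erase χ, wt x ξ j * wt x ξ j :=
        Finset.sum_nonneg fun _ _ => mul_self_nonneg _
      have h5 : 0 < wt x χ j * wt x χ j := lt_of_le_of_ne (mul_self_nonneg _) h2.symm
      have h6 : ∑ ξ ∈ X.erase χ, wt x ξ j * wt x ξ j = 0 := by omega
      exact mul_self_eq_zero.1 ((Finset.sum_eq_zero_iff_of_nonneg
        fun _ _ => mul_self_nonneg _).1 h6 ξ (Finset.mem_erase.2 ⟨hne, hξ⟩))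
    refine ⟨χ, hχ, ?_, h3⟩
    rw [← hX.sum j, Finset.sum_eq_single_of_mem χ hχ h3]
  choose μ hμX hμA hμ0 using hex
  have hA0 : A ≠ 0 := by rintro rfl; simp at hA
  refine ⟨⟨N, fun χ => -wt x χ (1 : (ZMod p)ˣ), A, μ, fun χ => ⟨fun hχ => ?_, ?_⟩, fun j hj => ?_,
    hNmem.2 ⟨one_mem_B0, hX.one⟩, hN, fun χ hχ => ?_, sq_eq_one_iff_of_ne_zero hA, fun χ hχ j => ?_,
    fun j l => ?_, fun j l g hg => hX.reg _ (hμX j) _ (hμX l) g hg⟩⟩
  · by_cases h1 : χ ∈ X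
    · obtain ⟨j, hj⟩ := h.exists_wt_ne_zero hχ
      refine Or.inr ⟨j, ?_⟩
      by_contra hc
      exact hj (hμ0 j χ h1 (Ne.symm hc))
    · exact Or.inl (hNmem.2 ⟨hχ, h1⟩)
  · rintro (h1 | ⟨j, rfl⟩)
    · exact (hNmem.1 h1).1
    · exact hX.sub _ (hμX j)
  · exact (hNmem.1 hj).2 (hμX j)
  · obtain ⟨h1, h2⟩ := hNmem.1 hχ
    have := sq_eq_one_iff_of_ne_zero (hw χ h1 h2)
    omega
  · obtain ⟨h1, h2⟩ := hNmem.1 hχ
    rw [neg_neg, hX.const χ h1 h2 j]
  · split_ifs with h1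
    · rw [wt_congr h.ord _ h1, hμA]
    · have h2 := hG' j l
      rw [if_neg h1, Finset.sum_eq_single_of_mem (μ j) (hμX j)
        (fun ξ hξ hne => by rw [hμ0 j ξ hξ hne, zero_mul]), hμA] at h2
      simpa [hA0] using h2
where
  sq_eq_one_iff_of_ne_zero {a : ℤ} (h : a ^ 2 = 1) : a = 1 ∨ a = -1 := sq_eq_one_iff.1 h

open Classical in
/-- The Gauss periods. -/
noncomputable def eta {x : G} (hx : orderOf x = p) (k : ZMod p) : ℂ :=
  ∑ a : (ZMod p)ˣ, if a ∈ Aut hx then psi (k * (a : ZMod p)) else 0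

theorem card_Aut_eq_sum {x : G} (hx : orderOf x = p) {R : Type*} [Semiring R]
    [DecidablePred (· ∈ Aut hx)] :
    ∑ a : (ZMod p)ˣ, (if a ∈ Aut hx then (1 : R) else 0) = Nat.card (Aut hx) := by
  rw [Finset.sum_boole, Nat.card_eq_fintype_card, Fintype.card_subtype]

theorem sum_eta {x : G} (hx : orderOf x = p) {k : ZMod p} (hk : k ≠ 0) :
    ∑ j : (ZMod p)ˣ, eta hx (k * (j : ZMod p)) = -Nat.card (Aut hx) := by
  classical
  simp only [eta]
  rw [Finset.sum_comm, ← card_Aut_eq_sum hx, ← Finset.sum_neg_distrib]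
  refine Finset.sum_congr rfl fun a _ => ?_
  split_ifs
  · rw [← sum_units_psi (mul_ne_zero hk a.ne_zero)]
    exact Finset.sum_congr rfl fun j _ => by ring_nf
  · simp

theorem isIntegral_eta {x : G} (hx : orderOf x = p) (k : ZMod p) : IsIntegral ℤ (eta hx k) := by
  refine IsIntegral.sum _ fun a _ => ?_
  split_ifs
  · exact isIntegral_psi _
  · exact isIntegral_zero

theorem conj_eta {x : G} (hx : orderOf x = p) (k : ZMod p) : conj (eta hx k) = eta hx (-k) := by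
  simp only [eta, map_sum, apply_ite conj, conj_psi, map_zero, neg_mul]

theorem eta_zero {x : G} (hx : orderOf x = p) : eta hx 0 = Nat.card (Aut hx) := by
  classical
  simp only [eta, zero_mul, psi_zero]
  convert card_Aut_eq_sum (R := ℂ) hx

namespace BData

variable {x : G} {h : D1 p x} (D : BData h)

theorem Nx_mem {χ : Irr G} (hχ : χ ∈ D.Nx) : χ ∈ B0 p G := (D.mem_iff χ).2 (Or.inl hχ)

theorem μ_mem (j : (ZMod p)ˣ) : D.μ j ∈ B0 p G := (D.mem_iff _).2 (Or.inr ⟨j, rfl⟩)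

theorem μ_ne_one (j : (ZMod p)ˣ) : D.μ j ≠ irrOne G := fun hj => D.μ_notMem j (hj ▸ D.one_mem)

theorem a_mul_self {χ : Irr G} (hχ : χ ∈ D.Nx) : D.a χ * D.a χ = 1 := by
  rcases D.a_sq χ hχ with h | h <;> simp [h]

theorem δ_mul_self : D.δ * D.δ = 1 := by rcases D.δ_sq with h | h <;> simp [h]

theorem δ_ne_zero : D.δ ≠ 0 := by rcases D.δ_sq with h | h <;> simp [h]

theorem a_one : D.a (irrOne G) = 1 := by
  have := D.wt_Nx _ D.one_mem 1
  rw [wt_one h.ord] at this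
  omega

theorem μ_eq_iff {j l : (ZMod p)ˣ} : D.μ j = D.μ l ↔ j⁻¹ * l ∈ Aut h.ord := by
  classical
  constructor
  · intro hjl
    have h1 := D.wt_μ j l
    rw [hjl, D.wt_μ, if_pos (by simp)] at h1
    by_contra hc
    rw [if_neg hc, neg_eq_zero] at h1
    exact D.δ_ne_zero h1
  · intro hjl
    by_contra hc
    have h1 := h.gram' l l
    rw [if_pos (by simp)] at h1
    have h2 : insert (D.μ j) (insert (D.μ l) D.Nx) ⊆ Bf G p := by
      intro χ hχ
      simp only [Finset.mem_insert] at hχ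
      rcases hχ with rfl | rfl | hχ
      · exact mem_Bf.2 (D.μ_mem _)
      · exact mem_Bf.2 (D.μ_mem _)
      · exact mem_Bf.2 (D.Nx_mem hχ)
    have h3 := Finset.sum_le_sum_of_subset_of_nonneg (f := fun χ => wt x χ l * wt x χ l) h2
      fun _ _ _ => mul_self_nonneg _
    rw [h1, Finset.sum_insert (by simp [hc, D.μ_notMem]), Finset.sum_insert (D.μ_notMem l),
      D.wt_μ, D.wt_μ, if_pos hjl, if_pos (by simp), neg_mul_neg, D.δ_mul_self,
      Finset.sum_congr rfl fun χ hχ => by rw [D.wt_Nx χ hχ, neg_mul_neg, D.a_mul_self hχ],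
      Finset.sum_const, D.card_Nx] at h3
    simp at h3
    omega

open Classical in
/-- The exceptional characters as a finite set. -/
noncomputable def X : Finset (Irr G) := Finset.univ.image D.μ

theorem mem_X {χ : Irr G} : χ ∈ D.X ↔ ∃ j, D.μ j = χ := by simp [X]

theorem μ_mem_X (j : (ZMod p)ˣ) : D.μ j ∈ D.X := D.mem_X.2 ⟨j, rfl⟩

theorem disjoint : Disjoint D.Nx D.X := by
  rw [Finset.disjoint_right]
  intro χ hχ
  obtain ⟨j, rfl⟩ := D.mem_X.1 hχ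
  exact D.μ_notMem j

theorem Bf_eq : Bf G p = D.Nx.disjUnion D.X D.disjoint := by
  ext χ
  rw [mem_Bf, D.mem_iff, Finset.mem_disjUnion, D.mem_X]

theorem sum_Bf {M : Type*} [AddCommMonoid M] (f : Irr G → M) :
    ∑ χ ∈ Bf G p, f χ = ∑ χ ∈ D.Nx, f χ + ∑ χ ∈ D.X, f χ := by
  rw [D.Bf_eq, Finset.sum_disjUnion]

theorem sum_μ {M : Type*} [AddCommMonoid M] (f : Irr G → M) :
    ∑ j, f (D.μ j) = Nat.card (Aut h.ord) • ∑ χ ∈ D.X, f χ := by
  classical
  rw [Finset.smul_sum, ← Finset.sum_fiberwise_of_maps_to (s := Finset.univ) (t := D.X) (g := D.μ)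
    fun j _ => D.μ_mem_X j]
  refine Finset.sum_congr rfl fun χ hχ => ?_
  obtain ⟨j, rfl⟩ := D.mem_X.1 hχ
  rw [Finset.sum_congr rfl fun l hl => by rw [(Finset.mem_filter.1 hl).2], Finset.sum_const]
  congr 1
  rw [Nat.card_eq_fintype_card, Fintype.card_subtype]
  refine Finset.card_bij (fun l _ => j⁻¹ * l) (fun l hl => ?_) (fun l _ l' _ hll => ?_)
    fun a ha => ⟨j * a, ?_, by simp⟩
  · simpa using D.μ_eq_iff.1 (Finset.mem_filter.1 hl).2.symm
  · exact mul_left_cancel hll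
  · simp only [Finset.mem_filter, Finset.mem_univ, true_and] at ha ⊢
    exact (D.μ_eq_iff.2 (by simpa using ha)).symm

theorem card_X : D.X.card = (Aut h.ord).index := by
  have h1 := D.sum_μ fun _ => (1 : ℕ)
  simp only [Finset.sum_const, Finset.card_univ, ZMod.card_units, smul_eq_mul, mul_one] at h1
  rw [← card_Aut_mul_index h.ord] at h1
  exact (Nat.eq_of_mul_eq_mul_left Nat.card_pos h1).symm

include D in
theorem card_B0 : Nat.card (B0 p G) = Nat.card (Aut h.ord) + (Aut h.ord).index := by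
  rw [← D.card_X, ← D.card_Nx, ← Finset.card_disjUnion _ _ D.disjoint, ← D.Bf_eq,
    ← Nat.card_eq_finsetCard]
  exact Nat.card_congr (Equiv.subtypeEquivRight fun _ => mem_Bf.symm)

theorem apply_Nx {χ : Irr G} (hχ : χ ∈ D.Nx) {g : G} (hg : p ∣ orderOf g) : χ.1 g = D.a χ := by
  simpa using h.sum_apply_of_const (F := {χ}) (A := D.a χ) (by simpa using D.Nx_mem hχ)
    (by simpa using D.wt_Nx χ hχ) hg

theorem deg_Nx {χ : Irr G} (hχ : χ ∈ D.Nx) : (deg χ : ℤ) ≡ D.a χ [ZMOD p] := by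
  simpa using h.sum_deg_of_const (F := {χ}) (A := D.a χ) (by simpa using D.wt_Nx χ hχ)

theorem apply_μ_xp (j : (ZMod p)ˣ) {i : ZMod p} (hi : i ≠ 0) :
    (D.μ j).1 (xp x i) = -D.δ * eta h.ord (i * (j : ZMod p)) := by
  rw [apply_xp_eq_sum_wt h.ord _ hi, eta, Finset.mul_sum]
  refine (Fintype.sum_equiv (Equiv.mulLeft j) _ _ fun a => ?_).symm
  rw [Equiv.coe_mulLeft, D.wt_μ, inv_mul_cancel_left, Units.val_mul, mul_assoc]
  split_ifs <;> simp

theorem sum_wt_μ (j : (ZMod p)ˣ) : 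
    ∑ l : (ZMod p)ˣ, wt x (D.μ j) l = -D.δ * Nat.card (Aut h.ord) := by
  classical
  rw [← card_Aut_eq_sum h.ord, Finset.mul_sum]
  refine (Fintype.sum_equiv (Equiv.mulLeft j) _ _ fun a => ?_).symm
  rw [Equiv.coe_mulLeft, D.wt_μ, inv_mul_cancel_left]
  split_ifs <;> simp

theorem deg_μ_eq (j : (ZMod p)ˣ) :
    (deg (D.μ j) : ℤ) = p * mult x (D.μ j).1 (0 : ZMod p) - D.δ * Nat.card (Aut h.ord) := by
  rw [deg_eq_sum_wt h.ord, D.sum_wt_μ]; ring

theorem deg_μ (j : (ZMod p)ˣ) : (deg (D.μ j) : ℤ) ≡ -D.δ * Nat.card (Aut h.ord) [ZMOD p] := by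
  rw [D.deg_μ_eq, Int.modEq_iff_dvd]
  exact ⟨-mult x (D.μ j).1 (0 : ZMod p), by ring⟩

theorem deg_μ_congr (j l : (ZMod p)ˣ) : deg (D.μ j) = deg (D.μ l) := by
  apply Nat.cast_injective (R := ℂ)
  rw [deg_eq, deg_eq, D.μ_reg j l 1 reg_one]

theorem sum_X_wt (l : (ZMod p)ˣ) : ∑ χ ∈ D.X, wt x χ l = -D.δ := by
  rw [Finset.sum_eq_single_of_mem (D.μ l) (D.μ_mem_X l), D.wt_μ, if_pos (by simp)]
  intro χ hχ hne
  obtain ⟨j, rfl⟩ := D.mem_X.1 hχ
  rw [D.wt_μ, if_neg fun hc => hne (D.μ_eq_iff.2 hc)]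

theorem sum_X_sing {g : G} (hg : p ∣ orderOf g) : ∑ χ ∈ D.X, χ.1 g = D.δ :=
  h.sum_apply_of_const (fun χ hχ => by
    obtain ⟨j, rfl⟩ := D.mem_X.1 hχ
    exact D.μ_mem j) D.sum_X_wt hg

theorem sum_X_reg {g : G} (hg : ¬ p ∣ orderOf g) (j : (ZMod p)ˣ) :
    ∑ χ ∈ D.X, χ.1 g = (Aut h.ord).index * (D.μ j).1 g := by
  rw [Finset.sum_congr (g := fun _ => (D.μ j).1 g) rfl fun χ hχ => by
    obtain ⟨l, rfl⟩ := D.mem_X.1 hχ
    exact D.μ_reg l j g hg, Finset.sum_const, D.card_X, nsmul_eq_mul]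

/-- The basic relation on `p`-regular elements. -/
theorem rel {g : G} (hg : ¬ p ∣ orderOf g) (j : (ZMod p)ˣ) :
    ∑ χ ∈ D.Nx, (D.a χ : ℂ) * χ.1 g + D.δ * (D.μ j).1 g = 0 := by
  have h1 := h.sum_wt_reg j hg
  rw [D.sum_Bf, Finset.sum_eq_single_of_mem (D.μ j) (D.μ_mem_X j) (fun χ hχ hne => by
    obtain ⟨l, rfl⟩ := D.mem_X.1 hχ
    rw [D.wt_μ, if_neg fun hc => hne (D.μ_eq_iff.2 hc)]; simp), D.wt_μ, if_pos (by simp),
    Finset.sum_congr rfl fun χ hχ => by rw [D.wt_Nx χ hχ]] at h1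
  simp only [Int.cast_neg, neg_mul, Finset.sum_neg_distrib] at h1
  linear_combination -h1

/-- The degree equation. -/
theorem deg_rel (j : (ZMod p)ˣ) : ∑ χ ∈ D.Nx, D.a χ * deg χ + D.δ * deg (D.μ j) = 0 := by
  apply Int.cast_injective (α := ℂ)
  have := D.rel reg_one j
  simp only [← deg_eq] at this
  push_cast
  exact this

include D in
theorem deg_dvd_index {χ : Irr G} (hχ : χ ∈ B0 p G) :
    deg χ ∣ (centralizer ({x} : Set G)).index := by
  have hx : p ∣ orderOf x := h.ord ▸ dvd_rfl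
  refine nat_dvd_of_isIntegral_div (deg_ne_zero χ) ?_
  rcases (D.mem_iff χ).1 hχ with h1 | ⟨j, rfl⟩
  · have h2 := (isIntegral_cls x χ).mul (isIntegral_intCast (D.a χ))
    rw [cls_eq_div, D.apply_Nx h1 hx, mul_assoc, ← Int.cast_mul, D.a_mul_self h1] at h2
    simpa using h2
  · have h2 := (IsIntegral.sum (s := D.X) _ fun χ _ => isIntegral_cls x χ).mul
      (isIntegral_intCast D.δ)
    rw [Finset.sum_congr (g := fun χ => ((centralizer ({x} : Set G)).index : ℂ) / deg (D.μ j) *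
      χ.1 x) rfl fun χ hχ => by
      obtain ⟨l, rfl⟩ := D.mem_X.1 hχ
      rw [cls_eq_div, D.deg_μ_congr l j], ← Finset.mul_sum, D.sum_X_sing hx, mul_assoc,
      ← Int.cast_mul, D.δ_mul_self] at h2
    simpa using h2

include D in
theorem deg_dvd {χ : Irr G} (hχ : χ ∈ B0 p G) :
    deg χ ∣ Nat.card (Aut h.ord) * Nat.card (Sylow p G) :=
  h.index_centralizer ▸ D.deg_dvd_index hχ

end BData

end H18
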