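import Mathlib
import Cfsg.Agent.H18.Elem
import Cfsg.Agent.H21.Zass7
import Cfsg.Agent.H16.PSL2Basic

/-! Perfect groups with a core-free subgroup of index `p + 1` and order `(p+1) p d`, `d < p`. -/

set_option autoImplicit false

namespace H18

open Subgroup
open scoped commutatorElement

section Semiaffine

variable {F : Type*} [Field F]

theorem ringEquiv_comm [Finite F] (φ ψ : F ≃+* F) (x : F) : φ (ψ x) = ψ (φ x) := by
  by_cases hx : x = 0
  · simp [hx]
  obtain ⟨m, hm⟩ := MonoidHom.map_cyclic (Units.map (φ : F →* F))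
  obtain ⟨n, hn⟩ := MonoidHom.map_cyclic (Units.map (ψ : F →* F))
  have hm' : ∀ y : F, y ≠ 0 → φ y = y ^ m := fun y hy => by
    simpa using congrArg Units.val (hm (Units.mk0 y hy))
  have hn' : ∀ y : F, y ≠ 0 → ψ y = y ^ n := fun y hy => by
    simpa using congrArg Units.val (hn (Units.mk0 y hy))
  rw [hn' x hx, hm' x hx, map_zpow₀, map_zpow₀, hn' x hx, hm' x hx, ← zpow_mul, ← zpow_mul,
    mul_comm]

/-- The affine maps. -/
def affGroup (F : Type*) [Field F] : Subgroup (Equiv.Perm F) where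
  carrier := {σ | ∃ a : F, a ≠ 0 ∧ ∃ b : F, ∀ x, σ x = a * x + b}
  one_mem' := ⟨1, one_ne_zero, 0, fun x => by simp⟩
  mul_mem' := by
    rintro σ τ ⟨a, ha, b, hσ⟩ ⟨c, hc, d, hτ⟩
    exact ⟨a * c, mul_ne_zero ha hc, a * d + b, fun x => by
      rw [Equiv.Perm.mul_apply, hτ, hσ]; ring⟩
  inv_mem' := by
    rintro σ ⟨a, ha, b, hσ⟩
    refine ⟨a⁻¹, inv_ne_zero ha, -(a⁻¹ * b), fun x => σ.injective ?_⟩
    rw [Equiv.Perm.inv_def, Equiv.apply_symm_apply, hσ]; field_simp; ring

/-- The translations. -/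
def transGroup (F : Type*) [Field F] : Subgroup (Equiv.Perm F) where
  carrier := {σ | ∃ b : F, ∀ x, σ x = x + b}
  one_mem' := ⟨0, fun x => by simp⟩
  mul_mem' := by
    rintro σ τ ⟨b, hσ⟩ ⟨d, hτ⟩
    exact ⟨d + b, fun x => by rw [Equiv.Perm.mul_apply, hτ, hσ]; ring⟩
  inv_mem' := by
    rintro σ ⟨b, hσ⟩
    refine ⟨-b, fun x => σ.injective ?_⟩
    rw [Equiv.Perm.inv_def, Equiv.apply_symm_apply, hσ]; ring

theorem commutator_apply_of {X : Type*} (σ τ : Equiv.Perm X) (f : X → X)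
    (h : ∀ x, σ (τ x) = f (τ (σ x))) (y : X) : ⁅σ, τ⁆ y = f y := by
  rw [commutatorElement_def]
  simp only [Equiv.Perm.mul_apply]
  rw [h]; simp

theorem eq_one_of_semiaffine [Finite F] {G : Type*} [Group G] (hG : commutator G = ⊤)
    (ρ : G →* Equiv.Perm F) (h : ∀ g, ρ g ∈ Cfsg.semiaffineGroup F) (g : G) : ρ g = 1 := by
  have key : ∀ K : Subgroup (Equiv.Perm F), (∀ a b : G, ⁅ρ a, ρ b⁆ ∈ K) → ∀ g, ρ g ∈ K := by
    intro K hK g
    have : commutator G ≤ K.comap ρ := commutator_le.2 fun a _ b _ => by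
      rw [mem_comap, map_commutatorElement]; exact hK a b
    exact this (hG ▸ mem_top g)
  have h1 : ∀ g, ρ g ∈ affGroup F := key _ fun s t => by
    obtain ⟨a, b, φ, hs⟩ := h s
    obtain ⟨c, d, ψ, ht⟩ := h t
    have ha := a.ne_zero
    have hc := c.ne_zero
    have h3 : ψ a ≠ 0 := by simp
    have h4 : φ c ≠ 0 := by simp
    refine ⟨a * φ c / (c * ψ a), by positivity, -(a * φ c / (c * ψ a) * (c * ψ b + d)) + a * φ d + b,
      commutator_apply_of _ _ _ fun x => ?_⟩
    rw [hs, ht, ht, hs]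
    simp only [map_add, map_mul]
    rw [ringEquiv_comm φ ψ x]
    field_simp
    ring
  have h2 : ∀ g, ρ g ∈ transGroup F := key _ fun s t => by
    obtain ⟨a, -, b, hs⟩ := h1 s
    obtain ⟨c, -, d, ht⟩ := h1 t
    refine ⟨a * d + b - c * b - d, commutator_apply_of _ _ _ fun x => ?_⟩
    rw [hs, ht, ht, hs]; ring
  refine key ⊥ (fun s t => ?_) g
  obtain ⟨b, hs⟩ := h2 s
  obtain ⟨d, ht⟩ := h2 t
  rw [mem_bot]
  ext y
  refine commutator_apply_of _ _ id (fun x => ?_) y
  rw [hs, ht, id, ht, hs]; ring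

end Semiaffine

theorem not_perfect_pgl {F : Type*} [Field F] [Finite F] (hF : ringChar F ≠ 2) :
    commutator (Matrix.ProjGenLinGroup (Fin 2) F) ≠ ⊤ := by
  intro h
  obtain ⟨a, ha⟩ := FiniteField.exists_nonsquare hF
  have ha0 : a ≠ 0 := by rintro rfl; exact ha IsSquare.zero
  let S : Subgroup Fˣ := (powMonoidHom 2 : Fˣ →* Fˣ).range
  let f : Matrix.ProjGenLinGroup (Fin 2) F →* Fˣ ⧸ S :=
    Matrix.ProjGenLinGroup.lift ((QuotientGroup.mk' S).comp Matrix.GeneralLinearGroup.det) (by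
      ext u
      simp only [MonoidHom.comp_apply, QuotientGroup.mk'_apply, MonoidHom.one_apply,
        QuotientGroup.eq_one_iff]
      exact ⟨u, by ext; simp⟩)
  obtain ⟨A, hA⟩ := Matrix.GeneralLinearGroup.det_surjective (n := Fin 2) (Units.mk0 a ha0)
  have := hom_eq_one_of_perfect (A := Fˣ ⧸ S) h f (Matrix.ProjGenLinGroup.mk A)
  simp only [f, Matrix.ProjGenLinGroup.lift_mk, MonoidHom.comp_apply, QuotientGroup.mk'_apply,
    QuotientGroup.eq_one_iff, hA] at this
  obtain ⟨u, hu⟩ := this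
  exact ha ⟨u, by simpa [sq] using (congrArg Units.val hu).symm⟩

theorem commutator_eq_top_of_equiv {G H : Type*} [Group G] [Group H] (e : G ≃* H)
    (hG : commutator G = ⊤) : commutator H = ⊤ := by
  rw [eq_top_iff]
  have := map_commutator (⊤ : Subgroup G) ⊤ e.toMonoidHom
  rw [← commutator_def, hG, map_top_of_surjective _ e.surjective] at this
  rw [commutator_def, ← this]

/-- A perfect group of order `(p+1) p d`, `d < p`, with a core-free subgroup of index `p + 1`
is `PSL₂(p)`. -/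
theorem psl2_of_index {G : Type*} [Group G] [Finite G] (hG : commutator G = ⊤) {p d : ℕ}
    (hp : p.Prime) (hp2 : p ≠ 2) (H : Subgroup G) (hH : H.index = p + 1) (hc : H.normalCore = ⊥)
    (hcard : Nat.card G = (p + 1) * p * d) (hd : d < p) :
    2 * d = p - 1 ∧ ∀ (F : Type*) [Field F] [Fintype F], Fintype.card F = p →
      Nonempty (G ≃* Matrix.ProjectiveSpecialLinearGroup (Fin 2) F) := by
  classical
  have := Fact.mk hp
  have := Fintype.ofFinite (G ⧸ H)
  let f := MulAction.toPermHom G (G ⧸ H)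
  have hf : Function.Injective f := by
    rw [← MonoidHom.ker_eq_bot_iff, ← hc, normalCore_eq_ker]
  let e : G ≃* f.range := MonoidHom.ofInjective hf
  have : MulAction.IsPretransitive f.range (G ⧸ H) := ⟨fun x y => by
    obtain ⟨g, hg⟩ := MulAction.exists_smul_eq G x y
    exact ⟨⟨f g, g, rfl⟩, hg⟩⟩
  have hα : Fintype.card (G ⧸ H) = p + 1 := by
    rw [← Nat.card_eq_fintype_card, ← index_eq_card, hH]
  rcases H21.s0732 hp hα f.range ((Nat.card_congr e.toEquiv).symm.trans hcard) hd with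
    ⟨-, ⟨e'⟩⟩ | ⟨h1, ⟨e'⟩⟩ | ⟨q, hq, -, -, e', h⟩
  · exact absurd (commutator_eq_top_of_equiv (e.trans e') hG)
      (not_perfect_pgl (by rwa [ZMod.ringChar_zmod_n]))
  · refine ⟨h1, fun F _ _ hF => ⟨(e.trans e').trans (H16.pslCongr ?_)⟩⟩
    exact FiniteField.ringEquivOfCardEq (by rw [ZMod.card, hF])
  · exfalso
    have := Fact.mk hq
    have h1 := eq_one_of_semiaffine hG
      ((e'.permCongrHom : Equiv.Perm (G ⧸ H) →* Equiv.Perm (GaloisField 2 q)).comp f) fun g => h ⟨f g, g, rfl⟩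
    have h2 : ∀ g : G, g = 1 := fun g => hf (by
      rw [map_one]; exact e'.permCongrHom.injective (by rw [map_one]; exact h1 g))
    have : Nat.card G = 1 := Nat.card_eq_one_iff_unique.2 ⟨⟨fun a b => by rw [h2 a, h2 b]⟩, ⟨1⟩⟩
    rw [hcard] at this
    have h3 := Nat.eq_one_of_mul_eq_one_right (Nat.eq_one_of_mul_eq_one_right this)
    have := hp.pos
    omega

/-- A simple group with exactly `p + 1` Sylow `p`-subgroups and order `< (p+1) p²` is `PSL₂(p)`. -/
theorem psl2_of_card_sylow {G : Type*} [Group G] [Finite G] [IsSimpleGroup G] {p d : ℕ}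
    [hp : Fact p.Prime] (hp2 : p ≠ 2) (hn : Nat.card (Sylow p G) = p + 1)
    (hcard : Nat.card G = (p + 1) * p * d) (hd : d < p) :
    2 * d = p - 1 ∧ ∀ (F : Type*) [Field F] [Fintype F], Fintype.card F = p →
      Nonempty (G ≃* Matrix.ProjectiveSpecialLinearGroup (Fin 2) F) := by
  obtain ⟨P⟩ : Nonempty (Sylow p G) := inferInstance
  have hi : (normalizer ((P : Subgroup G) : Set G)).index = p + 1 := by
    rw [← hn, P.card_eq_index_normalizer]; rfl
  have hne : normalizer ((P : Subgroup G) : Set G) ≠ ⊤ := fun h => by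
    rw [h, index_top] at hi
    have := hp.out.pos
    omega
  have hnc : ¬ IsMulCommutative G := fun h => hne (by
    rw [eq_top_iff]
    intro g _
    rw [mem_normalizer_iff]
    intro x
    rw [h.is_comm.comm g x, mul_inv_cancel_right])
  exact psl2_of_index (commutator_eq_top_of_simple hnc) hp.out hp2 _ hi
    (normalCore_eq_bot_of_simple hne) hcard hd

end H18
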