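import Mathlib
import Cfsg.Agent.H18.PSL2

/-! Sylow numbers of simple groups. -/

set_option autoImplicit false

namespace H18

open Subgroup

variable {G : Type*} [Group G] [Finite G]

theorem index_normalizer_sylow {p : ℕ} [Fact p.Prime] (P : Sylow p G) :
    (normalizer ((P : Subgroup G) : Set G)).index = Nat.card (Sylow p G) := by
  rw [P.card_eq_index_normalizer]; rfl

theorem sylow_ne_bot {p : ℕ} [Fact p.Prime] (hd : p ∣ Nat.card G) (P : Sylow p G) :
    (P : Subgroup G) ≠ ⊥ := P.ne_bot_of_dvd_card hd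

theorem normalizer_sylow_ne_top [IsSimpleGroup G] (hG : ¬ IsMulCommutative G) {p : ℕ}
    [Fact p.Prime] (hd : p ∣ Nat.card G) (P : Sylow p G) :
    normalizer ((P : Subgroup G) : Set G) ≠ ⊤ := fun h => by
  have hn : (P : Subgroup G).Normal := normalizer_eq_top_iff.1 h
  rcases hn.eq_bot_or_eq_top with h1 | h1
  · exact sylow_ne_bot hd P h1
  · have hp : IsPGroup p G := fun g => by
      obtain ⟨k, hk⟩ := P.2 ⟨g, h1 ▸ mem_top g⟩
      exact ⟨k, congrArg Subtype.val hk⟩
    have := hp.center_nontrivial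
    rcases (inferInstance : (center G).Normal).eq_bot_or_eq_top with h2 | h2
    · rw [h2] at this
      exact not_nontrivial _ this
    · exact hG ⟨⟨fun a b => (mem_center_iff.1 (h2 ▸ mem_top b) a)⟩⟩

theorem card_sylow_spec [IsSimpleGroup G] (hG : ¬ IsMulCommutative G) (p : ℕ)
    [hp : Fact p.Prime] (hd : p ∣ Nat.card G) :
    Nat.card (Sylow p G) ∣ Nat.card G ∧ Nat.card (Sylow p G) % p = 1 ∧ 1 < Nat.card (Sylow p G) ∧
      2 * Nat.card G ∣ (Nat.card (Sylow p G)).factorial := by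
  obtain ⟨P⟩ : Nonempty (Sylow p G) := inferInstance
  have h1 := normalizer_sylow_ne_top hG hd P
  refine ⟨?_, ?_, ?_, ?_⟩
  · rw [← index_normalizer_sylow P]; exact index_dvd_card _
  · have := card_sylow_modEq_one p G
    rwa [Nat.ModEq, Nat.mod_eq_of_lt hp.out.one_lt] at this
  · rw [← index_normalizer_sylow P]; exact one_lt_index_of_ne_top h1
  · rw [← index_normalizer_sylow P]; exact two_mul_card_dvd_factorial hG _ h1

theorem card_sylow_mem [IsSimpleGroup G] {n : ℕ} (hn : Nat.card G = n) (hnp : ¬ n.Prime) (p : ℕ)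
    [Fact p.Prime] (hd : p ∣ n) :
    Nat.card (Sylow p G) ∈ n.divisors.filter fun k => k % p = 1 ∧ 1 < k := by
  subst hn
  obtain ⟨h1, h2, h3, -⟩ := card_sylow_spec (not_comm_of_not_prime hnp) p hd
  exact Finset.mem_filter.2 ⟨Nat.mem_divisors.2 ⟨h1, Nat.card_pos.ne'⟩, h2, h3⟩

theorem psl2_of_card [IsSimpleGroup G] {n p d : ℕ} (hn : Nat.card G = n) (hnp : ¬ n.Prime)
    (hp : p.Prime) (hp2 : p ≠ 2) (he : n = (p + 1) * p * d) (hd : d < p)
    (h : ∀ k ∈ n.divisors, k % p = 1 → 1 < k → k = p + 1) (F : Type*) [Field F] [Fintype F]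
    (hF : Fintype.card F = p) : Nonempty (G ≃* Matrix.ProjectiveSpecialLinearGroup (Fin 2) F) := by
  have := Fact.mk hp
  have h1 := Finset.mem_filter.1 (card_sylow_mem hn hnp p
    (he ▸ (Dvd.intro_left _ rfl).mul_right d))
  exact (psl2_of_card_sylow hp2 (h _ h1.1 h1.2.1 h1.2.2) (hn.trans he) hd).2 F hF

end H18
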