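import Mathlib
import Cfsg.Agent.H18.D1d
import Cfsg.Agent.H18.Syl

/-! Determinant condition, and the bound `χ(1) ≥ 2p` when `C_G(P) ≠ P`. -/

set_option autoImplicit false
set_option linter.unusedSectionVars false

open Cfsg H4 H17 Subgroup
open scoped ComplexConjugate

namespace H18

variable {G : Type*} [Group G] [Finite G] {p : ℕ} [hp : Fact p.Prime]

theorem psi_natCast_mul (n : ℕ) (b : ZMod p) : psi ((n : ZMod p) * b) = psi b ^ n := by
  rw [← nsmul_eq_mul, psi, psi, AddChar.map_nsmul_eq_pow]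

theorem psi_injective : Function.Injective (psi : ZMod p → ℂ) := ZMod.injective_stdAddChar

theorem psi_eq_one_iff {b : ZMod p} : psi b = 1 ↔ b = 0 := by
  rw [← psi_zero (p := p), psi_injective.eq_iff]

theorem isPrimitiveRoot_psi {b : ZMod p} (hb : b ≠ 0) : IsPrimitiveRoot (psi b) p := by
  have := IsPrimitiveRoot.orderOf (psi b)
  rwa [orderOf_eq_prime (psi_pow b) (fun h => hb (psi_eq_one_iff.1 h))] at this

theorem exists_psi_eq {z : ℂ} (hz : z ^ p = 1) : ∃ b : ZMod p, psi b = z := by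
  obtain ⟨i, -, hi⟩ := (isPrimitiveRoot_psi (p := p) one_ne_zero).eq_pow_of_pow_eq_one hz
  exact ⟨i, by rw [← hi, ← psi_natCast_mul, mul_one]⟩

theorem psi_sum {ι : Type*} (s : Finset ι) (b : ι → ZMod p) :
    psi (∑ i ∈ s, b i) = ∏ i ∈ s, psi (b i) := by
  classical
  induction s using Finset.induction_on with
  | empty => simp
  | insert a s ha ih => rw [Finset.sum_insert ha, Finset.prod_insert ha, psi_add, ih]

theorem exists_eigenvalues_of_perfect (hG : commutator G = ⊤) {θ : G → ℂ} (hθ : IsCharacter G θ)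
    (g : G) : ∃ (n : ℕ) (ω : Fin n → ℂ), θ 1 = n ∧ (∀ i, ω i ^ orderOf g = 1) ∧
      (∀ k : ℕ, θ (g ^ k) = ∑ i, ω i ^ k) ∧ ∏ i, ω i = 1 := by
  obtain ⟨n, ρ, rfl⟩ := hθ
  obtain ⟨b, ω, h1, h2, h3, -⟩ := rep_eigenbasis ρ g
  refine ⟨_, ω, by simp, h1, h3, ?_⟩
  have h4 := congrArg Units.val
    (hom_eq_one_of_perfect hG (MonoidHom.toHomUnits ((LinearMap.det (A := ℂ)).comp ρ)) g)
  simp only [MonoidHom.coe_toHomUnits, MonoidHom.comp_apply, Units.val_one] at h4
  rw [← h4, ← LinearMap.det_toMatrix b, ← Matrix.det_diagonal]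
  congr 1
  ext i j
  rw [LinearMap.toMatrix_apply, h2, map_smul, b.repr_self, Matrix.diagonal_apply]
  by_cases hij : i = j
  · subst hij; simp
  · simp [hij]

theorem mult_eq_card {y : G} (hy : orderOf y = p) {θ : G → ℂ} (hθ : IsCharacter G θ) {ι : Type*}
    [Fintype ι] (b : ι → ZMod p) (h : ∀ k : ℕ, θ (y ^ k) = ∑ i, psi (b i) ^ k) (c : ZMod p) :
    mult y θ c = (Finset.univ.filter fun i => b i = c).card := by
  apply Nat.cast_injective (R := ℂ)
  rw [mult_eq hy hθ]
  have h1 : ∀ j : ZMod p, θ (xp y j) * psi (-(j * c)) = ∑ i, psi (j * (b i - c)) := fun j => by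
    rw [xp, h, Finset.sum_mul]
    refine Finset.sum_congr rfl fun i _ => ?_
    rw [← psi_natCast_mul, ZMod.natCast_zmod_val, ← psi_add]
    congr 1; ring
  simp only [h1]
  rw [Finset.sum_comm]
  simp only [sum_psi, sub_eq_zero, Finset.sum_ite, Finset.sum_const_zero, add_zero,
    Finset.sum_const, nsmul_eq_mul]
  field_simp [p_ne_zero' (p := p)]

/-- The determinant condition. -/
theorem sum_mult_mul_eq_zero (hG : commutator G = ⊤) {y : G} (hy : orderOf y = p) {θ : G → ℂ}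
    (hθ : IsCharacter G θ) : ∑ c : ZMod p, (mult y θ c : ZMod p) * c = 0 := by
  obtain ⟨n, ω, -, h1, h2, h3⟩ := exists_eigenvalues_of_perfect hG hθ y
  choose b hb using fun i => exists_psi_eq (p := p) (hy ▸ h1 i)
  have h4 := mult_eq_card hy hθ b (by simpa only [hb] using h2)
  have h5 : ∑ i, b i = 0 := by rw [← psi_eq_one_iff, psi_sum]; simpa only [hb] using h3
  rw [← h5, ← Finset.sum_fiberwise Finset.univ b b]
  refine Finset.sum_congr rfl fun c _ => ?_
  rw [h4, Finset.sum_congr rfl fun i hi => (Finset.mem_filter.1 hi).2, Finset.sum_const,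
    nsmul_eq_mul]

theorem sum_mult {y : G} (hy : orderOf y = p) {θ : G → ℂ} (hθ : IsCharacter G θ) :
    θ 1 = (∑ c : ZMod p, mult y θ c : ℕ) := by
  have := apply_xp_eq_sum_mult hy hθ 0
  simpa using this

theorem dvd_mult {q : ℕ} [hq : Fact q.Prime] {x y : G} (hx : orderOf x = p) (hy : orderOf y = q)
    (hc : Commute x y) {θ : G → ℂ} (hθ : IsCharacter G θ)
    (h : ∀ i : ZMod p, i ≠ 0 → ∀ j : ZMod q, θ (xp x i * xp y j) = θ (xp x i)) {b : ZMod q}
    (hb : b ≠ 0) : p ∣ mult y θ b := by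
  let f : Multiplicative (ZMod p) × Multiplicative (ZMod q) →* G :=
    (xpHom hx).noncommCoprod (xpHom hy) fun _ _ => (hc.pow_left _).pow_right _
  obtain ⟨n, hn⟩ := (hθ.comp f).inner_nat
    (isIrrCharacter_monoidHom ((psiHom b).comp (MonoidHom.snd _ _))).isCharacter
  refine ⟨n, ?_⟩
  apply Nat.cast_injective (R := ℂ)
  push_cast
  rw [mult_eq hy hθ, ← hn, classInner_def, Fintype.sum_prod_type]
  have h1 : ∑ i : Multiplicative (ZMod p), ∑ j : Multiplicative (ZMod q), θ (f (i, j)) *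
      conj (((psiHom b).comp (MonoidHom.snd (Multiplicative (ZMod p)) _)) (i, j)) =
      ∑ i : ZMod p, ∑ j : ZMod q, θ (xp x i * xp y j) * psi (-(j * b)) := by
    refine (Fintype.sum_equiv Multiplicative.ofAdd _ _ fun i => ?_).symm
    refine Fintype.sum_equiv Multiplicative.ofAdd _ _ fun j => ?_
    rw [← conj_psi]; rfl
  rw [h1, sum_eq_add_sum_units (p := p), Finset.sum_eq_zero (s := Finset.univ) (f := fun i : (ZMod p)ˣ =>
    ∑ j : ZMod q, θ (xp x (i : ZMod p) * xp y j) * psi (-(j * b))) fun i _ => by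
      simp only [h _ i.ne_zero, ← Finset.mul_sum, ← mul_neg, sum_psi, neg_eq_zero, if_neg hb,
        mul_zero]]
  simp only [xp_zero, one_mul, add_zero, Fintype.card_prod, Nat.card_eq_fintype_card,
    Fintype.card_multiplicative, ZMod.card]
  push_cast
  generalize ∑ j : ZMod q, θ (xp y j) * psi (-(j * b)) = S
  field_simp [p_ne_zero' (p := p), p_ne_zero' (p := q)]

theorem two_mul_le_of_commute (hG : commutator G = ⊤) {q : ℕ} [hq : Fact q.Prime] (hpq : p ≠ q)
    {x y : G} (hx : orderOf x = p) (hy : orderOf y = q) (hc : Commute x y) {χ : Irr G}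
    (h : ∀ i : ZMod p, i ≠ 0 → ∀ j : ZMod q, χ.1 (xp x i * xp y j) = χ.1 (xp x i))
    (h1 : χ.1 y ≠ χ.1 1) : 2 * p ≤ deg χ := by
  have hθ := χ.2.isCharacter
  choose n hn using fun b : (ZMod q)ˣ => dvd_mult hx hy hc hθ h b.ne_zero
  have h2 : deg χ = mult y χ.1 (0 : ZMod q) + p * ∑ b, n b := by
    have := sum_mult hy hθ
    rw [← deg_eq, Nat.cast_inj, sum_eq_add_sum_units] at this
    simp only [this, hn, Finset.mul_sum]
  have h3 := sum_mult_mul_eq_zero hG hy hθ
  rw [sum_eq_add_sum_units fun c : ZMod q => (mult y χ.1 c : ZMod q) * c] at h3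
  simp only [mul_zero, zero_add, hn, Nat.cast_mul, mul_assoc, ← Finset.mul_sum] at h3
  have h4 : (p : ZMod q) ≠ 0 := by
    rw [Ne, ZMod.natCast_eq_zero_iff, Nat.prime_dvd_prime_iff_eq hq.out hp.out]
    exact hpq.symm
  have h5 := (mul_eq_zero.1 h3).resolve_left h4
  by_contra hlt
  have h6 : ∑ b, n b ≤ 1 := by
    by_contra h7
    have : p * 2 ≤ p * ∑ b, n b := Nat.mul_le_mul_left _ (by omega)
    omega
  by_cases h7 : ∀ b, n b = 0
  · apply h1
    have h8 := apply_xp_eq_sum_mult hy hθ 1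
    rw [xp_one, sum_eq_add_sum_units fun j => (mult y χ.1 j : ℂ) * psi (1 * j)] at h8
    rw [h8, ← deg_eq, h2]
    simp [hn, h7]
  · push Not at h7
    obtain ⟨b, hb⟩ := h7
    have h8 : ∀ c, c ≠ b → n c = 0 := fun c hcb => by
      have := Finset.add_le_sum (f := n) (s := Finset.univ) (fun _ _ => Nat.zero_le _)
        (Finset.mem_univ c) (Finset.mem_univ b) hcb
      omega
    have h9 : n b = 1 := by
      have := Finset.single_le_sum (f := n) (s := Finset.univ) (fun _ _ => Nat.zero_le _)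
        (Finset.mem_univ b)
      omega
    rw [Finset.sum_eq_single b (fun c _ hcb => by simp [h8 c hcb]) (by simp), h9] at h5
    simp at h5

theorem D1.exists_commute {x : G} (h : D1 p x) (hC : centralizer ({x} : Set G) ≠ zpowers x) :
    ∃ (q : ℕ) (y : G), q.Prime ∧ p ≠ q ∧ orderOf y = q ∧ Commute x y := by
  have hle : zpowers x ≤ centralizer ({x} : Set G) := by
    rw [zpowers_le]; exact mem_centralizer_singleton_iff.2 rfl
  obtain ⟨c, hc⟩ := card_dvd_of_le hle
  rw [Nat.card_zpowers, h.ord] at hc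
  have hc1 : c ≠ 1 := by
    rintro rfl
    exact hC (eq_of_le_of_card_ge hle (by rw [hc, Nat.card_zpowers, h.ord, mul_one])).symm
  obtain ⟨q, hq, hqc⟩ := Nat.exists_prime_and_dvd hc1
  have := Fact.mk hq
  obtain ⟨y, hy⟩ := exists_prime_orderOf_dvd_card' (G := centralizer ({x} : Set G)) q
    (hc ▸ hqc.mul_left p)
  refine ⟨q, y, hq, ?_, by rw [orderOf_coe, hy], (H17.mem_centralizer_singleton.1 y.2).symm⟩
  rintro rfl
  refine h.nd (Dvd.dvd.trans ?_ (card_subgroup_dvd_card (centralizer ({x} : Set G))))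
  rw [hc, sq]
  exact Nat.mul_dvd_mul_left _ hqc

/-- If a faithful character of the principal block of a perfect group has degree `< 2p`, then the
Sylow `p`-subgroup is self-centralizing. -/
theorem D1.centralizer_eq_of_deg_lt' (hG : commutator G = ⊤) {x : G} (h : D1 p x) {χ : Irr G}
    (hχ : χ ∈ B0 p G) (hf : ∀ g, χ.1 g = χ.1 1 → g = 1) (hd : deg χ < 2 * p) :
    centralizer ({x} : Set G) = zpowers x := by
  by_contra hC
  obtain ⟨q, y, hq, hpq, hy, hc⟩ := h.exists_commute hC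
  have := Fact.mk hq
  refine absurd (two_mul_le_of_commute hG hpq h.ord hy hc (fun i hi j => ?_) fun h1 => ?_) hd.not_ge
  · refine (h.xp hi).apply_mul (fun hd => ?_) ((hc.pow_left _).pow_right _) hχ
    have := hd.trans (orderOf_dvd_of_mem_zpowers (xp_mem y j))
    rw [hy, Nat.prime_dvd_prime_iff_eq hp.out hq] at this
    exact hpq this
  · rw [hf y h1, orderOf_one] at hy
    exact hq.one_lt.ne hy

theorem D1.centralizer_eq_of_deg_lt [IsSimpleGroup G] (hG : ¬ IsMulCommutative G) {x : G}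
    (h : D1 p x) {χ : Irr G} (hχ : χ ∈ B0 p G) (h1 : χ ≠ irrOne G) (hd : deg χ < 2 * p) :
    centralizer ({x} : Set G) = zpowers x :=
  h.centralizer_eq_of_deg_lt' (commutator_eq_top_of_simple hG) hχ
    (fun _ hg => χ.2.eq_one_of_apply_eq_of_simple (irr_ne_one_iff.1 h1) hg) hd

theorem D1.card_eq {x : G} (h : D1 p x) :
    Nat.card G = Nat.card (centralizer ({x} : Set G)) *
      (Nat.card (Aut h.ord) * Nat.card (Sylow p G)) := by
  rw [← h.index_centralizer, card_mul_index]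

theorem D1.card_eq_of_centralizer {x : G} (h : D1 p x)
    (hC : centralizer ({x} : Set G) = zpowers x) :
    Nat.card G = p * (Nat.card (Aut h.ord) * Nat.card (Sylow p G)) := by
  rw [h.card_eq, hC, Nat.card_zpowers, h.ord]

theorem card_Aut_dvd {x : G} (hx : orderOf x = p) : Nat.card (Aut hx) ∣ p - 1 :=
  Dvd.intro _ (card_Aut_mul_index hx)

theorem D1.card_Aut_ne_one (hG : commutator G = ⊤) {x : G} (h : D1 p x) :
    Nat.card (Aut h.ord) ≠ 1 := by
  intro h1
  obtain ⟨D⟩ := h.nonempty_bData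
  have h2 : D.Nx = {irrOne G} := by
    have := D.card_Nx
    rw [h1, Finset.card_eq_one] at this
    obtain ⟨a, ha⟩ := this
    have h3 := D.one_mem
    rw [ha, Finset.mem_singleton] at h3
    rw [ha, h3]
  have h3 := D.deg_rel 1
  rw [h2, Finset.sum_singleton, D.a_one, (deg_eq_one_iff_of_perfect hG).2 rfl] at h3
  have h4 : deg (D.μ 1) = 1 := by rcases D.δ_sq with h5 | h5 <;> rw [h5] at h3 <;> omega
  exact D.μ_ne_one 1 ((deg_eq_one_iff_of_perfect hG).1 h4)

theorem D1.exists_not_dvd {x : G} (h : D1 p x) {q : ℕ} (hq : q.Prime) :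
    ∃ χ ∈ B0 p G, χ ≠ irrOne G ∧ ¬ q ∣ deg χ := by
  obtain ⟨M, hM⟩ := exists_PM hp.out
  obtain ⟨χ, h1, h2, h3, -⟩ := exists_principal_not_dvd M hq (g := x) (h.ord ▸ dvd_rfl)
  exact ⟨χ, fun M' _ => h1.change M', h2, h3⟩

theorem sum_deg_sq : ∑ χ : Irr G, deg χ ^ 2 = Nat.card G := by
  apply Nat.cast_injective (R := ℂ)
  push_cast
  simp only [deg_eq]
  exact sum_degree_sq

theorem sum_deg_sq_le (s : Finset (Irr G)) : ∑ χ ∈ s, deg χ ^ 2 ≤ Nat.card G :=
  sum_deg_sq (G := G) ▸ Finset.sum_le_sum_of_subset (Finset.subset_univ s)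

theorem deg_irrOne : deg (irrOne G) = 1 := by
  have := deg_eq (irrOne G)
  rw [irrOne_apply] at this
  exact_mod_cast this

theorem deg_sq_lt {χ : Irr G} (h : χ ≠ irrOne G) : deg χ ^ 2 < Nat.card G := by
  classical
  have := sum_deg_sq_le {χ, irrOne G}
  rw [Finset.sum_pair h, deg_irrOne] at this
  omega

/-- Degrees modulo `p`. -/
theorem BData.deg_cases {x : G} {h : D1 p x} (D : BData h) {χ : Irr G} (hχ : χ ∈ B0 p G) :
    (deg χ : ℤ) ≡ 1 [ZMOD p] ∨ (deg χ : ℤ) ≡ -1 [ZMOD p] ∨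
      (deg χ : ℤ) ≡ Nat.card (Aut h.ord) [ZMOD p] ∨ (deg χ : ℤ) ≡ -Nat.card (Aut h.ord) [ZMOD p] := by
  rcases (D.mem_iff χ).1 hχ with h1 | ⟨j, rfl⟩
  · have h2 := D.deg_Nx h1
    rcases D.a_sq χ h1 with h3 | h3 <;> rw [h3] at h2
    · exact Or.inl h2
    · exact Or.inr (Or.inl h2)
  · have h2 := D.deg_μ j
    rcases D.δ_sq with h3 | h3 <;> rw [h3] at h2
    · exact Or.inr (Or.inr (Or.inr (by simpa using h2)))
    · exact Or.inr (Or.inr (Or.inl (by simpa using h2)))

end H18
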