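import Mathlib
import Cfsg.Agent.H18.D1e
import Cfsg.Agent.S1009

/-! No finite group has exactly 21 Sylow 5-subgroups (M. Hall). -/

set_option autoImplicit false

open Cfsg H4 H17 Subgroup

namespace H18

universe u

section General

variable {G : Type*} [Group G] [Finite G] {p : ℕ} [hp : Fact p.Prime]

omit hp in
theorem card_sylow_subgroup_le (H : Subgroup G) : Nat.card (Sylow p H) ≤ Nat.card (Sylow p G) := by
  choose f hf using fun P : Sylow p H => P.exists_comap_subtype_eq
  exact Nat.card_le_card_of_injective f fun P Q h => Sylow.ext (by rw [← hf, ← hf, h])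

theorem card_sylow_of_normal (H : Subgroup G) [H.Normal] (P : Sylow p G)
    (h : (P : Subgroup G) ≤ H) : Nat.card (Sylow p H) = Nat.card (Sylow p G) := by
  refine le_antisymm (card_sylow_subgroup_le H) ?_
  have hle : ∀ Q : Sylow p G, (Q : Subgroup G) ≤ H := fun Q => by
    obtain ⟨g, rfl⟩ := MulAction.exists_smul_eq G P Q
    intro y hy
    rw [Sylow.coe_subgroup_smul, mem_pointwise_smul_iff_inv_smul_mem] at hy
    simpa [mul_assoc] using (inferInstance : H.Normal).conj_mem _ (h hy) g
  exact Nat.card_le_card_of_injective (fun Q : Sylow p G => Q.subtype (hle Q))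
    fun _ _ h => Sylow.subtype_injective h

theorem card_sylow_dvd_of_surjective {H : Type*} [Group H] [Finite H] {f : G →* H}
    (hf : Function.Surjective f) : Nat.card (Sylow p H) ∣ Nat.card (Sylow p G) := by
  obtain ⟨P⟩ : Nonempty (Sylow p G) := inferInstance
  rw [← index_normalizer_sylow P, ← index_normalizer_sylow (P.mapSurjective hf),
    ← index_comap_of_surjective _ hf]
  refine index_dvd_of_le ?_
  rw [← map_le_iff_le_comap]
  exact le_normalizer_map f

theorem normal_of_card_sylow_eq_one (h : Nat.card (Sylow p G) = 1) (P : Sylow p G) :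
    (P : Subgroup G).Normal := by
  rw [← index_normalizer_sylow P, index_eq_one] at h
  exact normalizer_eq_top_iff.1 h

theorem card_sylow_eq_one_of_normal (P : Sylow p G) (h : (P : Subgroup G).Normal) :
    Nat.card (Sylow p G) = 1 := by
  rw [← index_normalizer_sylow P, index_eq_one]
  exact normalizer_eq_top_iff.2 h

/-- With fewer than `p²` Sylow subgroups and `O_p(G) = 1`, Sylow `p`-subgroups have order at most `p`. -/
theorem not_sq_dvd_of_card_sylow_lt (h : Nat.card (Sylow p G) < p ^ 2)
    (hO : ⨅ R : Sylow p G, (R : Subgroup G) = ⊥) : ¬ p ^ 2 ∣ Nat.card G := by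
  have h1 : ∀ P Q : Sylow p G, ((Q : Subgroup G).subgroupOf P).index ∣ p := fun P Q => by
    obtain ⟨k, hk⟩ := P.2.index ((Q : Subgroup G).subgroupOf P)
    have h2 : ((Q : Subgroup G).subgroupOf P).index ≤ Nat.card (Sylow p G) := by
      rw [← card_orbit_sylow]
      exact Nat.card_le_card_of_injective _ Subtype.val_injective
    have h3 : k < 2 := (Nat.pow_lt_pow_iff_right hp.out.one_lt).1 (hk ▸ h2.trans_lt h)
    rw [hk]
    exact (pow_dvd_pow p (by omega : k ≤ 1)).trans (by simp)
  have h2 : ∀ P : Sylow p G, IsMulCommutative (P : Subgroup G) := fun P => by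
    have h3 : ∀ Q : Sylow p G, commutator (P : Subgroup G) ≤ (Q : Subgroup G).subgroupOf P := by
      intro Q
      rcases (Nat.dvd_prime hp.out).1 (h1 P Q) with h4 | h4
      · rw [index_eq_one.1 h4]; exact le_top
      · obtain ⟨n, hn⟩ := P.2.exists_card_eq
        have hn0 : n ≠ 0 := by
          rintro rfl
          have := ((Q : Subgroup G).subgroupOf P).index_dvd_card
          rw [h4, hn, pow_zero] at this
          exact hp.out.one_lt.ne' (Nat.dvd_one.1 this)
        have hN : ((Q : Subgroup G).subgroupOf P).Normal :=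
          normal_of_index_eq_minFac_card (by rw [h4, hn, hp.out.pow_minFac hn0])
        rw [← Normal.quotient_commutative_iff_commutator_le]
        have := isCyclic_of_prime_card (p := p) (α := P ⧸ (Q : Subgroup G).subgroupOf P) h4
        exact IsCyclic.isMulCommutative
    refine ⟨⟨fun a b => ?_⟩⟩
    rw [← commutatorElement_eq_one_iff_mul_comm]
    apply Subtype.ext
    change _ = (1 : G)
    rw [← mem_bot, ← hO, mem_iInf]
    exact fun Q => h3 Q (commutator_mem_commutator (mem_top a) (mem_top b))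
  obtain ⟨P, Q, hPQ⟩ := Cfsg.Agent.S1009.result p h2
  have h3 := h1 P Q
  rw [← inf_subgroupOf_left, hPQ, hO, bot_subgroupOf, index_bot, P.card_eq_multiplicity] at h3
  intro hd
  have h4 := (hp.out.pow_dvd_iff_le_factorization Nat.card_pos.ne').1 hd
  have h5 := Nat.le_of_dvd hp.out.pos ((pow_dvd_pow p h4).trans h3)
  have := hp.out.one_lt
  nlinarith

omit [Finite G] hp in
theorem iInf_sylow_normal : (⨅ R : Sylow p G, (R : Subgroup G)).Normal := ⟨fun y hy g => by
  rw [mem_iInf] at hy ⊢
  intro R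
  have := hy (g⁻¹ • R)
  rw [Sylow.coe_subgroup_smul, mem_pointwise_smul_iff_inv_smul_mem] at this
  simpa using this⟩

end General

theorem not_simple_21 {G : Type*} [Group G] [Finite G] [IsSimpleGroup G]
    (h : Nat.card (Sylow 5 G) = 21) (h2 : ¬ 5 ^ 2 ∣ Nat.card G) : False := by
  have : Fact (Nat.Prime 5) := ⟨by norm_num⟩
  obtain ⟨P⟩ : Nonempty (Sylow 5 G) := inferInstance
  have hG : ¬ IsMulCommutative G := fun hc => by
    rw [card_sylow_eq_one_of_normal P inferInstance] at h
    omega
  have hperf := commutator_eq_top_of_simple hG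
  have h5 : 5 ∣ Nat.card G := by
    by_contra h5
    have : (P : Subgroup G) = ⊥ := by
      rw [← card_eq_one, P.card_eq_multiplicity, Nat.factorization_eq_zero_of_not_dvd h5, pow_zero]
    rw [card_sylow_eq_one_of_normal P (this ▸ inferInstance)] at h
    omega
  obtain ⟨x, hx⟩ := exists_D1 h5 h2
  obtain ⟨D⟩ := hx.nonempty_bData
  have he := card_Aut_dvd hx.ord
  have he1 := hx.card_Aut_ne_one hperf
  have hdvd := fun χ (hχ : χ ∈ B0 5 G) => D.deg_dvd hχ
  have hmod := fun χ (hχ : χ ∈ B0 5 G) => D.deg_cases hχ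
  have hcard := hx.card_eq_of_centralizer
  rw [h] at hdvd hcard
  generalize Nat.card (Aut hx.ord) = e at he he1 hdvd hmod hcard
  have he2 : e = 2 ∨ e = 4 := by
    have := Nat.le_of_dvd (by norm_num) he
    interval_cases e <;> simp_all
  have hC : centralizer ({x} : Set G) = zpowers x := by
    obtain ⟨χ, hχ, h1, h7⟩ := hx.exists_not_dvd (q := 7) (by norm_num)
    refine hx.centralizer_eq_of_deg_lt hG hχ h1 ?_
    have h3 := hdvd χ hχ
    have h4 := hmod χ hχ
    generalize deg χ = d at h3 h4 h7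
    rcases he2 with rfl | rfl
    · have := Nat.le_of_dvd (by norm_num) h3
      interval_cases d <;> simp_all
    · have := Nat.le_of_dvd (by norm_num) h3
      interval_cases d <;> first | omega | (revert h4; decide)
  have hc := hcard hC
  rcases he2 with rfl | rfl
  · have := twelve_or_sixteen_or_fiftysix hG (by rw [hc]; decide)
    rw [hc] at this
    omega
  · obtain ⟨χ, hχ, h1, h7⟩ := hx.exists_not_dvd (q := 2) (by norm_num)
    have h3 := hdvd χ hχ
    have h4 := hmod χ hχ
    have h5 := deg_sq_lt h1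
    have h6 := (deg_eq_one_iff_of_perfect hperf).not.2 h1
    rw [hc] at h5
    generalize deg χ = d at h3 h4 h5 h6 h7
    have := Nat.le_of_dvd (by norm_num) h3
    interval_cases d <;> first | omega | (revert h4; decide)

theorem card_sylow_five_ne (n : ℕ) : ∀ (G : Type u) [Group G] [Finite G], Nat.card G = n →
    Nat.card (Sylow 5 G) ≠ 21 := by
  have : Fact (Nat.Prime 5) := ⟨by norm_num⟩
  have : Fact (Nat.Prime 3) := ⟨by norm_num⟩
  induction n using Nat.strong_induction_on with
  | _ n ih =>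
  intro G _ _ hn h
  obtain ⟨P⟩ : Nonempty (Sylow 5 G) := inferInstance
  have key : ∀ N : Subgroup G, N.Normal → N ≠ ⊥ → (P : Subgroup G) ⊔ N = ⊤ := by
    intro N hN hN1
    have hs := QuotientGroup.mk'_surjective N
    have h1 := card_sylow_dvd_of_surjective (p := 5) hs
    have h2 := card_sylow_modEq_one 5 (G ⧸ N)
    have h3 := ih (Nat.card (G ⧸ N)) (by
      rw [← hn, card_eq_card_quotient_mul_card_subgroup N]
      exact lt_mul_of_one_lt_right Nat.card_pos (N.one_lt_card_iff_ne_bot.2 hN1)) _ rfl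
    rw [h] at h1
    have h4 : Nat.card (Sylow 5 (G ⧸ N)) = 1 := by
      have := Nat.le_of_dvd (by norm_num) h1
      generalize Nat.card (Sylow 5 (G ⧸ N)) = m at *
      interval_cases m <;> first | omega | (revert h2; decide)
    have h5 := (normal_of_card_sylow_eq_one h4 (P.mapSurjective hs)).comap (QuotientGroup.mk' N)
    rw [Sylow.coe_mapSurjective, comap_map_eq, QuotientGroup.ker_mk'] at h5
    by_contra hc
    refine ih (Nat.card ((P : Subgroup G) ⊔ N : Subgroup G)) ?_ _ rfl
      ((card_sylow_of_normal _ P le_sup_left).trans h)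
    rw [← hn]
    exact lt_of_le_of_ne (card_le_card_group _) fun h6 => hc (eq_top_of_card_eq _ h6)
  have hP : ¬ (P : Subgroup G).Normal := fun hP => by
    rw [card_sylow_eq_one_of_normal P hP] at h
    omega
  have hO : ⨅ R : Sylow 5 G, (R : Subgroup G) = ⊥ := by
    by_contra hc
    have := key _ iInf_sylow_normal hc
    rw [sup_eq_left.2 (iInf_le _ P)] at this
    exact hP (this ▸ inferInstance)
  have h25 := not_sq_dvd_of_card_sylow_lt (by rw [h]; norm_num) hO
  by_cases hS : IsSimpleGroup G
  · exact not_simple_21 h h25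
  have hnt : Nontrivial G := by
    by_contra hc
    rw [not_nontrivial_iff_subsingleton] at hc
    exact hP (Subsingleton.elim ⊤ (P : Subgroup G) ▸ inferInstance)
  obtain ⟨N, hN, hN1, hN2⟩ : ∃ N : Subgroup G, N.Normal ∧ N ≠ ⊥ ∧ N ≠ ⊤ := by
    by_contra hc
    push Not at hc
    exact hS ⟨fun N hN => or_iff_not_imp_left.2 (hc N hN)⟩
  have h1 : N.index ∣ Nat.card (P : Subgroup G) := by
    rw [← relIndex_top_right, ← key N hN hN1, relIndex_sup_right]
    exact relIndex_dvd_card _ _
  obtain ⟨k, hk⟩ := P.2.exists_card_eq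
  rw [hk] at h1
  obtain ⟨j, -, hj⟩ := (Nat.dvd_prime_pow Nat.prime_five).1 h1
  have hj0 : j ≠ 0 := by
    rintro rfl
    exact hN2 (index_eq_one.1 hj)
  have h5N : ¬ 5 ∣ Nat.card N := fun hd => h25 (by
    rw [← N.card_mul_index, sq, hj]
    exact Nat.mul_dvd_mul hd (dvd_pow_self 5 hj0))
  obtain ⟨Q0⟩ : Nonempty (Sylow 3 G) := inferInstance
  have hQ0 : (Q0 : Subgroup G) ≤ N := by
    intro y hy
    rw [← QuotientGroup.eq_one_iff, ← orderOf_eq_one_iff]
    obtain ⟨a, ha⟩ := Q0.2 ⟨y, hy⟩
    have h2 : orderOf (y : G ⧸ N) ∣ 3 ^ a := orderOf_dvd_of_pow_eq_one (by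
      rw [← QuotientGroup.mk_pow, show y ^ 3 ^ a = 1 from congrArg Subtype.val ha]; rfl)
    have h3 : orderOf (y : G ⧸ N) ∣ 5 ^ j := hj ▸ orderOf_dvd_natCard _
    exact Nat.eq_one_of_dvd_coprimes (Nat.Coprime.pow _ _ (by norm_num)) h2 h3
  have h3 : ¬ 5 ∣ Nat.card (Sylow 3 G) := fun hd => h5N (by
    rw [← card_sylow_of_normal N Q0 hQ0, ← index_normalizer_sylow (Q0.subtype hQ0)] at hd
    exact hd.trans (index_dvd_card _))
  obtain ⟨Q, hQ⟩ := P.2.nonempty_fixed_point_of_prime_not_dvd_card (Sylow 3 G) h3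
  have hPQ : (P : Subgroup G) ≤ normalizer ((Q : Subgroup G) : Set G) := fun y hy =>
    Sylow.smul_eq_iff_mem_normalizer.1 (hQ ⟨y, hy⟩)
  let H : Subgroup G := (P : Subgroup G) ⊔ Q
  have hQH : ((Q : Subgroup G).subgroupOf H).Normal :=
    (normal_subgroupOf_iff_le_normalizer le_sup_right).2 (sup_le hPQ le_normalizer)
  have h4 : ((Q : Subgroup G).subgroupOf H).index ∣ 5 ^ k := by
    have h6 : (P : Subgroup G).subgroupOf H ⊔ (Q : Subgroup G).subgroupOf H = ⊤ := by
      rw [← subgroupOf_sup le_sup_left le_sup_right, subgroupOf_self]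
    rw [← relIndex_top_right, ← h6, relIndex_sup_right, ← hk,
      ← Nat.card_congr (subgroupOfEquivOfLe (le_sup_left : (P : Subgroup G) ≤ H)).toEquiv]
    exact relIndex_dvd_card _ _
  obtain ⟨l, hl⟩ := Q.2.exists_card_eq
  have h5 : Nat.card (Sylow 5 H) ∣ 3 ^ l * 5 ^ k := by
    rw [← index_normalizer_sylow (P.subtype (le_sup_left : (P : Subgroup G) ≤ H))]
    refine (index_dvd_card _).trans ?_
    rw [← ((Q : Subgroup G).subgroupOf H).card_mul_index,
      Nat.card_congr (subgroupOfEquivOfLe (le_sup_right : (Q : Subgroup G) ≤ H)).toEquiv, hl]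
    exact Nat.mul_dvd_mul_left _ h4
  have h6 : Nat.card (Sylow 5 H) ∣ 3 ^ l := Nat.Coprime.dvd_of_dvd_mul_right
    (Nat.Coprime.pow_right _ ((Nat.Prime.coprime_iff_not_dvd Nat.prime_five).2
      (not_dvd_card_sylow 5 H)).symm) h5
  obtain ⟨m, -, hm⟩ := (Nat.dvd_prime_pow Nat.prime_three).1 h6
  have h7 := card_sylow_subgroup_le (p := 5) H
  have h8 := card_sylow_modEq_one 5 H
  rw [hm, h] at h7
  have h9 : m < 3 := (Nat.pow_lt_pow_iff_right (by norm_num : 1 < 3)).1 (by omega)
  have h10 : Nat.card (Sylow 5 H) = 1 := by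
    rw [hm] at h8 ⊢
    interval_cases m <;> first | rfl | (revert h8; decide)
  have h11 := normal_of_card_sylow_eq_one h10 (P.subtype (le_sup_left : (P : Subgroup G) ≤ H))
  rw [Sylow.coe_subtype, normal_subgroupOf_iff_le_normalizer le_sup_left] at h11
  have h12 := index_dvd_of_le (le_sup_right.trans h11)
  rw [index_normalizer_sylow, h] at h12
  exact Q.not_dvd_index (Dvd.dvd.trans (by norm_num) h12)

end H18
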