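import Mathlib
import Cfsg.Agent.H18.Hall21
import Cfsg.Agent.S0995
import Cfsg.Agent.S1018

/-! The normalizer of a subgroup of prime order; self-centralizing Sylow subgroups of order `p`. -/

set_option autoImplicit false
set_option linter.unusedSectionVars false

open Cfsg H4 H17 Subgroup
open scoped ComplexConjugate commutatorElement

namespace H18

variable {G : Type*} [Group G] [Finite G] {p : ℕ} [hp : Fact p.Prime]

theorem ne_one_of_orderOf {x : G} (hx : orderOf x = p) : x ≠ 1 := fun h1 => by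
  rw [h1, orderOf_one] at hx
  exact hp.out.one_lt.ne hx

theorem conj_xp (g x : G) (i : ZMod p) : g * xp x i * g⁻¹ = xp (g * x * g⁻¹) i := by
  simp [xp]

theorem mem_normalizer_zpowers_iff {x g : G} :
    g ∈ normalizer (zpowers x : Set G) ↔ g * x * g⁻¹ ∈ zpowers x := by
  constructor
  · intro hg
    exact (mem_normalizer_iff.1 hg x).1 (mem_zpowers x)
  · intro hg
    refine mem_normalizer_of_cj_eq (eq_of_le_of_card_ge ?_ (card_cj _ _).ge)
    rw [cj, MonoidHom.map_zpowers, zpowers_le]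
    simpa using hg

theorem exists_act {x : G} (hx : orderOf x = p) (g : normalizer (zpowers x : Set G)) :
    ∃ a : (ZMod p)ˣ, (g : G) * x * (g : G)⁻¹ = xp x (a : ZMod p) := by
  obtain ⟨i, hi⟩ := exists_xp_of_mem hx (mem_normalizer_zpowers_iff.1 g.2)
  have hi0 : i ≠ 0 := by
    rintro rfl
    rw [xp_zero, eq_comm, mul_inv_eq_one, mul_eq_left] at hi
    exact ne_one_of_orderOf hx hi
  exact ⟨Units.mk0 i hi0, hi.symm⟩

/-- The action of the normalizer of `⟨x⟩` on `⟨x⟩`. -/
noncomputable def act {x : G} (hx : orderOf x = p) : normalizer (zpowers x : Set G) →* (ZMod p)ˣ :=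
  MonoidHom.mk' (fun g => (exists_act hx g).choose) fun g h => by
    apply Units.ext
    apply xp_injective hx
    rw [← (exists_act hx (g * h)).choose_spec, Units.val_mul, xp_mul hx,
      ← (exists_act hx g).choose_spec, ← conj_xp, ← (exists_act hx h).choose_spec]
    simp [mul_assoc]

theorem act_spec {x : G} (hx : orderOf x = p) (g : normalizer (zpowers x : Set G)) :
    (g : G) * x * (g : G)⁻¹ = xp x (act hx g : ZMod p) := (exists_act hx g).choose_spec

theorem act_spec' {x : G} (hx : orderOf x = p) (g : normalizer (zpowers x : Set G)) (i : ZMod p) :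
    (g : G) * xp x i * (g : G)⁻¹ = xp x ((act hx g : ZMod p) * i) := by
  rw [conj_xp, act_spec hx, xp_mul hx]

theorem act_eq_one_iff {x : G} (hx : orderOf x = p) {g : normalizer (zpowers x : Set G)} :
    act hx g = 1 ↔ (g : G) ∈ centralizer ({x} : Set G) := by
  rw [mem_centralizer_singleton_iff, ← mul_inv_eq_iff_eq_mul, act_spec hx, Units.ext_iff,
    ← (xp_injective hx).eq_iff, Units.val_one, xp_one]

theorem act_mem_Aut {x : G} (hx : orderOf x = p) (g : normalizer (zpowers x : Set G)) :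
    act hx g ∈ Aut hx := isConj_iff.2 ⟨g, act_spec hx g⟩

theorem exists_act_eq {x : G} (hx : orderOf x = p) {a : (ZMod p)ˣ} (ha : a ∈ Aut hx) :
    ∃ g, act hx g = a := by
  obtain ⟨g, hg⟩ := isConj_iff.1 ha
  refine ⟨⟨g, mem_normalizer_zpowers_iff.2 (hg ▸ xp_mem _ _)⟩, Units.ext (xp_injective hx ?_)⟩
  rw [← act_spec hx, hg]

theorem range_act {x : G} (hx : orderOf x = p) : (act hx).range = Aut hx := by
  ext a
  exact ⟨fun ⟨g, hg⟩ => hg ▸ act_mem_Aut hx g, exists_act_eq hx⟩

theorem ker_act {x : G} (hx : orderOf x = p) :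
    (act hx).ker = (centralizer ({x} : Set G)).subgroupOf _ := by
  ext g
  rw [MonoidHom.mem_ker, act_eq_one_iff, mem_subgroupOf]

theorem centralizer_le_normalizer_zpowers (x : G) :
    centralizer ({x} : Set G) ≤ normalizer (zpowers x : Set G) :=
  centralizer_zpowers x ▸ centralizer_le_normalizer _

theorem card_normalizer_zpowers {x : G} (hx : orderOf x = p) :
    Nat.card (normalizer (zpowers x : Set G)) =
      Nat.card (centralizer ({x} : Set G)) * Nat.card (Aut hx) := by
  rw [← (act hx).ker.card_mul_index, index_ker, range_act, ker_act,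
    Nat.card_congr (subgroupOfEquivOfLe (centralizer_le_normalizer_zpowers x)).toEquiv]

theorem commutator_mem_centralizer {x : G} (hx : orderOf x = p) {a b : G}
    (ha : a ∈ normalizer (zpowers x : Set G)) (hb : b ∈ normalizer (zpowers x : Set G)) :
    ⁅a, b⁆ ∈ centralizer ({x} : Set G) := by
  have := (act_eq_one_iff hx (g := ⁅(⟨a, ha⟩ : normalizer (zpowers x : Set G)), ⟨b, hb⟩⁆)).1
    (by rw [map_commutatorElement, commutatorElement_eq_one_iff_mul_comm, mul_comm])
  exact this

theorem pow_card_Aut_mem {x : G} (hx : orderOf x = p) {g : G}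
    (hg : g ∈ normalizer (zpowers x : Set G)) :
    g ^ Nat.card (Aut hx) ∈ centralizer ({x} : Set G) := by
  have := (act_eq_one_iff hx (g := (⟨g, hg⟩ : normalizer (zpowers x : Set G)) ^
    Nat.card (Aut hx))).1 (by
      rw [map_pow]
      exact congrArg Subtype.val (pow_card_eq_one' (x := (⟨_, act_mem_Aut hx ⟨g, hg⟩⟩ : Aut hx))))
  exact this

theorem isConj_xp_mul {x : G} (hx : orderOf x = p) {s : G}
    (hs : s ∈ normalizer (zpowers x : Set G)) (hs' : s ∉ centralizer ({x} : Set G)) (u : ZMod p) :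
    IsConj s (xp x u * s) := by
  have ha : (1 : ZMod p) - (act hx ⟨s, hs⟩ : ZMod p) ≠ 0 := by
    rw [sub_ne_zero, ne_comm, Ne, Units.val_eq_one, act_eq_one_iff]
    exact hs'
  set a := (act hx ⟨s, hs⟩ : ZMod p) with ha'
  refine isConj_iff.2 ⟨xp x (u / (1 - a)), ?_⟩
  have h1 := act_spec' hx ⟨s, hs⟩ (-(u / (1 - a)))
  rw [← ha', mul_inv_eq_iff_eq_mul] at h1
  rw [← xp_neg hx, mul_assoc, h1, ← mul_assoc, ← xp_add hx]
  congr 2
  field_simp
  ring

theorem D1.card_sylow_ne_one (hG : commutator G = ⊤) {x : G} (h : D1 p x) :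
    Nat.card (Sylow p G) ≠ 1 := by
  intro h1
  obtain ⟨P, hP⟩ := h.exists_sylow
  have h2 : normalizer (zpowers x : Set G) = ⊤ := by
    rw [hP, normalizer_eq_top_iff]; exact normal_of_card_sylow_eq_one h1 P
  have h3 : centralizer ({x} : Set G) = ⊤ := by
    rw [eq_top_iff, ← hG]
    exact commutator_le.2 fun a _ b _ =>
      commutator_mem_centralizer h.ord (h2 ▸ mem_top a) (h2 ▸ mem_top b)
  have h4 := card_normalizer_zpowers h.ord
  rw [h2, h3] at h4
  exact h.card_Aut_ne_one hG (by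
    simpa [Nat.card_pos.ne'] using h4)

theorem D1.exists_card_sylow {x : G} (_ : D1 p x) : ∃ n, Nat.card (Sylow p G) = n * p + 1 := by
  obtain ⟨n, hn⟩ := (Nat.modEq_iff_dvd' Nat.card_pos).1 (card_sylow_modEq_one p G).symm
  have : 0 < Nat.card (Sylow p G) := Nat.card_pos
  exact ⟨n, by rw [mul_comm n, ← hn]; omega⟩

theorem D1.index_normalizer {x : G} (h : D1 p x) :
    (normalizer (zpowers x : Set G)).index = Nat.card (Sylow p G) := by
  obtain ⟨P, hP⟩ := h.exists_sylow
  rw [hP, index_normalizer_sylow]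

theorem D1.card_fixedBy {x : G} (h : D1 p x) {y : G} (hy : orderOf y = p) :
    Nat.card (MulAction.fixedBy (G ⧸ normalizer (zpowers x : Set G)) y) = 1 := by
  obtain ⟨P, hP⟩ := h.exists_sylow
  rw [hP]
  exact (Cfsg.Agent.S1018.result p P (h.card_sylow P)).1 y hy

/-- `x` generates a self-centralizing subgroup of order `p`. -/
structure SC (p : ℕ) (x : G) : Prop where
  ord : orderOf x = p
  cent : centralizer ({x} : Set G) = zpowers x

namespace SC

variable {x : G} (h : SC p x)
include h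

theorem d1 : D1 p x := by
  obtain ⟨P, hP⟩ := Cfsg.Agent.S0995.aux p x h.ord h.cent
  refine ⟨h.ord, fun hd => ?_⟩
  have h1 := P.card_eq_multiplicity
  rw [hP, Nat.card_zpowers, h.ord] at h1
  have h2 := (hp.out.pow_dvd_iff_le_factorization Nat.card_pos.ne').1 hd
  have h3 : p ^ 1 = p ^ (Nat.card G).factorization p := by rw [pow_one]; exact h1
  have := Nat.pow_right_injective hp.out.two_le h3
  omega

theorem of_orderOf {y : G} (hy : orderOf y = p) : SC p y := by
  refine ⟨hy, (eq_of_le_of_card_ge ?_ ?_).symm⟩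
  · rw [zpowers_le]; exact mem_centralizer_singleton_iff.2 rfl
  · obtain ⟨i, hi⟩ := h.d1.exists_isConj_of_pElt (h.d1.of_orderOf hy).pElt (ne_one_of_orderOf hy)
    rw [H17.card_centralizer_of_isConj hi, h.d1.centralizer_xp i.ne_zero, h.cent, Nat.card_zpowers,
      Nat.card_zpowers, hy, h.ord]

theorem orderOf_eq {g : G} (hg : p ∣ orderOf g) : orderOf g = p := by
  have h1 := h.of_orderOf (h.d1.pp hg).ord
  have h2 : g ∈ zpowers (pp p g) := by
    rw [← h1.cent, H17.mem_centralizer_singleton]; exact commute_pp (Commute.refl g)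
  have h3 := orderOf_dvd_of_mem_zpowers h2
  rw [h1.ord] at h3
  exact Nat.dvd_antisymm h3 hg

theorem exists_isConj {g : G} (hg : p ∣ orderOf g) :
    ∃ i : (ZMod p)ˣ, IsConj g (xp x (i : ZMod p)) :=
  h.d1.exists_isConj_of_pElt (h.d1.of_orderOf (h.orderOf_eq hg)).pElt
    (ne_one_of_orderOf (h.orderOf_eq hg))

theorem card_eq : Nat.card G = p * (Nat.card (Aut h.ord) * Nat.card (Sylow p G)) :=
  h.d1.card_eq_of_centralizer h.cent

theorem card_normalizer :
    Nat.card (normalizer (zpowers x : Set G)) = p * Nat.card (Aut h.ord) := by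
  rw [card_normalizer_zpowers h.ord, h.cent, Nat.card_zpowers, h.ord]

theorem eq_one_of_commute {y : G} (hc : Commute x y) (hy : ¬ p ∣ orderOf y) : y = 1 := by
  have h1 : y ∈ zpowers x := by rw [← h.cent, H17.mem_centralizer_singleton]; exact hc.symm
  have h2 := orderOf_dvd_of_mem_zpowers h1
  rw [h.ord, Nat.dvd_prime hp.out] at h2
  exact orderOf_eq_one_iff.1 (h2.resolve_right fun h3 => hy (h3 ▸ dvd_rfl))

theorem orderOf_dvd {s : G} (hs : s ∈ normalizer (zpowers x : Set G)) (hp' : ¬ p ∣ orderOf s) :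
    orderOf s ∣ Nat.card (Aut h.ord) :=
  orderOf_dvd_of_pow_eq_one (h.eq_one_of_commute
    (H17.mem_centralizer_singleton.1 (pow_card_Aut_mem h.ord hs)).symm
    fun hd => hp' (hd.trans (orderOf_pow_dvd _)))

theorem notMem_centralizer {s : G} (hp' : ¬ p ∣ orderOf s) (h1 : s ≠ 1) :
    s ∉ centralizer ({x} : Set G) := fun hs =>
  h1 (h.eq_one_of_commute (H17.mem_centralizer_singleton.1 hs).symm hp')

theorem card_isConj_mem {q : ℕ} [hq : Fact q.Prime] (hpq : p ≠ q) {s : G} (hsq : orderOf s = q)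
    (hs : s ∈ normalizer (zpowers x : Set G)) :
    Nat.card {g : G // IsConj s g ∧ g ∈ normalizer (zpowers x : Set G)} =
      p * Nat.card (Aut hsq) := by
  have hreg : ∀ {y : G}, orderOf y = q → ¬ p ∣ orderOf y := fun hy hd => by
    rw [hy, Nat.prime_dvd_prime_iff_eq hp.out hq.out] at hd
    exact hpq hd
  have hxN : ∀ u : ZMod p, xp x u ∈ normalizer (zpowers x : Set G) := fun u =>
    le_normalizer (xp_mem x u)
  have hsN : ∀ b : ZMod q, xp s b ∈ normalizer (zpowers x : Set G) := fun b => pow_mem hs _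
  have hxa : ∀ u : ZMod p, act h.ord ⟨_, hxN u⟩ = 1 := fun u =>
    (act_eq_one_iff h.ord).2 (by rw [h.cent]; exact xp_mem x u)
  have hconj : ∀ (u : ZMod p) (b : ZMod q), b ≠ 0 → IsConj (xp s b) (xp x u * xp s b) :=
    fun u b hb => isConj_xp_mul h.ord (hsN b) (h.notMem_centralizer (hreg (orderOf_xp hsq hb))
      (ne_one_of_orderOf (orderOf_xp hsq hb))) u
  have hord : orderOf (act h.ord ⟨s, hs⟩) = q := orderOf_eq_prime (by
    rw [← map_pow, act_eq_one_iff]
    change s ^ q ∈ _
    rw [← hsq, pow_orderOf_eq_one]; exact one_mem _) (by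
    rw [Ne, act_eq_one_iff]
    exact h.notMem_centralizer (hreg hsq) (ne_one_of_orderOf hsq))
  have hsa : ∀ b : ZMod q, act h.ord ⟨_, hsN b⟩ = xp (act h.ord ⟨s, hs⟩) b := fun b => by
    exact map_pow (act h.ord) ⟨s, hs⟩ b.val
  symm
  rw [← Nat.card_zmod p, ← Nat.card_prod]
  refine Nat.card_congr (Equiv.ofBijective (fun ub => ⟨xp x ub.1 * xp s (ub.2.1 : ZMod q),
    IsConj.trans ub.2.2 (hconj _ _ ub.2.1.ne_zero), mul_mem (hxN _) (hsN _)⟩) ⟨?_, ?_⟩)
  · rintro ⟨u, b⟩ ⟨v, c⟩ huv
    have h1 : xp x u * xp s (b.1 : ZMod q) = xp x v * xp s (c.1 : ZMod q) :=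
      congrArg Subtype.val huv
    have h2 : act h.ord (⟨_, hxN u⟩ * ⟨_, hsN b.1⟩) = act h.ord (⟨_, hxN v⟩ * ⟨_, hsN c.1⟩) :=
      congrArg _ (Subtype.ext h1)
    rw [map_mul, map_mul, hxa, hxa, one_mul, one_mul, hsa, hsa] at h2
    have h3 := xp_injective hord h2
    rw [h3, mul_left_inj] at h1
    exact Prod.ext (xp_injective h.ord h1) (Subtype.ext (Units.ext h3))
  · rintro ⟨y, hy, hyN⟩
    have hyq : orderOf y = q := (orderOf_eq_of_isConj hy).symm.trans hsq
    have h1 : IsPrimitiveRoot (act h.ord ⟨s, hs⟩ : ZMod p) q := by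
      rw [IsPrimitiveRoot.coe_units_iff, ← hord]; exact IsPrimitiveRoot.orderOf _
    obtain ⟨i, -, hi⟩ := h1.eq_pow_of_pow_eq_one (ξ := (act h.ord ⟨y, hyN⟩ : ZMod p)) (by
      rw [← Units.val_pow_eq_pow_val, ← map_pow, Units.val_eq_one, act_eq_one_iff]
      change y ^ q ∈ _
      rw [← hyq, pow_orderOf_eq_one]; exact one_mem _)
    have h2 : act h.ord (⟨y, hyN⟩ * (⟨_, hsN i⟩)⁻¹) = 1 := by
      rw [map_mul, map_inv, hsa, xp_natCast hord, mul_inv_eq_one]
      exact Units.ext hi.symm
    rw [act_eq_one_iff, h.cent] at h2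
    obtain ⟨u, hu⟩ := exists_xp_of_mem h.ord h2
    have h3 : y = xp x u * xp s (i : ZMod q) := by rw [hu]; simp
    have hi0 : (i : ZMod q) ≠ 0 := by
      intro h0
      rw [h0, xp_zero, mul_one] at h3
      have := orderOf_dvd_of_mem_zpowers (h3 ▸ xp_mem x u)
      rw [hyq, h.ord, Nat.prime_dvd_prime_iff_eq hq.out hp.out] at this
      exact hpq this.symm
    refine ⟨⟨u, ⟨Units.mk0 _ hi0, ?_⟩⟩, Subtype.ext h3.symm⟩
    exact hy.trans (h3 ▸ (hconj u i hi0).symm)

theorem card_normalizer_eq_mul_fix {q : ℕ} [hq : Fact q.Prime] (hpq : p ≠ q) {s : G}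
    (hsq : orderOf s = q) (hs : s ∈ normalizer (zpowers x : Set G)) :
    Nat.card (normalizer (zpowers s : Set G)) = Nat.card (Aut h.ord) *
      Nat.card (MulAction.fixedBy (G ⧸ normalizer (zpowers x : Set G)) s) := by
  have h1 := card_fixedBy_mul' (normalizer (zpowers x : Set G)) s
  rw [h.card_isConj_mem hpq hsq hs, h.card_normalizer] at h1
  rw [card_normalizer_zpowers hsq]
  apply Nat.eq_of_mul_eq_mul_left hp.out.pos
  linarith

theorem exists_mem_normalizer {q : ℕ} [hq : Fact q.Prime] (hd : q ∣ Nat.card (Aut h.ord)) :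
    ∃ s ∈ normalizer (zpowers x : Set G), orderOf s = q := by
  obtain ⟨s, hs⟩ := exists_prime_orderOf_dvd_card' (G := normalizer (zpowers x : Set G)) q
    (h.card_normalizer ▸ hd.mul_left p)
  exact ⟨s, s.2, by rw [orderOf_coe, hs]⟩

theorem simple_of_card_sylow_lt (hG : commutator G = ⊤)
    (hn : Nat.card (Sylow p G) < (p + 1) ^ 2) : IsSimpleGroup G := by
  have : Nontrivial G := ⟨⟨x, 1, h.d1.ne_one⟩⟩
  refine ⟨fun N hN => ?_⟩
  by_cases hd : p ∣ Nat.card N
  · right
    obtain ⟨y, hy⟩ := exists_prime_orderOf_dvd_card' (G := N) p hd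
    have hy' := h.of_orderOf (y := y) (by rw [orderOf_coe, hy])
    obtain ⟨P, hP⟩ := hy'.d1.exists_sylow
    have hPN : (P : Subgroup G) ≤ N := by rw [← hP, zpowers_le]; exact y.2
    have h1 := P.normalizer_sup_eq_top' hPN
    rw [eq_top_iff, ← hG, ← Normal.quotient_commutative_iff_commutator_le]
    have h2 : ∀ a : G ⧸ N, ∃ b ∈ normalizer (zpowers (y : G) : Set G), (b : G ⧸ N) = a := by
      intro a
      obtain ⟨a, rfl⟩ := QuotientGroup.mk_surjective a
      have h3 : a ∈ (normalizer (P : Set G) ⊔ N : Subgroup G) := h1 ▸ mem_top a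
      rw [← SetLike.mem_coe, mul_normal] at h3
      obtain ⟨b, hb, c, hc, rfl⟩ := h3
      exact ⟨b, hP ▸ hb, by simp [(QuotientGroup.eq_one_iff c).2 hc]⟩
    refine ⟨⟨fun a b => ?_⟩⟩
    obtain ⟨a, ha, rfl⟩ := h2 a
    obtain ⟨b, hb, rfl⟩ := h2 b
    rw [← commutatorElement_eq_one_iff_mul_comm]
    have := commutator_mem_centralizer hy'.ord ha hb
    rw [hy'.cent, hP] at this
    exact (QuotientGroup.eq_one_iff ⁅a, b⁆).2 (hPN this)
  · left
    by_contra hN1
    have hreg : ∀ y ∈ N, ¬ p ∣ orderOf y := fun y hy => reg_of_mem hd hy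
    have hxq : D1 p (x : G ⧸ N) := by
      refine ⟨orderOf_eq_prime ?_ fun h1 => ?_, fun h1 => h.d1.nd (h1.trans
        (card_quotient_dvd_card N))⟩
      · rw [← QuotientGroup.mk_pow, show x ^ p = 1 from h.ord ▸ pow_orderOf_eq_one x]; rfl
      · exact hreg x ((QuotientGroup.eq_one_iff x).1 h1) (h.ord ▸ dvd_rfl)
    have hq : commutator (G ⧸ N) = ⊤ := by
      have := map_commutator (⊤ : Subgroup G) ⊤ (QuotientGroup.mk' N)
      rw [← commutator_def, hG, map_top_of_surjective _ (QuotientGroup.mk'_surjective N)] at this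
      exact this.symm
    obtain ⟨k, hk⟩ := hxq.exists_card_sylow
    have hk0 : k ≠ 0 := by
      rintro rfl
      exact hxq.card_sylow_ne_one hq (by simpa using hk)
    let M := normalizer (zpowers x : Set G)
    have h1 : Nat.card (Sylow p (G ⧸ N)) ∣ (M ⊔ N).index := by
      rw [← hxq.index_normalizer, ← index_comap_of_surjective _ (QuotientGroup.mk'_surjective N)]
      refine index_dvd_of_le (sup_le (fun g hg => ?_) fun g hg => ?_)
      · rw [mem_comap, mem_normalizer_zpowers_iff]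
        obtain ⟨n, hn⟩ := mem_normalizer_zpowers_iff.1 hg
        exact ⟨n, by simpa using congrArg (QuotientGroup.mk' N) hn⟩
      · rw [mem_comap, show QuotientGroup.mk' N g = 1 from (QuotientGroup.eq_one_iff g).2 hg]
        exact one_mem _
    have h2 : M ⊓ N = ⊥ := by
      rw [eq_bot_iff]
      rintro g ⟨hg1, hg2⟩
      have h3 : g * x * g⁻¹ * x⁻¹ ∈ zpowers x :=
        mul_mem (mem_normalizer_zpowers_iff.1 hg1) (inv_mem (mem_zpowers x))
      have h4 : g * x * g⁻¹ * x⁻¹ ∈ N := by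
        have := hN.conj_mem _ (inv_mem hg2) x
        simpa [mul_assoc] using mul_mem hg2 this
      have h5 : g * x * g⁻¹ * x⁻¹ = 1 := by
        refine h.eq_one_of_commute ?_ (hreg _ h4)
        rw [← h.cent] at h3
        exact (H17.mem_centralizer_singleton.1 h3).symm
      rw [mul_inv_eq_one, mul_inv_eq_iff_eq_mul] at h5
      exact h.eq_one_of_commute h5.symm (hreg g hg2)
    have h3 : M.index = Nat.card N * (M ⊔ N).index := by
      rw [← relIndex_mul_index (le_sup_left : M ≤ M ⊔ N)]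
      congr 1
      have h4 : Nat.card (M ⊔ N : Subgroup G) = Nat.card M * Nat.card N := by
        have h5 := (N.subgroupOf (M ⊔ N)).card_mul_index
        rw [Nat.card_congr (subgroupOfEquivOfLe (le_sup_right : N ≤ M ⊔ N)).toEquiv] at h5
        change _ * N.relIndex (M ⊔ N) = _ at h5
        rw [relIndex_sup_right, ← inf_relIndex_right, inf_comm, h2, relIndex_bot_left] at h5
        rw [← h5, mul_comm]
      have h5 := (M.subgroupOf (M ⊔ N)).card_mul_index
      rw [Nat.card_congr (subgroupOfEquivOfLe (le_sup_left : M ≤ M ⊔ N)).toEquiv, h4] at h5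
      exact Nat.eq_of_mul_eq_mul_left Nat.card_pos h5
    have h4 : Nat.card N ≡ 1 [MOD p] := by
      have h5 := H3.card_modEq_card_inf_centralizer (P := N) (g := x) (k := 1) hp.out
        (by rw [normalizer_eq_top_iff.2 hN]; exact mem_top x)
        (by rw [pow_one]; exact h.ord ▸ pow_orderOf_eq_one x)
      rwa [show N ⊓ centralizer {x} = ⊥ from eq_bot_iff.2 fun g hg => h.eq_one_of_commute
        (H17.mem_centralizer_singleton.1 hg.2).symm (hreg g hg.1), card_bot] at h5
    have h5 : p + 1 ≤ Nat.card N := by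
      have h6 := N.one_lt_card_iff_ne_bot.2 hN1
      have h7 := Nat.le_of_dvd (by omega) ((Nat.modEq_iff_dvd' h6.le).1 h4.symm)
      omega
    have h6 : p + 1 ≤ (M ⊔ N).index := by
      refine le_trans ?_ (Nat.le_of_dvd (Nat.pos_of_ne_zero index_ne_zero_of_finite) h1)
      rw [hk]
      have := Nat.le_mul_of_pos_left p (Nat.pos_of_ne_zero hk0)
      omega
    rw [← h.d1.index_normalizer] at hn
    change M.index < _ at hn
    rw [h3, sq] at hn
    exact absurd (Nat.mul_le_mul h5 h6) hn.not_ge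

end SC

end H18
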