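import Mathlib
import Cfsg.Agent.H18.D1f

/-! Character-theoretic tools for blocks of defect one. -/

set_option autoImplicit false
set_option linter.unusedSectionVars false

open Cfsg H4 H17 Subgroup
open scoped ComplexConjugate

namespace H18

variable {G : Type*} [Group G] [Finite G] {p : ℕ} [hp : Fact p.Prime]

theorem mult_zero_eq {x : G} (hx : orderOf x = p) {θ : G → ℂ} (hθ : IsCharacter G θ) :
    (mult x θ (0 : ZMod p) : ℂ) = (p : ℂ)⁻¹ * ∑ i : ZMod p, θ (xp x i) := by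
  rw [mult_eq hx hθ]; simp

theorem sum_xp_mul_eq_zero {x : G} (hx : orderOf x = p) {θ : G → ℂ} (hθ : IsCharacter G θ)
    (h : mult x θ (0 : ZMod p) = 0) (s : G) : ∑ i : ZMod p, θ (xp x i * s) = 0 := by
  have h1 := mult_zero_eq hx hθ
  obtain ⟨n, ρ, rfl⟩ := hθ
  let T : Module.End ℂ (Fin n → ℂ) := (p : ℂ)⁻¹ • ∑ i : ZMod p, ρ (xp x i)
  have hT : IsIdempotentElem T := by
    have h2 : ∀ i : ZMod p, ∑ j : ZMod p, ρ (xp x i) * ρ (xp x j) = ∑ j : ZMod p, ρ (xp x j) :=
      fun i => Fintype.sum_equiv (Equiv.addLeft i) _ _ fun j => by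
        rw [← map_mul, ← xp_add hx]; rfl
    change T * T = T
    simp only [T, smul_mul_smul_comm, Finset.sum_mul_sum, h2, Finset.sum_const, Finset.card_univ,
      ZMod.card]
    rw [← Nat.cast_smul_eq_nsmul ℂ, smul_smul, mul_assoc, inv_mul_cancel₀ p_ne_zero', mul_one]
  have h2 : T = 0 := LinearMap.IsIdempotentElem.eq_zero_of_trace_eq_zero hT (by
    rw [h, Nat.cast_zero] at h1
    simp only [T, map_smul, map_sum, smul_eq_mul]
    exact h1.symm)
  have h3 : ∑ i : ZMod p, ρ (xp x i) = 0 :=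
    (smul_eq_zero.1 h2).resolve_left (inv_ne_zero p_ne_zero')
  have h4 := congrArg (fun A => LinearMap.trace ℂ _ (A * ρ s)) h3
  simpa [Finset.sum_mul, Representation.character] using h4

theorem apply_eq_zero_of_mult_zero {x : G} (hx : orderOf x = p) {θ : G → ℂ} (hθ : IsCharacter G θ)
    (h : mult x θ (0 : ZMod p) = 0) {s : G} (hs : s ∈ normalizer (zpowers x : Set G))
    (hs' : s ∉ centralizer ({x} : Set G)) : θ s = 0 := by
  have h1 := sum_xp_mul_eq_zero hx hθ h s
  rw [Finset.sum_congr rfl fun i _ =>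
    (hθ.classFun.apply_of_isConj (isConj_xp_mul hx hs hs' i)).symm, Finset.sum_const,
    Finset.card_univ, ZMod.card, nsmul_eq_mul] at h1
  exact (mul_eq_zero.1 h1).resolve_left p_ne_zero'

theorem mult_irrOne {x : G} (hx : orderOf x = p) : mult x (irrOne G).1 (0 : ZMod p) = 1 := by
  apply Nat.cast_injective (R := ℂ)
  rw [mult_zero_eq hx (irrOne G).2.isCharacter]
  simp

theorem sum_mult_mul_apply {x : G} (hx : orderOf x = p) {g : G} (hg : ¬ p ∣ orderOf g)
    [Decidable (g = 1)] : ∑ χ : Irr G, (mult x χ.1 (0 : ZMod p) : ℂ) * χ.1 g =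
      if g = 1 then (Nat.card G : ℂ) / p else 0 := by
  have h1 : ∀ χ : Irr G, (mult x χ.1 (0 : ZMod p) : ℂ) * χ.1 g =
      ∑ i : ZMod p, (p : ℂ)⁻¹ * (χ.1 g * conj (χ.1 (xp x i))) := fun χ => by
    rw [← map_natCast (starRingEnd ℂ), mult_zero_eq hx χ.2.isCharacter]
    simp only [map_mul, map_inv₀, map_natCast, map_sum, Finset.mul_sum, Finset.sum_mul]
    exact Finset.sum_congr rfl fun _ _ => by ring
  simp only [h1]
  rw [Finset.sum_comm, sum_eq_add_sum_units]
  simp only [← Finset.mul_sum]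
  rw [Finset.sum_eq_zero (s := Finset.univ) (f := fun u : (ZMod p)ˣ =>
    ∑ χ : Irr G, χ.1 g * conj (χ.1 (xp x (u : ZMod p)))) fun u _ => column_orth_of_not_isConj
      fun hc => hg (by rw [orderOf_eq_of_isConj hc, orderOf_xp hx u.ne_zero]), mul_zero, add_zero,
    xp_zero]
  split_ifs with h2
  · subst h2
    rw [column_orth_of_isConj (IsConj.refl _), 
      show centralizer ({1} : Set G) = ⊤ by ext; simp, Subgroup.card_top]
    ring
  · rw [column_orth_of_not_isConj (by simpa using h2), mul_zero]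

section Fintype

variable {G : Type*} [Group G] [Fintype G]

/-- The permutation character on the cosets of `H`. -/
noncomputable def permChar (H : Subgroup G) : G → ℂ :=
  fun g => (Nat.card (MulAction.fixedBy (G ⧸ H) g) : ℂ)

theorem isCharacter_permChar (H : Subgroup G) : IsCharacter G (permChar H) :=
  isCharacter_fixedBy _

theorem permChar_eq (H : Subgroup G) : permChar H = indFun H fun _ => 1 := by
  have := fixedBy_eq_indFun (G := G) (G ⧸ H) ((1 : G) : G ⧸ H)
  rw [MulAction.stabilizer_quotient] at this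
  exact this

theorem permChar_one (H : Subgroup G) : permChar H 1 = H.index := by
  simp [permChar, index_eq_card]

theorem inner_permChar (H : Subgroup G) [Fintype H] {θ : G → ℂ} (hθ : IsClassFunction G θ) :
    classInner (permChar H) θ = classInner (fun _ : H => (1 : ℂ)) fun h : H => θ h := by
  rw [permChar_eq, classInner_indFun_left H _ hθ]

theorem inner_permChar_one (H : Subgroup G) : classInner (permChar H) (irrOne G).1 = 1 := by
  have := Fintype.ofFinite H
  rw [inner_permChar H (irrOne G).2.classFun]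
  exact classInner_one_one

theorem exists_inner_permChar_le {x : G} (hx : orderOf x = p) {H : Subgroup G} (hH : x ∈ H)
    (χ : Irr G) : ∃ f : ℕ, classInner (permChar H) χ.1 = f ∧ f ≤ mult x χ.1 (0 : ZMod p) := by
  have := Fintype.ofFinite H
  have hθ := χ.2.isCharacter.restrict H
  obtain ⟨f, hf⟩ := hθ.inner_nat isCharacter_one
  refine ⟨f, by rw [inner_permChar H χ.2.classFun, isCharacter_one.inner_comm hθ, hf], ?_⟩
  have h1 := hθ.sub_inner_smul isIrrCharacter_one
  have hx' : orderOf (⟨x, hH⟩ : H) = p := by rw [← orderOf_coe]; exact hx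
  have h2 := mult_zero_eq hx' h1
  simp only [hf, Pi.sub_apply, Pi.smul_apply, smul_eq_mul, mul_one, Finset.sum_sub_distrib,
    Finset.sum_const, Finset.card_univ, ZMod.card, nsmul_eq_mul, mul_sub] at h2
  have h3 := mult_zero_eq hx χ.2.isCharacter
  have h4 : ∀ i : ZMod p, ((xp (⟨x, hH⟩ : H) i : H) : G) = xp x i := fun i => rfl
  simp only [h4] at h2
  rw [← h3, ← mul_assoc, inv_mul_cancel₀ p_ne_zero', one_mul, eq_sub_iff_add_eq] at h2
  have h5 := Nat.cast_injective (R := ℂ) (by push_cast; exact h2 : ((_ + f : ℕ) : ℂ) = (_ : ℕ))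
  omega

theorem classInner_eq_zero_of_support {φ ψ : G → ℂ} (P : G → Prop) (h1 : ∀ g, P g → φ g = 0)
    (h2 : ∀ g, ¬ P g → ψ g = 0) : classInner φ ψ = 0 := by
  rw [classInner_def, Finset.sum_eq_zero, mul_zero]
  intro g _
  by_cases hg : P g
  · rw [h1 g hg, zero_mul]
  · rw [h2 g hg, map_zero, mul_zero]

theorem sum_deg_le_of_inner {θ : G → ℂ} (hθ : IsCharacter G θ) {d : ℕ} (hd : θ 1 = d)
    (s : Finset (Irr G)) (c : Irr G → ℕ) (h : ∀ χ ∈ s, ∀ n : ℕ, classInner θ χ.1 = n → c χ ≤ n) :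
    ∑ χ ∈ s, c χ * deg χ ≤ d := by
  choose n hn using fun χ : Irr G => hθ.inner_nat χ.2.isCharacter
  have h1 := hθ.classFun.apply_eq_sum 1
  simp only [hn, hd, ← deg_eq] at h1
  have h2 : d = ∑ χ : Irr G, n χ * deg χ := by exact_mod_cast h1
  rw [h2]
  exact (Finset.sum_le_sum fun χ hχ => Nat.mul_le_mul_right _ (h χ hχ _ (hn χ))).trans
    (Finset.sum_le_sum_of_subset (Finset.subset_univ s))

namespace BData

variable {x : G} {h : D1 p x} (D : BData h)

/-- The basic virtual characters vanishing on `p`-regular elements. -/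
noncomputable def Φ (j : (ZMod p)ˣ) : G → ℂ :=
  ∑ χ ∈ D.Nx, (D.a χ : ℂ) • χ.1 + (D.δ : ℂ) • (D.μ j).1

theorem Φ_apply (j : (ZMod p)ˣ) (g : G) :
    D.Φ j g = ∑ χ ∈ D.Nx, (D.a χ : ℂ) * χ.1 g + D.δ * (D.μ j).1 g := by
  simp [Φ, Finset.sum_apply]

theorem Φ_reg (j : (ZMod p)ˣ) {g : G} (hg : ¬ p ∣ orderOf g) : D.Φ j g = 0 := by
  rw [Φ_apply, D.rel hg]

theorem Φ_isGen (j : (ZMod p)ˣ) : IsGeneralizedCharacter G (D.Φ j) :=
  (isGen_sum _ _ fun χ _ => χ.2.isGen.intCast_smul _).add ((D.μ j).2.isGen.intCast_smul _)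

theorem inner_Φ (θ : G → ℂ) (j : (ZMod p)ˣ) : classInner θ (D.Φ j) =
    ∑ χ ∈ D.Nx, (D.a χ : ℂ) * classInner θ χ.1 + D.δ * classInner θ (D.μ j).1 := by
  simp only [Φ, classInner_add_right, classInner_sum_right, classInner_smul_right, map_intCast]

theorem inner_Φ_eq_zero {θ : G → ℂ} (hθ : ∀ g, p ∣ orderOf g → θ g = 0) (j : (ZMod p)ˣ) :
    ∑ χ ∈ D.Nx, (D.a χ : ℂ) * classInner θ χ.1 + D.δ * classInner θ (D.μ j).1 = 0 := by
  rw [← D.inner_Φ]
  exact classInner_eq_zero_of_support (fun g => p ∣ orderOf g) hθ fun g hg => D.Φ_reg j hg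

theorem inner_Nx {θ : G → ℂ} (hθ : ∀ g, ¬ p ∣ orderOf g → θ g = 0) {χ : Irr G} (hχ : χ ∈ D.Nx) :
    classInner θ χ.1 = D.a χ * classInner θ (irrOne G).1 := by
  have := classInner_eq_zero_of_support (φ := θ) (ψ := χ.1 - (D.a χ : ℂ) • (irrOne G).1)
    (fun g => ¬ p ∣ orderOf g) hθ fun g hg => by simp [D.apply_Nx hχ (not_not.1 hg)]
  rwa [classInner_sub_right, classInner_smul_right, map_intCast, sub_eq_zero] at this

theorem inner_mul_conj {j l : (ZMod p)ˣ} (hjl : D.μ j ≠ D.μ l) {χ : Irr G} (hχ : χ ∈ D.Nx) :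
    classInner ((D.μ j).1 * fun g => conj ((D.μ j).1 g)) χ.1 =
      classInner ((D.μ j).1 * fun g => conj ((D.μ l).1 g)) χ.1 + D.a χ := by
  have h1 := D.inner_Nx (θ := ((D.μ j).1 * fun g => conj ((D.μ j).1 g)) -
    (D.μ j).1 * fun g => conj ((D.μ l).1 g)) (fun g hg => by simp [D.μ_reg l j g hg]) hχ
  have h2 : ∀ k, classInner ((D.μ j).1 * fun g => conj ((D.μ k).1 g)) (irrOne G).1 =
      classInner (D.μ j).1 (D.μ k).1 := fun k => by
    rw [classInner_mul_left]; congr 1; ext g; simp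
  rw [classInner_sub_left, classInner_sub_left, h2, h2, (D.μ j).2.inner_self,
    (D.μ j).2.inner_of_ne (D.μ l).2 fun hc => hjl (Subtype.ext hc)] at h1
  linear_combination h1

theorem exists_μ_ne (ht : 2 ≤ (Aut h.ord).index) (j : (ZMod p)ˣ) : ∃ l, D.μ j ≠ D.μ l := by
  obtain ⟨a, ha⟩ : ∃ a, a ∉ Aut h.ord := by
    by_contra hc
    push Not at hc
    rw [(eq_top_iff' _).2 hc, index_top] at ht
    omega
  exact ⟨j * a, fun hc => ha (by simpa using D.μ_eq_iff.1 hc)⟩

theorem sum_deg_pos_le (ht : 2 ≤ (Aut h.ord).index) (j : (ZMod p)ˣ) :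
    ∑ χ ∈ D.Nx.filter (D.a · = 1), deg χ ≤ deg (D.μ j) ^ 2 := by
  obtain ⟨l, hl⟩ := D.exists_μ_ne ht j
  have := sum_deg_le_of_inner ((D.μ j).2.isCharacter.mul (D.μ j).2.isCharacter.conj)
    (d := deg (D.μ j) ^ 2) (by simp [← deg_eq, sq]) (D.Nx.filter (D.a · = 1)) (fun _ => 1)
    fun χ hχ n hn => by
      obtain ⟨h1, h2⟩ := Finset.mem_filter.1 hχ
      obtain ⟨m, hm⟩ := ((D.μ j).2.isCharacter.mul (D.μ l).2.isCharacter.conj).inner_nat
        χ.2.isCharacter
      rw [D.inner_mul_conj hl h1, hm, h2] at hn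
      have : m + 1 = n := by exact_mod_cast hn
      omega
  simpa using this

theorem sum_deg_neg_le (ht : 2 ≤ (Aut h.ord).index) (j : (ZMod p)ˣ) :
    ∑ χ ∈ D.Nx.filter (D.a · = -1), deg χ ≤ deg (D.μ j) ^ 2 := by
  obtain ⟨l, hl⟩ := D.exists_μ_ne ht j
  have := sum_deg_le_of_inner ((D.μ j).2.isCharacter.mul (D.μ l).2.isCharacter.conj)
    (d := deg (D.μ j) ^ 2) (by simp [← deg_eq, sq, D.deg_μ_congr l j])
    (D.Nx.filter (D.a · = -1)) (fun _ => 1)
    fun χ hχ n hn => by
      obtain ⟨h1, h2⟩ := Finset.mem_filter.1 hχ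
      obtain ⟨m, hm⟩ := ((D.μ j).2.isCharacter.mul (D.μ j).2.isCharacter.conj).inner_nat
        χ.2.isCharacter
      rw [D.inner_mul_conj hl h1, hn, h2] at hm
      have : (n : ℤ) + -1 = m := by exact_mod_cast hm
      omega
  simpa using this

theorem deg_Nx_eq {χ : Irr G} (hχ : χ ∈ D.Nx) :
    (deg χ : ℤ) = p * mult x χ.1 (0 : ZMod p) - (p - 1) * D.a χ := by
  rw [deg_eq_sum_wt h.ord]
  simp only [D.wt_Nx χ hχ, Finset.sum_const, Finset.card_univ, ZMod.card_units, nsmul_eq_mul,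
    Nat.cast_pred hp.out.pos]
  ring

open Classical in
/-- When the characters of sign `-1` have no `P`-fixed vectors and the degrees add up, the
permutation character on the Sylow subgroups is determined. -/
theorem permChar_formula (hC : centralizer ({x} : Set G) = zpowers x)
    (hneg : ∀ χ ∈ D.Nx, D.a χ = -1 → mult x χ.1 (0 : ZMod p) = 0)
    (hδ : D.δ = -1 → ∀ j, mult x (D.μ j).1 (0 : ZMod p) = 0)
    (hsum : ∑ χ ∈ (Bf G p).erase (irrOne G), mult x χ.1 (0 : ZMod p) * deg χ +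
      Nat.card (Sylow p G) = Nat.card (Aut h.ord) * Nat.card (Sylow p G))
    {g : G} (hg : ¬ p ∣ orderOf g) (hg1 : g ≠ 1) :
    permChar (normalizer (zpowers x : Set G)) g =
      -∑ χ ∈ (Bf G p).erase (irrOne G), (mult x χ.1 (0 : ZMod p) : ℂ) * χ.1 g := by
  have hS : SC p x := ⟨h.ord, hC⟩
  set π := permChar (normalizer (zpowers x : Set G)) with hπ
  choose f hf hfm using exists_inner_permChar_le h.ord
    (le_normalizer (mem_zpowers x) : x ∈ normalizer (zpowers x : Set G))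
  rw [← hπ] at hf
  have hf1 : f (irrOne G) = 1 := by
    have := hf (irrOne G)
    rw [hπ, inner_permChar_one] at this
    exact_mod_cast this.symm
  have h1 : ∀ j, ∑ χ ∈ D.Nx.erase (irrOne G), D.a χ * f χ + D.δ * f (D.μ j) = 0 := fun j => by
    have h2 := D.inner_Φ_eq_zero (θ := π - (irrOne G).1) (fun g hg => by
      rw [Pi.sub_apply, hπ, permChar, h.card_fixedBy (hS.orderOf_eq hg)]; simp) j
    simp only [classInner_sub_left, hf, irr_inner, if_neg (D.μ_ne_one j).symm] at h2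
    rw [← Finset.add_sum_erase _ _ D.one_mem, hf1, if_pos rfl,
      Finset.sum_congr rfl fun χ hχ => by rw [if_neg (Finset.ne_of_mem_erase hχ).symm]] at h2
    apply Int.cast_injective (α := ℂ)
    push_cast at h2 ⊢
    simpa using h2
  have h2 : ∀ χ ∈ D.Nx.erase (irrOne G), 0 ≤ D.a χ * f χ := fun χ hχ => by
    have h3 := Finset.mem_of_mem_erase hχ
    rcases D.a_sq χ h3 with h4 | h4
    · rw [h4]; positivity
    · have := hfm χ
      rw [hneg χ h3 h4, Nat.le_zero] at this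
      simp [this]
  have h3 : ∀ j, 0 ≤ D.δ * f (D.μ j) := fun j => by
    rcases D.δ_sq with h4 | h4
    · rw [h4]; positivity
    · have := hfm (D.μ j)
      rw [hδ h4, Nat.le_zero] at this
      simp [this]
  have h4 : ∀ χ ∈ (Bf G p).erase (irrOne G), f χ = 0 := fun χ hχ => by
    obtain ⟨h5, h6⟩ := Finset.mem_erase.1 hχ
    rcases (D.mem_iff χ).1 (mem_Bf.1 h6) with h7 | ⟨j, rfl⟩
    · have h8 := h1 1
      have h9 := h3 1
      have h10 := Finset.sum_nonneg h2
      have h11 := (Finset.sum_eq_zero_iff_of_nonneg h2).1 (by omega) χ (Finset.mem_erase.2 ⟨h5, h7⟩)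
      rcases D.a_sq χ h7 with h12 | h12 <;> rw [h12] at h11 <;> omega
    · have h8 := h1 j
      have h9 := h3 j
      have h10 := Finset.sum_nonneg h2
      have h11 : D.δ * f (D.μ j) = 0 := by omega
      simpa [D.δ_ne_zero] using h11
  have hπ1 : ∑ χ : Irr G, f χ * deg χ = Nat.card (Sylow p G) := by
    have := (isCharacter_permChar (normalizer (zpowers x : Set G))).classFun.apply_eq_sum 1
    rw [permChar_one, h.index_normalizer, ← hπ] at this
    simp only [hf, ← deg_eq] at this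
    exact_mod_cast this.symm
  have hm1 : ∑ χ : Irr G, mult x χ.1 (0 : ZMod p) * deg χ =
      Nat.card (Aut h.ord) * Nat.card (Sylow p G) := by
    have := sum_mult_mul_apply (G := G) h.ord (g := 1) reg_one
    rw [if_pos rfl, hS.card_eq, Nat.cast_mul, mul_div_cancel_left₀ _ p_ne_zero'] at this
    simp only [← deg_eq] at this
    exact_mod_cast this
  set B' := (Bf G p).erase (irrOne G) with hB'
  have h5 : ∑ χ ∈ B'ᶜ, f χ * deg χ = ∑ χ ∈ B'ᶜ, mult x χ.1 (0 : ZMod p) * deg χ := by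
    rw [← Finset.sum_add_sum_compl B'] at hπ1 hm1
    rw [Finset.sum_eq_zero fun χ hχ => by rw [h4 χ hχ, zero_mul]] at hπ1
    omega
  have h6 : ∀ χ ∈ B'ᶜ, f χ = mult x χ.1 (0 : ZMod p) := fun χ hχ =>
    Nat.eq_of_mul_eq_mul_right (Nat.pos_of_ne_zero (deg_ne_zero χ))
      ((Finset.sum_eq_sum_iff_of_le fun χ _ => Nat.mul_le_mul_right _ (hfm χ)).1 h5 χ hχ)
  have h7 := sum_mult_mul_apply (G := G) h.ord hg
  rw [if_neg hg1, ← Finset.sum_add_sum_compl B'] at h7
  rw [hπ, (isCharacter_permChar _).classFun.apply_eq_sum g, ← hπ, ← Finset.sum_add_sum_compl B',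
    Finset.sum_eq_zero fun χ hχ => by rw [hf, h4 χ hχ, Nat.cast_zero, zero_mul],
    Finset.sum_congr rfl fun χ hχ => by rw [hf, h6 χ hχ]]
  linear_combination h7

end BData

end Fintype

end H18
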