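import Mathlib
import Cfsg.Agent.H18.D1g

/-! Brauer's theorem on groups with few Sylow `p`-subgroups: the character-theoretic step. -/

set_option autoImplicit false
set_option linter.unusedSectionVars false

open Cfsg H4 H17 Subgroup
open scoped ComplexConjugate

namespace H18

theorem factor_aux {p n u v : ℤ} (hp : 3 ≤ p) (hn : 2 * n < p + 3) (hu : 0 ≤ u) (hv : 1 ≤ v)
    (h : (u * p + 1) * (v * p - 1) = (p - 1) * (n * p + 1)) : u = 0 ∨ (u = n ∧ v = 1) := by
  have h1 : (n - u * v) * (p - 1) = (u + 1) * (v - 1) :=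
    mul_left_cancel₀ (a := p) (by omega) (by linear_combination (-1 : ℤ) * h)
  rcases eq_or_lt_of_le hu with h2 | h2
  · exact Or.inl h2.symm
  rcases eq_or_lt_of_le hv with h3 | h3
  · subst h3
    right
    simp only [sub_self, mul_zero, mul_one, mul_eq_zero] at h1
    omega
  exfalso
  have h4 : 0 < (u + 1) * (v - 1) := mul_pos (by omega) (by omega)
  have h5 : 1 ≤ n - u * v := by
    by_contra hc
    have : (n - u * v) * (p - 1) ≤ 0 := mul_nonpos_of_nonpos_of_nonneg (by omega) (by omega)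
    omega
  nlinarith

theorem factor_cases {p n y W : ℕ} (hp : 3 ≤ p) (hn : 2 * n < p + 3)
    (h : y * W = (p - 1) * (n * p + 1)) :
    ((y : ℤ) ≡ 1 [ZMOD p] → y = 1 ∨ y = n * p + 1) ∧
      ((y : ℤ) ≡ -1 [ZMOD p] → y = p - 1 ∨ y = (p - 1) * (n * p + 1)) := by
  have key : ∀ y W : ℕ, y * W = (p - 1) * (n * p + 1) → (y : ℤ) ≡ 1 [ZMOD p] →
      y = 1 ∨ (y = n * p + 1 ∧ W = p - 1) := by
    intro y W h hy
    have h' : (y : ℤ) * W = (p - 1) * (n * p + 1) := by
      zify [show 1 ≤ p by omega] at h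
      exact h
    obtain ⟨u, hu⟩ := hy.symm.dvd
    have hW : (p : ℤ) ∣ W + 1 := ⟨n * p + 1 - n - u * W, by linear_combination h' - W * hu⟩
    obtain ⟨v, hv⟩ := hW
    have hy0 : y ≠ 0 := by
      rintro rfl
      simp at h
      omega
    have hu0 : 0 ≤ u := by
      by_contra hc
      nlinarith
    have hv0 : 1 ≤ v := by
      by_contra hc
      nlinarith
    rcases factor_aux (p := p) (n := n) (u := u) (v := v) (by omega) (by omega) hu0 hv0 (by
      rw [← h']; congr 1 <;> linarith) with h1 | ⟨h1, h2⟩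
    · left
      rw [h1] at hu
      omega
    · right
      rw [h1] at hu
      rw [h2] at hv
      constructor
      · zify; linarith
      · omega
  refine ⟨fun hy => (key y W h hy).imp_right And.left, fun hy => ?_⟩
  have hW : (W : ℤ) ≡ 1 [ZMOD p] := by
    have h' : (y : ℤ) * W = (p - 1) * (n * p + 1) := by
      zify [show 1 ≤ p by omega] at h
      exact h
    obtain ⟨u, hu⟩ := hy.dvd
    exact (Int.modEq_iff_dvd.2 ⟨n * p + 1 - n + u * W, by linear_combination h' + W * hu⟩)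
  rcases key W y (mul_comm y W ▸ h) hW with h1 | h1
  · right; rw [← h, h1, mul_one]
  · left; exact h1.2

variable {G : Type*} [Group G] [Fintype G] {p : ℕ} [hp : Fact p.Prime]

theorem SC.degrees (hG : commutator G = ⊤) {x : G} (h : SC p x) (D : BData h.d1) {n : ℕ}
    (hn : Nat.card (Sylow p G) = n * p + 1) (hn1 : 1 ≤ n) (hn2 : 2 * n < p + 3) :
    (∀ χ ∈ D.Nx, χ ≠ irrOne G → (D.a χ = 1 ∧ deg χ = n * p + 1) ∨ (D.a χ = -1 ∧ deg χ = p - 1)) ∧
      ∀ j, (D.δ = 1 ∧ (Aut h.ord).index * deg (D.μ j) = n * p + 1) ∨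
        (D.δ = -1 ∧ deg (D.μ j) = Nat.card (Aut h.ord)) := by
  have het := card_Aut_mul_index h.ord
  have het' := cast_card_Aut_mul_index h.ord
  have he1 := h.d1.card_Aut_ne_one hG
  have he0 : 0 < Nat.card (Aut h.ord) := Nat.card_pos
  have ht0 : 0 < (Aut h.ord).index := Nat.pos_of_ne_zero index_ne_zero_of_finite
  have hdvd := fun χ (hχ : χ ∈ B0 p G) => D.deg_dvd hχ
  have hcard := h.card_eq
  have hμ := D.deg_μ
  rw [hn] at hdvd hcard
  generalize Nat.card (Aut h.ord) = e at *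
  generalize (Aut h.ord).index = t at *
  have hp3 : 3 ≤ p := by
    have : 2 * 1 ≤ e * t := Nat.mul_le_mul (by omega) ht0
    omega
  have hep : e ≤ p - 1 := het ▸ Nat.le_mul_of_pos_right e ht0
  constructor
  · intro χ hχ h1
    obtain ⟨w, hw⟩ := hdvd χ (D.Nx_mem hχ)
    have h2 := factor_cases (y := deg χ) (W := t * w) hp3 hn2 (by
      rw [← het, mul_left_comm, ← hw]; ring)
    have h3 := D.deg_Nx hχ
    rcases D.a_sq χ hχ with h4 | h4 <;> rw [h4] at h3
    · exact Or.inl ⟨h4, (h2.1 h3).resolve_left ((deg_eq_one_iff_of_perfect hG).not.2 h1)⟩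
    · refine Or.inr ⟨h4, (h2.2 h3).resolve_right fun h5 => ?_⟩
      have h6 := deg_sq_lt h1
      rw [hcard, h5] at h6
      obtain ⟨q, rfl⟩ : ∃ q, p = q + 1 := ⟨p - 1, by omega⟩
      simp only [Nat.add_sub_cancel] at *
      have h7 : q + 1 ≤ q * (n * (q + 1) + 1) := by nlinarith
      have h8 := Nat.mul_le_mul h7 (Nat.mul_le_mul_right (n * (q + 1) + 1) hep)
      nlinarith
  · intro j
    obtain ⟨w, hw⟩ := hdvd _ (D.μ_mem j)
    have h2 := factor_cases (y := t * deg (D.μ j)) (W := w) hp3 hn2 (by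
      rw [← het, mul_assoc, ← hw]; ring)
    have h3 : ((t * deg (D.μ j) : ℕ) : ℤ) ≡ D.δ [ZMOD p] := by
      push_cast
      refine ((hμ j).mul_left t).trans (Int.modEq_iff_dvd.2 ⟨D.δ, ?_⟩)
      linear_combination D.δ * het'
    have h1 := D.μ_ne_one j
    rcases D.δ_sq with h4 | h4 <;> rw [h4] at h3
    · refine Or.inl ⟨h4, (h2.1 h3).resolve_left fun h5 => ?_⟩
      exact (deg_eq_one_iff_of_perfect hG).not.2 h1 (Nat.eq_one_of_mul_eq_one_left h5)
    · refine Or.inr ⟨h4, ?_⟩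
      rcases h2.2 h3 with h5 | h5
      · rw [← het, mul_comm e] at h5
        exact Nat.eq_of_mul_eq_mul_left ht0 h5
      · exfalso
        rw [← het, mul_comm e, mul_assoc] at h5
        have h6 := deg_sq_lt h1
        rw [hcard, Nat.eq_of_mul_eq_mul_left ht0 h5] at h6
        have h7 : p ≤ e * (n * p + 1) := by nlinarith
        have h8 := Nat.mul_le_mul_right (e * (n * p + 1)) h7
        nlinarith

theorem SC.step1 (hG : commutator G = ⊤) {x : G} (h : SC p x) {n : ℕ}
    (hn : Nat.card (Sylow p G) = n * p + 1) (hn1 : 1 ≤ n) (hn2 : 2 * n < p + 3) :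
    (∀ g, ¬ p ∣ orderOf g → g ≠ 1 → (∀ χ ∈ B0 p G, mult x χ.1 (0 : ZMod p) = 0 → χ.1 g = 0) →
      Nat.card (MulAction.fixedBy (G ⧸ normalizer (zpowers x : Set G)) g) = n + 1) ∧
    ((∃ α, Nat.card (Aut h.ord) = α * (n + 1) + 1 ∧
      (2 ≤ (Aut h.ord).index → α * (n * p + 1) + 1 ≤ Nat.card (Aut h.ord) ^ 2)) ∨
    ∃ α m, (Aut h.ord).index * m = n + 1 ∧ Nat.card (Aut h.ord) = α * (n + 1) + m + 1 ∧
      ∀ χ ∈ B0 p G, mult x χ.1 (0 : ZMod p) = 0 → deg χ = p - 1) := by
  classical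
  obtain ⟨D⟩ := h.d1.nonempty_bData
  obtain ⟨hN, hX⟩ := h.degrees hG D hn hn1 hn2
  have het' := cast_card_Aut_mul_index h.ord
  have hp0 : (0 : ℤ) < p := by exact_mod_cast hp.out.pos
  have hp1 : ((p - 1 : ℕ) : ℤ) = p - 1 := Nat.cast_pred hp.out.pos
  have ht0 : 0 < (Aut h.ord).index := Nat.pos_of_ne_zero index_ne_zero_of_finite
  let A := (D.Nx.erase (irrOne G)).filter (D.a · = 1)
  let B := (D.Nx.erase (irrOne G)).filter (¬ D.a · = 1)
  have hA : ∀ χ ∈ A, D.a χ = 1 ∧ deg χ = n * p + 1 ∧ mult x χ.1 (0 : ZMod p) = n + 1 := by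
    intro χ hχ
    obtain ⟨h1, h2⟩ := Finset.mem_filter.1 hχ
    obtain ⟨h3, h4⟩ := Finset.mem_erase.1 h1
    have h5 := ((hN χ h4 h3).resolve_right fun h5 => by omega).2
    have h6 := D.deg_Nx_eq h4
    rw [h5, h2] at h6
    refine ⟨h2, h5, ?_⟩
    have : (p : ℤ) * mult x χ.1 (0 : ZMod p) = p * (n + 1) := by push_cast at h6; linarith
    exact_mod_cast mul_left_cancel₀ hp0.ne' this
  have hB' : ∀ χ ∈ D.Nx, D.a χ = -1 → deg χ = p - 1 ∧ mult x χ.1 (0 : ZMod p) = 0 := by
    intro χ h4 h2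
    have h3 : χ ≠ irrOne G := by
      rintro rfl
      rw [D.a_one] at h2
      omega
    have h5 := ((hN χ h4 h3).resolve_left fun h5 => by omega).2
    have h6 := D.deg_Nx_eq h4
    rw [h5, h2, hp1] at h6
    refine ⟨h5, ?_⟩
    have : (p : ℤ) * mult x χ.1 (0 : ZMod p) = p * 0 := by linarith
    exact_mod_cast mul_left_cancel₀ hp0.ne' this
  have hB : ∀ χ ∈ B, D.a χ = -1 ∧ deg χ = p - 1 ∧ mult x χ.1 (0 : ZMod p) = 0 := by
    intro χ hχ
    obtain ⟨h1, h2⟩ := Finset.mem_filter.1 hχ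
    have h4 := Finset.mem_of_mem_erase h1
    have h5 := (D.a_sq χ h4).resolve_left h2
    exact ⟨h5, hB' χ h4 h5⟩
  have hsplit : ∀ {M : Type} [AddCommMonoid M] (f : Irr G → M),
      ∑ χ ∈ D.Nx, f χ = f (irrOne G) + (∑ χ ∈ A, f χ + ∑ χ ∈ B, f χ) := fun f => by
    rw [← Finset.add_sum_erase _ _ D.one_mem, Finset.sum_filter_add_sum_filter_not]
  have hsplit' : ∀ {M : Type} [AddCommGroup M] (f : Irr G → M),
      ∑ χ ∈ (Bf G p).erase (irrOne G), f χ = ∑ χ ∈ A, f χ + ∑ χ ∈ B, f χ + ∑ χ ∈ D.X, f χ :=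
    fun f => by
      have := Finset.add_sum_erase _ f (mem_Bf.2 (one_mem_B0 (p := p) (G := G)))
      rw [D.sum_Bf, hsplit, add_assoc] at this
      exact add_left_cancel this
  have hcount : Nat.card (Aut h.ord) = 1 + (A.card + B.card) := by
    rw [← D.card_Nx, Finset.card_eq_sum_ones, hsplit]; simp
  have hdegeq : (1 : ℤ) + (A.card * (n * p + 1) - B.card * (p - 1)) + D.δ * deg (D.μ 1) = 0 := by
    rw [← D.deg_rel 1, hsplit, D.a_one, deg_irrOne,
      Finset.sum_congr rfl fun χ hχ => by rw [(hA χ hχ).1, (hA χ hχ).2.1],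
      Finset.sum_congr (s₁ := B) rfl fun χ hχ => by rw [(hB χ hχ).1, (hB χ hχ).2.1, hp1]]
    simp only [Finset.sum_const, nsmul_eq_mul]
    push_cast; ring
  set m := mult x (D.μ 1).1 (0 : ZMod p) with hm
  have hmj : ∀ j, mult x (D.μ j).1 (0 : ZMod p) = m := fun j => by
    have h1 := D.deg_μ_eq j
    have h2 := D.deg_μ_eq 1
    rw [D.deg_μ_congr j 1] at h1
    have : (p : ℤ) * mult x (D.μ j).1 (0 : ZMod p) = p * m := by linarith
    exact_mod_cast mul_left_cancel₀ hp0.ne' this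
  have hmX : ∀ χ ∈ D.X, mult x χ.1 (0 : ZMod p) = m := fun χ hχ => by
    obtain ⟨j, rfl⟩ := D.mem_X.1 hχ
    exact hmj j
  have hsum : ((∑ χ ∈ (Bf G p).erase (irrOne G), mult x χ.1 (0 : ZMod p) * deg χ : ℕ) : ℤ) =
      A.card * ((n + 1) * (n * p + 1)) + (Aut h.ord).index * (m * deg (D.μ 1)) := by
    push_cast
    rw [hsplit', Finset.sum_congr rfl fun χ hχ => by rw [(hA χ hχ).2.2, (hA χ hχ).2.1],
      Finset.sum_congr (s₁ := B) rfl fun χ hχ => by rw [(hB χ hχ).2.2],
      Finset.sum_congr (s₁ := D.X) (g := fun _ => (m : ℤ) * deg (D.μ 1)) rfl fun χ hχ => by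
        obtain ⟨j, rfl⟩ := D.mem_X.1 hχ
        rw [hmj, D.deg_μ_congr j 1]]
    simp only [Finset.sum_const, nsmul_eq_mul, D.card_X, Nat.cast_zero, zero_mul, mul_zero]
    push_cast; ring
  have hπ : ∀ g, ¬ p ∣ orderOf g → ∑ χ ∈ (Bf G p).erase (irrOne G),
      (mult x χ.1 (0 : ZMod p) : ℂ) * χ.1 g =
      (n + 1) * ∑ χ ∈ A, χ.1 g + m * ((Aut h.ord).index * (D.μ 1).1 g) := fun g hg => by
    rw [hsplit', Finset.sum_congr rfl fun χ hχ => by rw [(hA χ hχ).2.2],
      Finset.sum_congr (s₁ := B) rfl fun χ hχ => by rw [(hB χ hχ).2.2],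
      Finset.sum_congr (s₁ := D.X) rfl fun χ hχ => by rw [hmX χ hχ], ← D.sum_X_reg hg,
      ← Finset.mul_sum, ← Finset.mul_sum, ← Finset.mul_sum]
    push_cast; ring
  have hrel : ∀ g, ¬ p ∣ orderOf g → (∀ χ ∈ B0 p G, mult x χ.1 (0 : ZMod p) = 0 → χ.1 g = 0) →
      1 + ∑ χ ∈ A, χ.1 g + D.δ * (D.μ 1).1 g = 0 := fun g hg h0 => by
    rw [← D.rel hg 1, hsplit, D.a_one, Finset.sum_congr (s₁ := A)
      (f := fun χ => (D.a χ : ℂ) * χ.1 g) (g := fun χ => χ.1 g) rfl
      fun χ hχ => by rw [(hA χ hχ).1]; simp, Finset.sum_eq_zero (s := B) fun χ hχ => by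
        rw [h0 χ (D.Nx_mem (Finset.mem_of_mem_erase (Finset.mem_filter.1 hχ).1)) (hB χ hχ).2.2,
          mul_zero]]
    simp
  have hμ1 := D.deg_μ_eq 1
  rw [← hm] at hμ1
  have hcount' : (Nat.card (Aut h.ord) : ℤ) = 1 + (A.card + B.card) := by exact_mod_cast hcount
  rcases hX 1 with ⟨h1, h2⟩ | ⟨h1, h2⟩
  · have h2' : ((Aut h.ord).index : ℤ) * deg (D.μ 1) = n * p + 1 := by exact_mod_cast h2
    rw [h1] at hdegeq hμ1
    have h3 : ((Aut h.ord).index : ℤ) * m = n + 1 := mul_left_cancel₀ hp0.ne' (by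
      linear_combination h2' - (Aut h.ord).index * hμ1 + het')
    have h4 : (Nat.card (Aut h.ord) : ℤ) = A.card * (n + 1) + m + 1 := by
      have h5 : (p : ℤ) * (((A.card * (Aut h.ord).index + 1) * (n + 1)) -
          (Aut h.ord).index * (Nat.card (Aut h.ord) - 1)) = 0 := by
        linear_combination (Aut h.ord).index * hdegeq - h2' - (p - 1) * (Aut h.ord).index * hcount' -
          het'
      have h6 := (mul_eq_zero.1 h5).resolve_left hp0.ne'
      refine mul_left_cancel₀ (a := ((Aut h.ord).index : ℤ)) (by exact_mod_cast ht0.ne') ?_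
      linear_combination (-1 : ℤ) * h6 - h3
    refine ⟨fun g hg hg1 h0 => ?_, Or.inr ⟨A.card, m, by exact_mod_cast h3, by exact_mod_cast h4,
      fun χ hχ h0 => ?_⟩⟩
    · have h5 := D.permChar_formula h.cent (fun χ hχ ha => (hB' χ hχ ha).2) (by omega) (by
        apply Nat.cast_injective (R := ℤ)
        rw [Nat.cast_add, hsum, hn]
        push_cast
        linear_combination m * h2' - (n * p + 1) * h4) hg hg1
      have h6 := hrel g hg h0
      have h7 : ((Aut h.ord).index : ℂ) * m = n + 1 := by exact_mod_cast h3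
      rw [hπ g hg, permChar] at h5
      rw [h1] at h6
      apply Nat.cast_injective (R := ℂ)
      rw [h5]
      push_cast at h6 ⊢
      linear_combination - (n + 1) * h6 - (D.μ 1).1 g * h7
    · rcases (D.mem_iff χ).1 hχ with h5 | ⟨j, rfl⟩
      · rcases D.a_sq χ h5 with h6 | h6
        · have := D.deg_Nx_eq h5
          rw [h0, h6] at this
          have := hp.out.two_le
          omega
        · exact (hB' χ h5 h6).1
      · rw [hmj] at h0
        rw [h0] at h3
        omega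
  · rw [h1, h2] at hdegeq hμ1
    have h3 : m = 0 := by
      have : (p : ℤ) * m = p * 0 := by linarith
      exact_mod_cast mul_left_cancel₀ hp0.ne' this
    have h4 : (Nat.card (Aut h.ord) : ℤ) = A.card * (n + 1) + 1 := by
      have h5 : (B.card : ℤ) = A.card * n := mul_left_cancel₀ hp0.ne' (by
        linear_combination (-1 : ℤ) * hdegeq - hcount')
      linear_combination hcount' + h5
    refine ⟨fun g hg hg1 h0 => ?_, Or.inl ⟨A.card, by exact_mod_cast h4, fun ht => ?_⟩⟩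
    · have h5 := D.permChar_formula h.cent (fun χ hχ ha => (hB' χ hχ ha).2)
        (fun _ j => (hmj j).trans h3) (by
        apply Nat.cast_injective (R := ℤ)
        rw [Nat.cast_add, hsum, hn, h3]
        push_cast
        linear_combination - (n * p + 1) * h4) hg hg1
      have h6 := hrel g hg h0
      rw [hπ g hg, permChar, h3] at h5
      rw [h0 _ (D.μ_mem 1) h3] at h6
      apply Nat.cast_injective (R := ℂ)
      rw [h5]
      push_cast
      linear_combination - (n + 1) * h6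
    · have h5 := D.sum_deg_pos_le ht 1
      have h6 : D.Nx.filter (D.a · = 1) = insert (irrOne G) A := by
        ext χ
        simp only [A, Finset.mem_filter, Finset.mem_insert, Finset.mem_erase]
        constructor
        · rintro ⟨h7, h8⟩
          exact or_iff_not_imp_left.2 fun h9 => ⟨⟨h9, h7⟩, h8⟩
        · rintro (rfl | ⟨h7, h8⟩)
          · exact ⟨D.one_mem, D.a_one⟩
          · exact ⟨h7.2, h8⟩
      rw [h6, Finset.sum_insert (by simp [A]), deg_irrOne,
        Finset.sum_congr rfl fun χ hχ => (hA χ hχ).2.1, Finset.sum_const, smul_eq_mul, h2] at h5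
      omega

end H18
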