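import Mathlib
import Cfsg.Agent.H18.Br96a
import Cfsg.Agent.S1230

/-! Brauer's theorem on groups with few Sylow `p`-subgroups: the group-theoretic step. -/

set_option autoImplicit false
set_option linter.unusedSectionVars false

open Cfsg H4 H17 Subgroup
open scoped ComplexConjugate

namespace H18

theorem sq_eq_one_of_index {C : Type*} [Group C] [Finite C] (H : Subgroup C) (hi : 2 < H.index)
    (h : ∀ y, y ∉ H → y ^ 2 = 1) (y : C) : y ^ 2 = 1 := by
  by_cases hy : y ∈ H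
  swap
  · exact h y hy
  have hinv : ∀ g, g ∉ H → g * y * g⁻¹ = y⁻¹ := fun g hg => by
    have h1 := h g hg
    have h2 := h (g * y) fun hc => hg (by simpa using mul_mem hc (inv_mem hy))
    rw [sq] at h1 h2
    rw [← eq_inv_iff_mul_eq_one] at h1
    rw [← h1, eq_inv_iff_mul_eq_one, ← h2]; group
  have := Fintype.ofFinite (C ⧸ H)
  rw [index_eq_card, Nat.card_eq_fintype_card, Fintype.two_lt_card_iff] at hi
  obtain ⟨a, b, hab, ha, hb⟩ : ∃ a b : C ⧸ H, a ≠ b ∧ a ≠ (1 : C) ∧ b ≠ (1 : C) := by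
    obtain ⟨a, b, c, h1, h2, h3⟩ := hi
    by_cases ha : a = (1 : C)
    · exact ⟨b, c, h3, ha ▸ h1.symm, ha ▸ h2.symm⟩
    · by_cases hb : b = (1 : C)
      · exact ⟨a, c, h2, ha, hb ▸ h3.symm⟩
      · exact ⟨a, b, h1, ha, hb⟩
  obtain ⟨a, rfl⟩ := QuotientGroup.mk_surjective a
  obtain ⟨b, rfl⟩ := QuotientGroup.mk_surjective b
  rw [Ne, QuotientGroup.eq] at hab ha hb
  have ha' : a⁻¹ ∉ H := by simpa using ha
  have hb' : b ∉ H := by simpa using hb
  have h1 := hinv _ hab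
  have h2 := hinv _ ha'
  have h3 : a⁻¹ * b * y * (a⁻¹ * b)⁻¹ = a⁻¹ * (b * y * b⁻¹) * a⁻¹⁻¹ := by group
  rw [h3, hinv _ hb', ← conj_inv, h2, inv_inv] at h1
  rw [sq]; nth_rw 1 [h1]; simp

variable {G : Type*} [Group G] [Finite G] {p : ℕ} [hp : Fact p.Prime]

theorem exists_conj_mem_of_fixed {H : Subgroup G} {g : G}
    (h : Nat.card (MulAction.fixedBy (G ⧸ H) g) ≠ 0) : ∃ c : G, c⁻¹ * g * c ∈ H := by
  have h1 := card_fixedBy_mul H g
  have h2 : Nat.card {c : G // c⁻¹ * g * c ∈ H} ≠ 0 := h1 ▸ mul_ne_zero h Nat.card_pos.ne'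
  obtain ⟨c, hc⟩ := (Nat.card_ne_zero.1 h2).1
  exact ⟨c, hc⟩

theorem one_mem_fixedBy_iff {H : Subgroup G} {g : G} :
    ((1 : G) : G ⧸ H) ∈ MulAction.fixedBy (G ⧸ H) g ↔ g ∈ H := by
  rw [MulAction.mem_fixedBy, MulAction.Quotient.smul_mk, eq_comm, QuotientGroup.eq]; simp

theorem SC.card_le_of_reg {x : G} (h : SC p x) {H : Subgroup G}
    (hH : H ≤ normalizer (zpowers x : Set G)) (hp' : ¬ p ∣ Nat.card H) :
    Nat.card H ≤ Nat.card (Aut h.ord) := by
  refine Nat.card_le_card_of_injective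
    (((act h.ord).codRestrict _ (act_mem_Aut h.ord)).comp (inclusion hH)) ?_
  rw [injective_iff_map_eq_one]
  intro y hy
  have h1 := (act_eq_one_iff h.ord).1 (congrArg Subtype.val hy)
  exact Subtype.ext (h.eq_one_of_commute (H17.mem_centralizer_singleton.1 h1).symm
    (reg_of_mem hp' y.2))

theorem card_centralizer_of_orderOf_two {τ : G} (hτ : orderOf τ = 2) :
    Nat.card (normalizer (zpowers τ : Set G)) = Nat.card (centralizer ({τ} : Set G)) := by
  rw [card_normalizer_zpowers hτ, Nat.dvd_one.1 (card_Aut_dvd hτ), mul_one]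

theorem SC.step2 [IsSimpleGroup G] {x : G} (h : SC p x) {t α d : ℕ} (ht : 3 ≤ t)
    (he : Nat.card (Aut h.ord) = α * t + 2) (het : Nat.card (Aut h.ord) * t = p - 1)
    (hcard : Nat.card G = (p - 1) * (p * d)) (hd : d.Coprime (p - 1))
    (hK : ∀ g : G, (∃ r : ℕ, r.Prime ∧ r ∣ p - 1 ∧ r ∣ orderOf g) →
      Nat.card (MulAction.fixedBy (G ⧸ normalizer (zpowers x : Set G)) g) = t) :
    ∃ (m : ℕ) (F : Type) (_ : Field F) (_ : Fintype F), Fintype.card F = 2 ^ m ∧ p = 2 ^ m + 1 ∧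
      3 < p ∧ Nonempty (G ≃* Matrix.ProjectiveSpecialLinearGroup (Fin 2) F) := by
  have hcop : p.Coprime (p - 1) := by
    have := hp.out.pos
    rw [show p = (p - 1) + 1 by omega]; simp
  have hL : ∀ {g : G}, g ≠ 1 → orderOf g ∣ p - 1 → ∃ r : ℕ, r.Prime ∧ r ∣ p - 1 ∧ r ∣ orderOf g :=
    fun {g} hg hd => by
      obtain ⟨r, hr, hrg⟩ := Nat.exists_prime_and_dvd (orderOf_eq_one_iff.not.2 hg)
      exact ⟨r, hr, hrg.trans hd, hrg⟩
  have hreg : ∀ {g : G}, (∃ r : ℕ, r.Prime ∧ r ∣ p - 1 ∧ r ∣ orderOf g) → ¬ p ∣ orderOf g := by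
    rintro g ⟨r, hr, h1, h2⟩ hg
    rw [h.orderOf_eq hg] at h2
    exact hr.one_lt.ne' (Nat.eq_one_of_dvd_coprimes hcop h2 h1)
  have hconj : ∀ {g : G}, (∃ r : ℕ, r.Prime ∧ r ∣ p - 1 ∧ r ∣ orderOf g) →
      ∃ c : G, c⁻¹ * g * c ∈ normalizer (zpowers x : Set G) := fun hg =>
    exists_conj_mem_of_fixed (by rw [hK _ hg]; omega)
  have hord : ∀ {g : G}, (∃ r : ℕ, r.Prime ∧ r ∣ p - 1 ∧ r ∣ orderOf g) →
      orderOf g ∣ Nat.card (Aut h.ord) := fun {g} hg => by
    obtain ⟨c, hc⟩ := hconj hg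
    have h1 : orderOf (c⁻¹ * g * c) = orderOf g := by simpa using orderOf_conj c⁻¹ g
    exact h1 ▸ h.orderOf_dvd hc (h1 ▸ hreg hg)
  have hprime : ∀ r : ℕ, r.Prime → r ∣ p - 1 → r ∣ Nat.card (Aut h.ord) := fun r hr hrp => by
    have := Fact.mk hr
    obtain ⟨g, hg⟩ := exists_prime_orderOf_dvd_card' (G := G) r (hcard ▸ hrp.mul_right _)
    exact hg ▸ hord ⟨r, hr, hrp, hg ▸ dvd_rfl⟩
  obtain ⟨k, hk⟩ : ∃ k, t = 2 ^ k := ⟨_, Nat.eq_prime_pow_of_unique_prime_dvd (by omega)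
    fun {r} hr hrt => by
      have h1 := hprime r hr (het ▸ hrt.mul_left _)
      rw [he] at h1
      exact (Nat.prime_dvd_prime_iff_eq hr Nat.prime_two).1
        ((Nat.dvd_add_right (hrt.mul_left α)).1 h1)⟩
  obtain ⟨e', he', he'odd⟩ : ∃ e', Nat.card (Aut h.ord) = 2 * e' ∧ Odd e' := by
    obtain ⟨j, rfl⟩ : ∃ j, k = j + 2 := by
      refine ⟨k - 2, ?_⟩
      by_contra hc
      have : k = 0 ∨ k = 1 := by omega
      rcases this with rfl | rfl <;> omega
    exact ⟨2 * (α * 2 ^ j) + 1, by rw [he, hk]; ring, ⟨_, rfl⟩⟩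
  have h2p : 2 ∣ p - 1 := het ▸ (he' ▸ dvd_mul_right 2 e').mul_right t
  have hp2 : p ≠ 2 := by rintro rfl; omega
  have hfix : ∀ (g : G) (n : ℕ), (∃ r : ℕ, r.Prime ∧ r ∣ p - 1 ∧ r ∣ orderOf (g ^ n)) →
      MulAction.fixedBy (G ⧸ normalizer (zpowers x : Set G)) g =
        MulAction.fixedBy (G ⧸ normalizer (zpowers x : Set G)) (g ^ n) := fun g n hg => by
    obtain ⟨r, hr, h1, h2⟩ := hg
    refine Set.eq_of_subset_of_ncard_le (fun a ha => ?_) ?_ (Set.toFinite _)
    · simpa using MulAction.fixedBy_subset_fixedBy_zpow _ g n ha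
    · rw [← Nat.card_coe_set_eq, ← Nat.card_coe_set_eq, hK _ ⟨r, hr, h1, h2⟩,
        hK _ ⟨r, hr, h1, h2.trans (orderOf_pow_dvd n)⟩]
  have hCτ : ∀ τ ∈ normalizer (zpowers x : Set G), orderOf τ = 2 →
      Nat.card (centralizer ({τ} : Set G)) = p - 1 := fun τ hτ hτ2 => by
    rw [← card_centralizer_of_orderOf_two hτ2, h.card_normalizer_eq_mul_fix hp2 hτ2 hτ,
      hK τ ⟨2, Nat.prime_two, h2p, hτ2 ▸ dvd_rfl⟩, het]
  have hsq : ∀ τ ∈ normalizer (zpowers x : Set G), orderOf τ = 2 →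
      ∀ y ∈ centralizer ({τ} : Set G), y ^ 2 = 1 := fun τ hτ hτ2 y hy => by
    have hC := hCτ τ hτ hτ2
    have key := sq_eq_one_of_index
      ((normalizer (zpowers x : Set G)).subgroupOf (centralizer ({τ} : Set G))) ?_ ?_ ⟨y, hy⟩
    · exact congrArg Subtype.val key
    · have h1 := ((normalizer (zpowers x : Set G)).subgroupOf
        (centralizer ({τ} : Set G))).card_mul_index
      have h2 := h.card_le_of_reg (H := normalizer (zpowers x : Set G) ⊓ centralizer {τ})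
        inf_le_left fun hd => hp.out.one_lt.ne'
          (Nat.eq_one_of_dvd_coprimes hcop dvd_rfl (hC ▸ hd.trans (card_dvd_of_le inf_le_right)))
      rw [← Nat.card_congr (subgroupOfEquivOfLe inf_le_right).toEquiv, inf_subgroupOf_right] at h2
      rw [hC, ← het] at h1
      by_contra hc
      have h3 := Nat.mul_le_mul h2 (not_lt.1 hc)
      have h4 : 0 < Nat.card (Aut h.ord) := Nat.card_pos
      nlinarith
    · rintro ⟨z, hz⟩ hzN
      by_contra hc
      apply hzN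
      have hz2 : z ^ 2 ≠ 1 := fun h1 => hc (Subtype.ext h1)
      have hzo : orderOf z ∣ p - 1 := hC ▸ orderOf_dvd_natCard _ hz
      have hz1 : z ≠ 1 := by rintro rfl; simp at hz2
      have h1 : orderOf (z ^ 2) ∣ e' := orderOf_dvd_of_pow_eq_one (by
        rw [← pow_mul, ← he']; exact orderOf_dvd_iff_pow_eq_one.1 (hord (hL hz1 hzo)))
      obtain ⟨j, hj⟩ := he'odd.of_dvd_nat h1
      have hc2 : Commute (z ^ 2) τ := (H17.mem_centralizer_singleton.1 hz).pow_left 2
      have hτsq : τ ^ 2 = 1 := hτ2 ▸ pow_orderOf_eq_one τ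
      have h2 : (z ^ 2 * τ) ^ (2 * j + 1) = τ := by
        rw [hc2.mul_pow, ← hj, pow_orderOf_eq_one, hj, pow_succ, pow_mul, hτsq]; simp
      have h3 : (z ^ 2 * τ) ^ (2 * (j + 1)) = z ^ 2 := by
        rw [hc2.mul_pow, pow_mul τ, hτsq, one_pow, mul_one, show 2 * (j + 1) = 2 * j + 1 + 1 by ring,
          pow_succ, ← hj, pow_orderOf_eq_one, one_mul]
      have hL2 := hL hz2 ((orderOf_pow_dvd 2).trans hzo)
      have h4 := hfix (z ^ 2 * τ) (2 * j + 1) (by
        rw [h2]; exact ⟨2, Nat.prime_two, h2p, hτ2 ▸ dvd_rfl⟩)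
      have h5 := hfix (z ^ 2 * τ) (2 * (j + 1)) (by rw [h3]; exact hL2)
      have h6 := hfix z 2 hL2
      rw [h2] at h4
      rw [h3] at h5
      rw [mem_subgroupOf, ← one_mem_fixedBy_iff, h6, ← h5, h4, one_mem_fixedBy_iff]
      exact hτ
  have hsq' : ∀ τ : G, orderOf τ = 2 → ∀ y ∈ centralizer ({τ} : Set G), y ^ 2 = 1 := by
    intro τ hτ y hy
    obtain ⟨c, hc⟩ := hconj (g := τ) ⟨2, Nat.prime_two, h2p, hτ ▸ dvd_rfl⟩
    have h1 := hsq _ hc (by simpa [hτ] using orderOf_conj c⁻¹ τ) (c⁻¹ * y * c) (by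
      rw [mem_centralizer_singleton_iff] at hy ⊢
      simp only [mul_assoc, mul_inv_cancel_left]
      rw [← mul_assoc y, hy, mul_assoc])
    have h2 : (c⁻¹ * y * c) ^ 2 = c⁻¹ * y ^ 2 * c := by simp [sq, mul_assoc]
    rw [h2, mul_assoc, inv_mul_eq_one, eq_comm, mul_eq_right] at h1
    exact h1
  obtain ⟨τ, hτ, hτ2⟩ := h.exists_mem_normalizer (q := 2) (he' ▸ dvd_mul_right 2 e')
  obtain ⟨m, hm⟩ : ∃ m, p - 1 = 2 ^ m := by
    rw [← hCτ τ hτ hτ2]
    exact IsPGroup.iff_card.1 fun y => ⟨1, Subtype.ext (by simpa using hsq τ hτ hτ2 y y.2)⟩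
  obtain ⟨T⟩ : Nonempty (Sylow 2 G) := inferInstance
  have hodd : ¬ 2 ∣ p * d := fun hd2 => by
    rcases (Nat.Prime.dvd_mul Nat.prime_two).1 hd2 with h1 | h1
    · exact hp2 ((Nat.prime_dvd_prime_iff_eq Nat.prime_two hp.out).1 h1).symm
    · exact absurd (Nat.eq_one_of_dvd_coprimes hd h1 h2p) (by norm_num)
  have hT : Nat.card (T : Subgroup G) = 2 ^ m := by
    rw [T.card_eq_multiplicity, hcard, hm, Nat.factorization_mul (by positivity)
      (by rintro h0; simp [h0] at hodd), Finsupp.add_apply,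
      Nat.factorization_eq_zero_of_not_dvd hodd, Nat.prime_two.factorization_pow]
    simp
  have h6 : 6 ≤ 2 ^ m := by
    rw [← hm, ← het, he']
    have : 0 < e' := he'odd.pos
    nlinarith
  refine (Cfsg.Agent.S1230.result T (fun hc => ?_) (fun hn => ?_)
    fun σ hσ => ⟨⟨⟨fun a b => ?_⟩⟩, hsq' σ hσ⟩).elim fun F ⟨_, _, hF, hiso⟩ =>
      ⟨m, F, inferInstance, inferInstance, hF.trans hT, by omega, by omega, hiso⟩
  · obtain ⟨y, hy⟩ := hc.exists_ofOrder_eq_natCard
    rw [hT] at hy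
    have hm0 : m ≠ 0 := by rintro rfl; omega
    have h1 : orderOf ((y : G) ^ 2 ^ (m - 1)) = 2 := by
      rw [orderOf_pow_of_dvd (by positivity) (by
        rw [orderOf_coe, hy]; exact pow_dvd_pow 2 (by omega)), orderOf_coe, hy,
        Nat.pow_div (by omega) two_pos, show m - (m - 1) = 1 by omega, pow_one]
    have h2 := hsq' _ h1 y (H17.mem_centralizer_singleton.2 ((Commute.refl _).pow_right _))
    have h3 := Nat.le_of_dvd two_pos (orderOf_dvd_of_pow_eq_one h2)
    rw [orderOf_coe, hy] at h3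
    omega
  · rcases hn.eq_bot_or_eq_top with h1 | h1
    · rw [h1, card_bot] at hT
      omega
    · rw [h1, Subgroup.card_top, hcard, hm] at hT
      have h2 : p * d = 1 := Nat.eq_of_mul_eq_mul_left (by positivity) (hT.trans (mul_one _).symm)
      exact hp.out.one_lt.ne' (Nat.eq_one_of_mul_eq_one_right h2)
  · have h1 := hsq' σ hσ _ a.2
    have h2 := hsq' σ hσ _ b.2
    have h3 := hsq' σ hσ _ (a * b).2
    apply Subtype.ext
    simp only [coe_mul, sq] at h1 h2 h3 ⊢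
    rw [← eq_inv_iff_mul_eq_one] at h1 h2 h3
    rw [h3, mul_inv_rev, ← h1, ← h2]

/-- Brauer's theorem. -/
theorem SC.brauer (hG : commutator G = ⊤) {x : G} (h : SC p x)
    (hn : 2 * Nat.card (Sylow p G) < (p + 1) * (p + 2)) :
    (∃ (F : Type) (_ : Field F) (_ : Fintype F), Fintype.card F = p ∧ 3 < p ∧
      Nonempty (G ≃* Matrix.ProjectiveSpecialLinearGroup (Fin 2) F)) ∨
    (∃ (m : ℕ) (F : Type) (_ : Field F) (_ : Fintype F), Fintype.card F = 2 ^ m ∧ p = 2 ^ m + 1 ∧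
      3 < p ∧ Nonempty (G ≃* Matrix.ProjectiveSpecialLinearGroup (Fin 2) F)) := by
  have := Fintype.ofFinite G
  have := h.simple_of_card_sylow_lt hG (by nlinarith)
  obtain ⟨n, hn'⟩ := h.d1.exists_card_sylow
  have hn1 : 1 ≤ n := by
    by_contra hc
    exact h.d1.card_sylow_ne_one hG (by rw [hn', show n = 0 by omega]; simp)
  have hp0 := hp.out.pos
  have hn2 : 2 * n < p + 3 := by
    rw [hn'] at hn
    nlinarith
  have het := card_Aut_mul_index h.ord
  have he1 := h.d1.card_Aut_ne_one hG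
  have he0 : 0 < Nat.card (Aut h.ord) := Nat.card_pos
  have ht0 : 0 < (Aut h.ord).index := Nat.pos_of_ne_zero index_ne_zero_of_finite
  have hcard := h.card_eq
  rw [hn'] at hcard
  have hep : Nat.card (Aut h.ord) ≤ p - 1 := het ▸ Nat.le_mul_of_pos_right _ ht0
  rcases eq_or_lt_of_le hn1 with rfl | hn1
  · left
    obtain ⟨h1, h2⟩ := psl2_of_card_sylow (G := G) (p := p) (d := Nat.card (Aut h.ord)) (by omega)
      (by rw [hn', one_mul]) (by rw [hcard]; ring) (by omega)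
    exact ⟨ZMod p, inferInstance, inferInstance, ZMod.card p, by omega, h2 _ (ZMod.card p)⟩
  right
  obtain ⟨hK, hcases⟩ := h.step1 hG hn' hn1.le hn2
  obtain ⟨q, hq, hqe⟩ := Nat.exists_prime_and_dvd he1
  have := Fact.mk hq
  have hpq : p ≠ q := by
    rintro rfl
    have := Nat.le_of_dvd he0 hqe
    omega
  obtain ⟨s, hs, hsq⟩ := h.exists_mem_normalizer hqe
  have hsreg : ¬ p ∣ orderOf s := by rwa [hsq, Nat.prime_dvd_prime_iff_eq hp.out hq]
  have h1 := h.card_normalizer_eq_mul_fix hpq hsq hs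
  rw [hK s hsreg (ne_one_of_orderOf hsq) fun χ _ h0 => apply_eq_zero_of_mult_zero h.ord
    χ.2.isCharacter h0 hs (h.notMem_centralizer hsreg (ne_one_of_orderOf hsq))] at h1
  have h2 : n + 1 ∣ p * (n * p + 1) := by
    have := card_subgroup_dvd_card (normalizer (zpowers s : Set G))
    rw [h1, hcard, mul_left_comm] at this
    exact Nat.dvd_of_mul_dvd_mul_left he0 this
  have h3 : n + 1 < p → n + 1 ∣ p - 1 := fun hlt => by
    have h4 := ((Nat.coprime_of_lt_prime (by omega) hlt hp.out).symm).dvd_of_dvd_mul_left h2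
    have h5 : (n + 1) * p = n * p + 1 + (p - 1) := by
      rw [add_mul, one_mul, add_assoc, Nat.add_sub_cancel' hp0]
    exact (Nat.dvd_add_right h4).1 (h5 ▸ dvd_mul_right _ _)
  set e := Nat.card (Aut h.ord) with he
  set t := (Aut h.ord).index with ht
  rcases hcases with ⟨α, hα, hα2⟩ | ⟨α, m, hm, hα, hdeg⟩
  · exfalso
    have hα0 : 0 < α := Nat.pos_of_ne_zero (by rintro rfl; omega)
    have h4 := Nat.le_mul_of_pos_left (n + 1) hα0
    have h5 := h3 (by omega)
    rw [← het] at h5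
    have h6 : n + 1 ∣ t := (Nat.Coprime.dvd_mul_left (by rw [hα]; simp)).1 h5
    have h7 := Nat.le_of_dvd ht0 h6
    have h8 := hα2 (by omega)
    have h9 : p = e * t + 1 := by omega
    have h10 : (e + 1) * (α * (n + 1)) + 1 = e ^ 2 := by rw [hα]; ring
    have h11 : n * p + 1 ≤ (e + 1) * (n + 1) := by nlinarith
    have h12 := Nat.mul_le_mul_left e h7
    nlinarith
  · have hm0 : 0 < m := Nat.pos_of_ne_zero (by rintro rfl; omega)
    have h4 : n + 1 < p := by
      have : t * m ≤ t * (e - 1) := Nat.mul_le_mul_left t (by omega)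
      have : t * (e - 1) + t = e * t := by
        rw [mul_comm e, ← Nat.mul_succ]; congr 1; omega
      omega
    have h5 := h3 h4
    rw [← het, ← hm, mul_comm e] at h5
    have h6 : m ∣ e := Nat.dvd_of_mul_dvd_mul_left ht0 h5
    have h7 : m = 1 := by
      rw [hα, ← hm] at h6
      exact Nat.dvd_one.1 ((Nat.dvd_add_right ((Nat.dvd_add_left dvd_rfl).2
        ((dvd_mul_left m t).mul_left α))).1 h6)
    subst h7
    rw [mul_one] at hm
    have h8 : p = e * t + 1 := by omega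
    have hcop : (n * e + 1).Coprime (p - 1) := by
      rw [← het]
      refine Nat.Coprime.mul_right (by simp) ?_
      have h9 : n * e + 1 + 1 = t * (n * α + 2) := by rw [hα, hm]; ring
      refine Nat.Coprime.symm (Nat.coprime_of_dvd fun r hr h10 h11 => ?_)
      have h12 : r ∣ n * e + 1 + 1 := h9 ▸ h10.mul_right _
      exact hr.one_lt.ne' (Nat.dvd_one.1 ((Nat.dvd_add_right h11).1 h12))
    have hcard' : Nat.card G = (p - 1) * (p * (n * e + 1)) := by
      rw [hcard, ← het]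
      have : n * p + 1 = t * (n * e + 1) := by rw [h8, hm]; ring
      rw [this]; ring
    refine h.step2 (t := t) (α := α) (by omega) (by rw [← he, hα, hm]) het hcard' hcop ?_
    rintro g ⟨r, hr, hr1, hr2⟩
    have hcp : p.Coprime (p - 1) := by
      rw [show p = (p - 1) + 1 by omega]; simp
    rw [hm]
    refine hK g (fun hg => ?_) (fun hg => ?_) fun χ hχ h0 => ?_
    · rw [h.orderOf_eq hg] at hr2
      exact hr.one_lt.ne' (Nat.eq_one_of_dvd_coprimes hcp hr2 hr1)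
    · rw [hg, orderOf_one] at hr2
      exact hr.one_lt.ne' (Nat.dvd_one.1 hr2)
    · have := Fact.mk hr
      obtain ⟨M, hM⟩ := exists_PM hr
      refine eq_zero_of_defect_zero M ?_ hr2
      have h9 : ¬ r ∣ p * (n * e + 1) := fun hd => hr.one_lt.ne'
        (Nat.eq_one_of_dvd_coprimes (Nat.Coprime.mul_left hcp hcop) hd hr1)
      rw [hdeg χ hχ h0, hcard', Nat.factorization_mul (by omega) (by positivity), Finsupp.add_apply,
        Nat.factorization_eq_zero_of_not_dvd h9, add_zero]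

end H18
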