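import Mathlib
import Cfsg.Agent.H18.D1g
import Cfsg.Agent.H17.Klein

/-! The Brauer–Tuan lemma, the dihedral lemma and related facts. -/

set_option autoImplicit false
set_option linter.unusedSectionVars false

open Cfsg H4 H17 Subgroup
open scoped ComplexConjugate

namespace H18

variable {G : Type*} [Group G] [Finite G] {p : ℕ} [hp : Fact p.Prime]

theorem psi_indep (α : ZMod p → ℤ) (h : ∑ c, (α c : ℂ) * psi c = 0) (c : ZMod p) : α c = α 0 := by
  have h1 := (IsPrimitiveRoot.sum_eq_zero_iff_forall_eq_int hp.out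
    (isPrimitiveRoot_psi (p := p) one_ne_zero) fun i : Fin p => α (i.val : ZMod p)).1 (by
      rw [← h]
      refine Fintype.sum_equiv (ZMod.finEquiv p).toEquiv _ _ fun i => ?_
      have : (ZMod.finEquiv p).toEquiv i = (i.val : ZMod p) := by
        obtain ⟨q, rfl⟩ : ∃ q, p = q + 1 := ⟨p - 1, (Nat.succ_pred_eq_of_pos hp.out.pos).symm⟩
        exact (Fin.cast_val_eq_self i).symm
      rw [this, ← psi_natCast_mul, mul_one])
  simpa using h1 ⟨c.val, c.val_lt⟩ ⟨0, hp.out.pos⟩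

theorem mult_eq_of_apply_eq {x : G} (hx : orderOf x = p) {θ : G → ℂ} (hθ : IsCharacter G θ)
    {i j : (ZMod p)ˣ} (h : θ (xp x (i : ZMod p)) = θ (xp x (j : ZMod p))) (c : ZMod p) :
    mult x θ (((i⁻¹ : (ZMod p)ˣ) : ZMod p) * c) = mult x θ (((j⁻¹ : (ZMod p)ˣ) : ZMod p) * c) := by
  have h1 : ∀ k : (ZMod p)ˣ, θ (xp x (k : ZMod p)) =
      ∑ c : ZMod p, (mult x θ (((k⁻¹ : (ZMod p)ˣ) : ZMod p) * c) : ℂ) * psi c := fun k => by
    rw [apply_xp_eq_sum_mult hx hθ]
    refine Fintype.sum_equiv k.mulLeft _ _ fun c => by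
      rw [Units.mulLeft_apply, Units.inv_mul_cancel_left]
  have h2 := psi_indep (fun c => (mult x θ (((i⁻¹ : (ZMod p)ˣ) : ZMod p) * c) : ℤ) -
    mult x θ (((j⁻¹ : (ZMod p)ˣ) : ZMod p) * c)) (by
      rw [h1, h1, ← sub_eq_zero, ← Finset.sum_sub_distrib] at h
      rw [← h]
      exact Finset.sum_congr rfl fun c _ => by push_cast; ring) c
  simp only [mul_zero, sub_self] at h2
  omega

theorem sum_mul_neg_eq {x : G} (hx : orderOf x = p) {θ : G → ℂ} (hθ : IsCharacter G θ) :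
    ∑ i : ZMod p, θ (xp x i) * θ (xp x (-i)) = p * ∑ c : ZMod p, (mult x θ c : ℂ) ^ 2 := by
  calc ∑ i : ZMod p, θ (xp x i) * θ (xp x (-i))
      = ∑ i : ZMod p, ∑ c : ZMod p, (mult x θ c : ℂ) * (θ (xp x i) * psi (-(i * c))) := by
        refine Finset.sum_congr rfl fun i _ => ?_
        rw [apply_xp_eq_sum_mult hx hθ (-i), Finset.mul_sum]
        exact Finset.sum_congr rfl fun c _ => by rw [neg_mul]; ring
    _ = _ := by
        rw [Finset.sum_comm, Finset.mul_sum]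
        refine Finset.sum_congr rfl fun c _ => ?_
        rw [← Finset.mul_sum, sq, mul_left_comm]
        congr 1
        rw [mult_eq hx hθ c, ← mul_assoc, mul_inv_cancel₀ p_ne_zero', one_mul]

/-- The dihedral subgroup generated by `x` and an inverting involution. -/
def dihHom {x τ : G} (hx : orderOf x = p) (h2 : τ * τ = 1) (hi : τ * x * τ⁻¹ = x⁻¹) :
    DihedralGroup p →* G :=
  MonoidHom.mk' (fun d => match d with
    | .r i => xp x i
    | .sr i => τ * xp x i) (by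
      have h3 : ∀ i : ZMod p, xp x i * τ = τ * xp x (-i) := fun i => by
        have h4 := conj_xp τ x (-i)
        rw [hi, show xp x⁻¹ (-i) = (xp x (-i))⁻¹ from inv_pow _ _, ← xp_neg hx, neg_neg] at h4
        rw [← h4, inv_mul_cancel_right]
      rintro (i | i) (j | j)
      · exact xp_add hx i j
      · change τ * xp x (j - i) = xp x i * (τ * xp x j)
        rw [← mul_assoc, h3, mul_assoc, ← xp_add hx, neg_add_eq_sub]
      · change τ * xp x (i + j) = τ * xp x i * xp x j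
        rw [xp_add hx, mul_assoc]
      · change xp x (j - i) = τ * xp x i * (τ * xp x j)
        rw [mul_assoc, ← mul_assoc (xp x i), h3, ← mul_assoc, ← mul_assoc, h2, one_mul,
          ← xp_add hx, neg_add_eq_sub])

/-- The sign character of a dihedral group. -/
def dihSign (n : ℕ) : DihedralGroup n →* ℂ where
  toFun d := match d with
    | .r _ => 1
    | .sr _ => -1
  map_one' := rfl
  map_mul' := by rintro (i | i) (j | j) <;> simp

theorem exists_dihedral {x τ : G} (hx : orderOf x = p) (hp2 : p ≠ 2) (h2 : τ * τ = 1)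
    (hi : τ * x * τ⁻¹ = x⁻¹) {θ : G → ℂ} (hθ : IsCharacter G θ) :
    ∃ m₁ m₂ : ℕ, m₁ + m₂ = mult x θ (0 : ZMod p) ∧ θ τ = m₁ - m₂ := by
  obtain ⟨m₁, h1⟩ := (hθ.comp (dihHom hx h2 hi)).inner_nat isCharacter_one
  obtain ⟨m₂, h3⟩ := (hθ.comp (dihHom hx h2 hi)).inner_nat
    (isIrrCharacter_monoidHom (dihSign p)).isCharacter
  have h4 : ∀ i : ZMod p, θ (τ * xp x i) = θ τ := fun i => by
    rw [hθ.classFun.mul_comm]
    refine (hθ.classFun.apply_of_isConj (isConj_xp_mul hx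
      (mem_normalizer_zpowers_iff.2 (hi ▸ inv_mem (mem_zpowers x))) (fun hc => hp2 ?_) i)).symm
    rw [mem_centralizer_singleton_iff.1 hc, mul_inv_cancel_right, eq_inv_iff_mul_eq_one,
      ← sq] at hi
    exact (Nat.prime_dvd_prime_iff_eq hp.out Nat.prime_two).1 (hx ▸ orderOf_dvd_of_pow_eq_one hi)
  have h5 := mult_zero_eq hx hθ
  rw [classInner_def, ← DihedralGroup.equivSum.symm.sum_comp, Fintype.sum_sum_type,
    DihedralGroup.nat_card] at h1 h3
  have h6 : ∀ i, dihSign p (.r i) = 1 := fun _ => rfl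
  have h7 : ∀ i, dihSign p (.sr i) = -1 := fun _ => rfl
  simp only [DihedralGroup.equivSum_symm_apply, dihHom, MonoidHom.mk'_apply, h4, h6, h7,
    map_one, map_neg, mul_one, mul_neg, Finset.sum_const,
    Finset.card_univ, ZMod.card, nsmul_eq_mul, Nat.cast_mul, Nat.cast_ofNat] at h1 h3
  have := p_ne_zero' (p := p)
  refine ⟨m₁, m₂, ?_, ?_⟩
  · apply Nat.cast_injective (R := ℂ)
    rw [Nat.cast_add, h5, ← h1, ← h3]
    field_simp
    ring
  · rw [← h1, ← h3]
    field_simp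
    ring

theorem exists_four_dvd (hG : commutator G = ⊤) {τ : G} (hτ : orderOf τ = 2) {θ : G → ℂ}
    (hθ : IsCharacter G θ) : ∃ k : ℕ, θ 1 - θ τ = 4 * k := by
  have h1 := sum_mult_mul_eq_zero hG hτ hθ
  have h2 := sum_mult hτ hθ
  have h3 := apply_xp_eq_sum_mult hτ hθ 1
  have h4 : (Finset.univ : Finset (ZMod 2)) = {0, 1} := rfl
  have h5 : psi (1 : ZMod 2) = -1 := (isPrimitiveRoot_psi one_ne_zero).eq_neg_one_of_two_right
  rw [h4, Finset.sum_pair (by decide)] at h1 h2 h3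
  simp only [mul_zero, mul_one, zero_add, psi_zero, xp_one, h5, ZMod.natCast_eq_zero_iff] at h1 h3
  obtain ⟨k, hk⟩ := h1
  refine ⟨k, ?_⟩
  rw [h2, h3, hk]
  push_cast
  ring

theorem mem_of_pow_card {C : Type*} [CommGroup C] [Finite C] [IsCyclic C] (A : Subgroup C) {u : C}
    (h : u ^ Nat.card A = 1) : u ∈ A := by
  classical
  have := Fintype.ofFinite C
  have h1 := IsCyclic.card_pow_eq_one_le (α := C) (n := Nat.card A) Nat.card_pos
  have h2 : (A : Set C).toFinset ⊆ Finset.univ.filter fun a : C => a ^ Nat.card A = 1 := fun a ha => by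
    simp only [Set.mem_toFinset, SetLike.mem_coe] at ha
    exact Finset.mem_filter.2 ⟨Finset.mem_univ _,
      congrArg Subtype.val (pow_card_eq_one' (x := (⟨a, ha⟩ : A)))⟩
  have h3 := Finset.eq_of_subset_of_card_le h2 (by
    rw [Set.toFinset_card, ← Nat.card_eq_fintype_card]; exact h1)
  have h4 : u ∈ (A : Set C).toFinset := by rw [h3]; simpa using h
  simpa using h4

theorem SC.apply_eq_zero {x : G} (h : SC p x) {χ : Irr G} (hχ : χ ∉ B0 p G) {g : G}
    (hg : p ∣ orderOf g) : χ.1 g = 0 := by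
  classical
  have hg' := h.of_orderOf (h.orderOf_eq hg)
  have h1 := hg'.d1.sum_B0_mul reg_one reg_one (Commute.one_right g) (Commute.one_right g)
  have h2 := column_orth_of_isConj (IsConj.refl g)
  rw [hg'.cent, Nat.card_zpowers, hg'.ord, ← h1, ← sub_eq_zero, ← Finset.sum_sub_distrib] at h2
  simp only [mul_one, Complex.mul_conj] at h2
  have h3 : ∑ ψ : Irr G, (if ψ ∈ B0 p G then 0 else Complex.normSq (ψ.1 g)) = 0 := by
    apply Complex.ofReal_injective
    rw [Complex.ofReal_sum, Complex.ofReal_zero, ← h2]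
    refine Finset.sum_congr rfl fun ψ _ => ?_
    rw [ind_apply]
    split_ifs <;> simp
  have h4 := (Finset.sum_eq_zero_iff_of_nonneg fun ψ _ => by
    split_ifs
    · exact le_rfl
    · exact Complex.normSq_nonneg _).1 h3 χ (Finset.mem_univ _)
  rwa [if_neg hχ, Complex.normSq_eq_zero] at h4

namespace BData

variable {x : G} {h : D1 p x} (D : BData h)

open Classical in
/-- The Brauer–Tuan lemma. -/
theorem brauer_tuan {q : ℕ} [hq : Fact q.Prime] {M : Ideal AlgInt} [PM q M] {A : Set (Irr G)}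
    (hA : ind A ∈ ZS G M) (hpq : ∀ g : G, p ∣ orderOf g → ¬ q ∣ orderOf g) (j : (ZMod p)ˣ) {b : ℕ}
    (hb : q ^ b ∣ Nat.card G) : ((q ^ b : ℕ) : ℤ) ∣ ∑ χ ∈ D.Nx.filter (· ∈ A), D.a χ * deg χ +
      if D.μ j ∈ A then D.δ * deg (D.μ j) else 0 := by
  have := Fintype.ofFinite G
  obtain ⟨Q, hQ⟩ := Sylow.exists_subgroup_card_pow_prime q hb
  obtain ⟨k, hk⟩ := (isGen_blockPart A (D.Φ_isGen j)).exists_degree_eq_card_mul Q fun g hg h1 => by
    have h2 : q ∣ orderOf g := by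
      obtain ⟨n, hn⟩ := PElt.of_mem (IsPGroup.of_card hQ) hg
      rcases n with _ | n
      · exact absurd (orderOf_eq_one_iff.1 hn) h1
      · exact hn ▸ dvd_pow_self q n.succ_ne_zero
    rw [blockPart_congr_sing hA h2 (ϑ' := 0) fun y hy => D.Φ_reg j fun hc => hpq y hc hy]
    exact congrFun (map_zero (bpL A)) g
  refine ⟨k, Int.cast_injective (α := ℂ) ?_⟩
  rw [hQ] at hk
  push_cast at hk ⊢
  rw [← hk, Φ, blockPart_add, blockPart_sum, blockPart_smul, blockPart_irr, Finset.sum_filter]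
  simp only [blockPart_smul, blockPart_irr, Pi.add_apply, Finset.sum_apply, Pi.smul_apply,
    smul_eq_mul, ind_apply, ← deg_eq]
  congr 1
  · exact Finset.sum_congr rfl fun χ _ => by split_ifs <;> simp
  · split_ifs <;> simp

open Classical in
/-- The Brauer–Tuan lemma for principal blocks of a simple group. -/
theorem brauer_tuan' [IsSimpleGroup G] (hG : ¬ IsMulCommutative G) {q : ℕ} [hq : Fact q.Prime]
    (hpq : ∀ g : G, p ∣ orderOf g → ¬ q ∣ orderOf g) (j : (ZMod p)ˣ) {b : ℕ}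
    (hb : q ^ b ∣ Nat.card G) : ∃ T ⊆ D.Nx.erase (irrOne G), (∀ χ ∈ T, ∀ k, deg χ ≠ q ^ k) ∧
      ∃ ε : ℤ, (ε = 0 ∨ ε = 1 ∧ ∀ k, deg (D.μ j) ≠ q ^ k) ∧
      ((q ^ b : ℕ) : ℤ) ∣ 1 + ∑ χ ∈ T, D.a χ * deg χ + ε * (D.δ * deg (D.μ j)) := by
  obtain ⟨M, hM⟩ := exists_PM hq.out
  have h1 := D.brauer_tuan (ind_B0_mem (p := q) (G := G) M) hpq j hb
  have h2 : ∀ χ ∈ B0 q G, χ ≠ irrOne G → ∀ k, deg χ ≠ q ^ k := fun χ hχ h1 k hk =>
    h1 (eq_irrOne_of_deg_pow hG (hχ M hM) hk)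
  rw [← Finset.add_sum_erase _ _ (Finset.mem_filter.2 ⟨D.one_mem, one_mem_B0⟩), D.a_one,
    deg_irrOne] at h1
  refine ⟨_, Finset.erase_subset_erase _ (Finset.filter_subset (· ∈ B0 q G) _), fun χ hχ =>
    h2 χ (Finset.mem_filter.1 (Finset.mem_of_mem_erase hχ)).2 (Finset.ne_of_mem_erase hχ),
    if D.μ j ∈ B0 q G then 1 else 0, ?_, by simpa using h1⟩
  split_ifs with h3
  · exact Or.inr ⟨rfl, h2 _ h3 (D.μ_ne_one j)⟩
  · exact Or.inl rfl

theorem mem_Aut_of_apply_eq (j : (ZMod p)ˣ) {i k : (ZMod p)ˣ}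
    (hik : (D.μ j).1 (xp x (i : ZMod p)) = (D.μ j).1 (xp x (k : ZMod p))) :
    i⁻¹ * k ∈ Aut h.ord := by
  have h1 := mult_eq_of_apply_eq h.ord (D.μ j).2.isCharacter hik ((k * j : (ZMod p)ˣ) : ZMod p)
  have h2 := D.wt_μ j (i⁻¹ * (k * j))
  have h3 := D.wt_μ j (k⁻¹ * (k * j))
  rw [wt, Units.val_mul] at h2 h3
  rw [h1, h3, show j⁻¹ * (k⁻¹ * (k * j)) = 1 by group, if_pos (Subgroup.one_mem _),
    show j⁻¹ * (i⁻¹ * (k * j)) = i⁻¹ * k by rw [← mul_assoc i⁻¹, mul_comm _ j]; group] at h2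
  by_contra hc
  rw [if_neg hc, neg_eq_zero] at h2
  exact D.δ_ne_zero h2

end BData

end H18
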