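import Mathlib
import Cfsg.Agent.H18.D1h
import Cfsg.Agent.H18.Br96b

/-! Exceptional characters of degree `p - e` with `e` a power of `2`. -/

set_option autoImplicit false
set_option linter.unusedSectionVars false

open Cfsg H4 H17 Subgroup
open scoped ComplexConjugate

namespace H18

variable {G : Type*} [Group G] [Finite G] {p : ℕ} [hp : Fact p.Prime]

theorem SC.exists_inverting {x : G} (h : SC p x) (he : 2 ∣ Nat.card (Aut h.ord)) :
    p ≠ 2 ∧ ∃ τ : G, orderOf τ = 2 ∧ τ * x * τ⁻¹ = x⁻¹ := by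
  have hp2 : p ≠ 2 := by
    rintro rfl
    exact absurd (he.trans (card_Aut_dvd h.ord)) (by norm_num)
  obtain ⟨τ, hτ, h2⟩ := h.exists_mem_normalizer he
  refine ⟨hp2, τ, h2, ?_⟩
  have h3 : act h.ord ⟨τ, hτ⟩ ^ 2 = 1 := by
    rw [← map_pow, show (⟨τ, hτ⟩ : normalizer (zpowers x : Set G)) ^ 2 = 1 from
      Subtype.ext (h2 ▸ pow_orderOf_eq_one τ), map_one]
  have h4 : act h.ord ⟨τ, hτ⟩ ≠ 1 := fun hc => h.notMem_centralizer
    (by rwa [h2, Nat.prime_dvd_prime_iff_eq hp.out Nat.prime_two]) (ne_one_of_orderOf h2)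
    ((act_eq_one_iff h.ord).1 hc)
  have h5 := act_spec h.ord ⟨τ, hτ⟩
  have h6 : (act h.ord ⟨τ, hτ⟩ : ZMod p) = -1 :=
    (sq_eq_one_iff.1 (by rw [← Units.val_pow_eq_pow_val, h3, Units.val_one])).resolve_left
      fun hc => h4 (Units.ext hc)
  rwa [h6, xp_neg h.ord, xp_one] at h5

theorem two_pow_eq_one_of {a c : ℕ} (hc : c < a) (h : p = 2 ^ (a + c) + 1) :
    (2 : ZMod p) ^ 2 ^ a = 1 := by
  obtain ⟨s, hs⟩ := Nat.pow_of_pow_add_prime one_lt_two (by omega) (h ▸ hp.out)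
  have h1 : s + 1 ≤ a := by
    by_contra hc'
    rcases s with _ | s
    · omega
    · have := s.lt_two_pow_self
      rw [pow_succ] at hs
      omega
  have h2 : (2 : ZMod p) ^ (a + c) = -1 := by
    have := (ZMod.natCast_eq_zero_iff (2 ^ (a + c) + 1) p).2 (h ▸ dvd_rfl)
    push_cast at this
    exact eq_neg_of_add_eq_zero_left this
  obtain ⟨d, rfl⟩ := Nat.exists_eq_add_of_le h1
  rw [show 2 ^ (s + 1 + d) = 2 ^ s * (2 * 2 ^ d) by ring, pow_mul, ← hs, h2, pow_mul]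
  simp

theorem BData.index_eq_two (hG : commutator G = ⊤) {x : G} (h : SC p x) (D : BData h.d1)
    (hδ : D.δ = 1) (hz : deg (D.μ 1) + Nat.card (Aut h.ord) = p) {a : ℕ}
    (he : Nat.card (Aut h.ord) = 2 ^ a) (ha : 2 ≤ a) (ht : 2 ≤ (Aut h.ord).index) :
    (Aut h.ord).index = 2 := by
  classical
  have := Fintype.ofFinite G
  have hp0 := p_ne_zero' (p := p)
  have het := card_Aut_mul_index h.ord
  have h4e : 4 ∣ Nat.card (Aut h.ord) := he ▸ pow_dvd_pow 2 ha
  obtain ⟨hp2, τ, hτ, hinv⟩ := h.exists_inverting (Dvd.dvd.trans (by norm_num) h4e)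
  have hττ : τ * τ = 1 := by rw [← sq, ← hτ, pow_orderOf_eq_one]
  have hm : ∀ l, mult x (D.μ l).1 (0 : ZMod p) = 1 := fun l => by
    have h1 := D.deg_μ_eq l
    rw [hδ, D.deg_μ_congr l 1] at h1
    have h2 : (p : ℤ) * mult x (D.μ l).1 (0 : ZMod p) = p * 1 := by
      change _ = _ - 1 * (Nat.card (Aut h.ord) : ℤ) at h1
      omega
    exact_mod_cast mul_left_cancel₀ (Int.natCast_ne_zero.2 hp.out.ne_zero) h2
  have hμτ : ∀ l, (D.μ l).1 τ = 1 := fun l => by
    obtain ⟨m₁, m₂, h1, h2⟩ := exists_dihedral h.ord hp2 hττ hinv (D.μ l).2.isCharacter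
    obtain ⟨k, hk⟩ := exists_four_dvd hG hτ (D.μ l).2.isCharacter
    rw [← deg_eq, h2, D.deg_μ_congr l 1] at hk
    have h3 : (deg (D.μ 1) : ℤ) - (m₁ - m₂) = 4 * k := by exact_mod_cast hk
    have h4 := h4e.mul_right (Aut h.ord).index
    have := hp.out.pos
    rw [hm] at h1
    obtain ⟨rfl, rfl⟩ : m₁ = 1 ∧ m₂ = 0 := by omega
    simpa using h2
  set μ := (D.μ 1).1 with hμ
  set z := deg (D.μ 1) with hzdef
  have hμc : IsCharacter G μ := (D.μ 1).2.isCharacter
  have hμ1 : μ 1 = z := (deg_eq _).symm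
  have hθ := hμc.altSq
  set θ : G → ℂ := fun g => (μ g ^ 2 - μ (g * g)) / 2 with hθdef
  have hneg : ∀ i : ZMod p, μ (xp x (-i)) = μ (xp x i) := fun i => by
    rw [← hμc.classFun (xp x i) τ, conj_xp, hinv, xp_neg h.ord]
    exact congrArg μ (inv_pow _ _).symm
  have h2u : (2 : ZMod p) ≠ 0 := fun hc => hp2 ((Nat.prime_dvd_prime_iff_eq hp.out Nat.prime_two).1
    ((ZMod.natCast_eq_zero_iff 2 p).1 hc))
  have hs1 : ∑ i : ZMod p, μ (xp x i) = p := by
    have := mult_zero_eq h.ord hμc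
    rw [hm, Nat.cast_one, eq_inv_mul_iff_mul_eq₀ hp0, mul_one] at this
    exact this.symm
  have hs2 : ∑ i : ZMod p, μ (xp x i * xp x i) = p := by
    rw [← hs1]
    exact Fintype.sum_equiv (Equiv.mulLeft₀ 2 h2u) _ _ fun i => by
      rw [← xp_add h.ord, ← two_mul]; rfl
  have hs3 : ∑ i : ZMod p, μ (xp x i) ^ 2 = p * z := by
    have h1 := sum_mul_neg_eq h.ord hμc
    simp only [hneg, ← sq] at h1
    rw [h1, ← hμ1, sum_mult h.ord hμc, Nat.cast_sum]
    congr 1
    refine Finset.sum_congr rfl fun c _ => ?_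
    have h2 : mult x μ c = 0 ∨ mult x μ c = 1 := by
      rcases eq_or_ne c 0 with rfl | hc
      · exact Or.inr (hm 1)
      · have h3 := D.wt_μ 1 (Units.mk0 c hc)
        rw [wt, hm, hδ, Units.val_mk0, ← hμ] at h3
        split_ifs at h3 <;> omega
    rcases h2 with h2 | h2 <;> simp [h2]
  have hs4 : ∑ i : ZMod p, θ (xp x i) = p * (z - 1) / 2 := by
    simp only [hθdef, ← Finset.sum_div, Finset.sum_sub_distrib, hs2, hs3]
    ring
  choose n hn using fun χ : Irr G => hθ.inner_nat χ.2.isCharacter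
  have hn0 : ∀ l, n (D.μ l) = 0 := fun l => by
    have h1 := hθ.sub_inner_smul (D.μ l).2
    obtain ⟨m₁, m₂, h2, h3⟩ := exists_dihedral h.ord hp2 hττ hinv h1
    have h4 := mult_zero_eq h.ord h1
    have h5 := mult_zero_eq h.ord (D.μ l).2.isCharacter
    rw [hm, Nat.cast_one, eq_inv_mul_iff_mul_eq₀ hp0, mul_one] at h5
    rw [← h2] at h4
    simp only [hn, Pi.sub_apply, Pi.smul_apply, smul_eq_mul, Finset.sum_sub_distrib,
      ← Finset.mul_sum, hs4, ← h5, hμτ] at h3 h4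
    rw [hθdef] at h3
    simp only [hμ, hμτ, hττ, ← deg_eq, ← hzdef] at h3
    have h6 : ((m₁ + n (D.μ l) : ℕ) : ℂ) = 0 := by
      push_cast at h4 ⊢
      field_simp at h4
      linear_combination h4 / 4 - h3 / 2
    have h7 := Nat.cast_eq_zero.1 h6
    omega
  obtain ⟨s, hs⟩ : ∃ s : ℤ, ∀ i : (ZMod p)ˣ, θ (xp x (i : ZMod p)) = s := by
    refine ⟨∑ χ ∈ D.Nx, n χ * D.a χ, fun i => ?_⟩
    have h1 : p ∣ orderOf (xp x (i : ZMod p)) := by rw [orderOf_xp h.ord i.ne_zero]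
    rw [hθ.classFun.apply_eq_sum, ← Finset.sum_subset (Bf G p).subset_univ fun χ _ hχ => by
      rw [h.apply_eq_zero (mt mem_Bf.2 hχ) h1, mul_zero], D.sum_Bf,
      Finset.sum_eq_zero (s := D.X) fun χ hχ => by
        obtain ⟨l, rfl⟩ := D.mem_X.1 hχ
        rw [hn, hn0, Nat.cast_zero, zero_mul], add_zero]
    push_cast
    exact Finset.sum_congr rfl fun χ hχ => by rw [hn, D.apply_Nx hχ h1]
  have het' := cast_card_Aut_mul_index h.ord
  have hst : (2 ^ a : ℤ) * ((Aut h.ord).index - 1) = 2 * s * (Aut h.ord).index := by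
    rw [sum_eq_add_sum_units] at hs4
    simp only [hs, xp_zero, Finset.sum_const, Finset.card_univ, ZMod.card_units, nsmul_eq_mul,
      Nat.cast_pred hp.out.pos] at hs4
    simp only [hθdef, mul_one, hμ1] at hs4
    have h1 : (z : ℤ) ^ 2 - z + 2 * ((p - 1) * s) = p * (z - 1) := by
      apply Int.cast_injective (α := ℂ)
      push_cast
      linear_combination 2 * hs4
    have h2 : (z : ℤ) = p - 2 ^ a := by
      rw [he] at hz
      rw [← hz]; push_cast; ring
    rw [he] at het'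
    push_cast at het'
    rw [h2, show (p : ℤ) = 2 ^ a * (Aut h.ord).index + 1 by linear_combination -het'] at h1
    apply mul_left_cancel₀ (show (2 ^ a : ℤ) ≠ 0 by positivity)
    linear_combination -h1
  set t := (Aut h.ord).index with htdef
  obtain ⟨c, hca, hc⟩ : ∃ c < a, t = 2 ^ c := by
    have h1 : t ∣ 2 ^ a := by
      rw [← Int.natCast_dvd_natCast]
      exact ⟨2 ^ a - 2 * s, by push_cast; linear_combination -hst⟩
    obtain ⟨c, h2, h3⟩ := (Nat.dvd_prime_pow Nat.prime_two).1 h1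
    refine ⟨c, lt_of_le_of_ne h2 ?_, h3⟩
    rintro rfl
    rw [h3] at hst
    push_cast at hst
    have h4 : (2 : ℤ) ^ c - 1 = 2 * s :=
      mul_left_cancel₀ (show (2 ^ c : ℤ) ≠ 0 by positivity) (by linear_combination hst)
    have h5 : (2 : ℤ) ∣ 2 ^ c := dvd_pow_self 2 (by omega)
    omega
  have h2A : Units.mk0 2 h2u ∈ Aut h.ord := mem_of_pow_card _ (Units.ext (by
    rw [Units.val_pow_eq_pow_val, he]
    refine two_pow_eq_one_of hca ?_
    rw [pow_add, ← he, ← hc, het, Nat.sub_add_cancel hp.out.pos]))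
  have hq : ∀ i : (ZMod p)ˣ, μ (xp x (i : ZMod p)) ^ 2 - μ (xp x (i : ZMod p)) = 2 * s := fun i => by
    have h1 := (isConj_xp_iff h.ord (i := i) (j := i * Units.mk0 2 h2u)).2 (by simpa using h2A)
    rw [Units.val_mul, Units.val_mk0, mul_two, xp_add h.ord] at h1
    rw [← hs i, hθdef]
    simp only [← hμc.classFun.apply_of_isConj h1]
    ring
  have hsum : ∀ i k : (ZMod p)ˣ, (i : (ZMod p)ˣ ⧸ Aut h.ord) ≠ k →
      μ (xp x (i : ZMod p)) + μ (xp x (k : ZMod p)) = 1 := fun i k hik => by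
    have h1 : μ (xp x (i : ZMod p)) - μ (xp x (k : ZMod p)) ≠ 0 := fun hc =>
      hik (QuotientGroup.eq.2 (D.mem_Aut_of_apply_eq 1 (sub_eq_zero.1 hc)))
    apply mul_left_cancel₀ h1
    linear_combination hq i - hq k
  by_contra hc'
  have := Fintype.ofFinite ((ZMod p)ˣ ⧸ Aut h.ord)
  obtain ⟨u, v, w, huv, huw, hvw⟩ := (Fintype.two_lt_card_iff (α := (ZMod p)ˣ ⧸ Aut h.ord)).1 (by
    rw [← Nat.card_eq_fintype_card, ← index_eq_card]; omega)
  obtain ⟨u, rfl⟩ := QuotientGroup.mk_surjective u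
  obtain ⟨v, rfl⟩ := QuotientGroup.mk_surjective v
  obtain ⟨w, rfl⟩ := QuotientGroup.mk_surjective w
  exact hvw (QuotientGroup.eq.2 (D.mem_Aut_of_apply_eq 1
    (by linear_combination hsum u v huv - hsum u w huw)))

end H18
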