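import Mathlib
import Cfsg.Agent.H18.Br97a

/-! Brauer–Tuan: simple groups of order `p q^b g₀` with `g₀ < p - 1`. -/

set_option autoImplicit false
set_option linter.unusedSectionVars false

open Cfsg H4 H17 Subgroup

namespace H18

theorem add_card_le {ι : Type*} [DecidableEq ι] {s : Finset ι} {f : ι → ℕ} (hf : ∀ i ∈ s, 1 ≤ f i) :
    s.card ≤ ∑ i ∈ s, f i ∧ ∀ i ∈ s, f i + s.card ≤ ∑ i ∈ s, f i + 1 := by
  have h1 : ∀ t ⊆ s, t.card ≤ ∑ i ∈ t, f i := fun t ht => by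
    simpa using Finset.card_nsmul_le_sum t f 1 fun i hi => hf i (ht hi)
  refine ⟨h1 s subset_rfl, fun i hi => ?_⟩
  have h2 := h1 _ (s.erase_subset i)
  rw [← Finset.add_sum_erase s f hi, ← Finset.card_erase_add_one hi]
  omega

variable {G : Type*} [Group G] [Finite G] {p : ℕ} [hp : Fact p.Prime]

theorem BData.exists_sums (hG : commutator G = ⊤) {x : G} {h : D1 p x} (D : BData h) :
    ∃ α β U V : ℕ, α + β + 1 = Nat.card (Aut h.ord) ∧ α ≤ U ∧ β ≤ V ∧
      ∑ χ ∈ D.Nx.filter (D.a · = 1), deg χ = 1 + α + p * U ∧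
      ∑ χ ∈ D.Nx.filter (D.a · = -1), deg χ + β = p * V ∧
      (1 + α + β + p * U + D.δ * deg (D.μ 1) : ℤ) = p * V ∧
      (0 < α → {χ | χ ∈ D.Nx ∧ χ ≠ irrOne G ∧ D.a χ = 1}.Nonempty) ∧
      (0 < β → {χ | χ ∈ D.Nx ∧ D.a χ = -1}.Nonempty) ∧
      (∀ χ ∈ D.Nx, χ ≠ irrOne G → D.a χ = 1 → ∃ u, 1 ≤ u ∧ deg χ = p * u + 1 ∧ u + α ≤ U + 1) ∧
      ∀ χ ∈ D.Nx, D.a χ = -1 → ∃ v, 1 ≤ v ∧ deg χ + 1 = p * v ∧ v + β ≤ V + 1 := by
  classical
  have := Fintype.ofFinite G
  set P := (D.Nx.filter (D.a · = 1)).erase (irrOne G) with hP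
  set Q := D.Nx.filter (D.a · = -1) with hQ
  have h1 : irrOne G ∈ D.Nx.filter (D.a · = 1) := Finset.mem_filter.2 ⟨D.one_mem, D.a_one⟩
  have hu : ∀ χ ∈ P, 1 ≤ mult x χ.1 (0 : ZMod p) - 1 ∧
      deg χ = p * (mult x χ.1 (0 : ZMod p) - 1) + 1 := fun χ hχ => by
    obtain ⟨h2, h3⟩ := Finset.mem_erase.1 hχ
    obtain ⟨h3, h4⟩ := Finset.mem_filter.1 h3
    have h5 := D.deg_Nx_eq h3
    have h6 := (deg_eq_one_iff_of_perfect hG).not.2 h2
    have := hp.out.two_le
    rw [h4] at h5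
    generalize mult x χ.1 (0 : ZMod p) = m at *
    rcases m with _ | _ | m
    · omega
    · omega
    · refine ⟨by omega, ?_⟩
      zify
      rw [h5]; push_cast; ring
  have hv : ∀ χ ∈ Q, deg χ + 1 = p * (mult x χ.1 (0 : ZMod p) + 1) := fun χ hχ => by
    obtain ⟨h3, h4⟩ := Finset.mem_filter.1 hχ
    have h5 := D.deg_Nx_eq h3
    zify
    rw [h5, h4]; ring
  have h2 := add_card_le fun χ hχ => (hu χ hχ).1
  have h3 := add_card_le (s := Q) (f := fun χ => mult x χ.1 (0 : ZMod p) + 1) fun _ _ => by omega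
  have hQ' : D.Nx.filter (fun χ => ¬ D.a χ = 1) = Q := Finset.filter_congr fun χ hχ => by
    rcases D.a_sq χ hχ with h4 | h4 <;> simp [h4]
  have h4 : ∑ χ ∈ D.Nx.filter (D.a · = 1), deg χ =
      1 + P.card + p * ∑ χ ∈ P, (mult x χ.1 (0 : ZMod p) - 1) := by
    rw [← Finset.add_sum_erase _ _ h1, deg_irrOne, Finset.sum_congr rfl fun χ hχ => (hu χ hχ).2,
      Finset.sum_add_distrib, ← Finset.mul_sum, ← Finset.card_eq_sum_ones]
    ring
  have h5 : ∑ χ ∈ Q, deg χ + Q.card = p * ∑ χ ∈ Q, (mult x χ.1 (0 : ZMod p) + 1) := by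
    rw [Finset.card_eq_sum_ones, ← Finset.sum_add_distrib, Finset.sum_congr rfl hv, Finset.mul_sum]
  refine ⟨P.card, Q.card, _, _, ?_, h2.1, h3.1, h4, h5, ?_, fun hα => ?_, fun hβ => ?_,
    fun χ hχ hχ1 ha => ?_, fun χ hχ ha => ?_⟩
  · rw [← D.card_Nx, ← Finset.card_filter_add_card_filter_not (s := D.Nx) (D.a · = 1), hQ',
      ← Finset.card_erase_add_one h1]
    ring
  · have h6 := D.deg_rel 1
    rw [← Finset.sum_filter_add_sum_filter_not _ (D.a · = 1), hQ',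
      Finset.sum_congr rfl fun χ hχ => by rw [(Finset.mem_filter.1 hχ).2, one_mul],
      Finset.sum_congr (s₁ := Q) rfl fun χ hχ => by rw [(Finset.mem_filter.1 hχ).2, neg_one_mul],
      Finset.sum_neg_distrib, ← Nat.cast_sum, ← Nat.cast_sum, h4] at h6
    zify at h5
    push_cast at h6 ⊢
    linear_combination h5 + h6
  · obtain ⟨χ, hχ⟩ := Finset.card_pos.1 hα
    obtain ⟨h6, h7⟩ := Finset.mem_erase.1 hχ
    exact ⟨χ, (Finset.mem_filter.1 h7).1, h6, (Finset.mem_filter.1 h7).2⟩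
  · obtain ⟨χ, hχ⟩ := Finset.card_pos.1 hβ
    exact ⟨χ, Finset.mem_filter.1 hχ⟩
  · have h6 : χ ∈ P := Finset.mem_erase.2 ⟨hχ1, Finset.mem_filter.2 ⟨hχ, ha⟩⟩
    exact ⟨_, (hu χ h6).1, (hu χ h6).2, h2.2 χ h6⟩
  · have h6 : χ ∈ Q := Finset.mem_filter.2 ⟨hχ, ha⟩
    exact ⟨_, by omega, hv χ h6, h3.2 χ h6⟩

theorem BData.bt_bound [IsSimpleGroup G] (hG : ¬ IsMulCommutative G) {x : G} (h : SC p x)
    (D : BData h.d1) (hp2 : p ≠ 2) {b : ℕ} (hb : 2 ^ b ∣ Nat.card G) (hb0 : 0 < b)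
    (hev : ∀ χ ∈ D.Nx, χ ≠ irrOne G → 2 ∣ deg χ) (hodd : ¬ 2 ∣ deg (D.μ 1))
    (hpow : ∀ χ ∈ D.Nx, χ ≠ irrOne G → D.a χ ≠ D.δ → ∃ k, deg χ = 2 ^ k) :
    2 ^ b ≤ ∑ χ ∈ D.Nx.filter (D.a · = -D.δ), deg χ := by
  classical
  obtain ⟨T, hT, h1, ε, hε, h2⟩ := D.brauer_tuan' hG (q := 2) (fun g hg => by
    rwa [h.orderOf_eq hg, Nat.prime_dvd_prime_iff_eq Nat.prime_two hp.out, eq_comm]) 1 hb
  have h3 : ∀ χ ∈ T, D.a χ = D.δ := fun χ hχ => by
    by_contra hc
    obtain ⟨h4, h5⟩ := Finset.mem_erase.1 (hT hχ)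
    obtain ⟨k, hk⟩ := hpow χ h5 h4 hc
    exact h1 χ hχ k hk
  rw [Finset.sum_congr rfl fun χ hχ => by rw [h3 χ hχ], ← Finset.mul_sum, ← Nat.cast_sum] at h2
  have h4 : 2 ∣ ∑ χ ∈ T, deg χ := Finset.dvd_sum fun χ hχ =>
    hev χ (Finset.mem_erase.1 (hT hχ)).2 (Finset.mem_erase.1 (hT hχ)).1
  have h5 : ∑ χ ∈ T, deg χ ≤ ∑ χ ∈ (D.Nx.filter (D.a · = D.δ)).erase (irrOne G), deg χ :=
    Finset.sum_le_sum_of_subset fun χ hχ => Finset.mem_erase.2 ⟨(Finset.mem_erase.1 (hT hχ)).1,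
      Finset.mem_filter.2 ⟨(Finset.mem_erase.1 (hT hχ)).2, h3 χ hχ⟩⟩
  have h6 := ((Int.natCast_dvd_natCast.2 (dvd_pow_self 2 hb0.ne')).trans h2)
  have hperf := commutator_eq_top_of_simple hG
  have h7 := (deg_eq_one_iff_of_perfect hperf).not.2 (D.μ_ne_one 1)
  have h8 := deg_ne_zero (D.μ 1)
  obtain ⟨α, β, U, V, -, -, -, h9, h10, h11, -⟩ := D.exists_sums hperf
  have h12 := Finset.add_sum_erase _ deg (Finset.mem_filter.2 ⟨D.one_mem, D.a_one⟩ :
    irrOne G ∈ D.Nx.filter (D.a · = 1))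
  rw [deg_irrOne] at h12
  generalize 2 ^ b = B at *
  generalize ∑ χ ∈ T, deg χ = S at *
  rcases D.δ_sq with hδ | hδ <;> rw [hδ] at h2 h5 h6 h11 ⊢
  · rcases hε with rfl | ⟨rfl, -⟩
    · omega
    · have := Int.le_of_dvd (by omega) h2
      omega
  · replace h5 := h5.trans (Finset.sum_le_sum_of_subset (Finset.erase_subset _ _))
    rw [neg_neg]
    rcases hε with rfl | ⟨rfl, -⟩
    · omega
    · have := Int.le_of_dvd (by omega) (dvd_neg.2 h2)
      omega

theorem arith97a {p e z m : ℕ} (h1 : e ≤ p - 1) (h2 : z < p - 1) (h3 : 1 < z) :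
    ((z : ℤ) = p * m - 1 * e → z + e = p) ∧ ((z : ℤ) = p * m - -1 * e → z = e) := by
  rcases m with _ | m
  · omega
  · have : (0 : ℤ) ≤ p * m := by positivity
    push_cast
    rw [mul_add]
    refine ⟨fun h => ?_, fun h => by omega⟩
    rcases m with _ | m
    · omega
    · have : (0 : ℤ) ≤ p * m := by positivity
      push_cast at h
      rw [mul_add] at h
      omega

theorem arith97b {p e t α β U : ℕ} (hp : e * t + 1 = p) (ht : 2 ≤ t) (he : 2 ≤ e)
    (h1 : α + β + 1 = e) (h2 : α ≤ U) (h3 : β ≤ U) (h4 : 1 + α + p * U ≤ e ^ 2) :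
    t = 2 ∧ U = α ∧ U = β := by
  have h5 : 2 * U < e := by
    by_contra hc
    have := Nat.mul_le_mul (Nat.mul_le_mul_left e ht) (not_lt.1 hc)
    nlinarith
  refine ⟨?_, by omega⟩
  by_contra hc
  obtain rfl : e = 2 * U + 1 := by omega
  have := Nat.mul_le_mul_left ((2 * U + 1) * U) (show 3 ≤ t by omega)
  nlinarith

theorem brauer_tuan_main [IsSimpleGroup G] (hG : ¬ IsMulCommutative G) {q b g₀ : ℕ} (hq : q.Prime)
    (hpq : p ≠ q) (hcard : Nat.card G = p * q ^ b * g₀) (hg : g₀ < p - 1) :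
    (∃ m, p = 2 ^ m + 1 ∨ p = 2 ^ m - 1) ∧ ∃ x : G, SC p x ∧
      2 * Nat.card (Sylow p G) < (p + 1) * (p + 2) := by
  have := Fintype.ofFinite G
  have hperf := commutator_eq_top_of_simple hG
  have hg0 : 0 < g₀ := Nat.pos_of_ne_zero (by rintro rfl; exact Nat.card_pos.ne' hcard)
  have hpq' : p.Coprime (q ^ b) := ((Nat.coprime_primes hp.out hq).2 hpq).pow_right b
  obtain ⟨x, hx⟩ := exists_D1 (G := G) (p := p) ⟨q ^ b * g₀, by rw [hcard, mul_assoc]⟩ fun hc => by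
    rw [hcard, sq, mul_assoc, Nat.mul_dvd_mul_iff_left hp.out.pos] at hc
    have := Nat.le_of_dvd hg0 (hpq'.dvd_of_dvd_mul_left hc)
    omega
  obtain ⟨D⟩ := hx.nonempty_bData
  have hdeg : ∀ χ ∈ B0 p G, χ ≠ irrOne G → ¬ q ∣ deg χ → deg χ ∣ g₀ ∧ 1 < deg χ := fun χ hχ h1 h2 => by
    have h3 := χ.2.degree_dvd_card (deg_eq χ).symm
    rw [hcard] at h3
    refine ⟨Nat.Coprime.dvd_of_dvd_mul_left (Nat.Coprime.mul_right ?_ (Nat.Coprime.pow_right _ ?_)) h3,
      ?_⟩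
    · exact ((Nat.Prime.coprime_iff_not_dvd hp.out).2 (not_dvd_deg_of_mem_B0 hx hχ)).symm
    · exact ((Nat.Prime.coprime_iff_not_dvd hq).2 h2).symm
    · have := (deg_eq_one_iff_of_perfect hperf).not.2 h1
      have := deg_ne_zero χ
      omega
  obtain ⟨α, β, U, V, h1, h2, h3, h4, h5, h6, h7, h8, h9, h10⟩ := D.exists_sums hperf
  have hN : ∀ χ ∈ D.Nx, χ ≠ irrOne G → q ∣ deg χ := fun χ hχ hχ1 => by
    by_contra hc
    have h11 := Nat.le_of_dvd hg0 (hdeg χ (D.Nx_mem hχ) hχ1 hc).1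
    rcases D.a_sq χ hχ with h12 | h12
    · obtain ⟨u, h13, h14, -⟩ := h9 χ hχ hχ1 h12
      have := Nat.le_mul_of_pos_right p h13
      omega
    · obtain ⟨u, h13, h14, -⟩ := h10 χ hχ h12
      have := Nat.le_mul_of_pos_right p h13
      omega
  have hqz : ¬ q ∣ deg (D.μ 1) := by
    obtain ⟨χ, hχ, h11, h12⟩ := hx.exists_not_dvd hq
    rcases (D.mem_iff χ).1 hχ with h13 | ⟨j, rfl⟩
    · exact absurd (hN χ h13 h11) h12
    · rwa [D.deg_μ_congr 1 j]
  obtain ⟨hz1, hz2⟩ := hdeg _ (D.μ_mem 1) (D.μ_ne_one 1) hqz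
  have hz3 := Nat.le_of_dvd hg0 hz1
  have hS : SC p x := ⟨hx.ord, hx.centralizer_eq_of_deg_lt hG (D.μ_mem 1) (D.μ_ne_one 1) (by omega)⟩
  have hdvd := fun χ (hχ : χ ∈ B0 p G) => D.deg_dvd hχ
  have heN : Nat.card (Aut hx.ord) * Nat.card (Sylow p G) = q ^ b * g₀ :=
    Nat.eq_of_mul_eq_mul_left hp.out.pos (by rw [← hS.card_eq, hcard, mul_assoc])
  have het := card_Aut_mul_index hx.ord
  have he1 := hx.card_Aut_ne_one hperf
  have he0 : 0 < Nat.card (Aut hx.ord) := Nat.card_pos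
  have ht0 : 0 < (Aut hx.ord).index := Nat.pos_of_ne_zero index_ne_zero_of_finite
  have hμ := D.deg_μ_eq 1
  have hbt := D.bt_bound hG hS (b := b)
  have hidx := D.index_eq_two hperf hS
  have hpos := fun ht => D.sum_deg_pos_le ht 1
  have hneg := fun ht => D.sum_deg_neg_le ht 1
  have hqG : q ^ b ∣ Nat.card G := hcard ▸ (dvd_mul_left _ _).mul_right _
  have hqN : ((q : ℤ)) ∣ 1 + D.δ * deg (D.μ 1) := by
    classical
    have h11 := D.deg_rel 1
    rw [← Finset.add_sum_erase _ _ D.one_mem, D.a_one, deg_irrOne] at h11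
    have h12 := Finset.dvd_sum fun χ (hχ : χ ∈ D.Nx.erase (irrOne G)) => Dvd.dvd.mul_left
      (Int.natCast_dvd_natCast.2 (hN χ (Finset.mem_erase.1 hχ).2 (Finset.mem_erase.1 hχ).1)) (D.a χ)
    rw [← dvd_neg] at h12
    exact h12.trans (dvd_of_eq (by linear_combination -h11))
  set z := deg (D.μ 1) with hzdef
  have hp0 := hp.out.pos
  have hze := arith97a (m := mult x (D.μ 1).1 (0 : ZMod p))
    (het ▸ Nat.le_mul_of_pos_right _ ht0 : Nat.card (Aut hx.ord) ≤ p - 1) (hz3.trans_lt hg) hz2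
  have ht2 : 2 ≤ (Aut hx.ord).index := by
    by_contra hc
    rw [show (Aut hx.ord).index = 1 by omega] at het
    rcases D.δ_sq with hδ | hδ <;> rw [hδ] at hμ <;> omega
  have hne : ∀ χ, D.a χ = -1 → χ ≠ irrOne G := by
    rintro χ h11 rfl
    rw [D.a_one] at h11
    omega
  have hcN := D.card_Nx
  replace hpos := hpos ht2
  replace hneg := hneg ht2
  rcases D.δ_sq with hδ | hδ <;> rw [hδ] at hμ hqN h6 hbt
  · -- `z = p - e`
    replace hze := hze.1 hμ
    replace hidx := fun a => hidx hδ hze (a := a)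
    generalize Nat.card (Aut hx.ord) = e at *
    generalize (Aut hx.ord).index = t at *
    generalize Nat.card (Sylow p G) = N at *
    have h2e := Nat.mul_le_mul_left e ht2
    obtain rfl : g₀ = z := by
      obtain ⟨k, hk⟩ := hz1
      rcases k with _ | _ | k
      · omega
      · omega
      · rw [mul_add, mul_add] at hk
        omega
    have hcop : e.Coprime z := by
      rw [← Nat.coprime_add_self_right, hze]
      exact (Nat.coprime_of_lt_prime he0.ne' (by omega) hp.out).symm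
    obtain ⟨a, hab, ha⟩ := (Nat.dvd_prime_pow hq).1 (hcop.dvd_of_dvd_mul_right ⟨N, heN.symm⟩)
    have ha0 : a ≠ 0 := by rintro rfl; exact he1 ha
    have hqe : q ∣ e := ha ▸ dvd_pow_self q ha0
    obtain rfl : q = 2 := by
      refine (Nat.prime_dvd_prime_iff_eq hq Nat.prime_two).1 (Int.natCast_dvd_natCast.1 ?_)
      have h11 := Int.natCast_dvd_natCast.2 hqe
      refine ((hqN.add h11).sub (h11.mul_right t)).trans (dvd_of_eq ?_)
      have h12 : ((e * t : ℕ) : ℤ) + 1 = z + e := by omega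
      push_cast at h12 ⊢
      linear_combination -h12
    have hV : V = U + 1 := Nat.eq_of_mul_eq_mul_left hp0 (by rw [mul_add]; omega)
    have hkey : (∃ m, p - 1 = 2 ^ m) ∧ (∀ χ ∈ D.Nx, D.a χ = -1 → deg χ = p - 1) ∧
        (2 ^ b ≤ ∑ χ ∈ D.Nx.filter (D.a · = -1), deg χ → 2 * N < (p + 1) * (p + 2)) := by
      rcases eq_or_lt_of_le (Nat.one_le_iff_ne_zero.2 ha0) with rfl | ha2
      · obtain rfl : e = 2 := ha
        classical
        have h11 := D.deg_rel 1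
        obtain ⟨χ, hχ⟩ := Finset.card_eq_one.1 (show (D.Nx.erase (irrOne G)).card = 1 by
          rw [Finset.card_erase_of_mem D.one_mem, hcN])
        have h12 := Finset.mem_erase.1 (hχ ▸ Finset.mem_singleton_self χ)
        rw [← Finset.add_sum_erase _ _ D.one_mem, hχ, Finset.sum_singleton, D.a_one, deg_irrOne,
          hδ, ← hzdef] at h11
        have h13 : deg χ = z + 1 := by
          rcases D.a_sq χ h12.2 with h13 | h13 <;> rw [h13] at h11 <;> omega
        have h14 : D.Nx.filter (D.a · = -1) ⊆ {χ} := fun ψ hψ => hχ ▸ Finset.mem_erase.2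
          ⟨hne ψ (Finset.mem_filter.1 hψ).2, (Finset.mem_filter.1 hψ).1⟩
        have h15 := hdvd χ (D.Nx_mem h12.2)
        rw [heN, h13] at h15
        obtain ⟨m, -, hm⟩ := (Nat.dvd_prime_pow Nat.prime_two).1
          (Nat.Coprime.dvd_of_dvd_mul_right (by simp) h15)
        refine ⟨⟨m, by omega⟩, fun ψ hψ h16 => ?_, fun h16 => ?_⟩
        · rw [Finset.mem_singleton.1 (h14 (Finset.mem_filter.2 ⟨hψ, h16⟩))]
          omega
        · have h17 := Nat.mul_le_mul_right z (h16.trans (Finset.sum_le_sum_of_subset h14))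
          rw [Finset.sum_singleton, h13] at h17
          rw [heN, ← hze]
          refine h17.trans_lt ?_
          clear * -
          nlinarith
      · obtain rfl := hidx a ha ha2 ht2
        obtain rfl : p = 2 * e + 1 := by omega
        have hz : z = e + 1 := by omega
        refine ⟨⟨a + 1, by rw [← het, ha, pow_succ]⟩, fun χ hχ h12 => ?_, fun h12 => ?_⟩
        · obtain ⟨v, h13, h14, h15⟩ := h10 χ hχ h12
          have h16 := hN χ hχ (hne χ h12)
          rcases v with _ | _ | _ | v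
          · omega
          · omega
          · omega
          · exfalso
            have h17 : ∑ χ ∈ D.Nx.filter (D.a · = -1), deg χ + β ≤ (e + 1) ^ 2 + (V - 2) :=
              Nat.add_le_add (hz ▸ hneg) (by omega)
            rw [h5] at h17
            have h18 : e + 2 ≤ 2 * V := by omega
            obtain ⟨W, rfl⟩ : ∃ W, V = W + 2 := ⟨V - 2, by omega⟩
            clear * - h17 h18
            rw [Nat.add_sub_cancel] at h17
            nlinarith
        · have h13 : e * N ≤ (e + 1) ^ 2 * (e + 1) := by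
            rw [heN, hz]
            exact Nat.mul_le_mul_right _ (h12.trans (hz ▸ hneg))
          clear * - h13 he0
          by_contra hc
          have := Nat.mul_le_mul_left e (not_lt.1 hc)
          nlinarith
    obtain ⟨⟨m, hm⟩, h11, h12⟩ := hkey
    refine ⟨⟨m, Or.inl (by omega)⟩, x, hS, h12 (hbt hpq hqG (by omega) hN hqz fun χ hχ _ h13 => ?_)⟩
    exact ⟨m, hm ▸ h11 χ hχ ((D.a_sq χ hχ).resolve_left h13)⟩
  · -- `z = e`
    replace hze := hze.2 hμ
    rw [neg_neg] at hbt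
    generalize Nat.card (Aut hx.ord) = e at *
    subst hze
    generalize (Aut hx.ord).index = t at *
    generalize Nat.card (Sylow p G) = N at *
    obtain rfl : V = U := Nat.eq_of_mul_eq_mul_left hp0 (by omega)
    obtain ⟨rfl, rfl, rfl⟩ := arith97b (by omega) ht2 hz2 h1 h2 h3 (h4 ▸ hpos)
    have h11 : ∀ χ ∈ D.Nx, χ ≠ irrOne G → D.a χ = 1 → deg χ = p + 1 := fun χ hχ h11 h12 => by
      obtain ⟨u, h13, h14, h15⟩ := h9 χ hχ h11 h12
      obtain rfl : u = 1 := by omega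
      omega
    obtain ⟨χ, hχ, h12, h13⟩ := h7 (by omega)
    obtain ⟨ψ, hψ, h14⟩ := h8 (by omega)
    have h15 := hN χ hχ h12
    have h16 := hN ψ hψ (hne ψ h14)
    have h17 := hdvd χ (D.Nx_mem hχ)
    rw [h11 χ hχ h12 h13] at h15 h17
    obtain rfl : q = 2 := by
      obtain ⟨u, h18, h19, h20⟩ := h10 ψ hψ h14
      obtain rfl : u = 1 := by omega
      refine (Nat.prime_dvd_prime_iff_eq hq Nat.prime_two).1 ((Nat.dvd_add_right h16).1 ?_)
      rwa [show deg ψ + 2 = p + 1 by omega]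
    obtain rfl : g₀ = z := by
      obtain ⟨k, hk⟩ := hz1
      rcases k with _ | _ | k
      · omega
      · omega
      · rw [mul_add, mul_add] at hk
        omega
    obtain rfl : N = 2 ^ b := Nat.eq_of_mul_eq_mul_left he0 (by rw [heN, mul_comm])
    obtain ⟨m, hmb, hm⟩ := (Nat.dvd_prime_pow Nat.prime_two).1 (Nat.Coprime.dvd_of_dvd_mul_left (by
      rw [show p + 1 = z * 2 + 2 by omega, Nat.coprime_mul_left_add_left]
      exact (Nat.Prime.coprime_iff_not_dvd Nat.prime_two).2 hqz) h17)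
    have hb0 : 0 < b := by
      rcases m with _ | m
      · omega
      · omega
    refine ⟨⟨m, Or.inr (by omega)⟩, x, hS, ?_⟩
    have h18 := (hbt hpq hqG hb0 hN hqz fun χ hχ h18 h19 =>
      ⟨m, hm ▸ h11 χ hχ h18 ((D.a_sq χ hχ).resolve_right h19)⟩).trans hpos
    rw [show p = z * 2 + 1 by omega]
    generalize 2 ^ b = B at h18
    clear * - h18
    nlinarith

end H18
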