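import Mathlib
import Cfsg.Agent.H18.Br96b

/-! Brauer–Reynolds: simple groups with `|G| < p³`. -/

set_option autoImplicit false
set_option linter.unusedSectionVars false

open Cfsg H4 H17 Subgroup

namespace H18

variable {G : Type*} [Group G] [Finite G] {p : ℕ} [hp : Fact p.Prime]

theorem D1.sc_of_small [IsSimpleGroup G] (hG : ¬ IsMulCommutative G) {x : G} (h : D1 p x) {n : ℕ}
    (hn : Nat.card (Sylow p G) = n * p + 1) (hn2 : 2 * n < p + 3)
    (hc : Nat.card G ≤ ((p - 1) * (n * p + 1)) ^ 2) : SC p x := by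
  classical
  refine ⟨h.ord, ?_⟩
  by_contra hC
  have hperf := commutator_eq_top_of_simple hG
  have hbig : ∀ χ ∈ B0 p G, χ ≠ irrOne G → 2 * p ≤ deg χ := fun χ hχ h1 => by
    by_contra hlt
    exact hC (h.centralizer_eq_of_deg_lt hG hχ h1 (not_le.1 hlt))
  obtain ⟨D⟩ := h.nonempty_bData
  have hn1 : 1 ≤ n := by
    by_contra hc
    exact h.card_sylow_ne_one hperf (by rw [hn, show n = 0 by omega]; simp)
  have het := card_Aut_mul_index h.ord
  have het' := cast_card_Aut_mul_index h.ord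
  have he1 := h.card_Aut_ne_one hperf
  have he0 : 0 < Nat.card (Aut h.ord) := Nat.card_pos
  have ht0 : 0 < (Aut h.ord).index := Nat.pos_of_ne_zero index_ne_zero_of_finite
  have hdvd := fun χ (hχ : χ ∈ B0 p G) => D.deg_dvd hχ
  have hμ := D.deg_μ
  have hcN := D.card_Nx
  rw [hn] at hdvd
  generalize Nat.card (Aut h.ord) = e at *
  generalize (Aut h.ord).index = t at *
  have hp3 : 3 ≤ p := by
    have : 2 * 1 ≤ e * t := Nat.mul_le_mul (by omega) ht0
    omega
  have hep : e ≤ p - 1 := het ▸ Nat.le_mul_of_pos_right e ht0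
  have hN : ∀ χ ∈ D.Nx.erase (irrOne G), D.a χ * deg χ = (n * p + 1 : ℕ) := by
    intro χ hχ'
    obtain ⟨h1, hχ⟩ := Finset.mem_erase.1 hχ'
    obtain ⟨w, hw⟩ := hdvd χ (D.Nx_mem hχ)
    have h2 := factor_cases (y := deg χ) (W := t * w) hp3 hn2 (by
      rw [← het, mul_left_comm, ← hw]; ring)
    have h3 := D.deg_Nx hχ
    have h5 := hbig χ (D.Nx_mem hχ) h1
    rcases D.a_sq χ hχ with h4 | h4 <;> rw [h4] at h3
    · rw [h4, (h2.1 h3).resolve_left (by omega), one_mul]
    · have h6 := deg_sq_lt h1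
      rw [(h2.2 h3).resolve_left (by omega)] at h6
      omega
  have h1 := D.deg_rel 1
  rw [← Finset.add_sum_erase _ _ D.one_mem, D.a_one, deg_irrOne, Finset.sum_congr rfl hN,
    Finset.sum_const, Finset.card_erase_of_mem D.one_mem, hcN, nsmul_eq_mul,
    Nat.cast_pred he0] at h1
  have hδ : D.δ = -1 := D.δ_sq.resolve_left fun h2 => by
    rw [h2] at h1
    have : (0 : ℤ) ≤ (e - 1) * (n * p + 1 : ℕ) := mul_nonneg (by omega) (by omega)
    omega
  obtain ⟨w, hw⟩ := hdvd _ (D.μ_mem 1)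
  have h2 := factor_cases (y := t * deg (D.μ 1)) (W := w) hp3 hn2 (by
    rw [← het, mul_assoc, ← hw]; ring)
  have h3 : ((t * deg (D.μ 1) : ℕ) : ℤ) ≡ D.δ [ZMOD p] := by
    push_cast
    refine ((hμ 1).mul_left t).trans (Int.modEq_iff_dvd.2 ⟨D.δ, ?_⟩)
    linear_combination D.δ * het'
  rw [hδ] at h1 h3
  have h4 := hbig _ (D.μ_mem 1) (D.μ_ne_one 1)
  rcases h2.2 h3 with h5 | h5
  · have := Nat.le_mul_of_pos_left (deg (D.μ 1)) ht0
    omega
  · rw [← het, mul_comm e, mul_assoc] at h5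
    rw [Nat.eq_of_mul_eq_mul_left ht0 h5] at h1
    push_cast at h1
    have : 0 < n * p := Nat.mul_pos hn1 hp.out.pos
    nlinarith

theorem brauer_reynolds [IsSimpleGroup G] (hG : ¬ IsMulCommutative G) (hd : p ∣ Nat.card G)
    (hbig : Nat.card G < p ^ 3) :
    (∃ (F : Type) (_ : Field F) (_ : Fintype F), Fintype.card F = p ∧ 3 < p ∧
      Nonempty (G ≃* Matrix.ProjectiveSpecialLinearGroup (Fin 2) F)) ∨
    (∃ (m : ℕ) (F : Type) (_ : Field F) (_ : Fintype F), Fintype.card F = 2 ^ m ∧ p = 2 ^ m + 1 ∧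
      3 < p ∧ Nonempty (G ≃* Matrix.ProjectiveSpecialLinearGroup (Fin 2) F)) := by
  have hperf := commutator_eq_top_of_simple hG
  obtain ⟨-, h1, h2, -⟩ := card_sylow_spec hG p hd
  have hp2 := hp.out.two_le
  have h3 : p + 1 ≤ Nat.card (Sylow p G) := by
    have := Nat.mod_add_div (Nat.card (Sylow p G)) p
    rcases Nat.eq_zero_or_pos (Nat.card (Sylow p G) / p) with h4 | h4
    · rw [h4] at this; omega
    · have := Nat.le_mul_of_pos_right p h4
      omega
  have hnd : ¬ p ^ 2 ∣ Nat.card G := fun h4 => by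
    have h5 := Nat.le_of_dvd Nat.card_pos (Nat.Coprime.mul_dvd_of_dvd_of_dvd (Nat.Coprime.pow_left 2
      ((Nat.Prime.coprime_iff_not_dvd hp.out).2 (not_dvd_card_sylow p G))) h4
      (card_sylow_spec hG p hd).1)
    have := Nat.mul_le_mul_left (p ^ 2) h3
    nlinarith
  obtain ⟨x, hx⟩ := exists_D1 hd hnd
  obtain ⟨n, hn⟩ := hx.exists_card_sylow
  have he1 := hx.card_Aut_ne_one hperf
  have he0 : 0 < Nat.card (Aut hx.ord) := Nat.card_pos
  have h4 : p * (2 * (n * p + 1)) ≤ Nat.card G := by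
    rw [hx.card_eq, hn]
    refine Nat.mul_le_mul (Nat.le_of_dvd Nat.card_pos ?_) (Nat.mul_le_mul_right _ (by omega))
    exact hx.ord ▸ orderOf_dvd_natCard _ (mem_centralizer_singleton_iff.2 rfl)
  have h5 : 2 * n < p := by
    by_contra hc
    have := Nat.mul_le_mul_right (p * p) (not_lt.1 hc)
    nlinarith
  have hn1 : 1 ≤ n := by
    rcases Nat.eq_zero_or_pos n with rfl | h6
    · omega
    · exact h6
  refine (hx.sc_of_small hG hn (by omega) ?_).brauer hperf (by rw [hn]; nlinarith)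
  obtain ⟨q, rfl⟩ : ∃ q, p = q + 1 := ⟨p - 1, by omega⟩
  have h6 : q * (q + 2) ≤ q * (n * (q + 1) + 1) := Nat.mul_le_mul_left _ (by nlinarith)
  have h7 := Nat.pow_le_pow_left h6 2
  simp only [Nat.add_sub_cancel]
  have h8 : 1 ≤ q := by omega
  have h9 : (q + 1) ^ 3 ≤ (q * (q + 2)) ^ 2 := by nlinarith [Nat.mul_le_mul h8 h8, Nat.pow_le_pow_left h8 3, Nat.pow_le_pow_left h8 4]
  omega

end H18
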