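import Mathlib
import Cfsg.Agent.H18.D1h
import Cfsg.Agent.H18.Syl

/-! Numerical necessary conditions for the order of a simple group. -/

set_option autoImplicit false
set_option linter.unusedSectionVars false

open Cfsg H4 H17 Subgroup

namespace H18

variable {G : Type*} [Group G] [Finite G] {p : ℕ} [hp : Fact p.Prime]

theorem le_normalizer_of_card {P D : Subgroup G} (hP : IsPGroup p P) (hD : D ≤ P)
    (h : Nat.card P = p * Nat.card D) : P ≤ normalizer (D : Set G) := by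
  have h0 : 0 < Nat.card D := Nat.card_pos
  have h1 := lt_inf_normalizer_of_isPGroup hP (lt_of_le_of_ne hD fun hc => by
    rw [hc] at h h0
    have := hp.out.two_le
    nlinarith)
  obtain ⟨k, hk⟩ := card_dvd_of_le h1.le
  have h2 := card_dvd_of_le (inf_le_left : P ⊓ normalizer (D : Set G) ≤ P)
  rw [hk, h, mul_comm p, Nat.mul_dvd_mul_iff_left h0] at h2
  rcases (Nat.dvd_prime hp.out).1 h2 with rfl | rfl
  · exact absurd (eq_of_le_of_card_ge h1.le (by rw [hk, mul_one])) h1.ne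
  · exact inf_eq_left.1 (eq_of_le_of_card_ge inf_le_left (by rw [hk, h, mul_comm]))

theorem exists_sylow_inter (h : ¬ Nat.card (Sylow p G) ≡ 1 [MOD p ^ 2]) :
    ∃ P R : Sylow p G, P ≠ R ∧
      Nat.card (P : Subgroup G) = p * Nat.card ((P : Subgroup G) ⊓ R : Subgroup G) := by
  obtain ⟨P, R, hne, hi⟩ := exists_sylow_pair 2 h
  refine ⟨P, R, hne, ?_⟩
  obtain ⟨k, hk⟩ := P.2.index ((R : Subgroup G).subgroupOf P)
  have h1 : k = 1 := by
    rcases k with _ | _ | k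
    · exact absurd (sylow_eq_of_le (subgroupOf_eq_top.1 (index_eq_one.1 hk))) hne
    · rfl
    · rw [hk] at hi
      have := (Nat.pow_le_pow_iff_right hp.out.one_lt).1 hi
      omega
  rw [← ((R : Subgroup G).subgroupOf P).card_mul_index, hk, h1, pow_one, mul_comm,
    ← inf_subgroupOf_left, Nat.card_congr (subgroupOfEquivOfLe inf_le_left).toEquiv]

theorem one_lt_card_sylow_of_le {H : Subgroup G} {P R : Sylow p G} (hP : (P : Subgroup G) ≤ H)
    (hR : (R : Subgroup G) ≤ H) (h : P ≠ R) : 1 < Nat.card (Sylow p H) :=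
  Finite.one_lt_card_iff_nontrivial.2 ⟨P.subtype hP, R.subtype hR,
    fun hc => h (Sylow.subtype_injective hc)⟩

theorem exists_index_of_sylow [IsSimpleGroup G] (hG : ¬ IsMulCommutative G)
    (h2 : p ^ 2 ∣ Nat.card G) (h : ¬ Nat.card (Sylow p G) ≡ 1 [MOD p ^ 2]) :
    ∃ i x : ℕ, ¬ p ∣ i ∧ 2 * Nat.card G ∣ i.factorial ∧ 1 < x ∧ x % p = 1 ∧ i * x ∣ Nat.card G := by
  obtain ⟨P, R, hne, hc⟩ := exists_sylow_inter h
  have h3 := le_normalizer_of_card P.2 inf_le_left hc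
  have h4 := le_normalizer_of_card R.2 inf_le_right ((card_sylow_eq R P).trans hc)
  set H := normalizer (((P : Subgroup G) ⊓ R : Subgroup G) : Set G)
  have h5 : H ≠ ⊤ := fun h5 => by
    rcases (normalizer_eq_top_iff.1 h5).eq_bot_or_eq_top with h6 | h6
    · rw [h6, card_bot, mul_one, P.card_eq_multiplicity] at hc
      have h7 := (hp.out.pow_dvd_iff_le_factorization Nat.card_pos.ne').1 h2
      have h8 := Nat.pow_le_pow_right hp.out.pos h7
      have := hp.out.one_lt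
      nlinarith
    · exact hne (sylow_eq_of_le (le_top.trans (h6.ge.trans inf_le_right)))
  refine ⟨H.index, Nat.card (Sylow p H), fun hd => P.not_dvd_index (hd.trans (index_dvd_of_le h3)),
    two_mul_card_dvd_factorial hG H h5, one_lt_card_sylow_of_le h3 h4 hne, ?_, ?_⟩
  · have := card_sylow_modEq_one p H
    rwa [Nat.ModEq, Nat.mod_eq_of_lt hp.out.one_lt] at this
  · rw [← H.index_mul_card]
    exact Nat.mul_dvd_mul_left _ ((P.subtype h3).card_dvd_index.trans (index_dvd_card _))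

/-- Necessary condition for a family of degrees in the principal `q`-block of defect one. -/
def GoodDeg (q : ℕ) (ν : Multiset ℤ) : Prop :=
  (∀ w ∈ ν, ¬ q ∣ w.natAbs) ∧ ∃ e y : ℕ, 2 ≤ e ∧ e ∣ q - 1 ∧ (y % q = e ∨ (y + e) % q = 0) ∧
    (ν.filter fun w => w.natAbs % q ≠ 1 ∧ w.natAbs % q + 1 ≠ q).card * e ≤ q - 1 ∧
    ∀ w ∈ ν, w.natAbs % q ≠ 1 → w.natAbs % q + 1 ≠ q → w.natAbs = y

theorem goodDeg_of_B0 (hG : commutator G = ⊤) (h1 : p ∣ Nat.card G) (h2 : ¬ p ^ 2 ∣ Nat.card G)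
    (T : Finset (Irr G)) (hT : ∀ χ ∈ T, χ ∈ B0 p G) (w : Irr G → ℤ)
    (hw : ∀ χ ∈ T, (w χ).natAbs = deg χ) : GoodDeg p (T.val.map w) := by
  classical
  obtain ⟨x, hx⟩ := exists_D1 h1 h2
  obtain ⟨D⟩ := hx.nonempty_bData
  have he1 := hx.card_Aut_ne_one hG
  have he0 : 0 < Nat.card (Aut hx.ord) := Nat.card_pos
  have het := card_Aut_mul_index hx.ord
  have hp2 := hp.out.two_le
  have hex : ∀ χ ∈ T, deg χ % p ≠ 1 → deg χ % p + 1 ≠ p → χ ∈ D.X := fun χ hχ h3 h4 => by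
    refine D.mem_X.2 (((D.mem_iff χ).1 (hT χ hχ)).resolve_left fun h5 => ?_)
    have h6 := D.deg_Nx h5
    rcases D.a_sq χ h5 with h7 | h7 <;> rw [h7] at h6
    · exact h3 (Eq.trans ((Int.natCast_modEq_iff (b := 1)).1 h6) (Nat.mod_eq_of_lt hp2))
    · have h8 : deg χ + 1 ≡ 0 [MOD p] := Int.natCast_modEq_iff.1 (by simpa using h6.add_right 1)
      have h9 := Nat.le_of_dvd (Nat.succ_pos _)
        ((Nat.modEq_zero_iff_dvd.1 (((Nat.mod_modEq _ p).add_right 1).trans h8)))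
      have := Nat.mod_lt (deg χ) hp.out.pos
      omega
  refine ⟨?_, Nat.card (Aut hx.ord), deg (D.μ 1), by omega, card_Aut_dvd _, ?_, ?_, ?_⟩
  · simp only [Multiset.mem_map, Finset.mem_val]
    rintro _ ⟨χ, hχ, rfl⟩
    rw [hw χ hχ]
    exact not_dvd_deg_of_mem_B0 hx (hT χ hχ)
  · have h3 := D.deg_μ 1
    have h4 := Nat.le_of_dvd (by omega) (card_Aut_dvd hx.ord)
    rcases D.δ_sq with h5 | h5 <;> rw [h5] at h3
    · exact Or.inr (Int.natCast_modEq_iff.1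
        (by simpa using h3.add_right (Nat.card (Aut hx.ord))) : _ ≡ 0 [MOD p])
    · rw [neg_neg, one_mul] at h3
      exact Or.inl (Eq.trans (Int.natCast_modEq_iff.1 h3) (Nat.mod_eq_of_lt (by omega)))
  · rw [Multiset.filter_map, Multiset.card_map, ← het, mul_comm, ← D.card_X]
    refine Nat.mul_le_mul_left _ (Finset.card_le_card (s := T.filter _) fun χ hχ => ?_)
    obtain ⟨h3, h4⟩ := Finset.mem_filter.1 hχ
    simp only [Function.comp, hw χ h3] at h4
    exact hex χ h3 h4.1 h4.2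
  · simp only [Multiset.mem_map, Finset.mem_val]
    rintro _ ⟨χ, hχ, rfl⟩
    rw [hw χ hχ]
    intro h3 h4
    obtain ⟨j, rfl⟩ := D.mem_X.1 (hex χ hχ h3 h4)
    exact D.deg_μ_congr j 1

theorem D1.not_dvd_orderOf {x : G} (hx : D1 p x) {q c : ℕ} (hq : q.Prime) (hpq : q ≠ p)
    (hc : Nat.card (centralizer ({x} : Set G)) = p * c) (hqc : ¬ q ∣ c) {g : G}
    (hg : p ∣ orderOf g) : ¬ q ∣ orderOf g := fun hd => by
  obtain ⟨i, hi⟩ := hx.exists_isConj_pp hg
  have h1 : orderOf g ∣ Nat.card (centralizer ({H17.pp p g} : Set G)) :=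
    Subgroup.orderOf_dvd_natCard _ (H17.mem_centralizer_singleton.2 (commute_pp (Commute.refl g)))
  have h2 : Nat.card (centralizer ({H17.pp p g} : Set G)) = p * c := by
    rw [← hc, ← hx.centralizer_xp i.ne_zero]
    have h3 := card_centralizer_mul_card_isConj (H17.pp p g)
    rw [← card_centralizer_mul_card_isConj (H18.xp x (i : ZMod p)), Nat.card_congr
      (Equiv.subtypeEquivRight fun g => ⟨hi.symm.trans, hi.trans⟩)] at h3
    exact Nat.eq_of_mul_eq_mul_right (Nat.card_pos_iff.2 ⟨⟨⟨_, IsConj.refl _⟩⟩, inferInstance⟩) h3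
  rcases (Nat.Prime.dvd_mul hq).1 (h2 ▸ hd.trans h1) with h3 | h3
  · exact hpq ((Nat.prime_dvd_prime_iff_eq hq hp.out).1 h3)
  · exact hqc h3

theorem exists_d1_multiset [IsSimpleGroup G] (hG : ¬ IsMulCommutative G) (h1 : p ∣ Nat.card G)
    (h2 : ¬ p ^ 2 ∣ Nat.card G) : ∃ (k e c : ℕ) (s : ℤ) (μ : Multiset ℤ),
    Nat.card G = p * c * e * (k * p + 1) ∧ k ≠ 0 ∧ 2 ≤ e ∧ e ∣ p - 1 ∧ μ.card = e - 1 ∧
    (∀ w ∈ s ::ₘ μ, 1 < w.natAbs ∧ w.natAbs ∣ e * (k * p + 1) ∧ (c = 1 ∨ 2 * p ≤ w.natAbs)) ∧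
    (∀ w ∈ μ, w % p = 1) ∧ s = -1 - μ.sum ∧
    1 + (μ.map fun w => w.natAbs * w.natAbs).sum + (p - 1) / e * (s.natAbs * s.natAbs) ≤
      Nat.card G ∧
    ∀ q b : ℕ, q.Prime → q ≠ p → ¬ q ∣ c → q ^ b ∣ Nat.card G → ∃ ν ≤ s ::ₘ μ,
      ((q ^ b : ℕ) : ℤ) ∣ 1 + ν.sum ∧ (∀ w ∈ ν, ∀ k, w.natAbs ≠ q ^ k) ∧
      (q ∣ Nat.card G → ¬ q ^ 2 ∣ Nat.card G → GoodDeg q ν) := by
  classical
  have hperf := commutator_eq_top_of_simple hG
  obtain ⟨x, hx⟩ := exists_D1 h1 h2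
  obtain ⟨D⟩ := hx.nonempty_bData
  obtain ⟨k, hk⟩ := hx.exists_card_sylow
  obtain ⟨c, hc⟩ : p ∣ Nat.card (centralizer ({x} : Set G)) :=
    hx.ord ▸ orderOf_dvd_natCard _ (mem_centralizer_singleton_iff.2 rfl)
  have he1 := hx.card_Aut_ne_one hperf
  have he0 : 0 < Nat.card (Aut hx.ord) := Nat.card_pos
  let w : Irr G → ℤ := fun χ => if χ = D.μ 1 then D.δ * deg χ else D.a χ * deg χ
  have hw1 : w (D.μ 1) = D.δ * deg (D.μ 1) := if_pos rfl
  have hw2 : ∀ χ ∈ D.Nx, w χ = D.a χ * deg χ := fun χ hχ =>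
    if_neg fun hc : χ = D.μ 1 => D.μ_notMem 1 (hc ▸ hχ)
  have hn : D.μ 1 ∉ D.Nx.erase (irrOne G) := fun hc => D.μ_notMem 1 (Finset.mem_of_mem_erase hc)
  set F := (D.Nx.erase (irrOne G)).cons (D.μ 1) hn with hF
  have hF1 : ∀ χ ∈ F, χ ∈ B0 p G ∧ χ ≠ irrOne G ∧ (w χ).natAbs = deg χ := fun χ hχ => by
    rcases Finset.mem_cons.1 hχ with rfl | h3
    · refine ⟨D.μ_mem 1, D.μ_ne_one 1, ?_⟩
      rcases D.δ_sq with h4 | h4 <;> simp [hw1, h4]
    · obtain ⟨h4, h5⟩ := Finset.mem_erase.1 h3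
      refine ⟨D.Nx_mem h5, h4, ?_⟩
      rcases D.a_sq χ h5 with h4 | h4 <;> simp [hw2 χ h5, h4]
  have hF2 : w (D.μ 1) ::ₘ (D.Nx.erase (irrOne G)).val.map w = F.val.map w := by
    rw [hF, Finset.cons_val, Multiset.map_cons]
  refine ⟨k, Nat.card (Aut hx.ord), c, w (D.μ 1), (D.Nx.erase (irrOne G)).val.map w,
    by rw [hx.card_eq, hc, hk]; ring, ?_, by omega, card_Aut_dvd _, ?_, ?_, ?_, ?_, ?_, ?_⟩
  · rintro rfl
    exact hx.card_sylow_ne_one hperf (by simpa using hk)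
  · rw [Multiset.card_map, Finset.card_val, Finset.card_erase_of_mem D.one_mem, D.card_Nx]
  · simp only [hF2, Multiset.mem_map, Finset.mem_val]
    rintro _ ⟨χ, hχ, rfl⟩
    obtain ⟨h3, h4, h5⟩ := hF1 χ hχ
    rw [h5, ← hk]
    refine ⟨?_, D.deg_dvd h3, ?_⟩
    · have := (deg_eq_one_iff_of_perfect hperf).not.2 h4
      have := deg_ne_zero χ
      omega
    · by_contra hcon
      push Not at hcon
      rw [hx.centralizer_eq_of_deg_lt hG h3 h4 hcon.2, Nat.card_zpowers, hx.ord] at hc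
      exact hcon.1 (Nat.eq_of_mul_eq_mul_left hp.out.pos (hc.symm.trans (mul_one p).symm))
  · simp only [Multiset.mem_map, Finset.mem_val]
    rintro _ ⟨χ, hχ, rfl⟩
    have h3 := Finset.mem_of_mem_erase hχ
    have h4 := (D.deg_Nx h3).mul_left (D.a χ)
    rw [D.a_mul_self h3] at h4
    rw [hw2 χ h3, h4.eq]
    exact Int.emod_eq_of_lt zero_le_one (by exact_mod_cast hp.out.one_lt)
  · have h3 := D.deg_rel 1
    rw [← Finset.add_sum_erase _ _ D.one_mem, D.a_one, deg_irrOne,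
      ← Finset.sum_congr rfl fun χ hχ => hw2 χ (Finset.mem_of_mem_erase hχ), ← hw1] at h3
    change _ = -1 - ∑ χ ∈ _, w χ
    push_cast at h3
    linear_combination h3
  · have h3 := sum_deg_sq_le (Bf G p)
    rw [D.sum_Bf, ← Finset.add_sum_erase _ _ D.one_mem, deg_irrOne,
      Finset.sum_congr (s₁ := D.X) rfl (g := fun _ => deg (D.μ 1) ^ 2) fun χ hχ => by
        obtain ⟨j, rfl⟩ := D.mem_X.1 hχ
        rw [D.deg_μ_congr j 1], Finset.sum_const, D.card_X, smul_eq_mul] at h3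
    rw [← card_Aut_mul_index hx.ord, Nat.mul_div_cancel_left _ he0, Multiset.map_map,
      (hF1 _ (Finset.mem_cons_self _ _)).2.2, ← sq]
    refine le_of_eq_of_le ?_ h3
    congr 2
    exact Finset.sum_congr rfl fun χ hχ => by
      simp only [Function.comp, (hF1 χ (Finset.mem_cons_of_mem hχ)).2.2, sq]
  · intro q b hq hqp hqc hb
    have := Fact.mk hq
    obtain ⟨M, hM⟩ := exists_PM hq
    have h3 := D.brauer_tuan (ind_B0_mem (p := q) (G := G) M)
      (fun g hg => hx.not_dvd_orderOf hq hqp hc hqc hg) 1 hb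
    have h4 : ∀ χ ∈ F.filter (· ∈ B0 q G), (w χ).natAbs = deg χ := fun χ hχ =>
      (hF1 χ (Finset.mem_filter.1 hχ).1).2.2
    refine ⟨(F.filter (· ∈ B0 q G)).val.map w, ?_, ?_, ?_, fun h5 h6 =>
      goodDeg_of_B0 hperf h5 h6 _ (fun χ hχ => (Finset.mem_filter.1 hχ).2) w h4⟩
    · rw [hF2]
      exact Multiset.map_le_map (Finset.val_le_iff.2 (Finset.filter_subset _ _))
    · refine h3.trans (dvd_of_eq ?_)
      change _ = 1 + ∑ χ ∈ _, w χ
      rw [Finset.sum_filter, Finset.sum_filter, hF, Finset.sum_cons, hw1,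
        ← Finset.add_sum_erase _ _ D.one_mem, if_pos one_mem_B0, D.a_one, deg_irrOne,
        Finset.sum_congr rfl fun χ hχ => by rw [← hw2 χ (Finset.mem_of_mem_erase hχ)]]
      push_cast
      ring
    · simp only [Multiset.mem_map, Finset.mem_val]
      rintro _ ⟨χ, hχ, rfl⟩ k hk
      rw [h4 χ hχ] at hk
      obtain ⟨h5, h6⟩ := Finset.mem_filter.1 hχ
      exact (hF1 χ h5).2.1 (eq_irrOne_of_deg_pow hG (h6 M hM) hk)

end H18
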