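import Mathlib
import Cfsg.Agent.H18.Sieve1

/-! A verified sieve excluding orders of non-abelian simple groups. -/

set_option autoImplicit false

open Cfsg H4 H17 Subgroup

namespace H18.Sv

def strip (q : ℕ) : ℕ → ℕ → ℕ
  | 0, n => n
  | f + 1, n => if n % q = 0 then strip q f (n / q) else n

theorem strip_spec (q f n : ℕ) : ∃ k, n = q ^ k * strip q f n := by
  induction f generalizing n with
  | zero => exact ⟨0, by simp [strip]⟩
  | succ f ih =>
    rw [strip]
    split_ifs with h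
    · obtain ⟨k, hk⟩ := ih (n / q)
      exact ⟨k + 1, by rw [pow_succ', mul_assoc, ← hk, Nat.mul_div_cancel' (Nat.dvd_of_mod_eq_zero h)]⟩
    · exact ⟨0, by simp⟩

def isPrAux (r : ℕ) : ℕ → ℕ → Bool
  | 0, _ => false
  | f + 1, d => r < d * d || (r % d != 0 && isPrAux r f (d + 1))

theorem isPrAux_spec (r f d : ℕ) (h : isPrAux r f d = true) (m : ℕ) (h1 : d ≤ m) (h2 : m * m ≤ r) :
    ¬ m ∣ r := by
  induction f generalizing d with
  | zero => simp [isPrAux] at h
  | succ f ih =>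
    simp only [isPrAux, Bool.or_eq_true, decide_eq_true_eq, Bool.and_eq_true, bne_iff_ne] at h
    rcases h with h | ⟨h3, h4⟩
    · have := Nat.mul_le_mul h1 h1
      omega
    · rcases eq_or_lt_of_le h1 with rfl | h5
      · exact fun hc => h3 (Nat.mod_eq_zero_of_dvd hc)
      · exact ih _ h4 h5

def isPr (B r : ℕ) : Bool := 2 ≤ r && isPrAux r B 2

theorem prime_of_isPr {B r : ℕ} (h : isPr B r = true) : r.Prime := by
  simp only [isPr, Bool.and_eq_true, decide_eq_true_eq] at h
  exact Nat.prime_def_le_sqrt.2 ⟨h.1, fun m h1 h2 => isPrAux_spec r B 2 h.2 m h1 (Nat.le_sqrt.1 h2)⟩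

def pf : ℕ → ℕ → ℕ → List ℕ → List ℕ
  | 0, _, _, acc => acc
  | f + 1, d, n, acc => if n < d * d then n :: acc else
      if n % d = 0 then pf f (d + 1) (strip d 30 n) (d :: acc) else pf f (d + 1) n acc

def enum (P : List ℤ → Bool) : List ℤ → ℕ → List ℤ → Bool
  | [], r, acc => r == 0 && P acc
  | w :: ws, r, acc => (List.range (r + 1)).any fun k => enum P ws (r - k) (List.replicate k w ++ acc)

theorem enum_complete (P : List ℤ → Bool) (ws : List ℤ) (μ : Multiset ℤ) (h : ∀ w ∈ μ, w ∈ ws)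
    (acc : List ℤ) (hP : ∀ L : List ℤ, (L : Multiset ℤ) = μ + acc → P L = true) :
    enum P ws μ.card acc = true := by
  induction ws generalizing μ acc with
  | nil =>
    obtain rfl : μ = 0 := Multiset.eq_zero_of_forall_notMem fun w hw => by simpa using h w hw
    simpa [enum] using hP acc (by simp)
  | cons w ws ih =>
    have h1 : μ = Multiset.replicate (μ.count w) w + μ.filter (· ≠ w) := by
      rw [← Multiset.filter_eq' μ w, Multiset.filter_add_not]
    have h2 := congrArg Multiset.card h1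
    rw [Multiset.card_add, Multiset.card_replicate] at h2
    simp only [enum, List.any_eq_true, List.mem_range]
    refine ⟨μ.count w, by omega, ?_⟩
    rw [show μ.card - μ.count w = (μ.filter (· ≠ w)).card by omega]
    refine ih _ (fun v hv => ?_) _ fun L hL => hP L ?_
    · obtain ⟨h3, h4⟩ := Multiset.mem_filter.1 hv
      exact (List.mem_cons.1 (h v h3)).resolve_left h4
    · rw [hL, ← Multiset.coe_add, ← add_assoc, add_comm (μ.filter _), Multiset.coe_replicate, ← h1]

def good (q : ℕ) (l : List ℤ) : Bool :=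
  l.all (fun w => w.natAbs % q != 0) &&
    let ex := l.filter fun w => w.natAbs % q ≠ 1 ∧ w.natAbs % q + 1 ≠ q
    ex.all fun w => ex.all (fun w' => w.natAbs == w'.natAbs) && (List.range q).any fun e =>
      2 ≤ e && (q - 1) % e == 0 && ex.length * e ≤ q - 1 &&
        (w.natAbs % q == e || (w.natAbs + e) % q == 0)

theorem good_of {q : ℕ} (hq : q.Prime) {l : List ℤ} (h : GoodDeg q l) : good q l = true := by
  obtain ⟨h1, e, y, h2, h3, h4, h5, h6⟩ := h
  rw [Multiset.filter_coe, Multiset.coe_card] at h5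
  have h7 : ∀ w ∈ l.filter fun w => w.natAbs % q ≠ 1 ∧ w.natAbs % q + 1 ≠ q, w.natAbs = y :=
    fun w hw => by
      simp only [List.mem_filter, decide_eq_true_eq] at hw
      exact h6 w hw.1 hw.2.1 hw.2.2
  have := hq.two_le
  have := Nat.le_of_dvd (by omega) h3
  simp only [good, Bool.and_eq_true, List.all_eq_true, bne_iff_ne, beq_iff_eq, List.any_eq_true,
    List.mem_range, decide_eq_true_eq, Bool.or_eq_true]
  refine ⟨fun w hw hc => h1 w hw (Nat.dvd_of_mod_eq_zero hc), fun w hw =>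
    ⟨fun w' hw' => (h7 w hw).trans (h7 w' hw').symm, e, by omega,
      ⟨⟨h2, Nat.mod_eq_zero_of_dvd h3⟩, h5⟩, h7 w hw ▸ h4⟩⟩

def okDeg (p E c y : ℕ) : Bool := 1 < y && E % y == 0 && (c == 1 || 2 * p ≤ y)

def sol (n : ℕ) (ps : List ℕ) (p E e c : ℕ) (L : List ℤ) : Bool :=
  let s := -1 - L.sum
  okDeg p E c s.natAbs &&
    1 + (L.map fun w => w.natAbs * w.natAbs).sum + (p - 1) / e * (s.natAbs * s.natAbs) ≤ n &&
    ps.all fun q => q == p || c % q == 0 || n % q != 0 || (s :: L).sublists.any fun l =>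
      (1 + l.sum) % ((n / strip q 30 n : ℕ) : ℤ) == 0 &&
        l.all (fun w => strip q 30 w.natAbs != 1) && (n % (q * q) == 0 || good q l)

def cands (B p E c : ℕ) : List ℤ :=
  (((List.range B).filter (okDeg p E c)).flatMap fun y : ℕ => [(y : ℤ), -(y : ℤ)]).filter
    fun w => w % (p : ℤ) == 1

def elimD1 (B n : ℕ) (ps : List ℕ) (p : ℕ) : Bool :=
  n % (p * p) != 0 && (List.range (n / p / p + 1)).all fun k =>
    k == 0 || n / p % (k * p + 1) != 0 || (List.range p).all fun e =>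
      e < 2 || (p - 1) % e != 0 || n / p / (k * p + 1) % e != 0 ||
        !enum (sol n ps p (e * (k * p + 1)) e (n / p / (k * p + 1) / e))
          (cands B p (e * (k * p + 1)) (n / p / (k * p + 1) / e)) (e - 1) []

def elimHi (n p : ℕ) : Bool :=
  n % (p * p) == 0 &&
    let m := strip p 30 n
    (List.range (m / (p * p) + 1)).all (fun k => k == 0 || m % (k * (p * p) + 1) != 0) &&
      (List.range (m / p + 1)).all fun k => k == 0 || m % (k * p + 1) != 0 ||
        (List.range (m / (k * p + 1) + 1)).all fun i =>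
          m / (k * p + 1) % i != 0 || i.factorial % (2 * n) != 0

def chk (B n : ℕ) : Bool :=
  n == 1 || (n ≤ B * B &&
    let ps := (pf B 2 n []).filter (isPr B)
    ps.any fun p => n % p == 0 &&
      (elimD1 B n ps p || elimHi n p || strip p 30 (strip 2 30 n) == 1))

variable {G : Type*} [Group G] [Finite G] [IsSimpleGroup G]

theorem elimD1_spec (hG : ¬ IsMulCommutative G) {B p : ℕ} {ps : List ℕ} (hp : p.Prime)
    (hd : p ∣ Nat.card G) (hps : ∀ q ∈ ps, q.Prime) (hB : Nat.card G ≤ B * B) :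
    elimD1 B (Nat.card G) ps p = false := by
  have := Fact.mk hp
  by_contra hc
  simp only [elimD1, Bool.not_eq_false, Bool.and_eq_true, bne_iff_ne, List.all_eq_true,
    List.mem_range, Bool.or_eq_true, beq_iff_eq, decide_eq_true_eq, Bool.not_eq_true'] at hc
  obtain ⟨k, e, c, s, μ, h1, h2, h3, h4, h5, h6, h7, h8, h9, h10⟩ := exists_d1_multiset hG hd
    fun h => hc.1 (Nat.mod_eq_zero_of_dvd (sq p ▸ h))
  have hn0 : 0 < Nat.card G := Nat.card_pos
  set n := Nat.card G
  have h11 : n / p = c * e * (k * p + 1) := by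
    rw [h1, mul_assoc, mul_assoc, Nat.mul_div_cancel_left _ hp.pos, mul_assoc]
  have h12 : n / p / (k * p + 1) = c * e := by rw [h11, Nat.mul_div_cancel _ (Nat.succ_pos _)]
  have h13 : c * e / e = c := Nat.mul_div_cancel _ (by omega)
  have hp2 := hp.two_le
  have hep := Nat.le_of_dvd (by omega) h4
  have h14 : k < n / p / p + 1 := by
    rw [Nat.lt_succ_iff, Nat.le_div_iff_mul_le hp.pos, h11]
    have : 0 < c * e := Nat.pos_of_ne_zero fun h => by
      rw [mul_assoc p, h] at h1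
      omega
    exact (Nat.le_succ _).trans (Nat.le_mul_of_pos_left _ this)
  have h15 := ((hc.2 k h14).resolve_left (by
    rw [h11]; simp [h2]) e (by omega)).resolve_left (by
    rw [h12]; simp [Nat.mod_eq_zero_of_dvd h4]; omega)
  rw [h12, h13, ← h5, enum_complete] at h15
  · exact absurd h15 (by simp)
  have hok : ∀ w ∈ s ::ₘ μ, okDeg p (e * (k * p + 1)) c w.natAbs = true := fun w hw => by
    obtain ⟨h16, h17, h18⟩ := h6 w hw
    simp [okDeg, h16, Nat.mod_eq_zero_of_dvd h17, h18]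
  · intro w hw
    have h16 : w.natAbs * w.natAbs ≤ (μ.map fun w => w.natAbs * w.natAbs).sum :=
      Multiset.single_le_sum (fun _ _ => Nat.zero_le _) _ (Multiset.mem_map_of_mem _ hw)
    have h17 : w.natAbs < B := by
      by_contra h17
      have := Nat.mul_le_mul (not_lt.1 h17) (not_lt.1 h17)
      omega
    simp only [cands, List.mem_filter, List.mem_flatMap, List.mem_range, beq_iff_eq]
    refine ⟨⟨w.natAbs, ⟨h17, hok w (Multiset.mem_cons_of_mem hw)⟩, ?_⟩, h7 w hw⟩
    simpa using Int.natAbs_eq w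
  · intro L hL
    obtain rfl : μ = L := by simpa using hL.symm
    rw [Multiset.sum_coe] at h8
    rw [Multiset.map_coe, Multiset.sum_coe] at h9
    simp only [sol, ← h8, Bool.and_eq_true, decide_eq_true_eq, List.all_eq_true, Bool.or_eq_true,
      beq_iff_eq, bne_iff_ne, List.any_eq_true, List.mem_sublists]
    refine ⟨⟨?_, h9⟩, fun q hq => ?_⟩
    · obtain ⟨h16, h17, h18⟩ := h6 s (Multiset.mem_cons_self _ _)
      simp [okDeg, h16, Nat.mod_eq_zero_of_dvd h17, h18]
    by_contra h16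
    simp only [not_or] at h16
    obtain ⟨b, hb⟩ := strip_spec q 30 n
    have h17 : 0 < strip q 30 n := Nat.pos_of_ne_zero fun h => by rw [h] at hb; omega
    obtain ⟨ν, h18, h19, h20, h21⟩ := h10 q b (hps q hq) h16.1.1.1
      (fun h => h16.1.1.2 (Nat.mod_eq_zero_of_dvd h)) ⟨_, hb⟩
    obtain ⟨l, rfl, h23⟩ : ∃ l : List ℤ, ν = l ∧ l.Sublist (s :: L) := by
      obtain ⟨l', rfl⟩ := Quot.exists_rep ν
      obtain ⟨l, h22, h23⟩ := Multiset.coe_le.1 h18
      exact ⟨l, Multiset.coe_eq_coe.2 h22.symm, h23⟩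
    refine h16.2 ⟨l, h23, ⟨?_, fun w hw h => ?_⟩, ?_⟩
    · rw [Nat.div_eq_of_eq_mul_left h17 hb]
      exact Int.emod_eq_zero_of_dvd h19
    · obtain ⟨j, hj⟩ := strip_spec q 30 w.natAbs
      exact h20 w hw j (by rw [hj, h, mul_one])
    · by_cases h25 : n % (q * q) = 0
      · exact Or.inl h25
      · exact Or.inr (good_of (hps q hq) (h21 (Nat.dvd_of_mod_eq_zero (not_not.1 h16.1.2))
          fun h => h25 (Nat.mod_eq_zero_of_dvd (sq q ▸ h))))

theorem elimHi_spec (hG : ¬ IsMulCommutative G) {p : ℕ} (hp : p.Prime) (hd : p ∣ Nat.card G) :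
    elimHi (Nat.card G) p = false := by
  have := Fact.mk hp
  by_contra hc
  simp only [elimHi, Bool.not_eq_false, Bool.and_eq_true, bne_iff_ne, List.all_eq_true,
    List.mem_range, Bool.or_eq_true, beq_iff_eq] at hc
  obtain ⟨b, hb⟩ := strip_spec p 30 (Nat.card G)
  have hn0 : 0 < Nat.card G := Nat.card_pos
  have h0 : 0 < strip p 30 (Nat.card G) := Nat.pos_of_ne_zero fun h => by rw [h] at hb; omega
  set m := strip p 30 (Nat.card G)
  have h1 : ∀ d, ¬ p ∣ d → d ∣ Nat.card G → d ∣ m := fun d h1 h2 =>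
    (((Nat.Prime.coprime_iff_not_dvd hp).2 h1).symm.pow_right b).dvd_of_dvd_mul_left (hb ▸ h2)
  have h2 : ∀ d r, 1 < r → d % r = 1 → 1 < d → d ∣ m → ∃ k, k ≠ 0 ∧ k < m / r + 1 ∧ d = k * r + 1 :=
    fun d r hr h2 h3 h4 => by
      have h5 := Nat.div_add_mod' d r
      refine ⟨d / r, fun h => ?_, Nat.lt_succ_of_le (Nat.div_le_div_right (Nat.le_of_dvd h0 h4)), ?_⟩
      · rw [h] at h5; omega
      · omega
  by_cases h3 : Nat.card (Sylow p G) ≡ 1 [MOD p ^ 2]
  · obtain ⟨h4, -, h5, -⟩ := card_sylow_spec hG p hd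
    have h6 : 1 < p * p := Nat.one_lt_mul_iff.2 ⟨hp.pos, hp.pos, Or.inl hp.one_lt⟩
    have h7 := h1 _ (not_dvd_card_sylow p G) h4
    obtain ⟨k, h8, h9, h10⟩ := h2 _ _ h6 (Eq.trans (sq p ▸ h3) (Nat.mod_eq_of_lt h6)) h5 h7
    exact (hc.2.1 k h9).elim h8 fun h => h (Nat.mod_eq_zero_of_dvd (h10 ▸ h7))
  · obtain ⟨i, x, h4, h5, h6, h7, h8⟩ := exists_index_of_sylow hG
      (sq p ▸ Nat.dvd_of_mod_eq_zero hc.1) h3
    have h9 := h1 _ (fun h => ((Nat.Prime.dvd_mul hp).1 h).elim h4 fun h => by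
      rw [Nat.mod_eq_zero_of_dvd h] at h7; omega) h8
    obtain ⟨k, h10, h11, rfl⟩ := h2 _ _ hp.one_lt h7 h6 ((dvd_mul_left _ _).trans h9)
    have h12 := (Nat.dvd_div_iff_mul_dvd ((dvd_mul_left _ _).trans h9)).2 (mul_comm i _ ▸ h9)
    have h13 := (hc.2.2 k h11).resolve_left
      (by simp [h10, Nat.mod_eq_zero_of_dvd ((dvd_mul_left _ _).trans h9)]) i
      (Nat.lt_succ_of_le (Nat.le_of_dvd (Nat.div_pos (Nat.le_of_dvd h0
        ((dvd_mul_left _ _).trans h9)) (Nat.succ_pos _)) h12))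
    exact h13.elim (fun h => h (Nat.mod_eq_zero_of_dvd h12)) fun h => h (Nat.mod_eq_zero_of_dvd h5)

theorem chk_spec (hG : ¬ IsMulCommutative G) (B : ℕ) : chk B (Nat.card G) = false := by
  by_contra hc
  simp only [chk, Bool.not_eq_false, Bool.and_eq_true, Bool.or_eq_true, beq_iff_eq,
    List.any_eq_true, decide_eq_true_eq] at hc
  rcases hc with hc | ⟨hB, p, h1, h2, h3⟩
  · exact Finite.one_lt_card.ne' hc
  have hps : ∀ q ∈ (pf B 2 (Nat.card G) []).filter (isPr B), q.Prime := fun q hq =>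
    prime_of_isPr (List.mem_filter.1 hq).2
  have hd := Nat.dvd_of_mod_eq_zero h2
  rw [elimD1_spec hG (hps p h1) hd hps hB, elimHi_spec hG (hps p h1) hd] at h3
  obtain ⟨a, ha⟩ := strip_spec 2 30 (Nat.card G)
  obtain ⟨b, hb⟩ := strip_spec p 30 (strip 2 30 (Nat.card G))
  rw [h3.resolve_left (by simp), mul_one] at hb
  have := burnside_paqb Nat.prime_two (hps p h1) (hb ▸ ha)
  exact hG ⟨⟨(IsSimpleGroup.comm_iff_isSolvable).2 this⟩⟩

theorem card_ne {n : ℕ} (B : ℕ) (hn : ¬ n.Prime) (h : chk B n = true) : Nat.card G ≠ n := by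
  rintro rfl
  rw [chk_spec (not_comm_of_not_prime hn)] at h
  exact absurd h (by simp)

theorem card_mem (hG : ¬ IsMulCommutative G) (B a k : ℕ) (ex : List ℕ)
    (h : (List.range' a k).all (fun n => ex.contains n || chk B n) = true) (h1 : a ≤ Nat.card G)
    (h2 : Nat.card G < a + k) : Nat.card G ∈ ex := by
  have := List.all_eq_true.1 h _ (List.mem_range'_1.2 ⟨h1, h2⟩)
  simpa [chk_spec hG] using this

end H18.Sv
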