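import Mathlib
import Cfsg.Agent.H18.Sieve2

/-! Extraction of the degrees of a principal block of defect one from the group order. -/

set_option autoImplicit false
set_option linter.unusedSectionVars false

open Cfsg H4 H17 Subgroup

namespace H18

open Sv

variable {G : Type*} [Group G] [Finite G] {p : ℕ} [hp : Fact p.Prime]

open Classical in
theorem BData.multiset_spec [IsSimpleGroup G] (hG : ¬ IsMulCommutative G) {x : G} {hx : D1 p x}
    (D : BData hx) {k c : ℕ} (hk : Nat.card (Sylow p G) = k * p + 1)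
    (hc : Nat.card (centralizer ({x} : Set G)) = p * c) {e : ℕ} (he : e = Nat.card (Aut hx.ord))
    {s : ℤ} (hs : s = D.δ * deg (D.μ 1)) {μ : Multiset ℤ}
    (hμ : μ = (D.Nx.erase (irrOne G)).val.map fun χ => D.a χ * deg χ) :
    Nat.card G = p * c * e * (k * p + 1) ∧ k ≠ 0 ∧ 2 ≤ e ∧ e ∣ p - 1 ∧ μ.card = e - 1 ∧
    (∀ w ∈ s ::ₘ μ, 1 < w.natAbs ∧ w.natAbs ∣ e * (k * p + 1) ∧ (c = 1 ∨ 2 * p ≤ w.natAbs)) ∧
    (∀ w ∈ μ, w % p = 1) ∧ s = -1 - μ.sum ∧
    1 + (μ.map fun w => w.natAbs * w.natAbs).sum + (p - 1) / e * (s.natAbs * s.natAbs) ≤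
      Nat.card G ∧
    ∀ q b : ℕ, q.Prime → q ≠ p → ¬ q ∣ c → q ^ b ∣ Nat.card G → ∃ ν ≤ s ::ₘ μ,
      ((q ^ b : ℕ) : ℤ) ∣ 1 + ν.sum ∧ (∀ w ∈ ν, ∀ k, w.natAbs ≠ q ^ k) ∧
      (q ∣ Nat.card G → ¬ q ^ 2 ∣ Nat.card G → GoodDeg q ν) := by
  have hperf := commutator_eq_top_of_simple hG
  have he1 := hx.card_Aut_ne_one hperf
  have he0 : 0 < Nat.card (Aut hx.ord) := Nat.card_pos
  let w : Irr G → ℤ := fun χ => if χ = D.μ 1 then D.δ * deg χ else D.a χ * deg χ
  have hw1 : w (D.μ 1) = D.δ * deg (D.μ 1) := if_pos rfl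
  have hw2 : ∀ χ ∈ D.Nx, w χ = D.a χ * deg χ := fun χ hχ =>
    if_neg fun hc : χ = D.μ 1 => D.μ_notMem 1 (hc ▸ hχ)
  have hn : D.μ 1 ∉ D.Nx.erase (irrOne G) := fun hc => D.μ_notMem 1 (Finset.mem_of_mem_erase hc)
  set F := (D.Nx.erase (irrOne G)).cons (D.μ 1) hn with hF
  have hF1 : ∀ χ ∈ F, χ ∈ B0 p G ∧ χ ≠ irrOne G ∧ (w χ).natAbs = deg χ := fun χ hχ => by
    rcases Finset.mem_cons.1 hχ with rfl | h3
    · refine ⟨D.μ_mem 1, D.μ_ne_one 1, ?_⟩
      rcases D.δ_sq with h4 | h4 <;> simp [hw1, h4]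
    · obtain ⟨h4, h5⟩ := Finset.mem_erase.1 h3
      refine ⟨D.Nx_mem h5, h4, ?_⟩
      rcases D.a_sq χ h5 with h4 | h4 <;> simp [hw2 χ h5, h4]
  have hF2 : w (D.μ 1) ::ₘ (D.Nx.erase (irrOne G)).val.map w = F.val.map w := by
    rw [hF, Finset.cons_val, Multiset.map_cons]
  subst he
  obtain rfl : s = w (D.μ 1) := hs.trans hw1.symm
  obtain rfl : μ = (D.Nx.erase (irrOne G)).val.map w := hμ.trans (Multiset.map_congr rfl
    fun χ hχ => (hw2 χ (Finset.mem_of_mem_erase hχ)).symm)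
  refine ⟨by rw [hx.card_eq, hc, hk]; ring, ?_, by omega, card_Aut_dvd _, ?_, ?_, ?_, ?_, ?_, ?_⟩
  · rintro rfl
    exact hx.card_sylow_ne_one hperf (by simpa using hk)
  · rw [Multiset.card_map, Finset.card_val, Finset.card_erase_of_mem D.one_mem, D.card_Nx]
  · simp only [hF2, Multiset.mem_map, Finset.mem_val]
    rintro _ ⟨χ, hχ, rfl⟩
    obtain ⟨h3, h4, h5⟩ := hF1 χ hχ
    rw [h5, ← hk]
    refine ⟨?_, D.deg_dvd h3, ?_⟩
    · have := (deg_eq_one_iff_of_perfect hperf).not.2 h4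
      have := deg_ne_zero χ
      omega
    · by_contra hcon
      push Not at hcon
      rw [hx.centralizer_eq_of_deg_lt hG h3 h4 hcon.2, Nat.card_zpowers, hx.ord] at hc
      exact hcon.1 (Nat.eq_of_mul_eq_mul_left hp.out.pos (hc.symm.trans (mul_one p).symm))
  · simp only [Multiset.mem_map, Finset.mem_val]
    rintro _ ⟨χ, hχ, rfl⟩
    have h3 := Finset.mem_of_mem_erase hχ
    have h4 := (D.deg_Nx h3).mul_left (D.a χ)
    rw [D.a_mul_self h3] at h4
    rw [hw2 χ h3, h4.eq]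
    exact Int.emod_eq_of_lt zero_le_one (by exact_mod_cast hp.out.one_lt)
  · have h3 := D.deg_rel 1
    rw [← Finset.add_sum_erase _ _ D.one_mem, D.a_one, deg_irrOne,
      ← Finset.sum_congr rfl fun χ hχ => hw2 χ (Finset.mem_of_mem_erase hχ), ← hw1] at h3
    change _ = -1 - ∑ χ ∈ _, w χ
    push_cast at h3
    linear_combination h3
  · have h3 := sum_deg_sq_le (Bf G p)
    rw [D.sum_Bf, ← Finset.add_sum_erase _ _ D.one_mem, deg_irrOne,
      Finset.sum_congr (s₁ := D.X) rfl (g := fun _ => deg (D.μ 1) ^ 2) fun χ hχ => by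
        obtain ⟨j, rfl⟩ := D.mem_X.1 hχ
        rw [D.deg_μ_congr j 1], Finset.sum_const, D.card_X, smul_eq_mul] at h3
    rw [← card_Aut_mul_index hx.ord, Nat.mul_div_cancel_left _ he0, Multiset.map_map,
      (hF1 _ (Finset.mem_cons_self _ _)).2.2, ← sq]
    refine le_of_eq_of_le ?_ h3
    congr 2
    exact Finset.sum_congr rfl fun χ hχ => by
      simp only [Function.comp, (hF1 χ (Finset.mem_cons_of_mem hχ)).2.2, sq]
  · intro q b hq hqp hqc hb
    have := Fact.mk hq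
    obtain ⟨M, hM⟩ := exists_PM hq
    have h3 := D.brauer_tuan (ind_B0_mem (p := q) (G := G) M)
      (fun g hg => hx.not_dvd_orderOf hq hqp hc hqc hg) 1 hb
    have h4 : ∀ χ ∈ F.filter (· ∈ B0 q G), (w χ).natAbs = deg χ := fun χ hχ =>
      (hF1 χ (Finset.mem_filter.1 hχ).1).2.2
    refine ⟨(F.filter (· ∈ B0 q G)).val.map w, ?_, ?_, ?_, fun h5 h6 =>
      goodDeg_of_B0 hperf h5 h6 _ (fun χ hχ => (Finset.mem_filter.1 hχ).2) w h4⟩
    · rw [hF2]
      exact Multiset.map_le_map (Finset.val_le_iff.2 (Finset.filter_subset _ _))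
    · refine h3.trans (dvd_of_eq ?_)
      change _ = 1 + ∑ χ ∈ _, w χ
      rw [Finset.sum_filter, Finset.sum_filter, hF, Finset.sum_cons, hw1,
        ← Finset.add_sum_erase _ _ D.one_mem, if_pos one_mem_B0, D.a_one, deg_irrOne,
        Finset.sum_congr rfl fun χ hχ => by rw [← hw2 χ (Finset.mem_of_mem_erase hχ)]]
      push_cast
      ring
    · simp only [Multiset.mem_map, Finset.mem_val]
      rintro _ ⟨χ, hχ, rfl⟩ k hk
      rw [h4 χ hχ] at hk
      obtain ⟨h5, h6⟩ := Finset.mem_filter.1 hχ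
      exact (hF1 χ h5).2.1 (eq_irrOne_of_deg_pow hG (h6 M hM) hk)

def elimX (B n : ℕ) (ps : List ℕ) (p : ℕ) (X : ℕ → ℕ → ℕ → List ℤ → Bool) : Bool :=
  (List.range (n / p / p + 1)).all fun k =>
    k == 0 || n / p % (k * p + 1) != 0 || (List.range p).all fun e =>
      e < 2 || (p - 1) % e != 0 || n / p / (k * p + 1) % e != 0 ||
        !enum (fun L => sol n ps p (e * (k * p + 1)) e (n / p / (k * p + 1) / e) L &&
            !X (k * p + 1) e (n / p / (k * p + 1) / e) ((-1 - L.sum) :: L))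
          (cands B p (e * (k * p + 1)) (n / p / (k * p + 1) / e)) (e - 1) []

open Classical in
theorem BData.extract [IsSimpleGroup G] (hG : ¬ IsMulCommutative G) {x : G} {hx : D1 p x}
    (D : BData hx) {n : ℕ} (hn : Nat.card G = n) (B : ℕ) (ps : List ℕ) (hps : ∀ q ∈ ps, q.Prime)
    (hB : n ≤ B * B) (X : ℕ → ℕ → ℕ → List ℤ → Bool) (hX : elimX B n ps p X = true) :
    ∃ (c : ℕ) (L : List ℤ), Nat.card (centralizer ({x} : Set G)) = p * c ∧
      (L : Multiset ℤ) = (D.Nx.erase (irrOne G)).val.map (fun χ => D.a χ * deg χ) ∧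
      X (Nat.card (Sylow p G)) (Nat.card (Aut hx.ord)) c (D.δ * deg (D.μ 1) :: L) = true := by
  subst hn
  have hp := hp.out
  by_contra hc0
  push Not at hc0
  simp only [elimX, List.all_eq_true,
    List.mem_range, Bool.or_eq_true, beq_iff_eq, bne_iff_ne, decide_eq_true_eq, Bool.not_eq_true'] at hX
  obtain ⟨k, hk⟩ := hx.exists_card_sylow
  obtain ⟨c, hc⟩ : p ∣ Nat.card (centralizer ({x} : Set G)) :=
    hx.ord ▸ orderOf_dvd_natCard _ (mem_centralizer_singleton_iff.2 rfl)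
  obtain ⟨h1, h2, h3, h4, h5, h6, h7, h8, h9, h10⟩ := D.multiset_spec hG hk hc rfl rfl rfl
  replace hc0 := fun L => hc0 c L hc
  rw [hk] at hc0
  generalize Nat.card (Aut hx.ord) = e at *
  generalize D.δ * deg (D.μ 1) = s at *
  generalize (D.Nx.erase (irrOne G)).val.map (fun χ => D.a χ * deg χ) = μ at *
  have hn0 : 0 < Nat.card G := Nat.card_pos
  set n := Nat.card G
  have h11 : n / p = c * e * (k * p + 1) := by
    rw [h1, mul_assoc, mul_assoc, Nat.mul_div_cancel_left _ hp.pos, mul_assoc]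
  have h12 : n / p / (k * p + 1) = c * e := by rw [h11, Nat.mul_div_cancel _ (Nat.succ_pos _)]
  have h13 : c * e / e = c := Nat.mul_div_cancel _ (by omega)
  have hp2 := hp.two_le
  have hep := Nat.le_of_dvd (by omega) h4
  have h14 : k < n / p / p + 1 := by
    rw [Nat.lt_succ_iff, Nat.le_div_iff_mul_le hp.pos, h11]
    have : 0 < c * e := Nat.pos_of_ne_zero fun h => by
      rw [mul_assoc p, h] at h1
      omega
    exact (Nat.le_succ _).trans (Nat.le_mul_of_pos_left _ this)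
  have h15 := ((hX k h14).resolve_left (by
    rw [h11]; simp [h2]) e (by omega)).resolve_left (by
    rw [h12]; simp [Nat.mod_eq_zero_of_dvd h4]; omega)
  rw [h12, h13, ← h5, enum_complete] at h15
  · exact absurd h15 (by simp)
  have hok : ∀ w ∈ s ::ₘ μ, okDeg p (e * (k * p + 1)) c w.natAbs = true := fun w hw => by
    obtain ⟨h16, h17, h18⟩ := h6 w hw
    simp [okDeg, h16, Nat.mod_eq_zero_of_dvd h17, h18]
  · intro w hw
    have h16 : w.natAbs * w.natAbs ≤ (μ.map fun w => w.natAbs * w.natAbs).sum :=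
      Multiset.single_le_sum (fun _ _ => Nat.zero_le _) _ (Multiset.mem_map_of_mem _ hw)
    have h17 : w.natAbs < B := by
      by_contra h17
      have := Nat.mul_le_mul (not_lt.1 h17) (not_lt.1 h17)
      omega
    simp only [cands, List.mem_filter, List.mem_flatMap, List.mem_range, beq_iff_eq]
    refine ⟨⟨w.natAbs, ⟨h17, hok w (Multiset.mem_cons_of_mem hw)⟩, ?_⟩, h7 w hw⟩
    simpa using Int.natAbs_eq w
  · intro L hL
    obtain rfl : μ = L := by simpa using hL.symm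
    rw [Multiset.sum_coe] at h8
    rw [Multiset.map_coe, Multiset.sum_coe] at h9
    rw [Bool.and_eq_true, ← h8, Bool.not_eq_true', ← Bool.not_eq_true]
    refine ⟨?_, hc0 L rfl⟩
    simp only [sol, ← h8, Bool.and_eq_true, decide_eq_true_eq, List.all_eq_true, Bool.or_eq_true,
      beq_iff_eq, bne_iff_ne, List.any_eq_true, List.mem_sublists]
    refine ⟨⟨?_, h9⟩, fun q hq => ?_⟩
    · obtain ⟨h16, h17, h18⟩ := h6 s (Multiset.mem_cons_self _ _)
      simp [okDeg, h16, Nat.mod_eq_zero_of_dvd h17, h18]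
    by_contra h16
    simp only [not_or] at h16
    obtain ⟨b, hb⟩ := strip_spec q 30 n
    have h17 : 0 < strip q 30 n := Nat.pos_of_ne_zero fun h => by rw [h] at hb; omega
    obtain ⟨ν, h18, h19, h20, h21⟩ := h10 q b (hps q hq) h16.1.1.1
      (fun h => h16.1.1.2 (Nat.mod_eq_zero_of_dvd h)) ⟨_, hb⟩
    obtain ⟨l, rfl, h23⟩ : ∃ l : List ℤ, ν = l ∧ l.Sublist (s :: L) := by
      obtain ⟨l', rfl⟩ := Quot.exists_rep ν
      obtain ⟨l, h22, h23⟩ := Multiset.coe_le.1 h18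
      exact ⟨l, Multiset.coe_eq_coe.2 h22.symm, h23⟩
    refine h16.2 ⟨l, h23, ⟨?_, fun w hw h => ?_⟩, ?_⟩
    · rw [Nat.div_eq_of_eq_mul_left h17 hb]
      exact Int.emod_eq_zero_of_dvd h19
    · obtain ⟨j, hj⟩ := strip_spec q 30 w.natAbs
      exact h20 w hw j (by rw [hj, h, mul_one])
    · by_cases h25 : n % (q * q) = 0
      · exact Or.inl h25
      · exact Or.inr (good_of (hps q hq) (h21 (Nat.dvd_of_mod_eq_zero (not_not.1 h16.1.2))
          fun h => h25 (Nat.mod_eq_zero_of_dvd (sq q ▸ h))))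

end H18
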