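import Mathlib
import Cfsg.Agent.H18.Sieve3

/-! Rational characters, Blichfeldt's theorem and the orders 4320 and 5400. -/

set_option autoImplicit false
set_option linter.unusedSectionVars false

open Cfsg H4 H17 Subgroup
open scoped Pointwise

namespace H18

variable {G : Type*} [Group G] [Finite G] {p : ℕ} [hp : Fact p.Prime]

theorem SC.mem_B0 {x : G} (h : SC p x) {χ : Irr G} (hχ : ¬ p ∣ deg χ) : χ ∈ B0 p G := by
  by_contra hc
  obtain ⟨k, hk⟩ := χ.2.isCharacter.exists_degree_eq_card_mul (zpowers x) fun g hg h1 =>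
    h.apply_eq_zero hc (by
      rw [orderOf_eq_of_mem (by rw [Nat.card_zpowers, h.ord]) hg h1])
  rw [Nat.card_zpowers, h.ord, ← deg_eq] at hk
  exact hχ ⟨k, by exact_mod_cast hk⟩

theorem D1.sc_of_card {x : G} (h : D1 p x) (hc : Nat.card (centralizer ({x} : Set G)) = p * 1) :
    SC p x :=
  ⟨h.ord, (eq_of_le_of_card_ge (zpowers_le.2 (mem_centralizer_singleton_iff.2 rfl))
    (by rw [hc, Nat.card_zpowers, h.ord, mul_one])).symm⟩

open Classical in
theorem BData.exists_unique_deg {x : G} {hx : D1 p x} (D : BData hx) {L : List ℤ}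
    (hL : (L : Multiset ℤ) = (D.Nx.erase (irrOne G)).val.map (fun χ => D.a χ * deg χ)) {y : ℕ}
    (hy : ((D.δ * deg (D.μ 1) :: L).map Int.natAbs).count y = 1) (hy1 : y ≠ 1)
    (ht : (Aut hx.ord).index = 1 ∨ deg (D.μ 1) ≠ y) :
    ∃ χ ∈ B0 p G, deg χ = y ∧ ∀ ψ ∈ B0 p G, deg ψ = y → ψ = χ := by
  have hn : D.μ 1 ∉ D.Nx.erase (irrOne G) := fun hc => D.μ_notMem 1 (Finset.mem_of_mem_erase hc)
  have h1 : (((D.δ * deg (D.μ 1) :: L).map Int.natAbs : List ℕ) : Multiset ℕ) =
      ((D.Nx.erase (irrOne G)).cons (D.μ 1) hn).val.map deg := by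
    rw [← Multiset.map_coe, ← Multiset.cons_coe, hL, Finset.cons_val, Multiset.map_cons,
      Multiset.map_cons, Multiset.map_map]
    congr 1
    · rcases D.δ_sq with h | h <;> simp [h]
    · refine Multiset.map_congr rfl fun χ hχ => ?_
      rcases D.a_sq χ (Finset.mem_of_mem_erase hχ) with h | h <;> simp [h]
  rw [← Multiset.coe_count, h1, Multiset.count_map, ← Finset.filter_val, Finset.card_val,
    Finset.card_eq_one] at hy
  obtain ⟨χ, hχ⟩ := hy
  obtain ⟨h2, h3⟩ := Finset.mem_filter.1 (hχ ▸ Finset.mem_singleton_self χ)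
  refine ⟨χ, ?_, h3.symm, fun ψ hψ h4 => ?_⟩
  · rcases Finset.mem_cons.1 h2 with rfl | h4
    · exact D.μ_mem 1
    · exact D.Nx_mem (Finset.mem_of_mem_erase h4)
  · rw [← Finset.mem_singleton, ← hχ]
    refine Finset.mem_filter.2 ⟨Finset.mem_cons.2 ?_, h4.symm⟩
    rcases (D.mem_iff ψ).1 hψ with h5 | ⟨j, rfl⟩
    · refine Or.inr (Finset.mem_erase.2 ⟨?_, h5⟩)
      rintro rfl
      exact hy1 (h4.symm.trans deg_irrOne)
    · left
      rcases ht with ht | ht
      · exact D.μ_eq_iff.2 (index_eq_one.1 ht ▸ mem_top _)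
      · exact absurd ((D.deg_μ_congr 1 j).trans h4) ht

omit hp in
theorem exists_int_of_unique_deg {χ : Irr G} (h : ∀ ψ : Irr G, deg ψ = deg χ → ψ = χ) (g : G) :
    ∃ k : ℤ, χ.1 g = k :=
  χ.2.isGen.exists_int_of_pow Nat.card_pos.ne' pow_card_eq_one' fun m hm => by
    have := h ⟨_, χ.2.pow_arg hm⟩ (Nat.cast_injective (R := ℂ) (by simp [deg_eq]))
    exact congrFun (congrArg Subtype.val this) g

theorem dvd_sub_of_pElt {θ : G → ℂ} (hθ : IsCharacter G θ) {g : G} (hg : PElt p g) {k : ℤ} {d : ℕ}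
    (hk : θ g = k) (hd : θ 1 = d) : (p : ℤ) ∣ d - k ∧ |k| ≤ d := by
  obtain ⟨M, hM⟩ := exists_PM hp.out
  have h1 := char_mul_sub_mem (M := M) hθ hg (Commute.one_right g)
  have h2 := hθ.norm_le g
  rw [mul_one, hk, hd, ← Int.cast_natCast, ← Int.cast_sub, intCast_mem_Pm] at h1
  rw [hk, hd, Complex.norm_intCast, Complex.natCast_re] at h2
  exact ⟨dvd_sub_comm.1 h1, by exact_mod_cast h2⟩

/-- Blichfeldt's theorem for a rational character on a `p`-subgroup. -/
theorem blichfeldt {θ : G → ℂ} (hθ : IsCharacter G θ) {d : ℕ} (hd : θ 1 = d) {P : Subgroup G}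
    (hP : IsPGroup p P) (hf : ∀ g ∈ P, θ g = θ 1 → g = 1) (hint : ∀ g ∈ P, ∃ k : ℤ, θ g = k) :
    Nat.card P ∣ ∏ j ∈ Finset.Icc 1 (2 * d / p), j * p := by
  have h1 : ∀ s : Finset ℕ, IsGeneralizedCharacter G
      (∏ j ∈ s, (θ - ((d - j * p : ℤ) : ℂ) • fun _ => 1)) := fun s =>
    Finset.prod_induction _ _ (fun _ _ h1 h2 => h1.mul h2) isGen_one
      fun j _ => hθ.isGen.sub (isGen_one.intCast_smul _)
  obtain ⟨k, hk⟩ := (h1 (Finset.Icc 1 (2 * d / p))).exists_degree_eq_card_mul P fun g hg hg1 => by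
    obtain ⟨k, hk⟩ := hint g hg
    obtain ⟨⟨j, hj⟩, h2⟩ := dvd_sub_of_pElt hθ (PElt.of_mem hP hg) hk hd
    have h3 : k ≠ d := fun h => hg1 (hf g hg (by rw [hk, hd, h, Int.cast_natCast]))
    have h4 := abs_le.1 h2
    have hp0 : (0 : ℤ) < p := by exact_mod_cast hp.out.pos
    obtain ⟨j, rfl⟩ := Int.eq_ofNat_of_zero_le (a := j)
      (nonneg_of_mul_nonneg_right (by omega) hp0)
    rw [Finset.prod_apply]
    refine Finset.prod_eq_zero (i := j) (Finset.mem_Icc.2 ⟨?_, ?_⟩) ?_
    · rcases j with _ | j <;> omega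
    · rw [Nat.le_div_iff_mul_le hp.out.pos, mul_comm]
      omega
    · rw [Pi.sub_apply, hk, mul_comm, ← hj]
      simp
  rw [← Int.natCast_dvd_natCast]
  refine ⟨k, Int.cast_injective (α := ℂ) ?_⟩
  push_cast
  rw [← hk, Finset.prod_apply]
  exact Finset.prod_congr rfl fun j _ => by simp [hd]

omit hp in
theorem card_ne_4320 [IsSimpleGroup G] : Nat.card G ≠ 4320 := fun h => by
  have hG := not_comm_of_not_prime (G := G) (by rw [h]; norm_num)
  have : Fact (Nat.Prime 5) := ⟨by norm_num⟩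
  obtain ⟨x, hx⟩ := exists_D1 (G := G) (p := 5) (by rw [h]; norm_num) (by rw [h]; norm_num)
  obtain ⟨D⟩ := hx.nonempty_bData
  obtain ⟨c, L, h1, h2, h3⟩ := D.extract hG h 66 [2, 3] (by simp [Nat.prime_two, Nat.prime_three])
    (by norm_num) (fun _ e c l => c == 1 && e == 4 && (l.map Int.natAbs).count 4 == 1)
    (by decide +kernel)
  simp only [Bool.and_eq_true, beq_iff_eq] at h3
  obtain ⟨⟨rfl, h4⟩, h5⟩ := h3
  have h6 := card_Aut_mul_index hx.ord
  rw [h4] at h6
  obtain ⟨χ, -, h7, h8⟩ := D.exists_unique_deg h2 h5 (by norm_num) (Or.inl (by omega))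
  have h9 := exists_int_of_unique_deg (χ := χ) fun ψ hψ =>
    h8 ψ ((hx.sc_of_card h1).mem_B0 (by rw [hψ, h7]; norm_num)) (hψ.trans h7)
  obtain ⟨P, hP⟩ := Sylow.exists_subgroup_card_pow_prime (G := G) 3 (n := 3) (by rw [h]; norm_num)
  have := blichfeldt χ.2.isCharacter (deg_eq χ).symm (IsPGroup.of_card hP) (fun g _ hg =>
    χ.2.eq_one_of_apply_eq_of_simple (irr_ne_one_iff.1 (by
      rintro rfl; rw [deg_irrOne] at h7; omega)) hg) fun g _ => h9 g
  rw [hP, h7] at this
  exact absurd this (by decide)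

omit hp in
theorem exists_index_two_of_card (h2 : 2 ∣ Nat.card G) (h4 : ¬ 4 ∣ Nat.card G) :
    ∃ K : Subgroup G, K.Normal ∧ K.index = 2 := by
  obtain ⟨P⟩ : Nonempty (Sylow 2 G) := inferInstance
  have h1 : Nat.card (P : Subgroup G) = 2 := by
    have h5 := (Nat.prime_two.dvd_iff_one_le_factorization Nat.card_pos.ne').1 h2
    have h6 := mt (Nat.prime_two.pow_dvd_iff_le_factorization (k := 2) Nat.card_pos.ne').2 h4
    rw [P.card_eq_multiplicity, show (Nat.card G).factorization 2 = 1 by omega, pow_one]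
  exact ⟨_, inferInstance, ((isCyclic_of_prime_card h1).isComplement'
    ((Nat.minFac_eq_two_iff _).2 h2)).symm.index_eq_card.trans h1⟩

theorem card_sylow_of_mul {k m : ℕ} (h : Nat.card G = p ^ k * m) (hm : ¬ p ∣ m) (P : Sylow p G) :
    Nat.card (P : Subgroup G) = p ^ k := by
  rw [P.card_eq_multiplicity, h, Nat.factorization_mul (pow_pos hp.out.pos k).ne'
    (by rintro rfl; exact hm (dvd_zero p)), Finsupp.add_apply,
    Nat.factorization_eq_zero_of_not_dvd hm, hp.out.factorization_pow]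
  simp

omit hp in
theorem card_ne_5400 [IsSimpleGroup G] : Nat.card G ≠ 5400 := fun h => by
  have hG := not_comm_of_not_prime (G := G) (by rw [h]; norm_num)
  have : Fact (Nat.Prime 5) := ⟨by norm_num⟩
  have hd : 5 ∣ Nat.card G := by rw [h]; norm_num
  have hc : ∀ P : Sylow 5 G, Nat.card (P : Subgroup G) = 5 ^ 2 := card_sylow_of_mul (m := 216) h (by norm_num)
  have hcomm : ∀ P : Sylow 5 G, ∀ a ∈ (P : Subgroup G), ∀ b ∈ (P : Subgroup G), a * b = b * a :=
    fun P a ha b hb => congrArg Subtype.val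
      ((IsPGroup.isMulCommutative_of_card_eq_prime_sq (hc P)).1.1 ⟨a, ha⟩ ⟨b, hb⟩)
  obtain ⟨P⟩ : Nonempty (Sylow 5 G) := inferInstance
  have hN := card_sylow_mul_card_normalizer P
  have hn : Nat.card (Sylow 5 G) = 36 := by
    obtain ⟨h1, h2, h3, h4⟩ := card_sylow_spec hG 5 hd
    rw [h] at h1 h4 hN
    have h5 : ∀ n ∈ Nat.divisors 5400, n % 5 = 1 → n = 1 ∨ n = 6 ∨ n = 36 ∨ n = 216 := by
      decide +kernel
    rcases h5 _ (Nat.mem_divisors.2 ⟨h1, by norm_num⟩) h2 with h6 | h6 | h6 | h6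
    · omega
    · rw [h6] at h4
      exact absurd h4 (by decide)
    · exact h6
    · refine absurd (fun g hg a ha => hcomm P a ha g ?_) (not_normalizer_le_centralizer hG hd P)
      rw [h6] at hN
      rwa [eq_of_le_of_card_ge (P : Subgroup G).le_normalizer (by rw [hc]; omega)]
  rw [hn, h] at hN
  obtain ⟨⟨u, hu⟩, hu3⟩ := exists_prime_orderOf_dvd_card'
    (G := normalizer ((P : Subgroup G) : Set G)) 3 (by omega)
  rw [← orderOf_coe] at hu3
  change orderOf u = 3 at hu3
  have hS : ∀ g ∈ normalizer ((P : Subgroup G) : Set G), ∀ R : Sylow 5 G,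
      (P : Subgroup G) ⊓ (g • R : Sylow 5 G) = MulAut.conj g • ((P : Subgroup G) ⊓ R) :=
    fun g hg R => by
      rw [smul_inf, ← Sylow.coe_subgroup_smul, ← Sylow.coe_subgroup_smul,
        Sylow.smul_eq_iff_mem_normalizer.2 hg]
  have hS' : ∀ g ∈ normalizer ((P : Subgroup G) : Set G), ∀ R : Sylow 5 G,
      (P : Subgroup G) ⊓ (g • R : Sylow 5 G) = ⊥ ↔ (P : Subgroup G) ⊓ R = ⊥ := fun g hg R => by
    rw [hS g hg, ← smul_left_cancel_iff (MulAut.conj g) (x := (P : Subgroup G) ⊓ R), smul_bot]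
  have h1 := card_modEq_of_orbits (Γ := (P : Subgroup G)) 25
    {R : Sylow 5 G | (P : Subgroup G) ⊓ R = ⊥}ᶜ (fun g R => (hS' g (le_normalizer g.2) R).not)
    fun R hR => by
      rw [card_orbit_sylow, ← inf_subgroupOf_left, not_not.1 hR, bot_subgroupOf, index_bot, hc]
      rfl
  obtain ⟨R, hR1, hR2, hR3⟩ : ∃ R : Sylow 5 G, (P : Subgroup G) ⊓ R ≠ ⊥ ∧ R ≠ P ∧ u • R = R := by
    by_contra hcon
    push Not at hcon
    have h2 := card_modEq_of_orbits (Γ := zpowers u) 3
      (insert P {R : Sylow 5 G | (P : Subgroup G) ⊓ R = ⊥}) (fun g R => by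
        have h3 := zpowers_le.2 hu g.2
        refine or_congr ?_ (hS' g h3 R)
        rw [← smul_left_cancel_iff (g : G) (x := R), Sylow.smul_eq_iff_mem_normalizer.2 h3]
        rfl) fun R hR => by
        have h3 := card_orbit_mul_card_stabilizer (Γ := zpowers u) R
        rw [Nat.card_zpowers, hu3] at h3
        rcases (Nat.dvd_prime Nat.prime_three).1 ⟨_, h3.symm⟩ with h4 | h4
        · rw [h4, one_mul] at h3
          have h5 := eq_top_of_card_eq _ (h3.trans (by rw [Nat.card_zpowers, hu3]))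
          simp only [Set.mem_insert_iff, not_or] at hR
          exact absurd (h5 ▸ mem_top _ : (⟨u, mem_zpowers u⟩ : zpowers u) ∈
            MulAction.stabilizer (zpowers u) R) (hcon R hR.2 hR.1)
        · rw [h4]
    rw [Set.ncard_insert_of_notMem (by simpa using sylow_ne_bot hd P)] at h2
    have h3 := Set.ncard_add_ncard_compl {R : Sylow 5 G | (P : Subgroup G) ⊓ R = ⊥}
    have h4 : 0 < {R : Sylow 5 G | (P : Subgroup G) ⊓ R = ⊥}ᶜ.ncard :=
      (Set.ncard_pos).2 ⟨P, by simpa using sylow_ne_bot hd P⟩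
    rw [hn] at h1 h2 h3
    unfold Nat.ModEq at h1 h2
    omega
  have hD : Nat.card ((P : Subgroup G) ⊓ R : Subgroup G) = 5 := by
    have h2 := card_dvd_of_le (inf_le_left : (P : Subgroup G) ⊓ R ≤ P)
    rw [hc] at h2
    obtain ⟨k, hk, h3⟩ := (Nat.dvd_prime_pow this.out).1 h2
    interval_cases k
    · exact absurd (card_eq_one.1 h3) hR1
    · exact h3
    · exact absurd (sylow_eq_of_le (inf_eq_left.1
        (eq_of_le_of_card_ge inf_le_left (by rw [hc, h3])))).symm hR2
  obtain ⟨⟨d, hdm⟩, hd1⟩ := ne_bot_iff_exists_ne_one.1 hR1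
  replace hd1 : d ≠ 1 := fun hc => hd1 (Subtype.ext hc)
  have hd5 := orderOf_eq_of_mem hD hdm hd1
  have hu' : u ∈ centralizer ({d} : Set G) := by
    have h2 := hS u hu R
    rw [hR3] at h2
    obtain ⟨k, hk⟩ := card_Aut_dvd hd5
    have h3 := pow_mem (pow_card_Aut_mem hd5 (g := u) (mem_normalizer_zpowers_iff.2 (by
      rw [zpowers_eq_of_mem hD hdm hd1, h2]
      exact smul_mem_pointwise_smul d (MulAut.conj u) _ hdm))) k
    rwa [← pow_mul, ← hk, show 5 - 1 = orderOf u + 1 by omega, pow_succ, pow_orderOf_eq_one,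
      one_mul] at h3
  set W := centralizer ({d} : Set G) with hW
  have hPW : (P : Subgroup G) ≤ W := fun a ha => mem_centralizer_singleton_iff.2 (hcomm P a ha d hdm.1)
  have hRW : (R : Subgroup G) ≤ W := fun a ha => mem_centralizer_singleton_iff.2 (hcomm R a ha d hdm.2)
  have h2 := two_mul_card_dvd_factorial hG W fun hc => hd1 (by
    rw [← mem_bot, ← center_eq_bot_of_simple hG, mem_center_iff]
    exact fun g => mem_centralizer_singleton_iff.1 (show g ∈ W from hc ▸ mem_top g))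
  have h3 := one_lt_card_sylow_of_le hPW hRW hR2.symm
  have h4 := card_sylow_modEq_one 5 W
  have h5 := card_sylow_mul_card_normalizer (P.subtype hPW)
  have h6 := W.index_mul_card
  have hP' : Nat.card (P.subtype hPW : Subgroup W) = 5 ^ 2 :=
    (Nat.card_congr (subgroupOfEquivOfLe hPW).toEquiv).trans (hc P)
  obtain ⟨m, hm⟩ : 5 ^ 2 * 3 ∣ Nat.card (normalizer ((P.subtype hPW : Subgroup W) : Set W)) := by
    refine Nat.Coprime.mul_dvd_of_dvd_of_dvd (by norm_num) (hP' ▸ card_dvd_of_le le_normalizer) ?_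
    rw [← hu3, ← show orderOf (⟨u, hu'⟩ : W) = orderOf u from (orderOf_coe _).symm]
    refine Subgroup.orderOf_dvd_natCard _ (Sylow.smul_eq_iff_mem_normalizer.1 ?_)
    rw [Sylow.smul_subtype]
    congr 1
    exact Sylow.smul_eq_iff_mem_normalizer.2 hu
  rw [← h5, hm, h] at h6
  rw [h] at h2
  have h7 : 10 ≤ W.index := by
    by_contra hcon
    exact absurd (h2.trans (Nat.factorial_dvd_factorial (show W.index ≤ 9 by omega))) (by decide)
  have h8 : Nat.card (Sylow 5 W) = 6 ∧ m = 1 := by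
    generalize Nat.card (Sylow 5 W) = n at *
    generalize W.index = i at *
    have h8 : i * (n * m) = 72 := by nlinarith
    have h9 := Nat.mul_le_mul_right (n * m) h7
    have h10 : 0 < m := Nat.pos_of_ne_zero (by rintro rfl; omega)
    have h11 := Nat.le_mul_of_pos_right n h10
    unfold Nat.ModEq at h4
    obtain rfl : n = 6 := by omega
    omega
  rw [hm, h8.1, h8.2] at h5
  obtain ⟨K, hK, hK2⟩ := exists_index_two_of_card (G := W) (by omega) (by omega)
  have h9 := card_sylow_of_normal K (P.subtype hPW) fun g hg =>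
    mem_of_pElt_of_index (p := 5) (by omega) (PElt.of_mem (P.subtype hPW).2 hg)
  obtain ⟨Q⟩ : Nonempty (Sylow 5 K) := inferInstance
  have h10 := Q.card_dvd_index.trans (index_dvd_card _)
  have h11 := K.index_mul_card
  rw [h9, h8.1] at h10
  rw [hK2, ← h5] at h11
  omega

end H18
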