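import Mathlib
import Cfsg.Agent.H18.Sieve4
import Cfsg.Agent.H18.Br97b
import Cfsg.Agent.H18.Br99
import Cfsg.Agent.H7.SL

/-! Simple groups of order `p r q^b`. -/

set_option autoImplicit false
set_option linter.unusedSectionVars false

open Cfsg H4 H17 Subgroup

namespace H18

variable {G : Type*} [Group G] [Finite G]

theorem psl2_transfer {F F' : Type*} [Field F] [Fintype F] [Field F'] [Fintype F']
    (h : Fintype.card F = Fintype.card F')
    (e : Nonempty (G ≃* Matrix.ProjectiveSpecialLinearGroup (Fin 2) F)) :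
    Nonempty (G ≃* Matrix.ProjectiveSpecialLinearGroup (Fin 2) F') :=
  ⟨e.some.trans (H16.pslCongr (FiniteField.ringEquivOfCardEq h))⟩

theorem card_of_psl2 {F : Type*} [Field F] [Fintype F] {q : ℕ} (h : Fintype.card F = q)
    (e : Nonempty (G ≃* Matrix.ProjectiveSpecialLinearGroup (Fin 2) F)) :
    Nat.gcd 2 (q - 1) * Nat.card G = q * (q ^ 2 - 1) := by
  rw [Nat.card_congr e.some.toEquiv, H7.card_psl_two h]

theorem card_of_prq_aux [IsSimpleGroup G] (hG : ¬ IsMulCommutative G) {p q r b : ℕ} (hp : p.Prime)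
    (hq : q.Prime) (hr : r.Prime) (hpq : p ≠ q) (hqr : q ≠ r) (hrp : r < p)
    (h : Nat.card G = p * r * q ^ b) : Nat.card G = 60 ∨ Nat.card G = 168 := by
  have := Fact.mk hp
  have hr2 := hr.two_le
  rcases eq_or_lt_of_le (Nat.le_sub_one_of_lt hrp) with h1 | h1
  · exfalso
    obtain rfl : r = 2 := (hr.eq_two_or_odd).resolve_right fun h2 => by
      have := hp.eq_two_or_odd
      omega
    have h2 : ¬ 2 ∣ p * q ^ b := by
      rw [Nat.prime_two.dvd_mul, Nat.prime_dvd_prime_iff_eq Nat.prime_two hp]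
      exact fun hc => hc.elim (by omega) fun hc => hqr ((Nat.prime_dvd_prime_iff_eq
        Nat.prime_two hq).1 (Nat.prime_two.dvd_of_dvd_pow hc)).symm
    rw [mul_right_comm] at h
    have := twelve_or_sixteen_or_fiftysix hG (by rw [h]; simp)
    omega
  obtain ⟨⟨m, hm⟩, x, hx, hn⟩ := brauer_tuan_main hG hq hpq (h.trans (mul_right_comm _ _ _)) h1
  have h4 : ∀ y, r * q ^ b = 4 * y → q = 2 := fun y hy => by
    by_contra hc
    have h2 : Nat.Coprime 4 (q ^ b) := ((Nat.coprime_primes Nat.prime_two hq).2 (Ne.symm hc)).pow 2 b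
    have h3 := h2.dvd_of_dvd_mul_right ⟨y, hy⟩
    exact absurd ((Nat.dvd_prime hr).1 h3) (by
      rintro (h | rfl)
      · omega
      · norm_num at hr)
  have h3 : ∀ y, r * 2 ^ b = 3 * y → r = 3 := fun y hy =>
    ((Nat.prime_dvd_prime_iff_eq Nat.prime_three hr).1
      ((Nat.Coprime.pow_right b (by norm_num)).dvd_of_dvd_mul_right ⟨y, hy⟩)).symm
  have h5 : ∀ y, Odd y → y ∣ 3 * 2 ^ (b + 1) → y = 1 ∨ y = 3 := fun y h1 h2 =>
    (Nat.dvd_prime Nat.prime_three).1 ((h1.coprime_two_right.pow_right _).dvd_of_dvd_mul_right h2)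
  rw [mul_assoc] at h
  rcases hx.brauer (commutator_eq_top_of_simple hG) hn with ⟨F, _, _, h6, h7, h8⟩ |
    ⟨k, F, _, _, h6, h7, h8, h9⟩
  · have h9 := card_of_psl2 h6 h8
    have hodd := hp.eq_two_or_odd.resolve_left (by omega)
    rw [Nat.gcd_eq_left (by omega), h, mul_left_comm] at h9
    have h10 := Nat.eq_of_mul_eq_mul_left hp.pos h9
    have h11 : p ^ 2 % 24 = 1 := by
      have h11 : p % 3 ≠ 0 := fun hc => by
        have := (Nat.prime_dvd_prime_iff_eq Nat.prime_three hp).1 (Nat.dvd_of_mod_eq_zero hc)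
        omega
      rw [Nat.pow_mod]
      have := Nat.mod_lt p (show 0 < 24 by norm_num)
      have h12 : p % 24 % 3 ≠ 0 := by omega
      have h13 : p % 24 % 2 = 1 := by omega
      generalize p % 24 = y at *
      interval_cases y <;> simp_all
    obtain rfl := h4 (3 * (p ^ 2 / 24)) (by omega)
    obtain rfl := h3 (4 * (p ^ 2 / 24)) (by omega)
    have h12 : (p + 1) * (p - 1) = 3 * 2 ^ (b + 1) := by
      rw [← Nat.sq_sub_sq, one_pow, ← h10]; ring
    have h13 : p = 5 ∨ p = 7 := by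
      obtain ⟨j, rfl⟩ : ∃ j, m = j + 2 := by
        refine ⟨m - 2, ?_⟩
        rcases m with _ | _ | m <;> omega
      rw [pow_add] at hm
      rcases hm with hm | hm
      · have := h5 (2 ^ j * 2 + 1) ⟨2 ^ j, by ring⟩ (h12 ▸ Dvd.dvd.mul_right ⟨2, by omega⟩ _)
        omega
      · have := h5 (2 ^ j * 2 - 1) ⟨2 ^ j - 1, by omega⟩ (h12 ▸ Dvd.dvd.mul_left ⟨2, by omega⟩ _)
        omega
    rcases h13 with rfl | rfl <;> omega
  · have h10 := card_of_psl2 h6 h9
    obtain ⟨j, rfl⟩ : ∃ j, k = j + 2 := by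
      refine ⟨k - 2, ?_⟩
      rcases k with _ | _ | k <;> omega
    have h11 : Nat.gcd 2 (2 ^ (j + 2) - 1) = 1 := by
      refine Nat.coprime_two_left.2 ⟨2 ^ j * 2 - 1, ?_⟩
      have := Nat.one_le_two_pow (n := j)
      rw [pow_add]
      omega
    rw [h11, one_mul, h, ← one_pow 2, Nat.sq_sub_sq, ← h7, mul_left_comm (2 ^ (j + 2))] at h10
    have h12 := Nat.eq_of_mul_eq_mul_left hp.pos h10
    obtain rfl := h4 (2 ^ j * (2 ^ (j + 2) - 1)) (by rw [h12]; ring)
    have h13 : 3 ∣ 2 ^ (j + 2) - 1 := by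
      have h13 : ¬ 3 ∣ p := fun hc => by
        have := (Nat.prime_dvd_prime_iff_eq Nat.prime_three hp).1 hc
        omega
      have h14 : ¬ 3 ∣ 2 ^ (j + 2) := fun hc => absurd (Nat.prime_three.dvd_of_dvd_pow hc) (by norm_num)
      omega
    obtain ⟨y, hy⟩ := h13
    obtain rfl := h3 (2 ^ (j + 2) * y) (by rw [h12, hy]; ring)
    have h14 := h5 (2 ^ (j + 2) - 1) (Nat.coprime_two_left.1 h11)
      (by rw [pow_succ 2 b, ← mul_assoc, h12]; exact (dvd_mul_left _ _).mul_right _)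
    have h15 : 2 ^ (j + 2) = 4 := by omega
    rw [h15] at h7 h12
    subst h7
    omega

theorem card_of_prq [IsSimpleGroup G] (hG : ¬ IsMulCommutative G) {p q r b : ℕ} (hp : p.Prime)
    (hq : q.Prime) (hr : r.Prime) (hpq : p ≠ q) (hpr : p ≠ r) (hqr : q ≠ r)
    (h : Nat.card G = p * r * q ^ b) : Nat.card G = 60 ∨ Nat.card G = 168 := by
  rcases lt_or_gt_of_ne hpr with h1 | h1
  · exact card_of_prq_aux hG hr hq hp hqr.symm hpq.symm h1 (by rw [h, mul_comm p])
  · exact card_of_prq_aux hG hp hq hr hpq hqr h1 h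

end H18
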