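import Mathlib
import Cfsg.Agent.H18.Small1
import Cfsg.Agent.H5.CC
import Cfsg.Agent.H2.Frobenius
import Cfsg.Agent.H7.SmallIso

/-! Simple groups of orders 360 and 504. -/

set_option autoImplicit false
set_option linter.unusedSectionVars false

open Cfsg H4 H17 Subgroup

namespace H18

variable {G : Type*} [Group G] [Finite G] {p : ℕ} [hp : Fact p.Prime]

theorem eq_zero_of_not_dvd {χ : Irr G} (h : ¬ p * deg χ ∣ Nat.card G) {g : G} (hg : p ∣ orderOf g) :
    χ.1 g = 0 := by
  obtain ⟨M, hM⟩ := exists_PM hp.out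
  obtain ⟨m, hm⟩ := χ.2.degree_dvd_card (deg_eq χ).symm
  have h1 : ¬ p ∣ m := fun hc => h (by rw [hm, mul_comm p]; exact Nat.mul_dvd_mul_left _ hc)
  refine eq_zero_of_defect_zero M ?_ hg
  rw [hm, Nat.factorization_mul (deg_ne_zero χ) (by rintro rfl; exact h1 (dvd_zero p)),
    Finsupp.add_apply, Nat.factorization_eq_zero_of_not_dvd h1, add_zero]

open Classical in
theorem BData.not_dvd_of_two {x : G} {hx : D1 p x} (D : BData hx) {w : ℤ}
    (hL : (([w] : List ℤ) : Multiset ℤ) = (D.Nx.erase (irrOne G)).val.map (fun χ => D.a χ * deg χ))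
    {q r : ℕ} (hq : q.Prime) (hr : r.Prime) (h1 : ¬ q * w.natAbs ∣ Nat.card G)
    (h2 : ¬ r * (D.δ * deg (D.μ 1)).natAbs ∣ Nat.card G) {g : G} (hg : ¬ p ∣ orderOf g)
    (hqg : q ∣ orderOf g) : ¬ r ∣ orderOf g := fun hrg => by
  have := Fact.mk hq
  have := Fact.mk hr
  obtain ⟨χ, hχ⟩ := Finset.card_eq_one.1 (show (D.Nx.erase (irrOne G)).card = 1 by
    have := congrArg Multiset.card hL
    rw [Multiset.card_map] at this
    exact this.symm)
  have h3 := (Finset.mem_erase.1 (hχ ▸ Finset.mem_singleton_self χ)).2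
  obtain rfl : w = D.a χ * deg χ := by simpa [hχ] using hL
  have h4 := D.rel hg 1
  rw [← Finset.add_sum_erase _ _ D.one_mem, hχ, Finset.sum_singleton, D.a_one,
    eq_zero_of_not_dvd (p := q) (χ := χ) (by rcases D.a_sq χ h3 with h | h <;> simpa [h] using h1) hqg,
    eq_zero_of_not_dvd (p := r) (χ := D.μ 1) (by rcases D.δ_sq with h | h <;> simpa [h] using h2) hrg] at h4
  simp at h4

/-- If the centralizer of `y` has no elements of order prime to `p`, it is a `p`-group. -/
theorem isPGroup_centralizer {y : G} (hy : p ∣ orderOf y) (hy' : PElt p y)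
    (h : ∀ (q : ℕ) (g : G), q.Prime → q ≠ p → p ∣ orderOf g → ¬ q ∣ orderOf g) :
    IsPGroup p (centralizer ({y} : Set G)) := by
  refine IsPGroup.iff_card.2 ⟨_, Nat.eq_prime_pow_of_unique_prime_dvd Nat.card_pos.ne' ?_⟩
  intro q hq hd
  by_contra hc
  have := Fact.mk hq
  obtain ⟨g, hg⟩ := exists_prime_orderOf_dvd_card' q hd
  rw [← orderOf_coe] at hg
  obtain ⟨k, hk⟩ := hy'
  have h1 := (H17.mem_centralizer_singleton.1 g.2).orderOf_mul_eq_mul_orderOf_of_coprime
    (by rw [hg, hk]; exact ((Nat.coprime_primes hq hp.out).2 hc).pow_right k)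
  exact h q _ hq hc (h1 ▸ hy.mul_left _) (h1 ▸ hg ▸ dvd_mul_right _ _)

theorem isCC_sylow (P : Sylow p G) (hP : IsMulCommutative (P : Subgroup G))
    (h : ∀ (q : ℕ) (g : G), q.Prime → q ≠ p → p ∣ orderOf g → ¬ q ∣ orderOf g) :
    H5.IsCC (P : Subgroup G) := fun y hy h1 => by
  have h2 := PElt.of_mem P.2 hy
  refine P.3 (isPGroup_centralizer ?_ h2 h) fun a ha =>
    mem_centralizer_singleton_iff.2 (congrArg Subtype.val (hP.1.1 ⟨a, ha⟩ ⟨y, hy⟩))
  rwa [← not_not (a := p ∣ _), ← pp_eq_one_iff, pp_of_pElt h2]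

omit hp in
theorem ncard_conjugates_of_isCC {T : Subgroup G} (h : H5.IsCC T) :
    (Group.conjugatesOfSet ((T : Set G) \ {1})).ncard =
      (normalizer (T : Set G)).index * (Nat.card T - 1) := by
  rw [H2.ncard_conjugatesOfSet_of_TI (normalizer (T : Set G)) ((T : Set G) \ {1}) (fun n hn a ha =>
    ⟨(mem_normalizer_iff.1 hn a).1 ha.1, by simpa using ha.2⟩) fun g a ha hg =>
      h.mem_normalizer ha.1 ha.2 hg.1, Set.ncard_sdiff_singleton_of_mem T.one_mem,
    ← Nat.card_coe_set_eq]
  rfl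

omit hp in
theorem prime_of_dvd_orderOf {n q : ℕ} (h : Nat.card G = n) (hq : q.Prime) {g : G}
    (hg : q ∣ orderOf g) : q ∈ n.primeFactors :=
  Nat.mem_primeFactors.2 ⟨hq, h ▸ hg.trans (orderOf_dvd_natCard g), h ▸ Nat.card_pos.ne'⟩

omit hp in
theorem equiv_A6_of_card [IsSimpleGroup G] (h : Nat.card G = 360) :
    Nonempty (G ≃* alternatingGroup (Fin 6)) := by
  have hG := not_comm_of_not_prime (G := G) (by rw [h]; norm_num)
  have : Fact (Nat.Prime 5) := ⟨by norm_num⟩
  obtain ⟨x, hx⟩ := exists_D1 (G := G) (p := 5) (by rw [h]; norm_num) (by rw [h]; norm_num)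
  obtain ⟨D⟩ := hx.nonempty_bData
  obtain ⟨c, L, h1, h2, h3⟩ := D.extract hG h 19 [2, 3] (by simp [Nat.prime_two, Nat.prime_three])
    (by norm_num) (fun _ _ c l => c == 1 && l == [8, -9]) (by decide +kernel)
  simp only [Bool.and_eq_true, beq_iff_eq, List.cons.injEq] at h3
  obtain ⟨rfl, h4, rfl⟩ := h3
  have hS := hx.sc_of_card h1
  obtain ⟨P⟩ : Nonempty (Sylow 3 G) := inferInstance
  have hP := card_sylow_of_mul (k := 2) (m := 40) h (by norm_num) P
  obtain ⟨F, _, _, -, e⟩ := (isCC_sylow P (IsPGroup.isMulCommutative_of_card_eq_prime_sq hP)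
    fun q g hq h3 hg hqg => by
      have h5 : ¬ 5 ∣ orderOf g := fun hc => by rw [hS.orderOf_eq hc] at hg; omega
      have h6 := prime_of_dvd_orderOf h hq hqg
      obtain rfl : q = 2 := by
        rw [show Nat.primeFactors 360 = {2, 3, 5} by decide +kernel] at h6
        simp only [Finset.mem_insert, Finset.mem_singleton] at h6
        rcases h6 with rfl | rfl | rfl <;> omega
      exact D.not_dvd_of_two h2 Nat.prime_three Nat.prime_two (by rw [h]; norm_num)
        (by rw [h4, h]; norm_num) h5 hg hqg).psl2 (by omega) (by rw [hP, h]; norm_num)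
  have h5 := card_of_psl2 rfl e
  have h6 : Fintype.card F = 9 := by
    rw [h] at h5
    generalize Fintype.card F = q at h5
    have h7 : q < 10 := by
      by_contra hc
      have h8 := Nat.mul_le_mul (not_lt.1 hc) (Nat.sub_le_sub_right (Nat.pow_le_pow_left (not_lt.1 hc) 2) 1)
      have := Nat.gcd_le_left (q - 1) two_pos
      omega
    interval_cases q <;> simp_all
  exact ⟨e.some.trans (H7.psl2_nine_equiv_A6 h6).some⟩

omit hp in
theorem psl2_of_card_504 [IsSimpleGroup G] (h : Nat.card G = 504) {F : Type*} [Field F] [Fintype F]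
    (hF : Fintype.card F = 8) : Nonempty (G ≃* Matrix.ProjectiveSpecialLinearGroup (Fin 2) F) := by
  have hG := not_comm_of_not_prime (G := G) (by rw [h]; norm_num)
  have : Fact (Nat.Prime 7) := ⟨by norm_num⟩
  obtain ⟨x, hx⟩ := exists_D1 (G := G) (p := 7) (by rw [h]; norm_num) (by rw [h]; norm_num)
  obtain ⟨D⟩ := hx.nonempty_bData
  obtain ⟨c, L, h1, h2, h3⟩ := D.extract hG h 23 [2, 3] (by simp [Nat.prime_two, Nat.prime_three])
    (by norm_num) (fun N _ c l => N == 36 && c == 1 && l == [-9, 8]) (by decide +kernel)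
  simp only [Bool.and_eq_true, beq_iff_eq, List.cons.injEq] at h3
  obtain ⟨⟨hN, rfl⟩, h4, rfl⟩ := h3
  have hS := hx.sc_of_card h1
  have h23 : ∀ (g : G) (q r : ℕ), q.Prime → r.Prime → q ≠ r → r ∣ orderOf g → ¬ q ∣ orderOf g := by
    intro g q r hq hr hqr hrg hqg
    have h5 : ¬ 7 ∣ orderOf g := fun hc => by
      rw [hS.orderOf_eq hc, Nat.prime_dvd_prime_iff_eq (by assumption) this.out] at hrg hqg
      omega
    have h6 := prime_of_dvd_orderOf h hq hqg
    have h7 := prime_of_dvd_orderOf h hr hrg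
    have h8 := D.not_dvd_of_two h2 Nat.prime_two Nat.prime_three (by rw [h]; norm_num)
      (by rw [h4, h]; norm_num) h5
    rw [show Nat.primeFactors 504 = {2, 3, 7} by decide +kernel] at h6 h7
    simp only [Finset.mem_insert, Finset.mem_singleton] at h6 h7
    rcases h6 with rfl | rfl | rfl <;> rcases h7 with rfl | rfl | rfl <;> omega
  obtain ⟨P⟩ : Nonempty (Sylow 3 G) := inferInstance
  have hP := card_sylow_of_mul (k := 2) (m := 56) h (by norm_num) P
  have hC := isCC_sylow P (IsPGroup.isMulCommutative_of_card_eq_prime_sq hP)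
    fun q g hq => h23 g q 3 hq Nat.prime_three
  have h3 := ncard_conjugates_of_isCC hC
  have h5 : (normalizer ((P : Subgroup G) : Set G)).index = 28 := by
    have h5 := hC.relIndex_dvd
    have h6 := hC.card_dvd_index_sub_one
    have h7 := H5.IsCC.card_eq (T := (P : Subgroup G))
    rw [hP] at h5 h6 h7
    have := Nat.le_of_dvd (by norm_num) h5
    generalize (P : Subgroup G).relIndex _ = r at *
    interval_cases r <;> omega
  obtain ⟨R⟩ : Nonempty (Sylow 7 G) := inferInstance
  have h6 := card_orderOf_eq_prime R (hx.card_sylow R)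
  obtain ⟨T⟩ : Nonempty (Sylow 2 G) := inferInstance
  have hT := card_sylow_of_mul (k := 3) (m := 63) h (by norm_num) T
  have h7 : ∀ u : G, 2 ∣ orderOf u → PElt 2 u → 63 ≤ {g | IsConj u g}.ncard := fun u hu hu' => by
    have h7 := card_centralizer_mul_card_isConj u
    obtain ⟨Q, hQ⟩ := (isPGroup_centralizer hu hu' fun q g hq => h23 g q 2 hq Nat.prime_two).exists_le_sylow
    have h8 := card_le_of_le hQ
    rw [card_sylow_eq Q T, hT] at h8
    have h9 := Nat.mul_le_mul_right (Nat.card {g // IsConj u g}) h8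
    rw [← Nat.card_coe_set_eq]
    change _ ≤ Nat.card {g // IsConj u g}
    omega
  have h8 : ∀ u : G, PElt 2 u → u ^ 2 = 1 := fun u hu => by
    by_contra hc
    have h8 : ∀ v : G, PElt 2 v → v ≠ 1 → 2 ∣ orderOf v := fun v hv h1 => by
      rwa [← not_not (a := 2 ∣ _), ← pp_eq_one_iff, pp_of_pElt hv]
    have hu2 : PElt 2 (u ^ 2) := by simpa using hu.zpow 2
    have h9 := h8 u hu (by rintro rfl; simp at hc)
    have h10 := h8 _ hu2 hc
    have h11 : orderOf (u ^ 2) ≠ orderOf u := by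
      rw [orderOf_pow_of_dvd two_ne_zero h9]
      have := orderOf_pos u
      omega
    have h12 : ∀ g ∈ Group.conjugatesOfSet ((P : Set G) \ {1}), 3 ∣ orderOf g := fun g hg => by
      obtain ⟨a, ha, h12⟩ := Group.mem_conjugatesOfSet_iff.1 hg
      rw [← orderOf_eq_of_isConj h12, ← not_not (a := 3 ∣ _), ← pp_eq_one_iff,
        pp_of_pElt (PElt.of_mem P.2 ha.1)]
      exact ha.2
    have h13 := Set.ncard_le_card (Group.conjugatesOfSet ((P : Set G) \ {1}) ∪
      ({g | orderOf g = 7} ∪ ({g | IsConj u g} ∪ {g | IsConj (u ^ 2) g})))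
    have h14 : ∀ g ∈ {g | IsConj u g} ∪ {g | IsConj (u ^ 2) g}, 2 ∣ orderOf g := by
      rintro g (hg | hg) <;> rwa [← orderOf_eq_of_isConj hg]
    rw [Set.ncard_union_eq, Set.ncard_union_eq, Set.ncard_union_eq, ← Nat.card_coe_set_eq (s := {g | orderOf g = 7})] at h13
    · have h15 := h7 u h9 hu
      have h16 := h7 _ h10 hu2
      change _ + (Nat.card {g : G // orderOf g = 7} + _) ≤ _ at h13
      rw [h5, hP] at h3
      rw [hN] at h6
      erw [h3] at h13
      omega
    · exact Set.disjoint_left.2 fun g h1 h2 =>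
        h11 ((orderOf_eq_of_isConj h2).trans (orderOf_eq_of_isConj h1).symm)
    · exact Set.disjoint_left.2 fun g h1 h2 => by
        have := h14 g h2
        rw [show orderOf g = 7 from h1] at this
        omega
    · refine Set.disjoint_left.2 fun g h1 h2 => h2.elim (fun h2 => ?_) fun h2 =>
        h23 g 2 3 Nat.prime_two Nat.prime_three (by norm_num) (h12 g h1) (h14 g h2)
      have := h12 g h1
      rw [show orderOf g = 7 from h2] at this
      omega
  have h9 : ∀ t : G, orderOf t = 2 → ∀ c ∈ centralizer ({t} : Set G), c ^ 2 = 1 := fun t ht c hc =>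
    h8 c (PElt.of_mem (isPGroup_centralizer (ht ▸ dvd_rfl) ⟨1, ht⟩
      fun q g hq => h23 g q 2 hq Nat.prime_two) hc)
  obtain ⟨K, _, _, hK, e⟩ := Cfsg.Agent.S1230.result T (fun hc => by
    obtain ⟨y, hy⟩ := hc.exists_ofOrder_eq_natCard
    have := Nat.le_of_dvd two_pos (orderOf_dvd_of_pow_eq_one (h8 y (PElt.of_mem T.2 y.2)))
    rw [orderOf_coe] at this
    omega) (fun hn => normalizer_sylow_ne_top hG (by rw [h]; norm_num) T
      (normalizer_eq_top_iff.2 hn)) fun t ht => ⟨⟨⟨fun a b => by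
        have h1 := h9 t ht _ a.2
        have h2 := h9 t ht _ b.2
        have h3 := h9 t ht _ (a * b).2
        apply Subtype.ext
        simp only [coe_mul, sq] at h1 h2 h3 ⊢
        rw [← eq_inv_iff_mul_eq_one] at h1 h2 h3
        rw [h3, mul_inv_rev, ← h1, ← h2]⟩⟩, h9 t ht⟩
  exact psl2_transfer (by rw [hK, hF]; exact hT) e

end H18
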