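import Mathlib
import Cfsg.Agent.H18.Small2
import Cfsg.Agent.H27.CF

/-! Simple groups of order 2520: a character of degree 4 or 6; Brauer's trick. -/

set_option autoImplicit false
set_option linter.unusedSectionVars false

open Cfsg H4 H17 Subgroup

namespace H18

variable {G : Type*} [Group G] [Finite G]

/-- dimensions of fixed spaces; Brauer's trick. -/
theorem exists_fixdim {θ : G → ℂ} (hθ : IsCharacter G θ) : ∃ m : Subgroup G → ℕ,
    (∀ H : Subgroup G, ∑ g ∈ H27.fs (H : Set G), θ g = Nat.card H * m H) ∧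
    (∀ A B, A ≤ B → m B ≤ m A) ∧ ∀ A B C, C ≤ A → C ≤ B → m A + m B ≤ m C + m (A ⊔ B) := by
  obtain ⟨n, ρ, rfl⟩ := hθ
  let F : Subgroup G → Submodule ℂ (Fin n → ℂ) := fun H =>
    Representation.invariants (ρ.comp H.subtype)
  have hF : ∀ H v, v ∈ F H ↔ ∀ g ∈ H, ρ g v = v := fun H v =>
    ⟨fun h g hg => h ⟨g, hg⟩, fun h g => h g g.2⟩
  have h1 : ∀ A B, A ≤ B → F B ≤ F A := fun A B h v hv =>
    (hF A v).2 fun g hg => (hF B v).1 hv g (h hg)
  refine ⟨fun H => Module.finrank ℂ (F H), fun H => ?_, fun A B h => Submodule.finrank_mono (h1 A B h),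
    fun A B C hA hB => ?_⟩
  · have := Fintype.ofFinite H
    have h2 := rep_classInner_one_eq_finrank (ρ.comp H.subtype)
    rw [← h2, classInner, Nat.card_eq_fintype_card, ← mul_assoc, mul_inv_cancel₀ (by simp), one_mul,
      Finset.sum_subtype (H27.fs (H : Set G)) (p := (· ∈ H)) (F := this) fun _ => H27.mem_fs]
    simp [Representation.character]
  · rw [← Submodule.finrank_sup_add_finrank_inf_eq]
    refine add_le_add (Submodule.finrank_mono (sup_le (h1 _ _ hA) (h1 _ _ hB)))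
      (Submodule.finrank_mono fun v hv => (hF _ v).2 fun g hg => ?_)
    let K : Subgroup G :=
      { carrier := {g | ρ g v = v}
        one_mem' := by simp
        mul_mem' := fun {a b} ha hb => by
          simp only [Set.mem_ofPred_eq, map_mul, Module.End.mul_apply] at *
          rw [hb, ha]
        inv_mem' := fun {a} ha => by
          simp only [Set.mem_ofPred_eq] at *
          rw [← ha, ← Module.End.mul_apply, ← map_mul, inv_mul_cancel, map_one, ha]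
          rfl }
    exact (sup_le ((hF A v).1 hv.1) ((hF B v).1 hv.2) : A ⊔ B ≤ K) hg

theorem sum_irr_eq_zero {χ : Irr G} (h : χ ≠ irrOne G) :
    ∑ g ∈ H27.fs ((⊤ : Subgroup G) : Set G), χ.1 g = 0 := by
  have := Fintype.ofFinite G
  have h1 := irr_inner χ (irrOne G)
  rw [if_neg h, classInner, mul_eq_zero] at h1
  rw [Finset.eq_univ_of_forall (s := H27.fs ((⊤ : Subgroup G) : Set G)) fun g =>
    H27.mem_fs.2 (mem_top g)]
  simpa [irrOne] using h1

theorem sum_zpowers (x : G) (f : G → ℂ) :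
    ∑ g ∈ H27.fs (zpowers x : Set G), f g = ∑ i ∈ Finset.range (orderOf x), f (x ^ i) := by
  classical
  refine (Finset.sum_nbij (x ^ ·) (fun i _ => H27.mem_fs.2 (npow_mem_zpowers x i))
    (by simpa using pow_injOn_Iio_orderOf) (fun g hg => ?_) fun _ _ => rfl).symm
  obtain ⟨i, hi, rfl⟩ := Finset.mem_image.1
    ((mem_zpowers_iff_mem_range_orderOf (x := x)).1 (H27.mem_fs.1 hg))
  exact ⟨i, hi, rfl⟩

theorem SC.apply_of_top {p : ℕ} [Fact p.Prime] {x : G} (h : SC p x)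
    (he : Nat.card (Aut h.ord) = p - 1) {χ : Irr G} (hχ : ¬ p ∣ deg χ) :
    ∃ ε : ℤ, (ε = 1 ∨ ε = -1) ∧ (deg χ : ℤ) ≡ ε [ZMOD p] ∧ ∀ g, p ∣ orderOf g → χ.1 g = ε := by
  obtain ⟨D⟩ := h.d1.nonempty_bData
  have h2 := (Fact.out : p.Prime).two_le
  rcases (D.mem_iff χ).1 (h.mem_B0 hχ) with h1 | ⟨j, rfl⟩
  · exact ⟨_, D.a_sq χ h1, D.deg_Nx h1, fun g => D.apply_Nx h1⟩
  · have h3 := card_Aut_mul_index h.ord
    rw [he] at h3
    have h4 := D.card_X
    rw [Nat.eq_of_mul_eq_mul_left (by omega) (h3.trans (mul_one _).symm)] at h4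
    obtain ⟨μ, h5⟩ := Finset.card_eq_one.1 h4
    obtain rfl := Finset.mem_singleton.1 (h5 ▸ D.μ_mem_X j)
    refine ⟨_, D.δ_sq, (D.deg_μ j).trans ?_, fun g hg => by simpa [h5] using D.sum_X_sing hg⟩
    rw [he, Nat.cast_sub (by omega)]
    exact Int.modEq_iff_dvd.2 ⟨D.δ, by ring⟩

theorem chr2520 [IsSimpleGroup G] (h : Nat.card G = 2520) : ∃ x y u : G, SC 5 x ∧ SC 7 y ∧
    u * x * u⁻¹ = x ^ 2 ∧ u ^ 4 = 1 ∧ ∃ (χ : Irr G) (d ε : ℤ), χ ≠ irrOne G ∧ χ.1 1 = d ∧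
      (∀ g, 5 ∣ orderOf g → χ.1 g = ε) ∧ (d = 4 ∧ ε = -1 ∨ d = 6 ∧ ε = 1) := by
  classical
  have hG := not_comm_of_not_prime (G := G) (by rw [h]; norm_num)
  have : Fact (Nat.Prime 5) := ⟨by norm_num⟩
  have : Fact (Nat.Prime 7) := ⟨by norm_num⟩
  obtain ⟨x, hx⟩ := exists_D1 (G := G) (p := 5) (by rw [h]; norm_num) (by rw [h]; norm_num)
  obtain ⟨y, hy⟩ := exists_D1 (G := G) (p := 7) (by rw [h]; norm_num) (by rw [h]; norm_num)
  obtain ⟨D⟩ := hx.nonempty_bData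
  obtain ⟨E⟩ := hy.nonempty_bData
  obtain ⟨c, L, h1, -, h3⟩ := D.extract hG h 51 [2, 3, 7]
    (by simp [Nat.prime_two, Nat.prime_three]; norm_num)
    (by norm_num) (fun _ e c _ => c == 1 && e == 4) (by decide +kernel)
  obtain ⟨c', L', h4, h5, h6⟩ := E.extract hG h 51 [2, 3, 5]
    (by simp [Nat.prime_two, Nat.prime_three]; norm_num) (by norm_num)
    (fun _ _ c l => c == 1 && l.any fun w => w.natAbs == 4 || w.natAbs == 6 || w.natAbs == 8)
    (by decide +kernel)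
  simp only [Bool.and_eq_true, beq_iff_eq, List.any_eq_true, Bool.or_eq_true] at h3 h6
  obtain ⟨rfl, h3⟩ := h3
  obtain ⟨rfl, w, hw, h6⟩ := h6
  have hS := hx.sc_of_card h1
  obtain ⟨χ, h7⟩ : ∃ χ : Irr G, w.natAbs = deg χ := by
    rcases List.mem_cons.1 hw with rfl | hw
    · exact ⟨E.μ 1, by rcases E.δ_sq with h | h <;> simp [h]⟩
    · obtain ⟨χ, hχ, rfl⟩ := Multiset.mem_map.1 (h5 ▸ Multiset.mem_coe.2 hw)
      exact ⟨χ, by rcases E.a_sq χ (Finset.mem_erase.1 hχ).2 with h | h <;> simp [h]⟩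
  rw [h7] at h6
  obtain ⟨ε, h8, h9, h10⟩ := hS.apply_of_top h3 (χ := χ) (by omega)
  have h11 : Aut hx.ord = ⊤ := eq_top_of_card_eq _ (by rw [h3, Nat.card_eq_fintype_card, ZMod.card_units])
  obtain ⟨g, hg⟩ := isConj_iff.1 ((mem_Aut hx.ord (a := ZMod.unitOfCoprime 2 (by norm_num))).1
    (h11 ▸ mem_top _))
  replace hg : g * x * g⁻¹ = x ^ 2 := hg
  have h12 : ∀ k, g ^ k * x * (g ^ k)⁻¹ = x ^ 2 ^ k := fun k => by
    induction k with
    | zero => simp
    | succ k ih => rw [pow_succ', pow_succ', pow_mul, ← hg, conj_pow, ← ih]; group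
  have h13 : ∀ k, k % 5 = 1 → x ^ k = x := fun k hk => by rw [← pow_mod_orderOf, hx.ord, hk, pow_one]
  have h14 : g ^ 4 ∈ zpowers x := hS.cent ▸ mem_centralizer_singleton_iff.2
    (mul_inv_eq_iff_eq_mul.1 ((h12 4).trans (h13 _ (by norm_num))))
  refine ⟨x, y, g ^ 5, hS, hy.sc_of_card h4, ?_, ?_, χ, deg χ, ε, ?_, by simp [deg_eq], h10, ?_⟩
  · rw [h12, show 2 ^ 5 = 16 * 2 by norm_num, pow_mul, h13 _ (by norm_num)]
  · rw [← pow_mul, mul_comm, pow_mul, ← orderOf_dvd_iff_pow_eq_one, ← hx.ord]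
    exact orderOf_dvd_of_mem_zpowers h14
  · rintro rfl
    rw [deg_irrOne] at h6
    omega
  · unfold Int.ModEq at h9
    omega

end H18
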