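import Mathlib
import Cfsg.Agent.H18.G2520a
import Cfsg.Agent.H1.Wielandt
import Cfsg.Agent.H26.S01a
import Cfsg.Agent.H22.SuzII1
import Cfsg.Agent.H21.OddInv
import Cfsg.Agent.H17.ZStar

/-! A simple group of order 2520 is `A₇`. -/

set_option autoImplicit false
set_option linter.unusedSectionVars false

open Cfsg H24 Subgroup

namespace H18

variable {G : Type*} [Group G] [Finite G]

theorem mem_four {u g : G} (hu : orderOf u = 4) (hg : g ∈ zpowers u) :
    g = 1 ∨ g = u ∨ g = u ^ 2 ∨ g = u⁻¹ := by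
  classical
  obtain ⟨i, hi, rfl⟩ := Finset.mem_image.1 ((mem_zpowers_iff_mem_range_orderOf (x := u)).1 hg)
  have h4 : u ^ 3 = u⁻¹ := by
    rw [eq_inv_iff_mul_eq_one, ← pow_succ, ← orderOf_dvd_iff_pow_eq_one, hu]
  rw [Finset.mem_range, hu] at hi
  interval_cases i <;> simp [h4]

theorem orderOf_sq_four {u : G} (hu : orderOf u = 4) : orderOf (u ^ 2) = 2 := by
  rw [orderOf_pow' _ two_ne_zero, hu]; rfl

theorem eq_sq_of_two {u g : G} (hu : orderOf u = 4) (hg : g ∈ zpowers u) (h2 : orderOf g = 2) :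
    g = u ^ 2 := by
  rcases mem_four hu hg with rfl | rfl | rfl | rfl
  · simp at h2
  · omega
  · rfl
  · rw [orderOf_inv] at h2; omega

/-- Sylow 2-subgroups of order 8 with an element of order 4 in a simple group. -/
theorem dih8 [IsSimpleGroup G] (hG : ¬ IsMulCommutative G) (T : Sylow 2 G) (hT : ♯T.1 = 8) {u : G}
    (huT : u ∈ T.1) (hu : orderOf u = 4) :
    (∀ w ∈ T.1, w ∉ zpowers u → IsConj (u ^ 2) w) ∧ IsConj u u⁻¹ ∧ T.1 ≤ C{u ^ 2} := by
  have h2 := orderOf_sq_four hu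
  have hU := zpowers_le.2 huT
  have hi : (zpowers u).relIndex T.1 = 2 := by
    have := card_mul_relIndex hU
    rw [card_zpowers', hu, hT] at this
    omega
  have hm : ∀ a ∈ T.1, ∀ b ∈ T.1, a ∉ zpowers u → b ∉ zpowers u → a * b ∈ zpowers u :=
    fun a ha b hb h1 h3 => (mul_mem_iff_of_index_two hi (a := ⟨a, ha⟩) (b := ⟨b, hb⟩)).2
      (iff_of_false h1 h3)
  have hN := (nml_of_relIndex_eq_prime Nat.prime_two (isPi_of_card (n := 3) Nat.prime_two hT) hU
    hi).norm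
  obtain ⟨g, hg, hg'⟩ : ∃ g : G, g * u ^ 2 * g⁻¹ ∈ T.1 ∧ g * u ^ 2 * g⁻¹ ≠ u ^ 2 := by
    by_contra hc
    push Not at hc
    have hO : pPrimeCore 2 G = ⊥ := by
      refine (IsSimpleGroup.eq_bot_or_eq_top_of_normal _ inferInstance).resolve_right fun e => ?_
      have := H17.odd_card_pPrimeCore (G := G)
      rw [e, card_top] at this
      exact (this.of_dvd_nat (orderOf_dvd_natCard (u ^ 2))).not_two_dvd_nat h2.symm.dvd
    have hz : u ^ 2 ∈ center G := mem_center_iff.2 fun g => (H17.zstar_central hO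
      ((H17.isolated_iff_sylow h2 T (pow_mem huT 2)).2 hc) g).eq.symm
    rcases IsSimpleGroup.eq_bot_or_eq_top_of_normal (center G) inferInstance with e | e
    · rw [e, mem_bot] at hz
      simp [hz] at h2
    · exact hG ⟨⟨fun a b => mem_center_iff.1 (e ▸ mem_top b) a⟩⟩
  have h3 : orderOf (g * u ^ 2 * g⁻¹) = 2 := by rwa [orderOf_conj]
  have h4 : g * u ^ 2 * g⁻¹ ∉ zpowers u := fun hc => hg' (eq_sq_of_two hu hc h3)
  have h5 : ∀ w ∈ T.1, w * u * w⁻¹ = u ∨ w * u * w⁻¹ = u⁻¹ := fun w hw => by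
    have h6 := orderOf_conj w u
    rcases mem_four hu (conj_mem (hN hw) (mem_zpowers u)) with e | e | e | e <;>
      simp_all
  have h6 : T.1 ≤ C{u ^ 2} := fun w hw => by
    rw [mem_C1_iff_conj, ← conj_pow]
    rcases h5 w hw with e | e <;> rw [e]
    rw [inv_pow, inv_eq_iff_mul_eq_one, ← pow_add, ← orderOf_dvd_iff_pow_eq_one, hu]
  generalize hs : g * u ^ 2 * g⁻¹ = s at *
  have hss : s * s = 1 := by rw [← sq, ← h3, pow_orderOf_eq_one]
  have h7 : ∀ w ∈ T.1, w ∉ zpowers u → ∃ v ∈ zpowers u, w = v * s := fun w hw h7 =>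
    ⟨_, hm w hw s hg h7 h4, by rw [mul_assoc, hss, mul_one]⟩
  have h8 : s * u * s⁻¹ = u⁻¹ := (h5 s hg).resolve_left fun e => by
    have h8 : zpowers u ≤ C{s} := zpowers_le.2 (mem_C1_comm.1 (mem_C1_iff_conj.2 e))
    have h9 : ∀ w ∈ T.1, w ∈ C{s} ⊓ C{u} := fun w hw => by
      by_cases h9 : w ∈ zpowers u
      · exact ⟨h8 h9, zpowers_le_C1 u h9⟩
      · obtain ⟨v, hv, rfl⟩ := h7 w hw h9
        exact mul_mem ⟨h8 hv, zpowers_le_C1 u hv⟩ ⟨self_mem_C1 s, mem_C1_iff_conj.2 e⟩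
    have h10 : Abl T.1 := abl_iff.2 fun w hw => mem_C_iff_le_C1.2 fun z hz => by
      have h10 := (C_zpowers u).ge (h9 z hz).2
      by_cases h9' : w ∈ zpowers u
      · exact C_le_C1 h9' h10
      · obtain ⟨v, hv, rfl⟩ := h7 w hw h9'
        exact mem_C1_comm.1 (mul_mem (mem_C1_comm.1 (C_le_C1 hv h10)) (mem_C1_comm.1 (h9 z hz).1))
    obtain ⟨w, hw, e'⟩ := H3.abelian_sylow_controls T h10 _ (pow_mem huT 2) g (hs ▸ hg)
    have h11 := conj_mem hw huT
    rw [hs, ← conj_pow, sq] at e'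
    by_cases h12 : w * u * w⁻¹ ∈ zpowers u
    · exact h4 (e' ▸ mul_mem h12 h12)
    · exact h4 (e' ▸ hm _ h11 _ h11 h12 h12)
  refine ⟨fun w hw h9 => ?_, isConj_iff.2 ⟨s, h8⟩, h6⟩
  have h10 : w * w = 1 := by
    obtain ⟨_, ⟨k, rfl⟩, rfl⟩ := h7 w hw h9
    calc _ = u ^ k * (s * u * s⁻¹) ^ k * (s * s) := by rw [conj_zpow]; group
      _ = 1 := by rw [h8, hss]; group
  rcases H3.thompson_transfer T.1 (zpowers u) (Nat.not_even_iff_odd.1 fun hc =>
    T.not_dvd_index hc.two_dvd) hi w h10 hw h9 with ⟨M, hM, h11, h12⟩ | ⟨c, hc⟩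
  · rcases hM.eq_bot_or_eq_top with rfl | rfl
    · have := card_dvd (le_top : T.1 ≤ ⊤)
      rw [index_bot] at h11
      rw [hT, card_top, h11] at this
      omega
    · exact absurd (mem_top w) h12
  · refine (isConj_iff.2 ⟨c, eq_sq_of_two hu hc ?_⟩).symm
    rw [orderOf_conj]
    exact orderOf_eq_prime (by rwa [sq]) fun e => h9 (e ▸ one_mem _)

theorem SC.card_modEq {p : ℕ} [hp : Fact p.Prime] {x : G} (h : SC p x) {K : Subgroup G}
    (hK : ¬ p ∣ ♯K) (hN : p ∣ ♯N[K]) : ♯K ≡ 1 [MOD p] := by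
  obtain ⟨z, hz, h1⟩ := exists_orderOf_eq hp.out hN
  have h2 := (piElt_of_orderOf_prime hp.out h1).isPi
  have h3 := H22.card_modEq_cent (h2.isPGroup hp.out)
    fun g hg u hu => conj_mem (zpowers_le.2 hz hg) hu
  rwa [C_zpowers, (h.of_orderOf h1).cent, ((isPi_compl_iff hp.out).2 hK).inf_eq_bot' h2,
    card_bot] at h3

theorem sq_mem_C_of_three {R : Subgroup G} (hR : ♯R = 3) {g : G} (hg : g ∈ N[R]) :
    g ^ 2 ∈ C[R] := by
  obtain ⟨y, hy, h1⟩ := exists_orderOf_eq Nat.prime_three hR.symm.dvd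
  have h2 := zpowers_eq_of_prime (hR ▸ Nat.prime_three) hy (by rintro rfl; simp at h1)
  subst h2
  rw [C_zpowers, mem_C1_iff_conj]
  obtain ⟨k, hk⟩ := mem_zpowers_iff.1 (conj_mem hg hy)
  have h3 : ¬ (3 : ℤ) ∣ k := fun hc => by
    have : y ^ k = 1 := orderOf_dvd_iff_zpow_eq_one.1 (by rw [h1]; exact_mod_cast hc)
    rw [hk, conj_eq_one_iff'] at this
    simp [this] at h1
  calc _ = g * (g * y * g⁻¹) * g⁻¹ := by rw [sq]; group
    _ = y ^ (k * k) := by rw [← hk, ← conj_zpow, ← hk, zpow_mul]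
    _ = y ^ (1 : ℤ) := by
      rw [zpow_eq_zpow_iff_modEq, h1]
      obtain ⟨j, rfl | rfl⟩ : ∃ j, k = 3 * j + 1 ∨ k = 3 * j - 1 := ⟨(k + 1) / 3, by omega⟩
      · exact Int.modEq_iff_dvd.2 ⟨-(3 * j * j + 2 * j), by push_cast; ring⟩
      · exact Int.modEq_iff_dvd.2 ⟨-(3 * j * j - 2 * j), by push_cast; ring⟩
    _ = y := zpow_one y

theorem values2520 [IsSimpleGroup G] (h : Nat.card G = 2520) :
    (∀ K : Subgroup G, ♯K = 9 → ¬ 5 ∣ ♯N[K] ∧ ¬ 7 ∣ ♯N[K]) ∧
    (∀ s : G, orderOf s = 2 → 8 ∣ ♯C{s}) ∧ (∀ s s' : G, orderOf s = 2 → orderOf s' = 2 → IsConj s s') ∧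
    ∀ (K : Subgroup G) (w : G), orderOf w = 4 → w ∈ N[K] → Semireg K (zpowers w) →
      ∃ H : Subgroup G, H ≠ ⊤ ∧ K ≤ H ∧ w ∈ H ∧ 8 ∣ ♯H := by
  classical
  have hG := not_comm_of_not_prime (G := G) (by rw [h]; norm_num)
  have : Fact (Nat.Prime 5) := ⟨by norm_num⟩
  have : Fact (Nat.Prime 7) := ⟨by norm_num⟩
  obtain ⟨x, y, u, hx, hy, hux, hu4, χ, d, ε, hχ, hd, hε, hdε⟩ := chr2520 h
  have hu : orderOf u = 4 := orderOf_eq_prime_pow (p := 2) (n := 1) (fun hc => by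
    have h1 : u ^ 2 * x * (u ^ 2)⁻¹ = x ^ 4 := by
      rw [show 4 = 2 * 2 by rfl, pow_mul x, ← hux, conj_pow, ← hux, sq]; group
    rw [show u ^ 2 = 1 from hc, one_mul, inv_one, mul_one, pow_succ', left_eq_mul,
      ← orderOf_dvd_iff_pow_eq_one, hx.ord] at h1
    omega) hu4
  have hχc := H4.Cfsg.IsIrrCharacter.isCharacter χ.2
  have hχf := H4.Cfsg.IsCharacter.classFun hχc
  have hT : ∀ T : Sylow 2 G, ♯T.1 = 8 := card_sylow_of_mul (k := 3) (m := 315) h (by norm_num)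
  have hs : ∀ w : G, orderOf w = 4 → ∃ T : Sylow 2 G, w ∈ T.1 := fun w hw =>
    (IsPGroup.of_card (n := 2) (by rw [card_zpowers', hw]; rfl)).exists_le_sylow.imp fun T hT =>
      hT (mem_zpowers w)
  obtain ⟨T, huT⟩ := hs u hu
  obtain ⟨d1, d2, d3⟩ := dih8 hG T (hT T) huT hu
  have hc : ∀ (s : G) (k : ℕ), orderOf s = 2 ^ k → ∃ s' ∈ T.1, IsConj s' s := fun s k hk => by
    obtain ⟨g, -, hg⟩ := Sylow_Jsub Nat.prime_two (syl_top_of_sylow Nat.prime_two T)
      (isPi_of_card Nat.prime_two ((card_zpowers' s).trans hk)) le_top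
    exact ⟨_, hg (conj_mem_cj g (mem_zpowers s)), (isConj_iff.2 ⟨g, rfl⟩).symm⟩
  have c2 : ∀ s, orderOf s = 2 → IsConj (u ^ 2) s := fun s h2 => by
    obtain ⟨s', h3, h4⟩ := hc s 1 h2
    by_cases h5 : s' ∈ zpowers u
    · exact eq_sq_of_two hu h5 ((H17.orderOf_eq_of_isConj h4).trans h2) ▸ h4
    · exact (d1 s' h3 h5).trans h4
  have c4 : ∀ s, orderOf s = 4 → IsConj u s := fun s h2 => by
    obtain ⟨s', h3, h4⟩ := hc s 2 h2
    have h6 := (H17.orderOf_eq_of_isConj h4).trans h2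
    by_cases h5 : s' ∈ zpowers u
    · rcases mem_four hu h5 with rfl | rfl | rfl | rfl
      · simp at h6
      · exact h4
      · rw [orderOf_sq_four hu] at h6; omega
      · exact d2.trans h4
    · rw [← H17.orderOf_eq_of_isConj (d1 s' h3 h5), orderOf_sq_four hu] at h6
      omega
  have hcl : ∀ a b, IsConj a b → χ.1 b = χ.1 a := fun a b hab => by
    obtain ⟨g, rfl⟩ := isConj_iff.1 hab
    exact hχf a g
  have s4 : ∀ w : G, orderOf w = 4 → ∑ g ∈ H27.fs (zpowers w : Set G), χ.1 g =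
      d + χ.1 (u ^ 2) + 2 * χ.1 u := fun w hw => by
    rw [sum_zpowers, hw]
    simp only [Finset.sum_range_succ, Finset.sum_range_zero, pow_zero, pow_one]
    rw [hd, hcl _ _ (c4 w hw), hcl _ _ (c2 _ (orderOf_sq_four hw)),
      hcl _ _ (c4 (w ^ 3) (by rw [orderOf_pow' _ three_ne_zero, hw]; rfl))]
    ring
  have s8 : ∀ (T : Sylow 2 G) w, w ∈ T.1 → orderOf w = 4 → ∑ g ∈ H27.fs (T.1 : Set G), χ.1 g =
      d + 5 * χ.1 (u ^ 2) + 2 * χ.1 u := fun T w hw h4 => by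
    have h5 : H27.fs (zpowers w : Set G) ⊆ H27.fs (T.1 : Set G) := fun g hg =>
      H27.mem_fs.2 (zpowers_le.2 hw (H27.mem_fs.1 hg))
    rw [← Finset.sum_sdiff h5, s4 w h4, Finset.sum_congr rfl fun g hg => hcl _ _
      ((c2 _ (orderOf_sq_four h4)).trans ((dih8 hG T (hT T) hw h4).1 g
        (H27.mem_fs.1 (Finset.mem_sdiff.1 hg).1) (mt H27.mem_fs.2 (Finset.mem_sdiff.1 hg).2))),
      Finset.sum_const, Finset.card_sdiff_of_subset h5, H27.card_fs_subgroup, H27.card_fs_subgroup,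
      hT, card_zpowers', h4]
    simp
    ring
  obtain ⟨m, m1, m2, m3⟩ := exists_fixdim hχc
  have hf : ∀ K R : Subgroup G, R ≤ N[K] → Semireg K R → ♯K * (♯R * m R : ℂ) + ♯K * m K =
      ♯K * d + ♯(K ⊔ R) * m (K ⊔ R) := fun K R h1 h2 => by
    rw [← m1, ← m1, ← m1, ← hd]
    exact H1.frobenius_class_sum h1 h2 χ.1 fun g _ x _ => hχf x g
  have hX : ♯(zpowers x) = 5 := by rw [card_zpowers', hx.ord]
  have hU : ♯(zpowers u) = 4 := by rw [card_zpowers', hu]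
  have ht : ♯(zpowers (u ^ 2)) = 2 := by rw [card_zpowers', orderOf_sq_four hu]
  have hUX : zpowers u ≤ N[zpowers x] :=
    zpowers_le.2 (mem_normalizer_zpowers_iff.2 (hux ▸ npow_mem_zpowers x 2))
  have htU : zpowers (u ^ 2) ≤ zpowers u := zpowers_le.2 (npow_mem_zpowers u 2)
  have hsr : Semireg (zpowers x) (zpowers u) := fun g hg hg1 =>
    prime_inf_of_not_le (by rw [hX]; norm_num) fun hc => hg1 (hx.eq_one_of_commute
      (mem_C1.1 (hc (mem_zpowers x))) fun h5 => by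
        have := h5.trans (hU ▸ orderOf_dvd_card' hg)
        omega)
  have e1 := m1 (zpowers x)
  have e2 := hf _ _ (htU.trans hUX) fun g hg => hsr g (htU hg)
  have e3 := hf _ _ hUX hsr
  have e4 := m1 T.1
  obtain ⟨k, e5⟩ := exists_four_dvd (commutator_eq_top_of_simple hG) (orderOf_sq_four hu)
    hχc
  have e6 := m1 (zpowers u)
  have e7 := m1 (zpowers (u ^ 2))
  rw [card_sup_of_inf (htU.trans hUX) (inf_eq_bot_of_cop (by rw [hX, ht]; norm_num)), hX, ht] at e2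
  rw [card_sup_of_inf hUX (inf_eq_bot_of_cop (by rw [hX, hU]; norm_num)), hX, hU] at e3
  rw [sum_zpowers, hx.ord, hX] at e1
  rw [sum_zpowers, orderOf_sq_four hu, ht] at e7
  rw [s8 T u huT hu, hT] at e4
  rw [s4 u hu, hU] at e6
  simp only [Finset.sum_range_succ, Finset.sum_range_zero, pow_zero, pow_one] at e1 e7
  have h5 : ∀ i, ¬ 5 ∣ i → χ.1 (x ^ i) = ε := fun i hi => hε _ (by
    rw [Nat.Coprime.orderOf_pow (by
      rw [hx.ord]; exact (Nat.Prime.coprime_iff_not_dvd (by norm_num)).2 hi), hx.ord])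
  rw [hε x hx.ord.symm.dvd, h5 2 (by norm_num), h5 3 (by norm_num), h5 4 (by norm_num)] at e1
  rw [hd] at e1 e5 e7
  push_cast at e1 e2 e3 e4 e6 e7
  have i1 := m2 _ _ (le_sup_left : zpowers x ≤ zpowers x ⊔ zpowers (u ^ 2))
  have i2 := m2 _ _ (sup_le_sup_left htU (zpowers x))
  have f1 : d + 4 * ε = 5 * m (zpowers x) := by exact_mod_cast (by linear_combination e1 :
    (d + 4 * ε : ℂ) = 5 * m (zpowers x))
  have f2 : 2 * d + m (zpowers x) = 4 * k + 2 * m (zpowers x ⊔ zpowers (u ^ 2)) + d := by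
    exact_mod_cast (by linear_combination e2 / 5 + e5 + e7 : (2 * d + m (zpowers x) : ℂ) =
      4 * k + 2 * m (zpowers x ⊔ zpowers (u ^ 2)) + d)
  have f3 : 4 * m (zpowers u) + m (zpowers x) = d + 4 * m (zpowers x ⊔ zpowers u) := by
    exact_mod_cast (by linear_combination e3 / 5 : (4 * m (zpowers u) + m (zpowers x) : ℂ) =
      d + 4 * m (zpowers x ⊔ zpowers u))
  have f4 : m (zpowers u) + d = 2 * m T.1 + 4 * k := by
    exact_mod_cast (by linear_combination e4 / 4 - e6 / 4 + e5 : (m (zpowers u) + d : ℂ) =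
      2 * m T.1 + 4 * k)
  obtain ⟨rfl, f5, f6⟩ : d = 6 ∧ m (zpowers u) = 2 ∧ m T.1 = 2 := by omega
  refine ⟨fun K hK => ⟨fun hc => ?_, fun hc => ?_⟩, fun s hs => ?_,
    fun s s' h1 h2 => (c2 s h1).symm.trans (c2 s' h2), fun K w hw h1 h2 => ?_⟩
  · exact absurd (hK ▸ hx.card_modEq (by rw [hK]; norm_num) hc) (by decide)
  · exact absurd (hK ▸ hy.card_modEq (by rw [hK]; norm_num) hc) (by decide)
  · obtain ⟨g, rfl⟩ := isConj_iff.1 (c2 s hs)
    rw [← cj_C1, card_cj, ← hT T]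
    exact card_dvd d3
  obtain ⟨S, hS⟩ := hs w hw
  refine ⟨(K ⊔ zpowers w) ⊔ S.1, fun hc => ?_, le_sup_left.trans le_sup_left,
    (le_sup_right : S.1 ≤ _) hS, hT S ▸ card_dvd le_sup_right⟩
  have g1 := m3 (K ⊔ zpowers w) S.1 (zpowers w) le_sup_right (zpowers_le.2 hS)
  have g2 := m1 ⊤
  have g3 := hf K _ (zpowers_le.2 h1) h2
  have g4 := m1 (zpowers w)
  have g5 := m1 S.1
  rw [s4 w hw, e6, card_zpowers', hw, f5] at g4
  rw [s8 S w hS hw, e4, hT, f6] at g5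
  rw [sum_irr_eq_zero hχ, eq_comm, mul_eq_zero, Nat.cast_eq_zero, Nat.cast_eq_zero,
    or_iff_right (card_ne_zero _)] at g2
  have g6 : m (zpowers w) = 2 := by
    exact_mod_cast (by push_cast at g4; linear_combination -g4 / 4 : (m (zpowers w) : ℂ) = 2)
  have g7 : m S.1 = 2 := by
    exact_mod_cast (by push_cast at g5; linear_combination -g5 / 8 : (m S.1 : ℂ) = 2)
  rw [hc, g2, g6, g7] at g1
  rw [card_zpowers', hw, g6, show m (K ⊔ zpowers w) = 0 by omega] at g3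
  have g8 : ♯K * (2 + m K) = 0 := by
    exact_mod_cast (by push_cast at g3; linear_combination g3 : (♯K * (2 + m K) : ℂ) = 0)
  have := card_pos K
  simp at g8
  omega

theorem A7_of_le [IsSimpleGroup G] (h : Nat.card G = 2520) {P H : Subgroup G} (hP : ♯P = 9)
    (hN : ♯N[P] = 36) (hH : H ≠ ⊤) (h1 : N[P] ≤ H) (h2 : 8 ∣ ♯H) :
    Nonempty (G ≃* alternatingGroup (Fin 7)) := by
  have hG := not_comm_of_not_prime (G := G) (by rw [h]; norm_num)
  have h3 := H.card_mul_index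
  have h4 := card_dvd h1
  have h5 := two_mul_card_dvd_factorial hG H hH
  have h6 := one_lt_index_of_ne_top hH
  rw [hN] at h4
  obtain ⟨k, hk⟩ : 72 ∣ ♯H := by omega
  rw [h, hk] at h3
  have h7 : H.index ∣ 35 := ⟨k, by nlinarith⟩
  have h8 : H.index ∈ Nat.divisors 35 := Nat.mem_divisors.2 ⟨h7, by norm_num⟩
  rw [show Nat.divisors 35 = {1, 5, 7, 35} by decide] at h8
  simp only [Finset.mem_insert, Finset.mem_singleton] at h8
  rcases h8 with e | e | e | e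
  · omega
  · rw [e, h] at h5
    norm_num [Nat.factorial] at h5
  · obtain ⟨f, hf⟩ := e ▸ exists_injective_alternating hG H hH
    refine ⟨.ofBijective f ((Nat.bijective_iff_injective_and_card f).2 ⟨hf, ?_⟩)⟩
    rw [h, nat_card_alternatingGroup]
    simp [Nat.factorial]
  · have h9 := card_mul_relIndex h1
    rw [e] at h3
    have h10 : N[P].relIndex H = 2 := by rw [hN, hk] at h9; omega
    have h11 : H ≤ N[N[P]] := (nml_of_normal h1 (normal_of_index_eq_two h10)).norm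
    have h12 : Syl 3 N[P] P := Syl.mk' Nat.prime_three le_normalizer
      (isPi_of_card (n := 2) Nat.prime_three hP) fun hc => by
        have := card_mul_relIndex (le_normalizer : P ≤ N[P])
        rw [hP, hN] at this
        omega
    have := card_le_of_le (h11.trans (h12.norm_le_norm_of_nml le_rfl))
    omega

theorem equiv_A7_of_card [IsSimpleGroup G] (h : Nat.card G = 2520) :
    Nonempty (G ≃* alternatingGroup (Fin 7)) := by
  have hG := not_comm_of_not_prime (G := G) (by rw [h]; norm_num)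
  obtain ⟨v1, v2, v3, v4⟩ := values2520 h
  have p3 := Nat.prime_three
  have hP : ∀ P : Sylow 3 G, ♯P.1 = 9 := card_sylow_of_mul (k := 2) (m := 280) h (by norm_num)
  have hA : ∀ P : Sylow 3 G, Abl P.1 := fun P =>
    IsPGroup.isMulCommutative_of_card_eq_prime_sq (p := 3) (hP P)
  have hN : ∀ P : Sylow 3 G, ♯N[P.1] = 36 := fun P => by
    obtain ⟨h1, h2⟩ := v1 _ (hP P)
    have h3 := card_sylow_mul_card_normalizer P
    have h4 := card_sylow_modEq_one 3 G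
    have h5 := card_dvd (le_normalizer : P.1 ≤ N[P.1])
    have h6 : ♯N[P.1] ≠ 9 := fun hc => not_normalizer_le_centralizer hG (by rw [h]; norm_num) P
      ((eq_of_card_eq le_normalizer ((hP P).trans hc.symm)).ge.trans (hA P).le_C)
    have h7 : ♯N[P.1] ∣ 72 := by
      refine Nat.Coprime.dvd_of_dvd_mul_left (m := 5) ?_ (Nat.Coprime.dvd_of_dvd_mul_left (m := 7) ?_
        (by simpa [h] using card_subgroup_dvd_card N[P.1]))
      · exact ((Nat.Prime.coprime_iff_not_dvd (by norm_num)).2 h1).symm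
      · exact ((Nat.Prime.coprime_iff_not_dvd (by norm_num)).2 h2).symm
    rw [hP] at h5
    change _ * ♯N[P.1] = _ at h3
    obtain ⟨k, hk⟩ := h5
    rw [hk] at h7 h6 h3 ⊢
    have h8 : k ∣ 8 := Nat.dvd_of_mul_dvd_mul_left (by norm_num) h7
    have h9 := Nat.le_of_dvd (by norm_num) h8
    unfold Nat.ModEq at h4
    interval_cases k <;> omega
  have hQ : ∀ (P : Sylow 3 G) Q, Syl 2 N[P.1] Q → ♯Q = 4 ∧ Abl Q ∧ P.1 ⊔ Q = N[P.1] :=
    fun P Q hQ => by
    have h1 : ♯Q = 4 := by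
      obtain ⟨S, rfl⟩ := hQ.exists_sylow Nat.prime_two
      rw [card_map_of_injective (subtype_injective _)]
      exact card_sylow_of_mul (k := 2) (m := 9) (hN P) (by norm_num) S
    refine ⟨h1, IsPGroup.isMulCommutative_of_card_eq_prime_sq (p := 2) h1,
      eq_of_card_eq (sup_le le_normalizer hQ.le) ?_⟩
    rw [card_sup_of_inf hQ.le (inf_eq_bot_of_cop (by rw [hP, h1]; norm_num)), hP, h1, hN]
  by_cases hc : ∃ s : G, orderOf s = 2 ∧ 9 ∣ ♯C{s}
  · obtain ⟨s, hs, h1⟩ := hc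
    obtain ⟨R, hR⟩ := Sylow_exists p3 C{s}
    obtain ⟨P, hRP⟩ := (hR.pi.isPGroup p3).exists_le_sylow
    have h2 : P.1 ≤ C{s} := (eq_of_card_ge hRP (Nat.le_of_dvd (card_pos _) (hP P ▸ hR.dvd_card
      (piNat_self_pow p3 2) h1))).ge.trans hR.le
    have h3 : zpowers s ≤ N[P.1] := norm_of_cent (zpowers_le.2 (mem_C_iff_le_C1.2 h2))
    obtain ⟨Q, h4, h5⟩ := Sylow_superset Nat.prime_two (isPi_of_card (n := 1) Nat.prime_two
      ((card_zpowers' s).trans hs)) h3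
    obtain ⟨-, h6, h7⟩ := hQ P Q h4
    refine A7_of_le h (hP P) (hN P) (fun e => ?_) (h7 ▸ sup_le h2 (mem_C_iff_le_C1.1
      (h6.le_C (h5 (mem_zpowers s))))) (v2 s hs)
    have hz : s ∈ center G := mem_center_iff.2 fun g => mem_C1.1 (e ▸ mem_top g : g ∈ C{s})
    rcases IsSimpleGroup.eq_bot_or_eq_top_of_normal (center G) inferInstance with e | e
    · rw [e, mem_bot] at hz
      simp [hz] at hs
    · exact hG ⟨⟨fun a b => mem_center_iff.1 (e ▸ mem_top b) a⟩⟩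
  push Not at hc
  obtain ⟨P⟩ : Nonempty (Sylow 3 G) := inferInstance
  obtain ⟨Q, h1⟩ := Sylow_exists Nat.prime_two N[P.1]
  obtain ⟨h2, h3, h4⟩ := hQ P Q h1
  have h5 : ∀ s, orderOf s = 2 → P.1 ⊓ C{s} ≠ ⊥ → ♯(P.1 ⊓ C{s}) = 3 := fun s hs h5 => by
    have h6 := card_dvd (inf_le_left : P.1 ⊓ C{s} ≤ P.1)
    have h7 := card_dvd (inf_le_right : P.1 ⊓ C{s} ≤ C{s})
    rw [hP, show 9 = 3 ^ 2 by rfl, Nat.dvd_prime_pow p3] at h6
    obtain ⟨i, hi, e⟩ := h6
    rw [e] at h7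
    interval_cases i
    · exact absurd (eq_bot_of_card_eq _ e) h5
    · exact e
    · exact absurd h7 (hc s hs)
  have h6 : ∀ s, orderOf s = 2 → ¬ P.1 ≤ C{s} := fun s hs h6 => hc s hs (hP P ▸ card_dvd h6)
  by_cases h7 : Cyc Q
  · obtain ⟨w, hw, rfl⟩ := h7.exists_gen
    rw [card_zpowers'] at h2
    have h8 := orderOf_sq_four h2
    have h9 : zpowers (w ^ 2) ≤ zpowers w := zpowers_le.2 (npow_mem_zpowers w 2)
    have h10 : P.1 ⊓ C{w ^ 2} = ⊥ := by
      by_contra h10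
      have h11 := H26.coprime_abelian_cent_dprod (h9.trans h1.le)
        (by rw [hP, card_zpowers', h8]; norm_num) (hA P)
      have h12 := h11.card
      rw [C_zpowers, hP, h5 _ h8 h10] at h12
      have h13 := sq_mem_C_of_three (R := ⁅P.1, zpowers (w ^ 2)⁆) (g := w) (by omega)
        (norm_comm h1.le (norm_of_cent ((cyc_zpowers w).abl.cents le_rfl h9)) hw)
      exact h6 _ h8 (h11.sup ▸ sup_le (mem_C_iff_le_C1.1 h13) (C_zpowers (w ^ 2) ▸ inf_le_right))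
    obtain ⟨H, h11, h12, h13, h14⟩ := v4 P.1 w h2 (h1.le hw) fun g hg hg1 => by
      refine eq_bot_of_le h10 (inf_le_inf_left _ ?_)
      rcases mem_four h2 hg with rfl | rfl | rfl | rfl
      · exact absurd rfl hg1
      · exact C1_le_C1_of_mem_zpowers (npow_mem_zpowers _ 2)
      · exact le_rfl
      · exact C1_le_C1_of_mem_zpowers (pow_mem (zpowers_inv (g := w) ▸ mem_zpowers w) 2)
    exact A7_of_le h (hP P) (hN P) h11 (h4 ▸ sup_le h12 (zpowers_le.2 h13)) h14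
  have h8 : ∀ a ∈ Q, a ≠ 1 → orderOf a = 2 := fun a ha h8 => by
    have h9 := orderOf_dvd_card' ha
    rw [h2, show 4 = 2 ^ 2 by rfl, Nat.dvd_prime_pow Nat.prime_two] at h9
    obtain ⟨i, hi, e⟩ := h9
    interval_cases i
    · exact absurd (orderOf_eq_one_iff.1 e) h8
    · exact e
    · exact absurd (eq_of_card_eq (zpowers_le.2 ha) (by rw [card_zpowers', e, h2]; rfl) ▸
        cyc_zpowers a) h7
  have h9 := fun L => H26.coprime_abelian_gen_cent1 (L := L) h3 h7 h1.le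
    (by rw [hP, h2]; norm_num)
  obtain ⟨b, hb, h10, h11⟩ : ∃ b ∈ Q, b ≠ 1 ∧ P.1 ⊓ C{b} ≠ ⊥ := by
    by_contra h10
    push Not at h10
    have := card_le_of_le (h9 ⊥ fun a ha h => (h10 a ha h).le)
    simp [hP] at this
  have h12 := h8 b hb h10
  refine absurd ((h9 (P.1 ⊓ C{b}) fun a ha h13 y hy => ?_).trans inf_le_right) (h6 b h12)
  obtain ⟨g, rfl⟩ := isConj_iff.1 (v3 a b (h8 a ha h13) h12)
  have h14 : Syl 3 C{g * a * g⁻¹} (P.1 ⊓ C{g * a * g⁻¹}) := Syl.mk' p3 inf_le_right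
    (isPi_of_card (n := 1) p3 (h5 _ h12 h11)) fun ⟨k, hk⟩ => hc _ h12 ⟨k, by
      rw [← card_mul_relIndex (inf_le_right : P.1 ⊓ C{g * a * g⁻¹} ≤ _), h5 _ h12 h11, hk]; ring⟩
  obtain ⟨c, -, h15⟩ := Sylow_Jsub p3 h14 (Q := cj g (zpowers y))
    (((isPi_of_isPGroup p3 P.2).of_le (zpowers_le.2 hy.1)).cj g)
    (cj_C1 g a ▸ cj_mono g (zpowers_le.2 hy.2))
  have h16 := h15 (conj_mem_cj c (conj_mem_cj g (mem_zpowers y)))
  rw [show c * (g * y * g⁻¹) * c⁻¹ = c * g * y * (c * g)⁻¹ by group] at h16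
  obtain ⟨n, hn, e⟩ := H3.abelian_sylow_controls P (hA P) y hy.1 _ h16.1
  have h17 : N[P.1] ≤ N[P.1 ⊓ C{g * a * g⁻¹}] := h4 ▸ sup_le
    (norm_of_cent ((hA P).cents le_rfl inf_le_left))
    (norm_inf h1.le (norm_C1 (mem_C_iff_le_C1.1 (h3.le_C hb))))
  exact (mem_normalizer_iff.1 (h17 hn) y).2 (e ▸ h16)

end H18
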