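import Mathlib
import Cfsg.Agent.H17.Klein

/-! Blocks containing a linear character: twisting and separation. -/

set_option autoImplicit false
set_option linter.unusedSectionVars false

open Cfsg H4 H17 Subgroup
open scoped ComplexConjugate

namespace H18

section Tw

variable {G H : Type*} [Group G] [Finite G] [Group H] [Finite H] {M : Ideal AlgInt} [M.IsMaximal]

/-- `χ` twisted by a linear character. -/
def tw (μ : G →* ℂ) (χ : Irr G) : Irr G :=
  ⟨μ * χ.1, H5.isIrr_linear_mul (isIrrCharacter_monoidHom μ).isCharacter (map_one μ) χ.2⟩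

theorem tw_apply (μ : G →* ℂ) (χ : Irr G) (g : G) : (tw μ χ).1 g = μ g * χ.1 g := rfl

/-- A linear character as an irreducible character. -/
def lin (μ : G →* ℂ) : Irr G := tw μ (irrOne G)

theorem lin_apply (μ : G →* ℂ) (g : G) : (lin μ).1 g = μ g := mul_one _

/-- The inverse of a linear character. -/
noncomputable def linv (μ : G →* ℂ) : G →* ℂ where
  toFun g := μ g⁻¹
  map_one' := by simp
  map_mul' a b := by rw [mul_inv_rev, map_mul, mul_comm]

theorem mul_linv (μ : G →* ℂ) (g : G) : μ g * linv μ g = 1 := by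
  rw [← map_one μ, ← mul_inv_cancel g, map_mul]; rfl

theorem tw_linv (μ : G →* ℂ) (χ : Irr G) : tw μ (tw (linv μ) χ) = χ :=
  Subtype.ext (funext fun g => by rw [tw_apply, tw_apply, ← mul_assoc, mul_linv, one_mul])

theorem linv_lin (μ : G →* ℂ) : tw (linv μ) (lin μ) = irrOne G :=
  Subtype.ext (funext fun g => by rw [tw_apply, lin_apply, mul_comm, mul_linv]; rfl)

theorem hom_conj (μ : G →* ℂ) {a b : G} (h : IsConj a b) : μ a = μ b :=
  (isIrrCharacter_monoidHom μ).classFun.apply_of_isConj h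

theorem cls_tw (μ : G →* ℂ) (χ : Irr G) (g : G) : cls g (tw μ χ) = μ g * cls g χ := by
  simp only [cls_apply, centralChar, tw_apply, map_one, one_mul]
  ring

theorem SB_tw (μ : G →* ℂ) {χ ψ : Irr G} (h : SB M χ ψ) : SB M (tw μ χ) (tw μ ψ) :=
  SB_iff_cls.2 fun g => by
    rw [cls_tw, cls_tw, ← mul_sub, ← lin_apply]
    exact Pm_mul_left (irr_mem_S _ g) (SB_iff_cls.1 h g)

theorem indRel_tw (μ : G →* ℂ) {φ : H →* G} {ξ : Irr H} {χ : Irr G} (h : IndRel M φ ξ χ) :
    IndRel M φ (tw (μ.comp φ) ξ) (tw μ χ) := indRel_iff_cls.2 fun g => by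
  classical
  have := Fintype.ofFinite H
  have h1 : res φ (cls g) (tw (μ.comp φ) ξ) = μ g * res φ (cls g) ξ := by
    simp only [res_apply, hat_apply, co_cls, tw_apply, map_one, one_mul, Finset.mul_sum,
      ← mul_div_assoc]
    refine congrArg (· / _) (Finset.sum_congr rfl fun k _ => ?_)
    split_ifs with hk
    · rw [hom_conj μ hk, one_mul, one_mul]; rfl
    · simp
  rw [h1, cls_tw, ← mul_sub, ← lin_apply]
  exact Pm_mul_left (irr_mem_S _ g) (indRel_iff_cls.1 h g)

end Tw

variable {G : Type*} [Group G] [Finite G] {p : ℕ} [hp : Fact p.Prime] {M : Ideal AlgInt} [PM p M]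

theorem indRel_lin {H : Type*} [Group H] [Finite H] {φ : H →* G} (hφ : Function.Injective φ)
    (hall : ∀ ξ : Irr H, ∃ χ, IndRel M φ ξ χ) (μ : G →* ℂ) :
    IndRel M φ (lin (μ.comp φ)) (lin μ) := by
  obtain ⟨χ, h⟩ := hall (irrOne H)
  exact indRel_tw μ (h.congr (SB.refl _) ((h.third hφ).2 (SB.refl _)).symm)

theorem SB_lin_mul {μ : G →* ℂ} {ξ : Irr G} (h : SB M (lin μ) ξ) {u : G}
    (hu : u ∈ pPrimeCore p G) (g : G) : ξ.1 (g * u) = μ u * ξ.1 g := by
  have h1 := SB.pPrimeCore_mul (linv_lin μ ▸ SB_tw (linv μ) h) hu g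
  rw [tw_apply, tw_apply, map_mul] at h1
  linear_combination μ u * μ g * h1 + (μ u * ξ.1 g - ξ.1 (g * u)) * mul_linv μ g -
    μ g * linv μ g * ξ.1 (g * u) * mul_linv μ u

theorem SB_lin_of_inner [Fintype G] (hC : HasNormalPComplement p G) {μ : G →* ℂ} {ξ : Irr G}
    {F : G → ℂ} (hF : ∀ u ∈ pPrimeCore p G, ∀ g, F (u * g) = μ u * F g)
    (h : classInner F ξ.1 ≠ 0) : SB M (lin μ) ξ := by
  have := Fintype.ofFinite (pPrimeCore p G)
  refine tw_linv μ ξ ▸ SB_tw μ (sb_of_ker (fun _ => mem_pPrimeCore_of_npc hC)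
    ((over_one_iff (pPrimeCore p G)).1 (over_iff.2 fun h2 => h ?_)))
  simp only [classInner_def, mul_eq_zero, inv_eq_zero, or_iff_right (card_ne_zero _), irrOne_apply,
    map_one, mul_one] at h2 ⊢
  have h1 : ∀ g, ∑ u : pPrimeCore p G, linv μ u * ξ.1 (u * g) = 0 := fun g => by
    have h1 := (tw (linv μ) ξ).2.sum_classFun_mul (f := extendByZero (pPrimeCore p G) fun _ => 1)
      (fun a b => by classical simp only [H5.ext0_apply, conj_mem_iff_of_normal]) g
    rw [H5.sum_ext0_mul, H5.sum_ext0_mul] at h1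
    simp only [one_mul] at h1
    rw [h2, zero_div, zero_mul] at h1
    rw [← mul_zero (μ g), ← h1, Finset.mul_sum]
    refine Finset.sum_congr rfl fun u _ => ?_
    rw [tw_apply, map_mul]
    linear_combination -linv μ u * ξ.1 (u * g) * mul_linv μ g
  refine mul_left_cancel₀ (card_ne_zero (pPrimeCore p G)) ?_
  calc _ = ∑ u : pPrimeCore p G, ∑ g, F (u * g) * conj (ξ.1 (u * g)) := by
        rw [Nat.card_eq_fintype_card, ← nsmul_eq_mul, ← Finset.card_univ, ← Finset.sum_const]
        exact Finset.sum_congr rfl fun u _ => (Equiv.sum_comp (Equiv.mulLeft (u : G))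
          fun g => F g * conj (ξ.1 g)).symm
    _ = ∑ g, F g * conj (∑ u : pPrimeCore p G, linv μ u * ξ.1 (u * g)) := by
        rw [Finset.sum_comm]
        refine Finset.sum_congr rfl fun g _ => ?_
        rw [map_sum, Finset.mul_sum]
        refine Finset.sum_congr rfl fun u _ => ?_
        rw [hF u u.2, map_mul, show linv μ u = conj (μ u) from
          (isIrrCharacter_monoidHom μ).apply_inv u, Complex.conj_conj]
        ring
    _ = _ := by simp [h1]

/-- A block of `H` inducing the same block as a linear character has maximal defect. -/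
theorem exists_DG_sylow (P : Sylow p G) {H Q : Subgroup G} (hPH : P.1 ≤ H) (h0 : Q ≤ P.1)
    (hN : normalizer (Q : Set G) = H) (hc : Nat.card P.1 = p * Nat.card Q) {μ : H →* ℂ} {ξ : Irr H}
    {χ : Irr G} (h1 : IndRel M H.subtype (lin μ) χ) (h2 : IndRel M H.subtype ξ χ) :
    DG p M ξ (P.1.subgroupOf H) := by
  obtain ⟨D, hD⟩ := exists_DG p M ξ
  obtain ⟨D', hD'⟩ := exists_DG p M (lin μ)
  have hQH := h0.trans hPH
  have : (Q.subgroupOf H).Normal := (normal_subgroupOf_iff_le_normalizer hQH).2 hN.ge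
  have h3 := hD.normal_le (N := Q.subgroupOf H)
    ((P.2.to_le h0).comap_of_injective _ H.subtype_injective)
  have hm := map_subgroupOf_eq_of_le hQH
  have hQ := Nat.card_congr (subgroupOfEquivOfLe hQH).toEquiv
  have hP := Nat.card_congr (subgroupOfEquivOfLe hPH).toEquiv
  have h4 : D ≠ Q.subgroupOf H := by
    rintro rfl
    have h4 := h1.card_le H.subtype_injective hD' (h2.dg_map H.subtype_injective hD
      (by rw [hm, hN, range_subtype]))
    have h5 := hD'.fact_index_le
    rw [show deg (lin μ) = 1 from Nat.cast_injective (R := ℂ) (by rw [deg_eq, lin_apply]; simp),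
      Nat.factorization_one, Finsupp.zero_apply, Nat.le_zero, Nat.factorization_eq_zero_iff,
      or_iff_right (not_not.2 hp.out), or_iff_left index_ne_zero_of_finite] at h5
    have h6 := ((hD'.isPGroup.toSylow h5).equiv (P.subtype hPH)).toEquiv |> Nat.card_congr
    change Nat.card D' = Nat.card (P.1.subgroupOf H) at h6
    rw [hm, h6, hP, hc] at h4
    have := hp.out.two_le
    nlinarith [Nat.card_pos (α := Q)]
  obtain ⟨T, hT⟩ := hD.isPGroup.exists_le_sylow
  have h5 := Nat.card_congr (T.equiv (P.subtype hPH)).toEquiv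
  change _ = Nat.card (P.1.subgroupOf H) at h5
  obtain ⟨k, hk⟩ := card_dvd_of_le h3
  have h6 := card_dvd_of_le hT
  rw [h5, hP, hc, hk, hQ, mul_comm p] at h6
  rcases (Nat.dvd_prime hp.out).1 (Nat.dvd_of_mul_dvd_mul_left Nat.card_pos h6) with rfl | rfl
  · exact absurd (eq_of_le_of_card_ge h3 (by rw [hk, mul_one])).symm h4
  obtain ⟨g, hg⟩ := MulAction.exists_smul_eq H (P.subtype hPH) T
  obtain rfl : D = T.1 := eq_of_le_of_card_ge hT (by rw [h5, hP, hc, hk, hQ, mul_comm])
  exact hD.of_card_eq (t := g) (hg ▸ le_rfl) h5.le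

/-- Separation of the blocks of maximal defect of `H` containing linear characters. -/
theorem sep_lin (P : Sylow p G) {H W : Subgroup G} (hPW : P.1 ≤ W) (hWH : W ≤ H)
    (hC : centralizer (P.1 : Set G) ≤ W) (hW : W ≤ normalizer (P.1 : Set G))
    (hW' : normalizer (P.1 : Set G) ≤ normalizer (W : Set G)) {μ : H →* ℂ} {ξ : Irr H}
    {χ : Irr G} (h1 : IndRel M H.subtype (lin μ) χ) (h2 : IndRel M H.subtype ξ χ)
    (hD : DG p M ξ (P.1.subgroupOf H)) {A : (H →* ℂ) → Prop}
    (hA : ∀ g ∈ normalizer (P.1 : Set G), ∃ μ', A μ' ∧ ∀ w : H, w.1 ∈ W → ∀ w' : H,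
      w'.1 = g * w * g⁻¹ → μ' w = μ w') : ∃ μ', A μ' ∧ SB M (lin μ') ξ := by
  set N := normalizer (P.1 : Set G)
  let W' := W.subgroupOf N
  have : W'.Normal := (normal_subgroupOf_iff_le_normalizer hW).2 hW'
  let ι : W' →* H := (N.subtype.comp W'.subtype).codRestrict H fun w => hWH w.2
  have hι : Function.Injective ι := fun a b e =>
    Subtype.ext (Subtype.ext (congrArg (Subtype.val : H → G) e))
  have : (P.1.subgroupOf N).Normal := normal_in_normalizer
  have hP : IsPGroup p (P.1.subgroupOf N) := P.2.comap_of_injective _ N.subtype_injective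
  let Q : Subgroup W' := (P.1.subgroupOf N).comap W'.subtype
  have hQ : IsPGroup p Q := hP.comap_of_injective _ W'.subtype_injective
  have e1 : Q.map ι = P.1.subgroupOf H := le_antisymm (by rintro _ ⟨w, hw, rfl⟩; exact hw)
    fun s hs => ⟨⟨⟨s, hW (hPW hs)⟩, hPW hs⟩, hs, rfl⟩
  have c1 : centralizer (Q.map ι : Set H) ≤ ι.range := fun c hc => by
    have : c.1 ∈ W := hC fun s hs => congrArg Subtype.val (hc ⟨s, hWH (hPW hs)⟩ (e1.ge hs))
    exact ⟨⟨⟨c, hW this⟩, this⟩, rfl⟩
  have c2 : centralizer (Q.map W'.subtype : Set N) ≤ W'.subtype.range := fun c hc =>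
    ⟨⟨c, hC fun s hs => congrArg Subtype.val
      (hc ⟨s, hW (hPW hs)⟩ ⟨⟨⟨s, hW (hPW hs)⟩, hPW hs⟩, hs, rfl⟩)⟩, rfl⟩
  have l1 := indRel_lin hι (exists_indRel M hι hQ c1)
  obtain ⟨ξ', h3⟩ := exists_indRel_of_le hι hQ c1 hD e1.le
  obtain ⟨ξ'', h4⟩ := exists_indRel M W'.subtype_injective hQ c2 ξ'
  obtain ⟨μ'', h5⟩ := exists_indRel M W'.subtype_injective hQ c2 (lin (μ.comp ι))
  have hDG : ∀ ζ : Irr N, DG p M ζ (P.1.subgroupOf N) := fun ζ => by
    obtain ⟨D, hD⟩ := exists_DG p M ζ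
    have h := hD.normal_le hP
    rwa [show D = P.1.subgroupOf N from (P.subtype le_normalizer).3 hD.isPGroup h] at hD
  have e : H.subtype.comp ι = N.subtype.comp W'.subtype := MonoidHom.ext fun _ => rfl
  have h6 := (h4.of_comp (e ▸ h3.trans h2)).sb_of_dg N.subtype_injective
    (h5.of_comp (e ▸ (l1 μ).trans h1)) (hDG _) (hDG _)
    (by rw [map_subgroupOf_normalizer, range_subtype])
  obtain ⟨g, hg⟩ := (h5.cov.congr h6.symm (SB.refl _)).exists_cjI h4.cov
  obtain ⟨μ', h7, h8⟩ := hA g g.2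
  refine ⟨μ', h7, ((l1 μ').congr ?_ (SB.refl _)).unique h3⟩
  rwa [show lin (μ'.comp ι) = cjI W' g (lin (μ.comp ι)) from Subtype.ext (funext fun w => by
    rw [cjI_apply, lin_apply, lin_apply]; exact h8 (ι w) w.2 _ rfl)]

end H18
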