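import Mathlib
import Cfsg.Agent.H18.DelA
import Cfsg.Agent.H5.DCH

/-! Twisted induction for groups with dihedral Sylow 2-subgroups. -/

set_option autoImplicit false
set_option linter.unusedSectionVars false

open Cfsg H4 H5 H17 Subgroup
open scoped ComplexConjugate

namespace H18

section SI

variable {G : Type*} [Group G] [Fintype G]

theorem orth_of_inner {R X A : G → ℂ} (hX : SIrr X) (hA : SIrr A) (h1 : classInner R X ≠ 0)
    (h2 : classInner R A = 0) : classInner X A = 0 := by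
  by_contra h
  rcases hX.eq_or_eq_neg hA h with rfl | rfl
  · exact h1 h2
  · exact h1 (by rw [classInner_neg_right, h2, neg_zero])

theorem inner_cases4 {X η : G → ℂ} (hX : SIrr X) (hη : IsGeneralizedCharacter G η)
    (h : classInner η η = 4) (h1 : η 1 = 0) :
    classInner η X = 0 ∨ classInner η X = 1 ∨ classInner η X = -1 := by
  obtain ⟨m, hm⟩ := hη.inner_int hX.1
  obtain ⟨k, hk⟩ := (hη.sub (hX.1.intCast_smul m)).inner_self_nat
  have h2 := hk
  rw [classInner_sub_left, classInner_sub_right, classInner_sub_right, classInner_smul_left,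
    classInner_smul_left, classInner_smul_right, classInner_smul_right, hX.inner_comm hη, hm, hX.2, h,
    map_intCast] at h2
  have h3 : 4 - m * m = k := by exact_mod_cast (by linear_combination h2 : (4 - m * m : ℂ) = k)
  have h4 : k ≠ 0 := by
    rintro rfl
    have h4 := congrFun (sub_eq_zero.1 (classInner_self_eq_zero.1 (hk.trans Nat.cast_zero))) 1
    rw [h1, Pi.smul_apply, smul_eq_mul, eq_comm, mul_eq_zero, or_iff_left hX.apply_one_ne_zero,
      Int.cast_eq_zero] at h4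
    simp [h4] at h3
  have h5 : m = 0 ∨ m = 1 ∨ m = -1 := by
    have : m * m < 4 := by omega
    have : -2 < m := by nlinarith
    have : m < 2 := by nlinarith
    omega
  rcases h5 with rfl | rfl | rfl <;> simp [hm]

theorem split3 {η : G → ℂ} (hη : IsGeneralizedCharacter G η) (h : classInner η η = 3) :
    ∃ A B C, SIrr A ∧ SIrr B ∧ SIrr C ∧ η = A + B + C ∧ (classInner η A = 1 ∧ classInner η B = 1 ∧
      classInner η C = 1) ∧ classInner B A = 0 ∧ classInner C A = 0 ∧ classInner C B = 0 := by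
  obtain ⟨A, hA, h1⟩ := exists_sirr_inner_eq_one hη (n := 2) le_rfl (by simpa using h)
  have h2 : classInner (η - A) (η - A) = 2 := by rw [hA.norm_sub hη h1, h]; ring
  obtain ⟨B, hB, h3⟩ := exists_sirr_inner_eq_one (hη.sub hA.1) (n := 1) (by norm_num)
    (by simpa using h2)
  have h5 := orth_of_inner hB hA (h3.trans_ne one_ne_zero) (hA.inner_sub h1)
  have h4 : classInner η B = 1 := by
    rwa [classInner_sub_left, classInner_comm_of_eq_zero h5, sub_zero] at h3
  refine ⟨A, B, _, hA, hB, sirr_sub_of_norm_two hB (hη.sub hA.1) h2 h3, by simp, ⟨h1, h4, ?_⟩, h5,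
    by rw [classInner_sub_left, hA.inner_sub h1, h5, sub_zero], hB.inner_sub h3⟩
  rw [classInner_sub_right, classInner_sub_right, h, h1, h4]
  ring

theorem split4 {η : G → ℂ} (hη : IsGeneralizedCharacter G η) (h : classInner η η = 4)
    (h1 : η 1 = 0) : ∃ Y : Fin 4 → G → ℂ, (∀ j, SIrr (Y j)) ∧ η = ∑ j, Y j ∧
      (∀ j, classInner η (Y j) = 1) ∧ ∀ i j, classInner (Y i) (Y j) = if i = j then 1 else 0 := by
  obtain ⟨χ, hχ, h2⟩ := hη.classFun.exists_irr_inner_ne_zero (by
    rintro rfl; rw [classInner_zero_left] at h; norm_num at h)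
  obtain ⟨A, hA, h3⟩ : ∃ A, SIrr A ∧ classInner η A = 1 := by
    rcases inner_cases4 (sirr_of_irr hχ) hη h h1 with e | e | e
    · exact absurd e h2
    · exact ⟨χ, sirr_of_irr hχ, e⟩
    · exact ⟨-χ, (sirr_of_irr hχ).neg, by rw [classInner_neg_right, e, neg_neg]⟩
  obtain ⟨B, C, D, hB, hC, hD, e, ⟨b, c, d⟩, h4, h5, h6⟩ :=
    split3 (hη.sub hA.1) (by rw [hA.norm_sub hη h3, h]; ring)
  have b' := orth_of_inner hB hA (b.trans_ne one_ne_zero) (hA.inner_sub h3)
  have c' := orth_of_inner hC hA (c.trans_ne one_ne_zero) (hA.inner_sub h3)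
  have d' := orth_of_inner hD hA (d.trans_ne one_ne_zero) (hA.inner_sub h3)
  have h7 : ∀ i j : Fin 4, classInner (![A, B, C, D] i) (![A, B, C, D] j) =
      if i = j then 1 else 0 := fun i j => by
    fin_cases i <;> fin_cases j <;> simp [hA.2, hB.2, hC.2, hD.2, *,
      classInner_comm_of_eq_zero b', classInner_comm_of_eq_zero c', classInner_comm_of_eq_zero d',
      classInner_comm_of_eq_zero h4, classInner_comm_of_eq_zero h5, classInner_comm_of_eq_zero h6]
  have h8 : η = ∑ j, ![A, B, C, D] j := by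
    simp [Fin.sum_univ_four, sub_eq_iff_eq_add'.1 e, add_assoc]
  exact ⟨_, fun j => by fin_cases j <;> assumption, h8, fun j => by
    rw [h8, classInner_sum_left]; simp [h7], h7⟩

theorem eq_comb4 {η : G → ℂ} (hη : IsGeneralizedCharacter G η) (h : classInner η η = 4)
    {Y : Fin 4 → G → ℂ} (hY : ∀ j, SIrr (Y j))
    (h1 : ∀ i j, classInner (Y i) (Y j) = if i = j then 1 else 0) {p : Fin 4 → ℤ}
    (h2 : ∀ j, classInner η (Y j) = p j) (h3 : ∀ j, p j = 1 ∨ p j = -1) :
    η = ∑ j, (p j : ℂ) • Y j := by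
  have h4 : ∀ j, (p j : ℂ) * p j = 1 := fun j => by rcases h3 j with e | e <;> simp [e]
  rw [← sub_eq_zero, ← classInner_self_eq_zero]
  simp only [classInner_sub_left, classInner_sub_right, classInner_sum_left, classInner_sum_right,
    classInner_smul_left, classInner_smul_right, (hY _).inner_comm hη, h, h1, h2, map_intCast]
  simp [h4]

theorem half_val {δ X : G → ℂ} {t : G} (hδ : IsGeneralizedCharacter G δ) (h : classInner δ δ = 2)
    (h1 : δ 1 = 0) (h2 : classInner δ (gam t t) = 0) (h3 : δ t ≠ 0) (hX : SIrr X)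
    (h4 : classInner δ X ≠ 0) : (2 * X t) ^ 2 = δ t ^ 2 := by
  have key : ∀ X, SIrr X → classInner δ X = 1 → 2 * X t = δ t := fun X hX h4 => by
    have h5 := (sirr_sub_of_norm_two hX hδ h h4).card_mul_inner_gam t
    have h6 := hX.apply_one_ne_zero
    have h7 : ((centralizer ({t} : Set G)).index : ℂ) ≠ 0 :=
      Nat.cast_ne_zero.2 index_ne_zero_of_finite
    rw [classInner_sub_left, h2, mul_sub, hX.card_mul_inner_gam] at h5
    simp only [Pi.sub_apply, h1, zero_sub] at h5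
    field_simp at h5
    exact mul_left_cancel₀ (mul_ne_zero h7 h3) (by linear_combination -h5)
  rcases hX.inner_cases hδ (n := 2) (by norm_num) (by simpa using h) with e | e | e
  · exact absurd e h4
  · rw [key X hX e]
  · rw [← key (-X) hX.neg (by rw [classInner_neg_right, e, neg_neg]), Pi.neg_apply]
    ring

theorem gen_mul_sub_mem {p : ℕ} [Fact p.Prime] {M : Ideal AlgInt} [PM p M] {X : G → ℂ}
    (hX : IsGeneralizedCharacter G X) {x y : G} (hx : PElt p x) (h : Commute x y) :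
    X (x * y) - X y ∈ Pm M := by
  obtain ⟨χ, ψ, hχ, hψ, rfl⟩ := hX
  have := sub_mem (char_mul_sub_mem (M := M) hχ hx h) (char_mul_sub_mem (M := M) hψ hx h)
  convert this using 1
  simp only [Pi.sub_apply]
  ring

end SI

/-- trivial on the `2`-elements -/
def Good {G : Type*} [Group G] {H : Subgroup G} (μ : H →* ℂ) : Prop :=
  ∀ c : H, PElt 2 (c : G) → μ c = 1

/-- block separation -/
def Sep {G : Type*} [Group G] [Finite G] (M : Ideal AlgInt) [M.IsMaximal] {H : Subgroup G}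
    (μ μ₁ μ₂ : H →* ℂ) : Prop := ∀ ξ χ, IndRel M H.subtype (lin μ) χ → IndRel M H.subtype ξ χ →
      SB M (lin μ) ξ ∨ SB M (lin μ₁) ξ ∨ SB M (lin μ₂) ξ

variable {G : Type*} [Group G] [Fintype G] {S : Sylow 2 G} {n : ℕ} {a x t : G} {π : G → G}
  (h : DHyp S n a x t π) [Fintype (zpowers a)] {μ μ' μ₁ μ₂ : centralizer ({t} : Set G) →* ℂ}
  {φ ψ ν ν' : zpowers a → ℂ} {X : G → ℂ}

/-- twisted inflation -/
noncomputable def tf (μ : centralizer ({t} : Set G) →* ℂ) (φ : zpowers a → ℂ) : h.H0 → ℂ :=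
  fun y => μ (inclusion h.H0_le y) * φ (h.rho y)

/-- twisted induction -/
noncomputable def ta (μ : centralizer ({t} : Set G) →* ℂ) (φ : zpowers a → ℂ) : G → ℂ :=
  indFun h.H0 (tf h μ φ)

theorem tf_classFun : IsClassFunction h.H0 (tf h μ φ) :=
  ((isIrrCharacter_monoidHom μ).classFun.comp (inclusion h.H0_le)).mul (h.classFun_rho φ)

theorem ta_classFun : IsClassFunction G (ta h μ φ) := H5.indFun_isClassFunction _ _

theorem ta_gen (hφ : IsGeneralizedCharacter _ φ) : IsGeneralizedCharacter G (ta h μ φ) :=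
  (((isIrrCharacter_monoidHom μ).isGen.comp (inclusion h.H0_le)).mul (hφ.comp h.rho)).indFun

theorem ta_one (h0 : φ 1 = 0) : ta h μ φ 1 = 0 := by
  rw [ta, H5.indFun_one_eq, tf, map_one h.rho, h0, mul_zero, mul_zero]

theorem ta_sub : ta h μ (φ - ψ) = ta h μ φ - ta h μ ψ := by
  rw [ta, ta, ta, ← H5.indFun_sub]
  exact congrArg _ (funext fun y => mul_sub _ _ _)

theorem ta_apply (h0 : φ 1 = 0) (y : h.H0) :
    ta h μ φ y = tf h μ (fun b => φ b + φ b⁻¹) y := by
  have hx := ext0_mem _ (tf h μ φ) (h.conj_mem (inv_mem h.x_C) y.2)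
  rw [tf, h.rho_conj (inv_mem h.x_C) (by rw [inv_mem_iff]; exact h.x_nmem) y,
    ← hom_conj μ (a := inclusion h.H0_le y) (b := inclusion h.H0_le ⟨_, h.conj_mem (inv_mem h.x_C) y.2⟩)
      (isConj_iff.2 ⟨⟨_, inv_mem h.x_C⟩, rfl⟩), inv_inv] at hx
  rw [ta, indFun_apply_two_cosets _ (tf_classFun h) h.x_nmem, ext0_coe, hx, tf, tf, mul_add]
  intro g hg
  have h1 : g⁻¹ * y * g ∈ h.H0 := by
    by_contra h1; exact hg (ext0_not_mem _ _ h1)
  rw [ext0_mem _ _ h1] at hg
  exact h.mem_C_iff.1 (h.ti h1 (fun h2 => hg (by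
    rw [tf, show h.rho ⟨_, h1⟩ = 1 from Subtype.ext h2, h0, mul_zero])) (by simp [mul_assoc]))

open Classical in
theorem inner_ta (h0 : φ 1 = 0) (hX : IsClassFunction G X) {f : h.H0 → ℂ}
    (hf : ∀ y : h.H0, h.rho y ≠ 1 → X y = f y) :
    classInner (ta h μ φ) X = classInner (tf h μ φ) f := by
  rw [ta, H5.classInner_indFun_left _ _ hX]
  simp only [classInner_def]
  refine congrArg _ (Finset.sum_congr rfl fun y _ => ?_)
  by_cases hy : h.rho y = 1
  · rw [tf, hy, h0, mul_zero, zero_mul, zero_mul]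
  · rw [hf y hy]

open Classical in
theorem inner_tf : classInner (tf h μ φ) (tf h μ ψ) = classInner φ ψ := by
  rw [← classInner_comp_surjective h.rho h.rho_surj]
  simp only [classInner_def]
  refine congrArg _ (Finset.sum_congr rfl fun y _ => ?_)
  have := norm_eq_one_of_linear (isIrrCharacter_monoidHom μ).isCharacter (map_one μ)
    (inclusion h.H0_le y)
  rw [tf, tf, map_mul]
  linear_combination φ (h.rho y) * conj (ψ (h.rho y)) * this

include h in
theorem mem_H0_of_odd {u : G} (hu : u ∈ centralizer ({t} : Set G)) (ho : ¬ 2 ∣ orderOf u) :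
    u ∈ h.H0 := h.mem_H0.2 ⟨hu, h.pi_eq_one hu ho ▸ one_mem _⟩

open Classical in
theorem inner_tf_ne (hμ : Good μ) (hμ' : Good μ') (hne : μ ≠ μ') :
    classInner (tf h μ φ) (tf h μ' ψ) = 0 := by
  obtain ⟨c, hc⟩ := DFunLike.ne_iff.1 hne
  have e : ∀ {μ : centralizer ({t} : Set G) →* ℂ}, Good μ → μ (pr 2 c) = μ c := fun hμ => by
    conv_rhs => rw [← pp_mul_pr (p := 2) c, map_mul, hμ (pp 2 c) (pp_coe (p := 2) _ c ▸ pElt_pp _),
      one_mul]
  have ho : ¬ 2 ∣ orderOf ((pr 2 c : centralizer ({t} : Set G)) : G) :=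
    pr_coe (p := 2) _ c ▸ reg_pr _
  let u : h.H0 := ⟨_, mem_H0_of_odd h (pr 2 c).2 ho⟩
  have hu : h.rho u = 1 := Subtype.ext (h.pi_eq_one (pr 2 c).2 ho)
  have h1 := Equiv.sum_comp (Equiv.mulLeft u) fun y => tf h μ φ y * conj (tf h μ' ψ y)
  rw [Finset.sum_congr rfl (g := fun y => μ c * conj (μ' c) * (tf h μ φ y * conj (tf h μ' ψ y)))
    fun y _ => by
      simp only [tf, Equiv.coe_mulLeft, map_mul, hu, one_mul]
      rw [← e hμ, ← e hμ']
      change μ (pr 2 c) * _ * _ * (conj (μ' (pr 2 c)) * _ * _) = _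
      ring, ← Finset.mul_sum] at h1
  rw [classInner_def, (mul_left_eq_self₀.1 h1).resolve_left fun h2 => hc ?_, mul_zero]
  have := norm_eq_one_of_linear (isIrrCharacter_monoidHom μ').isCharacter (map_one μ') c
  linear_combination μ' c * h2 - μ c * this

theorem inner_ta_ta (h0 : φ 1 = 0) (h1 : ψ 1 = 0) :
    classInner (ta h μ φ) (ta h μ ψ) = classInner φ ψ + classInner φ fun b => ψ b⁻¹ := by
  rw [inner_ta h h0 (ta_classFun h) fun y _ => ta_apply h h1 y, inner_tf, ← classInner_add_right]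
  rfl

theorem inner_ta_ne (hμ : Good μ) (hμ' : Good μ') (hne : μ ≠ μ') (h0 : φ 1 = 0) (h1 : ψ 1 = 0) :
    classInner (ta h μ φ) (ta h μ' ψ) = 0 := by
  rw [inner_ta h h0 (ta_classFun h) fun y _ => ta_apply h h1 y, inner_tf_ne h hμ hμ' hne]

theorem inner_ta_one (hμ : Good μ) (hne : μ ≠ 1) (h0 : φ 1 = 0) :
    classInner (ta h μ φ) (fun _ => 1) = 0 := by
  rw [inner_ta h h0 (isClassFunction_const 1) (f := tf h 1 fun _ => 1) fun y _ => by simp [tf],
    inner_tf_ne h hμ (fun _ _ => rfl) hne]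

theorem inner_ta_gam (hc : ∀ u, orderOf u = 2 → IsConj t u) (hμ : Good μ) (h0 : φ 1 = 0) :
    classInner (ta h μ φ) (gam t t) = classInner (h.alpha φ) (gam t t) := by
  classical
  refine mul_left_cancel₀ (card_ne_zero h.H0) ?_
  rw [h.inner_gam hc h0, ta, H5.classInner_indFun_left _ _ (gam_classFun t t), classInner_def,
    mul_inv_cancel_left₀ (card_ne_zero _)]
  simp only [conj_gam]
  rw [← sum_ext0_mul, sum_mul_gam, ← Finset.sum_product', ← Finset.sum_product']
  symm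
  refine Finset.sum_subset_zero_on_sdiff (Finset.product_subset_product (fun u hu => mem_cl.2 (hc u
    (h.mem_invs.1 hu).1)) fun u hu => mem_cl.2 (hc u (h.mem_invs.1 hu).1)) ?_ ?_
  · rintro ⟨u, v⟩ h1
    by_contra h3
    apply (Finset.mem_sdiff.1 h1).2
    replace h1 := (Finset.mem_sdiff.1 h1).1
    simp only [Finset.mem_product, mem_cl, h.mem_invs] at h1 h3 ⊢
    have hu : orderOf u = 2 := (H6.orderOf_of_isConj h1.1).symm.trans h.t_ord
    have hv : orderOf v = 2 := (H6.orderOf_of_isConj h1.2).symm.trans h.t_ord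
    have h4 : u * v ∈ h.H0 := by
      by_contra h4; exact h3 (ext0_not_mem _ _ h4)
    rw [ext0_mem _ _ h4] at h3
    have h5 : π (u * v) ≠ 1 := fun h5 => h3 (by
      rw [tf, show h.rho ⟨_, h4⟩ = 1 from Subtype.ext h5, h0, mul_zero])
    have huC : u ∈ centralizer ({t} : Set G) := h.ti h4 h5 (by
      have := inv_mem h4
      rwa [mul_inv_rev, H6.inv_eq_of_orderOf_two hv, ← one_mul v, ← H6.mul_self_of_orderOf_two hu,
        mul_assoc u u] at this)
    have h6 : u ∉ h.H0 := fun h6 => h5 (by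
      rw [h.uniq h6 hu, h.uniq ((mul_mem_cancel_left h6).1 h4) hv, h.t_sq, h.pi_one])
    exact ⟨⟨hu, huC, h6⟩, hv, (mul_mem_cancel_left huC).1 (h.H0_le h4),
      fun h7 => h6 ((mul_mem_cancel_right h7).1 h4)⟩
  · rintro ⟨u, v⟩ h1
    simp only [Finset.mem_product, h.mem_invs] at h1
    obtain ⟨⟨u1, u2, u3⟩, v1, v2, v3⟩ := h1
    have h4 := h.mul_mem_H0 u2 u3 v2 v3
    rw [ext0_mem _ _ h4, ext0_mem _ _ h4, tf, show inclusion h.H0_le ⟨_, h4⟩ = ⟨u, u2⟩ * ⟨v, v2⟩ from rfl,
      map_mul, hμ _ (PElt.of_two u1), hμ _ (PElt.of_two v1), one_mul, one_mul]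

theorem gam_eq (hc : ∀ u, orderOf u = 2 → IsConj t u) (hμ : Good μ) (hν : IsIrrCharacter _ ν) :
    Nat.card (centralizer ({t} : Set G)) * classInner (ta h μ ((fun _ => 1) - ν)) (gam t t) =
      2 * ((h.invs.card : ℂ) ^ 2 -
      conj (∑ u ∈ h.invs, h.infl ν (x * u)) * ∑ u ∈ h.invs, h.infl ν (x * u)) := by
  rw [inner_ta_gam h hc hμ (h.sub_one hν), ← h.inner_gam' hc hν, h.card_C]
  push_cast
  ring

variable {M : Ideal AlgInt} [PM 2 M] (hC : HasNormalPComplement 2 (centralizer ({t} : Set G)))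
include hC

theorem irr_eq (χ : Irr G) {c : centralizer ({t} : Set G)} (hc : c.1 ∈ h.H0) (h1 : π c ≠ 1) :
    χ.1 c = blockPart (indSet M (centralizer ({t} : Set G)).subtype (blockOf M χ.1))
      (fun k => χ.1 k) c := by
  refine irr_eq_blockPart (subtype_injective _) (exists_indRel_centralizer M (PElt.of_two h.t_ord))
    (fun g hg => ?_) χ
  obtain ⟨k, hk⟩ := h.t_mem_zpowers (pp_mem (p := 2) hc) (by rwa [h.pi_pp c.2])
  exact ⟨⟨g, H17.mem_centralizer_singleton.2
    (hk ▸ (H17.mem_centralizer_singleton.1 hg).zpow_right k)⟩, rfl⟩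

theorem indRel_of_inner (h0 : φ 1 = 0) {χ : Irr G} (h1 : classInner (ta h μ φ) χ.1 ≠ 0) :
    IndRel M (centralizer ({t} : Set G)).subtype (lin μ) χ := by
  classical
  let F : centralizer ({t} : Set G) → ℂ := fun c => extendByZero h.H0 (tf h μ φ) c
  have h2 : classInner F (blockPart (indSet M (centralizer ({t} : Set G)).subtype (blockOf M χ.1))
      fun k => χ.1 k) ≠ 0 := fun h2 => h1 (by
    rw [ta, H5.classInner_indFun_left _ _ χ.2.classFun]
    simp only [classInner_def, mul_eq_zero, inv_eq_zero, or_iff_right (card_ne_zero _)] at h2 ⊢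
    rw [← sum_ext0_mul _ _ fun g => conj (χ.1 g), ← h2, ← Finset.sum_subset (Finset.subset_univ
      (Finset.univ.filter (· ∈ centralizer ({t} : Set G)))) fun g _ hg => by
        rw [ext0_not_mem _ _ fun h3 => hg (by simpa using h.H0_le h3), zero_mul],
      Finset.sum_subtype _ (p := (· ∈ centralizer ({t} : Set G))) (by simp)]
    refine Finset.sum_congr rfl fun c _ => ?_
    by_cases h3 : c.1 ∈ h.H0
    · by_cases h4 : π c = 1
      · simp only [F, ext0_mem _ _ h3, tf, show h.rho ⟨c, h3⟩ = 1 from Subtype.ext h4, h0, mul_zero,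
          zero_mul]
      · rw [← irr_eq h hC χ h3 h4]
    · simp only [F, ext0_not_mem _ _ h3, zero_mul])
  rw [blockPart_eq, classInner_sum_right] at h2
  obtain ⟨ξ, -, h3⟩ := Finset.exists_ne_zero_of_sum_ne_zero h2
  rw [classInner_smul_right] at h3
  obtain ⟨χ', h4, h5⟩ : ξ ∈ indSet M (centralizer ({t} : Set G)).subtype (blockOf M χ.1) := by
    by_contra h4
    simp [ind_of_notMem h4] at h3
  refine h5.congr (SB_lin_of_inner hC (fun u hu c => ?_) (right_ne_zero_of_mul h3)).symm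
    (SB.symm h4)
  have ho : ¬ 2 ∣ orderOf (u : G) := orderOf_coe u ▸ reg_of_mem (H2.not_dvd_card_pPrimeCore 2 _) hu
  have h6 := mem_H0_of_odd h u.2 ho
  by_cases h3 : c.1 ∈ h.H0
  · simp only [F, coe_mul, ext0_mem _ _ h3, ext0_mem _ _ (mul_mem h6 h3), tf]
    rw [show (⟨_, mul_mem h6 h3⟩ : h.H0) = ⟨u, h6⟩ * ⟨c, h3⟩ from rfl, map_mul, map_mul, map_mul,
      show h.rho ⟨u, h6⟩ = 1 from Subtype.ext (h.pi_eq_one u.2 ho), one_mul, mul_assoc]
    rfl
  · simp only [F, coe_mul, ext0_not_mem _ _ h3, ext0_not_mem _ _ (mt (mul_mem_cancel_left h6).1 h3),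
      mul_zero]

theorem val_span (hS : Sep M μ μ₁ μ₂) (h0 : φ 1 = 0) (hX : SIrr X)
    (h1 : classInner (ta h μ φ) X ≠ 0) {y : centralizer ({t} : Set G)} (hy : y.1 ∈ h.H0)
    (hy1 : π y ≠ 1) : ∃ c c₁ c₂ : ℂ, ∀ u : centralizer ({t} : Set G), ¬ 2 ∣ orderOf (u : G) →
      X (y * u) = c * μ u + c₁ * μ₁ u + c₂ * μ₂ u := by
  have := Fintype.ofFinite (centralizer ({t} : Set G))
  have key : ∀ χ : Irr G, classInner (ta h μ φ) χ.1 ≠ 0 → ∃ c c₁ c₂ : ℂ,
      ∀ u : centralizer ({t} : Set G), ¬ 2 ∣ orderOf (u : G) →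
      χ.1 (y * u) = c * μ u + c₁ * μ₁ u + c₂ * μ₂ u := fun χ h1 => by
    have h2 := indRel_of_inner (M := M) h hC h0 h1
    obtain ⟨c, c₁, c₂, h3⟩ := Finset.sum_induction (s := Finset.univ) (fun ξ u =>
      ind (indSet M (centralizer ({t} : Set G)).subtype (blockOf M χ.1)) ξ *
        (classInner (fun k : centralizer ({t} : Set G) => χ.1 k) ξ.1 * ξ.1 (y * u))) (fun f => ∃ c c₁ c₂ : ℂ,
      ∀ u : centralizer ({t} : Set G), ¬ 2 ∣ orderOf (u : G) →
      f u = c * μ u + c₁ * μ₁ u + c₂ * μ₂ u)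
      (fun f f' ⟨c, c₁, c₂, e⟩ ⟨d, d₁, d₂, e'⟩ => ⟨c + d, c₁ + d₁, c₂ + d₂, fun u hu => by
        rw [Pi.add_apply, e u hu, e' u hu]; ring⟩) ⟨0, 0, 0, by simp⟩ fun ξ _ => by
      by_cases h3 : ξ ∈ indSet M (centralizer ({t} : Set G)).subtype (blockOf M χ.1)
      · obtain ⟨χ', h4, h5⟩ := h3
        have hu := fun u : centralizer ({t} : Set G) => fun hu : ¬ 2 ∣ orderOf (u : G) =>
          mem_pPrimeCore_of_npc hC (g := u) (by rwa [← orderOf_coe])
        generalize ind _ ξ = r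
        generalize classInner _ ξ.1 = r'
        rcases hS ξ χ h2 (h5.congr (SB.refl _) (SB.symm h4)) with e | e | e
        · exact ⟨r * r' * ξ.1 y, 0, 0, fun u h6 => by simp only [SB_lin_mul e (hu u h6)]; ring⟩
        · exact ⟨0, r * r' * ξ.1 y, 0, fun u h6 => by simp only [SB_lin_mul e (hu u h6)]; ring⟩
        · exact ⟨0, 0, r * r' * ξ.1 y, fun u h6 => by simp only [SB_lin_mul e (hu u h6)]; ring⟩
      · exact ⟨0, 0, 0, by simp [ind_of_notMem h3]⟩
    refine ⟨c, c₁, c₂, fun u hu => ?_⟩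
    rw [← h3 u hu, Finset.sum_apply, ← blockPart_apply, ← irr_eq h hC χ
      (mul_mem hy (mem_H0_of_odd h u.2 hu))
      (by rwa [coe_mul, h.mul _ y.2 _ u.2, h.pi_eq_one u.2 hu, mul_one])]
    rfl
  rcases hX.irr_or with h2 | h2
  · exact key ⟨X, h2⟩ h1
  · obtain ⟨c, c₁, c₂, e⟩ := key ⟨-X, h2⟩ (by rwa [classInner_neg_right, neg_ne_zero])
    exact ⟨-c, -c₁, -c₂, fun u hu => by
      have : -X (y * u) = _ := e u hu
      linear_combination -this⟩

end H18
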