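import Mathlib
import Cfsg.Agent.H18.DelB

/-! Order formulas from a non-principal `2`-block of maximal defect. -/

set_option autoImplicit false
set_option linter.unusedSectionVars false

open Cfsg H4 H5 H17 Subgroup
open scoped ComplexConjugate

namespace H18

theorem arith4 {p q b : Fin 4 → ℤ} (hp : ∀ j, p j = 1 ∨ p j = -1) (hq : ∀ j, q j = 1 ∨ q j = -1)
    (h1 : ∑ j, p j = 0) (h2 : ∑ j, q j = 0) (h3 : ∑ j, p j * q j = 0) (h4 : ∑ j, b j = 0)
    (h5 : ∑ j, p j * b j = 0) (h6 : ∑ j, q j * b j = 0) (j : Fin 4) :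
    b j = b 0 * p 0 * q 0 * (p j * q j) := by
  simp only [Fin.sum_univ_four] at *
  rcases hp 0 with a | a <;> rcases hp 1 with b | b <;> rcases hp 2 with c | c <;>
    rcases hp 3 with d | d <;> simp only [a, b, c, d] at h1 <;> (try omega) <;>
    rcases hq 0 with a' | a' <;> rcases hq 1 with b' | b' <;> rcases hq 2 with c' | c' <;>
    rcases hq 3 with d' | d' <;> simp only [a, b, c, d, a', b', c', d'] at h2 h3 h5 h6 <;>
    (try omega) <;> fin_cases j <;> simp [a, b, c, d, a', b', c', d'] <;> omega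

theorem sum_mul_linv {G : Type*} [Group G] [Finite G] {B : Subgroup G} [Fintype B] {μ μ' : G →* ℂ}
    (h : ¬ ∀ b ∈ B, μ b = μ' b) : ∑ b : B, μ b * linv μ' b = 0 :=
  sum_hom_units_eq_zero ((μ * linv μ').comp B.subtype) fun e => h fun b hb => by
    have : μ b * linv μ' b = 1 := DFunLike.congr_fun e ⟨b, hb⟩
    linear_combination μ' b * this - μ b * mul_linv μ' b

variable {G : Type*} [Group G] [Fintype G] {S : Sylow 2 G} {n : ℕ} {a x t : G} {π : G → G}
  (h : DHyp S n a x t π) [Fintype (zpowers a)] {μ μ' μ₁ μ₂ : centralizer ({t} : Set G) →* ℂ}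
  {φ ψ ν ν' σ : zpowers a → ℂ} {X : G → ℂ}

/-- `Ind (μ (1 - ν))` -/
noncomputable abbrev al (μ : centralizer ({t} : Set G) →* ℂ) (ν : zpowers a → ℂ) : G → ℂ :=
  ta h μ ((fun _ => 1) - ν)

theorem al_gen (hν : IsIrrCharacter _ ν) : IsGeneralizedCharacter G (al h μ ν) :=
  ta_gen h (isGen_one.sub hν.isGen)

theorem al_al (hν : IsIrrCharacter _ ν) (h1 : ν ≠ fun _ => 1) (hν' : IsIrrCharacter _ ν')
    (h1' : ν' ≠ fun _ => 1) : classInner (al h μ ν) (al h μ ν') =
      2 + classInner ν ν' + classInner ν fun y => conj (ν' y) := by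
  have h2 : (fun y => conj (ν' y)) ≠ fun _ => 1 := fun h3 => h1' (funext fun y => by
    simpa using congrArg conj (congrFun h3 y))
  rw [inner_ta_ta h (h.sub_one hν) (h.sub_one hν'), show (fun b => ((fun _ => 1) - ν' : _ → ℂ) b⁻¹) =
    (fun _ => 1) - fun y => conj (ν' y) from funext fun y => by simp [hν'.apply_inv]]
  simp only [classInner_sub_left, classInner_sub_right, classInner_one_one,
    hν.inner_of_ne isIrrCharacter_one h1, isIrrCharacter_one.inner_of_ne hν' h1'.symm,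
    isIrrCharacter_one.inner_of_ne hν'.conj h2.symm]
  ring

theorem al_conj (hν : IsIrrCharacter _ ν) : al h μ (fun y => conj (ν y)) = al h μ ν := by
  by_cases h1 : ν = fun _ => 1
  · subst h1; simp
  have h2 : (fun y => conj (ν y)) ≠ fun _ => 1 := fun h3 => h1 (funext fun y => by
    simpa using congrArg conj (congrFun h3 y))
  rw [← sub_eq_zero, ← classInner_self_eq_zero, classInner_sub_left, classInner_sub_right,
    classInner_sub_right, al_al h hν h1 hν h1, al_al h hν.conj h2 hν h1, al_al h hν h1 hν.conj h2,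
    al_al h hν.conj h2 hν.conj h2]
  simp only [Complex.conj_conj]
  ring

theorem al_t (hμ : Good μ) (hν : IsIrrCharacter _ ν) : al h μ ν t = 2 - 2 * ν ⟨t, h.t_mem⟩ := by
  have := ta_apply (μ := μ) h (h.sub_one hν) ⟨t, h.zp_le_H0 h.t_mem⟩
  rw [tf, h.rho_zp ⟨t, h.t_mem⟩, show (⟨t, h.t_mem⟩ : zpowers a)⁻¹ = ⟨t, h.t_mem⟩ from
    Subtype.ext (H6.inv_eq_of_orderOf_two h.t_ord), hμ _ (PElt.of_two h.t_ord)] at this
  refine this.trans ?_
  rw [Pi.sub_apply]
  ring

theorem al_one (hν : IsIrrCharacter _ ν) : al h μ ν 1 = 0 := ta_one h (h.sub_one hν)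

theorem al_gam (hc : ∀ u, orderOf u = 2 → IsConj t u) (hμ : Good μ) (hν : IsIrrCharacter _ ν) :
    Nat.card (centralizer ({t} : Set G)) * classInner (al h μ ν) (gam t t) =
      2 * ((h.invs.card : ℂ) ^ 2 -
      conj (∑ u ∈ h.invs, h.infl ν (x * u)) * ∑ u ∈ h.invs, h.infl ν (x * u)) := gam_eq h hc hμ hν

include h in
theorem sigma_real (hσ : IsIrrCharacter _ σ) (hσa : σ ⟨a, mem_zpowers a⟩ = -1) :
    (σ ≠ fun _ => 1) ∧ (fun y => conj (σ y)) = σ :=
  ⟨by rintro rfl; norm_num at hσa, funext fun y => by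
    obtain ⟨k, -, e⟩ := h.apply_pow hσ y
    simp [e, hσa]⟩

variable {M : Ideal AlgInt} [PM 2 M] (hC : HasNormalPComplement 2 (centralizer ({t} : Set G)))
  (hμ : Good μ)
include hC hμ

theorem val_span' (hμ₁ : Good μ₁) (hμ₂ : Good μ₂) (hS : Sep M μ μ₁ μ₂) (h0 : φ 1 = 0) (hX : SIrr X)
    (h1 : classInner (ta h μ φ) X ≠ 0) {b : zpowers a} (hb : b ≠ 1) : ∃ c c₁ c₂ : ℂ,
      ∀ y : h.H0, h.rho y = b → X y = c * μ (inclusion h.H0_le y) + c₁ * μ₁ (inclusion h.H0_le y) +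
        c₂ * μ₂ (inclusion h.H0_le y) := by
  have h2 := h.toDData.zp_le b.2
  obtain ⟨c, c₁, c₂, e⟩ := val_span h hC hS h0 hX h1 (y := ⟨b, h.le_C h2⟩) (h.zp_le_H0 b.2)
    (by rw [h.fix _ h2]; exact fun e => hb (Subtype.ext e))
  refine ⟨c, c₁, c₂, fun y hy => ?_⟩
  have h3 := h.H0_le y.2
  have h4 := e (⟨b, h.le_C h2⟩⁻¹ * inclusion h.H0_le y) (h.odd _ (mul_mem (inv_mem (h.le_C h2)) h3)
    ((h.mul _ (inv_mem (h.le_C h2)) _ h3).trans (by
      rw [h.fix _ (inv_mem h2), ← hy]; exact inv_mul_cancel _)))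
  have h5 : PElt 2 ((⟨b, h.le_C h2⟩⁻¹ : centralizer ({t} : Set G)) : G) := (PElt.of_mem S.2 h2).inv
  simpa only [map_mul, hμ _ h5, hμ₁ _ h5, hμ₂ _ h5, one_mul, coe_mul, InvMemClass.coe_inv,
    mul_inv_cancel_left, coe_inclusion] using h4

section Inv

variable (hS : Sep M μ μ μ)
include hS

theorem res_eq (hX : SIrr X) (hν : IsIrrCharacter _ ν) (h1 : classInner (al h μ ν) X ≠ 0)
    (h0 : φ 1 = 0) : classInner (ta h μ φ) X = classInner φ fun b : zpowers a => X b := by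
  rw [inner_ta h h0 hX.classFun (f := tf h μ fun b => X b) fun y hy => ?_, inner_tf]
  obtain ⟨c, c₁, c₂, e⟩ := val_span' h hC hμ hμ hμ hS (h.sub_one hν) hX h1 hy
  have h2 := e _ (h.rho_zp (h.rho y))
  rw [hμ _ (PElt.of_mem S.2 (h.toDData.zp_le (h.rho y).2))] at h2
  rw [tf, e y rfl, h2]
  ring

theorem apply_eq (hX : SIrr X) (hν : IsIrrCharacter _ ν) (h1 : classInner (al h μ ν) X ≠ 0)
    {y : zpowers a} (hy : y ≠ 1) :
    X y = -∑ κ : Irr (zpowers a), classInner (al h μ κ.1) X * κ.1 y := by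
  classical
  rw [apply_eq_neg_sum_of_comm h.uHyp.commK (fun y : zpowers a => X y) y, if_neg hy, zero_sub]
  refine congrArg _ (Finset.sum_congr rfl fun κ _ => ?_)
  rw [res_eq h hC hμ hS hX hν h1 (h.sub_one κ.2),
    (hX.gen.restrict _).inner_comm (isGen_one.sub κ.2.isGen)]

theorem common (hc : ∀ u, orderOf u = 2 → IsConj t u) (hp : ∀ lam : G →* ℂˣ, lam = 1) (hne : μ ≠ 1)
    (hX : SIrr X) (hA : ∀ ν, IsIrrCharacter _ ν → (ν ≠ fun _ => 1) → classInner (al h μ ν) X = 1) :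
    X t = 1 ∧ ∃ b k : ℤ, X 1 = b ∧ b = 1 + 2 * n * k ∧ k ≠ 0 := by
  classical
  obtain ⟨σ, hσ, hσa⟩ := h.exists_sigma
  have h1 := (hA σ hσ (sigma_real h hσ hσa).1).trans_ne one_ne_zero
  have h2 : ∀ y : zpowers a, y ≠ 1 → X y = 1 := fun y hy => by
    rw [apply_eq h hC hμ hS hX hσ h1 hy, ← Finset.add_sum_erase _ _ (Finset.mem_univ (irrOne _)),
      Finset.sum_congr rfl (g := fun ν => ν.1 y) fun ν hν => by
        rw [hA ν.1 ν.2 fun h1 => (Finset.mem_erase.1 hν).1 (Subtype.ext h1), one_mul],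
      h.uHyp.sum_erase, if_neg hy, al, irrOne_coe, sub_self, ta, show tf h μ 0 = 0 from
        funext fun _ => mul_zero _, H5.indFun_zero, classInner_zero_left]
    ring
  have h3 := h2 ⟨t, h.t_mem⟩ fun e => h.t_ne (congrArg Subtype.val e)
  obtain ⟨k, hk⟩ := (hX.1.sub isGen_one).exists_degree_eq_card_mul S.1 fun g hg hg1 => by
    rw [Pi.sub_apply, sub_eq_zero]
    by_cases h4 : g ∈ zpowers a
    · exact h2 ⟨g, h4⟩ fun e => hg1 (congrArg Subtype.val e)
    · rw [← hX.classFun.apply_of_isConj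
        (hc g (H6.orderOf_eq_two_of (h.toDData.sq_of_nmem hg h4) hg1)), h3]
  rw [h.toDData.card, Pi.sub_apply, sub_eq_iff_eq_add'] at hk
  refine ⟨h3, _, k, by rw [hk]; push_cast; rfl, rfl, ?_⟩
  rintro rfl
  obtain ⟨lam, h4, -⟩ := hX.exists_linear (orth_of_inner hX sirr_one h1
    (inner_ta_one h hμ hne (h.sub_one hσ))) (by simpa using hk)
  exact h4 (hp lam)

theorem parity (hX : SIrr X) (hσ : IsIrrCharacter _ σ) (hσa : σ ⟨a, mem_zpowers a⟩ = -1)
    (h1 : classInner (al h μ σ) X = 1) : X t - 1 ∈ Pm M := by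
  classical
  obtain ⟨s1, s2⟩ := sigma_real h hσ hσa
  have h2 : ∀ κ : Irr (zpowers a), classInner (al h μ κ.1) X * κ.1 ⟨t, h.t_mem⟩ -
      (if κ = ⟨σ, hσ⟩ then σ ⟨t, h.t_mem⟩ else 0) ∈ H17.S M := fun κ => by
    obtain ⟨m, hm⟩ := (al_gen (μ := μ) h κ.2).inner_int hX.1
    refine sub_mem (mul_mem (hm ▸ intCast_mem _ m) (irr_mem_S κ _)) ?_
    split_ifs
    · exact irr_mem_S ⟨σ, hσ⟩ _
    · exact zero_mem _
  have h3 : ∀ κ : Irr (zpowers a), conj (κ.1 ⟨t, h.t_mem⟩) = κ.1 ⟨t, h.t_mem⟩ := fun κ => by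
    rcases mul_self_eq_one_iff.1 (h.uHyp.sq_t κ.2) with e | e <;> simp [e]
  have h4 := Finset.sum_involution (s := Finset.univ) (f := fun κ : Irr (zpowers a) =>
    QuotientAddGroup.mk' (Pm M) (classInner (al h μ κ.1) X * κ.1 ⟨t, h.t_mem⟩ -
      if κ = ⟨σ, hσ⟩ then σ ⟨t, h.t_mem⟩ else 0)) (fun κ _ => ⟨_, κ.2.conj⟩) (fun κ _ => by
      rw [← map_add, QuotientAddGroup.mk'_apply, QuotientAddGroup.eq_zero_iff]
      simp only [al_conj h κ.2, h3]
      have : (⟨_, κ.2.conj⟩ : Irr (zpowers a)) = ⟨σ, hσ⟩ ↔ κ = ⟨σ, hσ⟩ :=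
        ⟨fun e => Subtype.ext (funext fun y => by
          simpa [congrFun s2 y] using congrArg conj (congrFun (congrArg Subtype.val e) y)),
        fun e => by subst e; exact Subtype.ext s2⟩
      rw [if_congr this rfl rfl, ← two_mul]
      exact_mod_cast p_mul_mem_Pm (h2 κ)) (fun κ _ h4 e => h4 (by
      by_cases h5 : κ.1 = fun _ => 1
      · rw [if_neg (by rintro rfl; exact s1 h5), al, h5, sub_self, ta, show tf h μ 0 = 0 from
          funext fun _ => mul_zero _, H5.indFun_zero, classInner_zero_left]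
        simp
      · obtain rfl : κ = ⟨σ, hσ⟩ := Subtype.ext (h.uHyp.real_unique κ.2 hσ h5 s1
          (congrArg Subtype.val e) s2)
        simp [h1])) (fun _ _ => Finset.mem_univ _) fun κ _ => Subtype.ext (by simp)
  rw [← map_sum, QuotientAddGroup.mk'_apply, QuotientAddGroup.eq_zero_iff, Finset.sum_sub_distrib,
    Finset.sum_ite_eq', if_pos (Finset.mem_univ _), ← neg_eq_iff_eq_neg.2 (apply_eq h hC hμ hS hX hσ
      (h1.trans_ne one_ne_zero) fun e => h.t_ne (congrArg Subtype.val e))] at h4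
  rcases mul_self_eq_one_iff.1 (h.uHyp.sq_t hσ) with e | e
  · convert sub_mem (neg_mem h4) (p_mem_Pm (M := M)) using 1
    rw [e]; push_cast; ring
  · convert neg_mem h4 using 1
    rw [e]; ring

theorem inner_eq_of_ne (hc : ∀ u, orderOf u = 2 → IsConj t u) (hX : SIrr X) (hXt : X t - 1 ∈ Pm M)
    (hν : IsIrrCharacter _ ν) (hν' : IsIrrCharacter _ ν') (hr : (fun y => conj (ν y)) ≠ ν)
    (hr' : (fun y => conj (ν' y)) ≠ ν') (hne : ν ⟨t, h.t_mem⟩ ≠ ν' ⟨t, h.t_mem⟩) :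
    classInner (al h μ ν) X = classInner (al h μ ν') X := by
  have n1 : ν ≠ fun _ => 1 := by rintro rfl; simp at hr
  have n2 : ν' ≠ fun _ => 1 := by rintro rfl; simp at hr'
  have h1 := mul_self_eq_one_iff.1 (h.uHyp.sq_t hν)
  have h2 := mul_self_eq_one_iff.1 (h.uHyp.sq_t hν')
  have n3 : ν ≠ ν' := by rintro rfl; exact hne rfl
  have n4 : ν ≠ fun y => conj (ν' y) := by
    rintro rfl; rcases h2 with e | e <;> simp [e] at hne
  have n5 : ν' ≠ fun y => conj (ν y) := by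
    rintro rfl; rcases h1 with e | e <;> simp [e] at hne
  rw [← sub_eq_zero, ← classInner_sub_left]
  by_contra h3
  have h4 := half_val (t := t) ((al_gen h hν).sub (al_gen h hν')) (by
      rw [classInner_sub_left, classInner_sub_right, classInner_sub_right, al_al h hν n1 hν n1,
        al_al h hν n1 hν' n2, al_al h hν' n2 hν n1, al_al h hν' n2 hν' n2, hν.inner_self,
        hν'.inner_self, hν.inner_of_ne hν.conj hr.symm, hν'.inner_of_ne hν'.conj hr'.symm,
        hν.inner_of_ne hν' n3, hν'.inner_of_ne hν n3.symm, hν.inner_of_ne hν'.conj n4,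
        hν'.inner_of_ne hν.conj n5]
      ring) (by rw [Pi.sub_apply, al_one h hν, al_one h hν', sub_self])
    (mul_left_cancel₀ (card_ne_zero (centralizer ({t} : Set G))) (by
      rw [classInner_sub_left, mul_sub, al_gam h hc hμ hν, al_gam h hc hμ hν',
        h.sum_infl_eq_zero hν hr, h.sum_infl_eq_zero hν' hr']
      ring)) (by
      rw [Pi.sub_apply, al_t h hμ hν, al_t h hμ hν']
      exact fun e => hne (by linear_combination -e / 2)) hX h3
  rw [Pi.sub_apply, al_t h hμ hν, al_t h hμ hν'] at h4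
  have h5 : (X t - 1) * (X t + 1) = (3 : ℤ) := by
    rcases h1 with e | e <;> rcases h2 with e' | e' <;> rw [e, e'] at h4 hne <;>
      first | exact absurd rfl hne | (push_cast; linear_combination h4 / 4)
  have h6 := Pm_mul_right hXt (add_mem (S_of_isIntegral (hX.1.isIntegral t)) (one_mem _))
  rw [h5, intCast_mem_Pm] at h6
  omega

include h in
theorem caseI2 (hc : ∀ u, orderOf u = 2 → IsConj t u) (hp : ∀ lam : G →* ℂˣ, lam = 1) (hne : μ ≠ 1)
    (hn : n = 2) : ∃ b k : Fin 4 → ℤ, (∀ j, b j = 1 + 4 * k j ∧ k j ≠ 0) ∧ ∑ j, b j = 0 ∧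
      (centralizer ({t} : Set G)).index * ∑ j, (1 / b j : ℂ) =
        8 * (centralizer ({x} : Set G)).relIndex (centralizer {t}) *
          (centralizer ({x * a} : Set G)).relIndex (centralizer {t}) := by
  subst hn
  obtain ⟨σ, hσ, hσa⟩ := h.exists_sigma
  obtain ⟨s1, s2⟩ := sigma_real h hσ hσa
  have h0 := al_one (μ := μ) h hσ
  obtain ⟨Y, hY, e, h1, -⟩ := split4 (al_gen (μ := μ) h hσ)
    (by rw [al_al h hσ s1 hσ s1, s2, hσ.inner_self]; ring) h0
  have h2 := fun j => common h hC hμ hS hc hp hne (hY j) fun ν hν hν1 => by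
    rw [h.uHyp.real_unique hν hσ hν1 s1 (funext fun y => by
      rw [← hν.apply_inv, H6.inv_eq_of_mul_self (Subtype.ext (h.toDData.sq_eq_one_of_two rfl
        (h.toDData.zp_le y.2)))]) s2, h1]
  choose h3 b k h4 h5 h6 using h2
  have h7 := al_gam h hc hμ hσ
  obtain ⟨c1, c2⟩ := h.card_invs hσ hσa
  rw [e, classInner_sum_left, Finset.mul_sum, Finset.sum_congr rfl fun j _ =>
    (hY j).card_mul_inner_gam t, ← Finset.mul_sum, c1, c2] at h7
  rw [e, Finset.sum_apply] at h0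
  refine ⟨b, k, fun j => ⟨by simpa using h5 j, h6 j⟩, by simp only [h4] at h0; exact_mod_cast h0, ?_⟩
  simp only [h3, h4, mul_one, map_sub, map_natCast] at h7
  rw [h7]
  push_cast
  ring

include h in
theorem caseI3 (hc : ∀ u, orderOf u = 2 → IsConj t u) (hp : ∀ lam : G →* ℂˣ, lam = 1) (hne : μ ≠ 1)
    (hn : 2 < n) : ∃ b b' k k' : ℤ, b = 1 + 2 * n * k ∧ k ≠ 0 ∧ b' = 1 + 2 * n * k' ∧ k' ≠ 0 ∧
      b + b' ≠ 0 ∧ (centralizer ({t} : Set G)).index * (1 / b + 1 / b' - 4 / (b + b') : ℂ) =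
        2 * ((centralizer ({x} : Set G)).relIndex (centralizer {t}) +
          (centralizer ({x * a} : Set G)).relIndex (centralizer {t})) ^ 2 := by
  obtain ⟨σ, hσ, hσa⟩ := h.exists_sigma
  obtain ⟨s1, s2⟩ := sigma_real h hσ hσa
  obtain ⟨ν, hν, hr⟩ := h.uHyp.exists_nonreal (by rwa [Nat.card_zpowers, h.ord])
  have n1 : ν ≠ fun _ => 1 := by rintro rfl; simp at hr
  have n2 : σ ≠ ν := by rintro rfl; exact hr s2
  have hall : ∀ X, SIrr X → classInner (al h μ ν) X = 1 → classInner (al h μ σ) X = 1 →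
      X t = 1 ∧ ∃ b k : ℤ, X 1 = b ∧ b = 1 + 2 * n * k ∧ k ≠ 0 := fun X hX h1 h2 =>
    common h hC hμ hS hc hp hne hX fun κ hκ hκ1 => by
      have h3 := fun {ν ν'} => inner_eq_of_ne (ν := ν) (ν' := ν') h hC hμ hS hc hX
        (parity h hC hμ hS hX hσ hσa h2)
      by_cases h4 : (fun y => conj (κ y)) = κ
      · rwa [h.uHyp.real_unique hκ hσ hκ1 s1 h4 s2]
      by_cases h5 : κ = ν
      · rwa [h5]
      by_cases h6 : κ = fun y => conj (ν y)
      · rwa [h6, al_conj h hν]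
      by_cases h7 : κ ⟨t, h.t_mem⟩ = ν ⟨t, h.t_mem⟩
      · by_contra h8
        refine h.uHyp.not_const hν hκ hr h4 h5 h6 fun κ' hκ' h9 => ?_
        by_contra h10
        exact h8 ((h3 hκ hκ' h4 h9 (h7 ▸ Ne.symm h10)).trans ((h3 hκ' hν h9 hr h10).trans h1))
      · rwa [h3 hκ hν h4 hr h7]
  have key : ∀ A B C, SIrr A → SIrr B → SIrr C → al h μ ν = A + B + C →
      classInner (al h μ ν) A = 1 → classInner (al h μ ν) B = 1 → classInner (al h μ σ) A = 1 →
      classInner (al h μ σ) B = 1 → ∃ b b' k k' : ℤ, b = 1 + 2 * n * k ∧ k ≠ 0 ∧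
      b' = 1 + 2 * n * k' ∧ k' ≠ 0 ∧
      b + b' ≠ 0 ∧ (centralizer ({t} : Set G)).index * (1 / b + 1 / b' - 4 / (b + b') : ℂ) =
        2 * ((centralizer ({x} : Set G)).relIndex (centralizer {t}) +
          (centralizer ({x * a} : Set G)).relIndex (centralizer {t})) ^ 2 := by
    intro A B C hA hB hC' e a1 b1 a2 b2
    obtain ⟨a3, b, k, a4, a5, a6⟩ := hall A hA a1 a2
    obtain ⟨b3, b', k', b4, b5, b6⟩ := hall B hB b1 b2
    have h1 := congrFun e 1
    have h2 := congrFun e t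
    have h3 := al_gam h hc hμ hν
    rw [al_one h hν, Pi.add_apply, Pi.add_apply, a4, b4, eq_comm,
      add_eq_zero_iff_eq_neg'] at h1
    rw [al_t h hμ hν, Pi.add_apply, Pi.add_apply, a3, b3] at h2
    rw [e, classInner_add_left, classInner_add_left, mul_add, mul_add, hA.card_mul_inner_gam,
      hB.card_mul_inner_gam, hC'.card_mul_inner_gam, h.sum_infl_eq_zero hν hr, (h.card_invs hσ hσa).1,
      a3, b3, a4, b4, h1, show C t * C t = 4 by
        linear_combination (-C t + 2 * ν ⟨t, h.t_mem⟩) * h2 + 4 * h.uHyp.sq_t hν] at h3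
    refine ⟨b, b', k, k', a5, a6, b5, b6, fun h4 => hC'.apply_one_ne_zero ?_, ?_⟩
    · rw [h1, neg_eq_zero]; exact_mod_cast h4
    · push_cast at h3
      rw [div_neg] at h3
      linear_combination h3
  obtain ⟨A, B, C, hA, hB, hC', e, ⟨a1, b1, c1⟩, -⟩ := split3 (al_gen (μ := μ) h hν)
    (by rw [al_al h hν n1 hν n1, hν.inner_self, hν.inner_of_ne hν.conj hr.symm]; ring)
  have h1 := al_al (μ := μ) h hσ s1 hν n1
  have h2 := fun X hX => inner_cases4 (X := X) hX (al_gen (μ := μ) h hσ)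
    (by rw [al_al h hσ s1 hσ s1, s2, hσ.inner_self]; ring) (al_one h hσ)
  rw [hσ.inner_of_ne hν n2, hσ.inner_of_ne hν.conj (by rintro rfl; exact hr (by simpa using s2.symm)),
    e, classInner_add_right, classInner_add_right] at h1
  rcases h2 A hA with a2 | a2 | a2 <;> rcases h2 B hB with b2 | b2 | b2 <;>
    rcases h2 C hC' with c2 | c2 | c2 <;> first
    | exact key A B C hA hB hC' e a1 b1 a2 b2
    | exact key A C B hA hC' hB (e.trans (add_right_comm _ _ _)) a1 c1 a2 c2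
    | exact key B C A hB hC' hA (e.trans (add_rotate _ _ _)) b1 c1 b2 c2
    | (rw [a2, b2, c2] at h1; norm_num at h1)

end Inv

include h in
theorem caseII (hc : ∀ u, orderOf u = 2 → IsConj t u) (hn : n = 2) (hμ₁ : Good μ₁) (hμ₂ : Good μ₂)
    (hS : Sep M μ μ₁ μ₂) {B : Subgroup (centralizer ({t} : Set G))} (hB : ¬ 2 ∣ Nat.card B)
    (n1 : ¬ ∀ b ∈ B, μ b = μ₁ b) (n2 : ¬ ∀ b ∈ B, μ b = μ₂ b) (n3 : ¬ ∀ b ∈ B, μ₁ b = μ₂ b)
    (hτ : ∀ b ∈ B, ∃ b' ∈ B, IsConj (b : G) b' ∧ μ₁ b = μ b' ∧ μ₂ b = μ₁ b' ∧ μ b = μ₂ b') :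
    ∃ β : ℤ, (centralizer ({t} : Set G)).index = β *
      (centralizer ({x} : Set G)).relIndex (centralizer {t}) *
        (centralizer ({x * a} : Set G)).relIndex (centralizer {t}) := by
  classical
  subst hn
  have := Fintype.ofFinite B
  obtain ⟨σ, hσ, hσa⟩ := h.exists_sigma
  obtain ⟨s1, s2⟩ := sigma_real h hσ hσa
  have m1 : μ ≠ μ₁ := fun e => n1 (by simp [e])
  have m2 : μ ≠ μ₂ := fun e => n2 (by simp [e])
  have m3 : μ₁ ≠ μ₂ := fun e => n3 (by simp [e])
  have h0 := h.sub_one hσ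
  have hn4 : ∀ μ, classInner (al h μ σ) (al h μ σ) = 4 := fun μ => by
    rw [al_al h hσ s1 hσ s1, s2, hσ.inner_self]; ring
  obtain ⟨Y, hY, e, h1, h2⟩ := split4 (al_gen (μ := μ) h hσ) (hn4 μ) (al_one h hσ)
  have t1 : (⟨t, h.t_mem⟩ : zpowers a) ≠ 1 := fun e => h.t_ne (congrArg Subtype.val e)
  have hv : ∀ j, ∃ p q : ℤ, (p = 1 ∨ p = -1) ∧ (q = 1 ∨ q = -1) ∧ classInner (al h μ₁ σ) (Y j) = p ∧
      classInner (al h μ₂ σ) (Y j) = q ∧ Y j t = 1 + p + q := fun j => by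
    obtain ⟨c, c₁, c₂, h3⟩ := val_span' h hC hμ hμ₁ hμ₂ hS h0 (hY j) ((h1 j).trans_ne one_ne_zero) t1
    have h4 : ∀ μ', classInner (al h μ' σ) (Y j) = classInner (tf h μ' ((fun _ => 1) - σ))
        (c • tf h μ (fun _ => 1) + c₁ • tf h μ₁ (fun _ => 1) + c₂ • tf h μ₂ fun _ => 1) := fun μ' =>
      inner_ta h h0 (hY j).classFun fun y hy => by
        rw [h3 y (Subtype.ext ((h.uHyp.uniq _ (h.rho y).2 (h.toDData.sq_eq_one_of_two rfl
          (h.toDData.zp_le (h.rho y).2))).resolve_left fun e => hy (Subtype.ext e)))]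
        simp [tf]
    have h5 : classInner ((fun _ => 1) - σ) (fun _ => 1) = 1 := by
      rw [classInner_sub_left, hσ.inner_of_ne isIrrCharacter_one s1, classInner_one_one, sub_zero]
    obtain ⟨p, hp⟩ := (al_gen (μ := μ₁) h hσ).inner_int (hY j).1
    obtain ⟨q, hq⟩ := (al_gen (μ := μ₂) h hσ).inner_int (hY j).1
    have h6 := h4 μ
    have h7 := h4 μ₁
    have h8 := h4 μ₂
    simp only [classInner_add_right, classInner_smul_right, inner_tf, h5, inner_tf_ne h hμ hμ₁ m1,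
      inner_tf_ne h hμ hμ₂ m2, inner_tf_ne h hμ₁ hμ₂ m3, inner_tf_ne h hμ₁ hμ m1.symm,
      inner_tf_ne h hμ₂ hμ m2.symm, inner_tf_ne h hμ₂ hμ₁ m3.symm, mul_zero, mul_one, add_zero,
      zero_add, h1, hp, hq] at h6 h7 h8
    obtain rfl : c = 1 := by simpa using (congrArg conj h6).symm
    obtain rfl : c₁ = p := by simpa using (congrArg conj h7).symm
    obtain rfl : c₂ = q := by simpa using (congrArg conj h8).symm
    have h9 : ∀ b : centralizer ({t} : Set G), ¬ 2 ∣ orderOf (b : G) →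
        Y j (t * b) = μ b + p * μ₁ b + q * μ₂ b := fun b hb => by
      have h9 := h.zp_le_H0 h.t_mem
      have := h3 (⟨t, h9⟩ * ⟨b, mem_H0_of_odd h b.2 hb⟩) (by
        rw [map_mul, h.rho_zp ⟨t, h.t_mem⟩, show h.rho ⟨b, _⟩ = 1 from
          Subtype.ext (h.pi_eq_one b.2 hb), mul_one])
      simp only [map_mul, hμ (inclusion h.H0_le ⟨t, h9⟩) (PElt.of_two h.t_ord), one_mul,
        hμ₁ (inclusion h.H0_le ⟨t, h9⟩) (PElt.of_two h.t_ord),
        hμ₂ (inclusion h.H0_le ⟨t, h9⟩) (PElt.of_two h.t_ord)] at this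
      exact this
    have h10 : ∀ b ∈ B, (1 - q) * μ b + (p - 1) * μ₁ b + (q - p) * μ₂ b ∈ Pm M := fun b hb => by
      obtain ⟨b', hb', e0, e1, e2, e3⟩ := hτ b hb
      have k := fun b : centralizer ({t} : Set G) => gen_mul_sub_mem (M := M) (hY j).1
        (PElt.of_two h.t_ord) (H17.mem_centralizer_singleton.1 b.2).symm
      have := sub_mem (k b) (k b')
      rw [h9 b (orderOf_coe b ▸ reg_of_mem hB hb), h9 b' (orderOf_coe b' ▸ reg_of_mem hB hb'),
        ← (hY j).classFun.apply_of_isConj e0, ← e1, ← e2, ← e3] at this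
      convert this using 1
      ring
    have h11 : ∀ μ' : centralizer ({t} : Set G) →* ℂ, (1 - q) * ∑ b : B, μ b * linv μ' b +
        (p - 1) * ∑ b : B, μ₁ b * linv μ' b + (q - p) * ∑ b : B, μ₂ b * linv μ' b ∈ Pm M :=
      fun μ' => by
      simp only [Finset.mul_sum, ← Finset.sum_add_distrib, ← mul_assoc, ← add_mul]
      exact sum_mem fun b _ => Pm_mul_right (h10 b b.2) (lin_apply (linv μ') _ ▸ irr_mem_S _ _)
    have h12 := h11 μ
    have h13 := h11 μ₁
    rw [sum_mul_linv fun e => n1 fun b hb => (e b hb).symm,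
      sum_mul_linv fun e => n2 fun b hb => (e b hb).symm] at h12
    rw [sum_mul_linv n1, sum_mul_linv fun e => n3 fun b hb => (e b hb).symm] at h13
    simp only [mul_linv, Finset.sum_const, Finset.card_univ, ← Nat.card_eq_fintype_card,
      nsmul_eq_mul, mul_one, mul_zero, add_zero, zero_add] at h12 h13
    have h14 : ∀ m : ℤ, (m : ℂ) * Nat.card B ∈ Pm M → 2 ∣ m := fun m hm => intCast_mem_Pm.1
      (Pm_of_mul_right (natCast_mem _ _) (mt natCast_mem_Pm.1 hB) hm)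
    have h15 := h14 (1 - q) (by exact_mod_cast h12)
    have h16 := h14 (p - 1) (by exact_mod_cast h13)
    have h17 := inner_cases4 (hY j) (al_gen (μ := μ₁) h hσ) (hn4 _) (al_one h hσ)
    have h18 := inner_cases4 (hY j) (al_gen (μ := μ₂) h hσ) (hn4 _) (al_one h hσ)
    rw [hp] at h17
    rw [hq] at h18
    norm_cast at h17 h18
    exact ⟨p, q, by omega, by omega, hp, hq, by simpa using h9 1 (by simp)⟩
  choose p q hp hq h3 h4 h5 using hv
  choose b h6 h7 using fun j => (hY j).exists_int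
  have e1 := eq_comb4 (al_gen h hσ) (hn4 μ₁) hY h2 h3 hp
  have e2 := eq_comb4 (al_gen h hσ) (hn4 μ₂) hY h2 h4 hq
  have a1 := inner_ta_ne h hμ₁ hμ m1.symm h0 h0
  have a2 := inner_ta_ne h hμ₂ hμ m2.symm h0 h0
  have a3 := inner_ta_ne h hμ₂ hμ₁ m3.symm h0 h0
  have a4 := al_one (μ := μ) h hσ
  have a5 := al_one (μ := μ₁) h hσ
  have a6 := al_one (μ := μ₂) h hσ
  have a7 := al_gam h hc hμ hσ
  obtain ⟨c1, c2⟩ := h.card_invs hσ hσa
  change classInner (al h _ σ) (al h _ σ) = 0 at a1 a2 a3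
  rw [e, classInner_sum_right] at a1 a2
  rw [e1, classInner_sum_right] at a3
  rw [e, classInner_sum_left, Finset.mul_sum, Finset.sum_congr rfl fun j _ =>
    (hY j).card_mul_inner_gam t, ← Finset.mul_sum, c1, c2] at a7
  rw [e] at a4
  rw [e1] at a5
  rw [e2] at a6
  simp only [h3, h4, h5, h7, classInner_smul_right, map_intCast, Finset.sum_apply, Pi.smul_apply,
    smul_eq_mul, map_sub, map_natCast] at a1 a2 a3 a4 a5 a6 a7
  norm_cast at a1 a2 a3 a4 a5 a6
  have h8 := arith4 hp hq a1 a2 a3 a4 a5 a6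
  have h9 : b 0 * p 0 * q 0 ≠ 0 := fun e => h6 0 (by rw [h8 0, e, zero_mul])
  generalize b 0 * p 0 * q 0 = β at h8 h9
  have h10 : (β : ℂ) ≠ 0 := Int.cast_ne_zero.2 h9
  rw [Finset.sum_congr rfl (g := fun j => ((3 * (p j * q j) + 2 * p j + 2 * q j + 2 : ℤ) : ℂ) / β)
    fun j _ => by
      rw [h8 j]
      rcases hp j with e | e <;> rcases hq j with e' | e' <;> rw [e, e'] <;> push_cast <;>
        field_simp <;> norm_num, ← Finset.sum_div, ← Int.cast_sum] at a7
  simp only [Finset.sum_add_distrib, ← Finset.mul_sum, a1, a2, a3] at a7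
  refine ⟨β, Int.cast_injective (α := ℂ) ?_⟩
  simp at a7
  field_simp at a7
  push_cast
  linear_combination a7 / 8

end H18
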