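import Mathlib
import Cfsg.Agent.H24.Base5

/-! Arithmetic for Theorem Δ; projections of semidirect products. -/

set_option autoImplicit false

open Cfsg H24 Subgroup

namespace H18

theorem inv_le_of_le {b c : ℤ} (hc : 0 < c) (h : c ≤ b) : (0 : ℚ) < 1 / b ∧ (1 : ℚ) / b ≤ 1 / c :=
  ⟨one_div_pos.2 (by exact_mod_cast hc.trans_le h),
    one_div_le_one_div_of_le (by exact_mod_cast hc) (by exact_mod_cast h)⟩

theorem le_inv_of_le {b c : ℤ} (hc : 0 < c) (h : b ≤ -c) : (1 : ℚ) / b < 0 ∧ -(1 / c) ≤ (1 : ℚ) / b := by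
  have := inv_le_of_le hc (b := -b) (by omega)
  push_cast at this
  rw [div_neg] at this
  exact ⟨by linarith [this.1], by linarith [this.2]⟩

theorem ar_three {a b c : ℤ} (ha : a % 4 = 1) (hb : b % 4 = 1) (hc : c % 4 = 1) (ha1 : a ≠ 1)
    (hb1 : b ≠ 1) (hc1 : c ≠ 1) (h : 1 + a + b + c = 0) : (8 : ℚ) / 15 ≤ 1 + 1 / a + 1 / b + 1 / c := by
  have key : ∀ a : ℤ, a % 4 = 1 → a ≠ 1 → (a ≤ -11 ∧ -(1 / 11) ≤ (1 : ℚ) / a) ∨
      (a = -7 ∧ (1 : ℚ) / a = -(1 / 7)) ∨ (a = -3 ∧ (1 : ℚ) / a = -(1 / 3)) ∨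
      (a = 5 ∧ (1 : ℚ) / a = 1 / 5) ∨ (a = 9 ∧ (1 : ℚ) / a = 1 / 9) ∨ (13 ≤ a ∧ 0 < (1 : ℚ) / a) := by
    intro a ha ha1
    rcases (by omega : a ≤ -11 ∨ a = -7 ∨ a = -3 ∨ a = 5 ∨ a = 9 ∨ 13 ≤ a) with
      e | rfl | rfl | rfl | rfl | e
    · exact .inl ⟨e, by simpa using (le_inv_of_le (c := 11) (by norm_num) e).2⟩
    iterate 4 norm_num
    · exact .inr (.inr (.inr (.inr (.inr ⟨e, (inv_le_of_le (by norm_num) e).1⟩))))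
  rcases key a ha ha1 with e | e | e | e | e | e <;> rcases key b hb hb1 with e' | e' | e' | e' | e' | e' <;>
    rcases key c hc hc1 with e'' | e'' | e'' | e'' | e'' | e'' <;>
    first | omega | linarith [e.2, e'.2, e''.2]

theorem ar_four {b k : Fin 4 → ℤ} (h : ∀ j, b j = 1 + 4 * k j ∧ k j ≠ 0) (h0 : ∑ j, b j = 0) :
    ∑ j, (1 / b j : ℚ) ≤ 8 / 15 := by
  have key : ∀ j, (b j < 0 ∧ b j ≠ -15 ∧ (1 : ℚ) / b j < 0) ∨ (b j = -15 ∧ (1 : ℚ) / b j = -(1 / 15)) ∨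
      (b j = 5 ∧ (1 : ℚ) / b j = 1 / 5) ∨ (9 ≤ b j ∧ (1 : ℚ) / b j ≤ 1 / 9) := fun j => by
    have := h j
    rcases (by omega : (b j ≤ -1 ∧ b j ≠ -15) ∨ b j = -15 ∨ b j = 5 ∨ 9 ≤ b j) with e | e | e | e
    · exact .inl ⟨by omega, e.2, (le_inv_of_le (by norm_num) e.1).1⟩
    · norm_num [e]
    · norm_num [e]
    · exact .inr (.inr (.inr ⟨e, by simpa using (inv_le_of_le (by norm_num) e).2⟩))
  rw [Fin.sum_univ_four] at h0 ⊢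
  rcases key 0 with ⟨a, a'⟩ | ⟨a, a'⟩ | ⟨a, a'⟩ | ⟨a, a'⟩ <;>
    rcases key 1 with ⟨b, b'⟩ | ⟨b, b'⟩ | ⟨b, b'⟩ | ⟨b, b'⟩ <;>
    rcases key 2 with ⟨c, c'⟩ | ⟨c, c'⟩ | ⟨c, c'⟩ | ⟨c, c'⟩ <;>
    rcases key 3 with ⟨d, d'⟩ | ⟨d, d'⟩ | ⟨d, d'⟩ | ⟨d, d'⟩ <;>
    (try obtain ⟨a2, a'⟩ := a') <;> (try obtain ⟨b2, b'⟩ := b') <;> (try obtain ⟨c2, c'⟩ := c') <;>
    (try obtain ⟨d2, d'⟩ := d') <;> first | omega | linarith

theorem ar2 {i κ a₁ a₂ a₃ : ℤ} (hi : 0 < i) (h1 : a₁ % 4 = 1) (h2 : a₂ % 4 = 1) (h3 : a₃ % 4 = 1)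
    (n1 : a₁ ≠ 1) (n2 : a₂ ≠ 1) (n3 : a₃ ≠ 1) (h : 1 + a₁ + a₂ + a₃ = 0)
    (h4 : i * ((1 + a₁) * (1 + a₂) * (1 + a₃)) = 8 * κ * (a₁ * a₂ * a₃)) {b k : Fin 4 → ℤ}
    (h5 : ∀ j, b j = 1 + 4 * k j ∧ k j ≠ 0) (h0 : ∑ j, b j = 0)
    (h6 : i * ∑ j, (1 / b j : ℂ) = 8 * κ) : i = 15 * κ := by
  have h7 := ar_three h1 h2 h3 n1 n2 n3 h
  have h8 := ar_four h5 h0
  have h9 : i * ∑ j, (1 / b j : ℚ) = 8 * κ := by exact_mod_cast h6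
  have m1 : (a₁ : ℚ) ≠ 0 := Int.cast_ne_zero.2 (by omega)
  have m2 : (a₂ : ℚ) ≠ 0 := Int.cast_ne_zero.2 (by omega)
  have m3 : (a₃ : ℚ) ≠ 0 := Int.cast_ne_zero.2 (by omega)
  have h10 : (i : ℚ) * (1 + 1 / a₁ + 1 / a₂ + 1 / a₃) = 8 * κ := by
    have h4 : (i : ℚ) * ((1 + a₁) * (1 + a₂) * (1 + a₃)) = 8 * κ * (a₁ * a₂ * a₃) := by
      exact_mod_cast h4
    have h : (1 : ℚ) + a₁ + a₂ + a₃ = 0 := by exact_mod_cast h
    field_simp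
    linear_combination h4 - i * h
  have hi' : (0 : ℚ) < i := by exact_mod_cast hi
  have : (i : ℚ) = 15 * κ := by nlinarith
  exact_mod_cast this

theorem ar3 {i κ a b b' : ℤ} (hi : 0 < i) (hκ : κ ≠ 0) (ha : a % 8 = 1)
    (h : i * (a - 1) ^ 2 = 2 * κ ^ 2 * (a * (a + 1))) (hb : b % 8 = 1) (hb' : b' % 8 = 1) (n1 : b ≠ 1)
    (n2 : b' ≠ 1) (h1 : i * (1 / b + 1 / b' - 4 / (b + b') : ℂ) = 2 * κ ^ 2) : 16 * i = 45 * κ ^ 2 := by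
  have h2 : i * (1 / b + 1 / b' - 4 / (b + b') : ℚ) = 2 * κ ^ 2 := by exact_mod_cast h1
  have h3 : 16 * i ≤ 45 * κ ^ 2 := by
    have h3 : a ≠ 1 := by rintro rfl; simp [hκ] at h
    have h4 : 0 < a * (a + 1) ∧ 32 * (a * (a + 1)) ≤ 45 * (a - 1) ^ 2 := by
      rcases (by omega : 9 ≤ a ∨ a ≤ -7) with e | e <;> constructor <;> nlinarith
    nlinarith [h4.1, h4.2]
  have key : ∀ b : ℤ, b % 8 = 1 → b ≠ 1 → (1 : ℚ) / b ≤ 1 / 9 := fun b hb n1 => by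
    rcases (by omega : 9 ≤ b ∨ b ≤ -7) with e | e
    · simpa using (inv_le_of_le (by norm_num) e).2
    · linarith [(le_inv_of_le (by norm_num) e).1]
  have h4 : (1 / b + 1 / b' - 4 / (b + b') : ℚ) ≤ 32 / 45 := by
    have k1 := key b hb n1
    have k2 := key b' hb' n2
    rcases (by omega : 1 ≤ b + b' ∨ b + b' ≤ -14 ∨ b' = -6 - b) with e | e | rfl
    · have := (inv_le_of_le (by norm_num) e).1
      push_cast at this
      rw [div_eq_mul_one_div 4]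
      linarith
    · have := (le_inv_of_le (by norm_num) e).2
      push_cast at this
      rw [div_eq_mul_one_div 4]
      linarith
    · have h4 : 135 ≤ b * (b + 6) := by
        rcases (by omega : 9 ≤ b ∨ b ≤ -15) with e | e <;> nlinarith
      have h5 := (inv_le_of_le (by norm_num) h4).2
      have m1 : (b : ℚ) ≠ 0 := Int.cast_ne_zero.2 (by omega)
      have m2 : (b : ℚ) + 6 ≠ 0 := by exact_mod_cast (by omega : b + 6 ≠ 0)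
      have m3 : -6 - (b : ℚ) ≠ 0 := fun e => m2 (by linarith)
      push_cast at h5 ⊢
      rw [show (1 / b + 1 / (-6 - b) - 4 / (b + (-6 - b)) : ℚ) = 6 * (1 / (b * (b + 6))) + 2 / 3 by
        rw [show (b : ℚ) + (-6 - b) = -6 by ring]; field_simp; ring]
      linarith
  have hi' : (0 : ℚ) < i := by exact_mod_cast hi
  have h5 : (45 * κ ^ 2 : ℚ) ≤ 16 * i := by nlinarith
  have h6 : 45 * κ ^ 2 ≤ 16 * i := by exact_mod_cast h5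
  omega

theorem exists_ext {G : Type*} [Group G] {N B M : Subgroup G} (h : SD N B M) (θ : B →* ℂ) :
    ∃ μ : M →* ℂ, ∀ m : M, ∀ n ∈ N, ∀ b : B, m = n * b → μ m = θ b := by
  choose ν hν β hβ e using h.isProd.mul
  have key : ∀ m : M, ∀ n ∈ N, ∀ b : B, m = n * b → (⟨_, hβ m m.2⟩ : B) = b := fun m n hn b e' =>
    Subtype.ext (mul_inv_eq_one.1 (mem_bot.1 (h.inf ▸ mem_inf.2 ⟨by
      rw [show β m m.2 * (b : G)⁻¹ = (ν m m.2)⁻¹ * n by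
        rw [eq_inv_mul_iff_mul_eq, ← mul_assoc, ← e, e', mul_inv_cancel_right]]
      exact mul_mem (inv_mem (hν m m.2)) hn, mul_mem (hβ m m.2) (inv_mem b.2)⟩)))
  refine ⟨⟨⟨fun m => θ ⟨_, hβ m m.2⟩, ?_⟩, fun m m' => ?_⟩, fun m n hn b e' => congrArg θ (key m n hn b e')⟩
  · rw [key 1 1 (one_mem _) 1 (by simp), map_one]
  · rw [← map_mul]
    refine congrArg θ (key _ _ (mul_mem (hν m m.2) (conj_mem (h.norm (hβ m m.2)) (hν m' m'.2))) _ ?_)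
    rw [coe_mul, coe_mul]
    conv_lhs => rw [e m m.2, e m' m'.2]
    group

end H18
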