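import Mathlib
import Cfsg.Agent.H13.DihThm1

/-! Simple groups with abelian Sylow `2`-subgroups: the uniqueness lemma (copied from `H13.Dih`). -/

set_option autoImplicit false
set_option linter.unusedSectionVars false

namespace H18.JRC

open H24 H26 Cfsg Subgroup H13 H13.Dih

universe u

variable {G : Type u} [Group G] [Finite G]

/-- a nonabelian simple group with abelian Sylow `2`-subgroups -/
structure AB (G : Type u) [Group G] : Prop where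
  simple : IsSimpleGroup G
  nab : ¬ IsMulCommutative G
  ab : ∀ P : Subgroup G, IsPi {2} P → Abl P

theorem ab_of_syl {S : Subgroup G} (hS : Syl 2 ⊤ S) (hab : Abl S) (P : Subgroup G)
    (hP : IsPi {2} P) : Abl P := by
  obtain ⟨g, -, hg⟩ := Sylow_subJ Nat.prime_two hS hP le_top
  exact (hab.cj g).of_le hg

namespace AB

variable (h : AB G) {A B D M S X Y P : Subgroup G} {t s x : G} {p : ℕ}
include h

theorem eq_or (hX : N[X] = ⊤) : X = ⊥ ∨ X = ⊤ :=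
  have := h.simple
  (normalizer_eq_top_iff.1 hX).eq_bot_or_eq_top

theorem top_ne_bot' : (⊤ : Subgroup G) ≠ ⊥ :=
  have := h.simple
  top_ne_bot

theorem perf : ⁅(⊤ : Subgroup G), (⊤ : Subgroup G)⁆ = ⊤ :=
  (h.eq_or (eq_top_iff.2 (der1_nml ⊤).norm)).resolve_left fun e =>
    h.nab (abl_top_iff.1 (der1_eq_bot.1 e))

theorem not_sol : ¬ Sol (⊤ : Subgroup G) := fun hs => (hs.der1_lt h.top_ne_bot').ne h.perf

theorem ne_top (hX : Sol X) : X ≠ ⊤ := fun e => h.not_sol (e ▸ hX)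

theorem N_ne_top (h1 : X ≠ ⊥) (h2 : X ≠ ⊤) : N[X] ≠ ⊤ := fun e => (h.eq_or e).elim h1 h2

theorem N_ne_top' (h1 : X ≠ ⊥) (h2 : Sol X) : N[X] ≠ ⊤ := h.N_ne_top h1 (h.ne_top h2)

theorem N_eq (hM : IsCoatom M) (h1 : X ≠ ⊥) (hX : X ⊴ M) : N[X] = M :=
  (hM.le_iff.1 hX.norm).resolve_left
    (h.N_ne_top h1 fun e => hM.1 (eq_top_iff.2 (e ▸ hX.le)))

theorem C_le (hM : IsCoatom M) (h1 : X ≠ ⊥) (hX : X ⊴ M) : C[X] ≤ M :=
  (C_le_N X).trans (h.N_eq hM h1 hX).le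

theorem C1_ne_top (hx : x ≠ 1) : C{x} ≠ ⊤ := fun e =>
  h.N_ne_top' (zpowers_ne_bot.2 hx) (cyc_zpowers x).sol
    (eq_top_iff.2 (norm_zpowers_of_cent e.ge))

theorem C_ne_top (h1 : X ≠ ⊥) : C[X] ≠ ⊤ := fun e => by
  obtain ⟨x, hx, hx1⟩ := exists_ne_one h1
  exact h.C1_ne_top hx1 (eq_top_iff.2 (e ▸ C_le_C1 hx))

theorem coatom_ne_bot (hM : IsCoatom M) : M ≠ ⊥ := by
  rintro rfl
  obtain ⟨t, -, ht⟩ := exists_ne_one h.top_ne_bot'
  exact h.ne_top (cyc_zpowers t).sol (hM.2 _ (bot_lt_iff_ne_bot.2 (zpowers_ne_bot.2 ht)))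

theorem not_quad (A : Subgroup G) [Fact p.Prime] (hp2 : p ≠ 2) : ¬ H12.QuadInvolved p A :=
  fun k => k.not_abelian_two hp2 fun _ hU => (abl_map_iff A.subtype_injective).1
    (h.ab _ ((isPi_of_isPGroup Nat.prime_two hU).map _))

theorem not_quad' [Fact p.Prime] (hp2 : p ≠ 2) : ¬ H12.QuadInvolved p G :=
  fun k => k.not_abelian_two hp2 fun _ hU => h.ab _ (isPi_of_isPGroup Nat.prime_two hU)

theorem F_ne_bot (hA : FC A) : F[A] ≠ ⊥ := fun e => by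
  have := hA.cent
  rw [e, C_bot, top_le_iff] at this
  exact h.ne_top sol_bot this

theorem C_zp_le (hA : FC A) {π : Set ℕ} (h1 : ¬ IsPi πᶜ F[A]) : C[O[π, Z[F[A]]]] ≤ A :=
  h.C_le hA.coatom (zp_ne_bot (Fitting_nil A) h1) ((Fitting_nml A).center.pcore π)

theorem ul_cent (hA : FC A) (hp : p ∈ primesOf F[A]) (hY : Y ≤ F[A]) (hYB : Y ≤ B)
    (hYC : F[A] ⊓ C[Y] ≤ Y) : O[{p}ᶜ, Y] ≤ C[O[{p}, B]] := by
  have hn := hYB.trans (pcore_nml {p} B).norm
  refine Thompson_PxQ hp.1 (pcore_pi {p} Y) (pcore_pi _ _) (pcore_pi _ _)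
    (pcore_cent_pcore_compl _ _) ((pcore_le _ _).trans hn) ((pcore_le _ _).trans hn) ?_
  have h1 : O[{p}, B] ⊓ C[O[{p}, Y]] ≤ A :=
    inf_le_right.trans ((C_anti (MC.zp_le _ hY hYC)).trans (h.C_zp_le hA (not_isPi_compl hp)))
  have h2 : O[{p}ᶜ, Y] ≤ O[{p}ᶜ, F[A]] := (Fitting_nil A).pcore_mono _ hY
  rw [← comm_eq_bot, eq_bot_iff, ← pcore_inf_pcore_compl {p} B F[A]]
  exact le_inf ((comm_mono_left inf_le_left).trans (comm_le_left ((pcore_le _ _).trans hn)))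
    ((comm_mono_right h2).trans (comm_le_right (h1.trans (pcore_Fitting_nml _ _).norm)))

theorem ul_step (hA : FC A) (hB : FC B) (hπ : primesOf F[B] ⊆ primesOf F[A])
    (hn : ∀ q, ¬ IsPi {q} F[A]) (hY : Y ≤ F[A]) (hYB : Y ≤ B) (hYC : F[A] ⊓ C[Y] ≤ Y) :
    F[B] ≤ A ∧ primesOf F[A] ⊆ primesOf F[B] := by
  have key : ∀ q, q.Prime → q ∣ ♯F[B] → O[{q}, B] ≤ C[O[{q}ᶜ, Y]] := fun q h1 h2 =>
    cents_symm (h.ul_cent hA (hπ ⟨h1, h2⟩) hY hYB hYC)
  refine ⟨Fitting_le_of_pcore_le fun q h1 h2 => (key q h1 h2).trans ((C_anti (MC.zp_le _ hY hYC)).trans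
    (h.C_zp_le hA (by rw [compl_compl]; exact hn q))), fun r hr => ?_⟩
  by_contra hr'
  refine hr' ((pcore_pi {r} Z[F[A]]).mem_primesOf (zp_ne_bot (Fitting_nil A) (not_isPi_compl hr))
    ((cents_symm (Fitting_le_of_pcore_le fun q h1 h2 => (key q h1 h2).trans (C_anti ?_))).trans
      hB.cent))
  exact (MC.zp_le _ hY hYC).trans (pcore_mono _ (singleton_subset_compl fun e => hr' (e ▸ ⟨h1, h2⟩)))

theorem ul_elt (hA : FC A) (hp : p ∈ primesOf F[A]) (hP : IsPi {p} P) (hPA : P ≤ A)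
    (hPC : P ≤ C[O[{p}ᶜ, F[A]]]) {x : G} (hx : x ∈ C[O[{p}, A]]) (hx' : PiElt {p}ᶜ x) :
    x ∈ C[P] := by
  have hxA : zpowers x ≤ A := zpowers_le.2 (h.C_le hA.coatom
    ((pcore_ne_bot_iff_dvd_Fitting hp.1).2 hp.2) (pcore_nml _ _) hx)
  have hZ := (Fitting_nml A).center
  have h1 : ⁅zpowers x, P⁆ ≤ Z[F[A]] := by
    have : ⁅zpowers x, P⁆ ≤ C[F[A]] := by
      rw [(Fitting_nil A).C_eq {p}, p_core_Fitting hp.1]
      exact le_inf ((comm_mono_left (zpowers_le.2 hx)).trans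
        (comm_le_left (norm_C (hPA.trans (pcore_nml _ _).norm))))
        ((comm_mono_right hPC).trans (comm_le_right (norm_C (hxA.trans (pcore_Fitting_nml _ _).norm))))
    exact le_inf (this.trans hA.cent) this
  set M := Z[F[A]] ⊔ zpowers x with hM
  have h2 : ⁅M, P⁆ ≤ Z[F[A]] := commutator_le.2 fun m hm g hg => by
    obtain ⟨z, hz, y, hy, rfl⟩ := (mem_sup_of_norm (hxA.trans hZ.norm)).1 hm
    have := mul_mem (mul_mem hz (h1 (commutator_mem_commutator hy hg)))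
      (conj_mem (hZ.norm (hPA hg)) (inv_mem hz))
    simpa only [commutatorElement_def, mul_assoc, mul_inv_rev, inv_mul_cancel_left] using this
  have h3 : P ≤ N[O[{p}ᶜ, M]] := norm_pcore _ (norm_of_comm_le_left (h2.trans le_sup_left))
  have h4 : O[{p}ᶜ, Z[F[A]]] ⊔ zpowers x ≤ O[{p}ᶜ, M] := by
    refine pcore_max' ((pcore_pi _ _).sup hx'.isPi (hxA.trans (hZ.pcore _).norm))
      (sup_le_sup_right (pcore_le _ _) _) (sup_le ?_ (norm_of_le le_sup_right))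
    refine ((abl_center F[A]).nil.pcoreC {p}).sup.ge.trans (sup_le (norm_of_cent (cents_sup (pcore_cent_pcore_compl _ _) (cents_symm
      ((zpowers_le.2 hx).trans (C_anti ?_))))) (norm_of_le le_sup_left))
    exact ((Fitting_nil A).pcore_mono _ inf_le_left).trans (pcore_Fitting_le _ _)
  have h5 : P ≤ C[O[{p}ᶜ, M]] := stable_factor_cent (H := O[{p}ᶜ, M] ⊓ Z[F[A]])
    (hPC.trans (C_anti ((Fitting_nil A).le_pcore ((pcore_pi _ _).inf_left _)
      (inf_le_right.trans inf_le_left))))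
    (le_inf (comm_le_left h3) ((comm_mono_left (pcore_le _ _)).trans h2)) inf_le_left
    (((pcore_pi _ _).inf_left _).coprime' hP) (Or.inr (hP.sol hp.1))
  exact cents_symm h5 (h4 (mem_sup_right (mem_zpowers x)))

theorem zj (hA : FC A) (hp : p.Prime) (h1 : IsPi {p} F[A]) (hS : Syl p A S) :
    N[centerThompsonOf 0 S] = A ∧ Syl p ⊤ S := by
  have := Fact.mk hp
  have hF : F[A] = O[{p}, A] := le_antisymm (pcore_max h1 (Fitting_nml A)) (pcore_le_Fitting hp A)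
  have hp2 : p ≠ 2 := by
    rintro rfl
    exact absurd (h1.odd_prime (h.F_ne_bot hA) hA.odd) (by decide)
  have h2 : A ≤ N[centerThompsonOf 0 S] := le_normalizer_centerThompsonOf hp2 (Or.inl rfl)
    ⟨hS.le, hS.pi.isPGroup hp, fun R h1 h2 h3 => hS.eq_of_le (isPi_of_isPGroup hp h2) h3 h1⟩
    (fun g hg => by
      have h3 := hA.cent
      rw [hF, pcore_singleton hp] at h3
      exact (mem_map_iff_mem A.subtype_injective).1
        (h3 (cent_map (zpowers_le.2 hg) A.subtype (mem_map_of_mem _ (mem_zpowers g)))))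
    fun P _ hP => H12.isPStableOn_of_isPGroup (h.not_quad A hp2) P hP
  have h3 := h.N_eq hA.coatom (centerThompsonOf_ne_bot (Or.inl rfl) (hS.pi.isPGroup hp)
    (ne_bot_of_le (hF ▸ h.F_ne_bot hA) (pcore_le_Hall hS))) ⟨(centerThompsonOf_le _ _).trans hS.le, h2⟩
  exact ⟨h3, hS.of_norm_le hp le_top
    (inf_le_right.trans ((normalizer_le_normalizer_centerThompson 0 S).trans h3.le))⟩

/-- the uniqueness lemma -/
theorem ul (hA : FC A) (hB : FC B) (hπ : primesOf F[B] ⊆ primesOf F[A]) (hY : Y ≤ F[A])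
    (hYB : Y ≤ B) (hYC : F[A] ⊓ C[Y] ≤ Y) : A = B := by
  obtain ⟨p, hp⟩ : ∃ p, p ∈ primesOf F[B] := exists_prime_dvd_card (h.F_ne_bot hB)
  by_cases hn : ∀ q, ¬ IsPi {q} F[A]
  · obtain ⟨h1, hπ'⟩ := h.ul_step hA hB hπ hn hY hYB hYC
    have hcB : F[B] ⊓ C[F[B]] ≤ F[B] := inf_le_left
    have hcA : F[A] ⊓ C[F[A]] ≤ F[A] := inf_le_left
    obtain ⟨h2, -⟩ := h.ul_step hB hA hπ' (fun q hq => hn q
      (isPi_iff_primesOf.2 (hπ'.trans (isPi_iff_primesOf.1 hq)))) le_rfl h1 hcB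
    have h3 := h.ul_cent hA (hπ hp) le_rfl h2 hcA
    have h4 := h.ul_cent hB hp le_rfl h1 hcB
    have e : {x | x ∈ C[O[{p}, A]] ∧ PiElt {p}ᶜ x} = {x | x ∈ C[O[{p}, B]] ∧ PiElt {p}ᶜ x} :=
      Set.ext fun x => ⟨fun hx => ⟨h.ul_elt hA (hπ hp) (pcore_pi _ _)
        ((pcore_le_Fitting hp.1 B).trans h1) (cents_symm h3) hx.1 hx.2, hx.2⟩,
        fun hx => ⟨h.ul_elt hB hp (pcore_pi _ _)
        ((pcore_le_Fitting hp.1 A).trans h2) (cents_symm h4) hx.1 hx.2, hx.2⟩⟩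
    have key : ∀ {M : Subgroup G}, FC M → p ∈ primesOf F[M] →
        closure {x | x ∈ C[O[{p}, M]] ∧ PiElt {p}ᶜ x} ⊴ M := fun {M} hM hpM =>
      ⟨(closure_le _).2 fun x hx => h.C_le hM.coatom
        ((pcore_ne_bot_iff_dvd_Fitting hp.1).2 hpM.2) (pcore_nml _ _) hx.1,
        norm_closure fun a ha x hx => subset_closure
          ⟨conj_mem (norm_C (pcore_nml _ _).norm ha) hx.1, hx.2.conj a⟩⟩
    have h5 : closure {x | x ∈ C[O[{p}, A]] ∧ PiElt {p}ᶜ x} ≠ ⊥ := by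
      refine ne_bot_of_le (A := O[{p}ᶜ, F[A]]) (fun e => hn p ?_) fun x hx =>
        subset_closure ⟨?_, (pcore_pi _ _).piElt hx⟩
      · simpa using ((Fitting_nil A).pcore_hall _).isPi_compl_of_eq_bot e
      · rw [← p_core_Fitting hp.1]; exact pcore_compl_cent_pcore _ _ hx
    rw [← h.N_eq hA.coatom h5 (key hA (hπ hp)), e, h.N_eq hB.coatom (e ▸ h5) (key hB hp)]
  · push Not at hn
    obtain ⟨q, hq⟩ := hn
    obtain rfl : p = q := isPi_iff_primesOf.1 hq (hπ hp)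
    have := Fact.mk hp.1
    have hp2 : p ≠ 2 := by
      rintro rfl
      exact absurd (hq.odd_prime (h.F_ne_bot hA) hA.odd) (by decide)
    obtain ⟨S, hS⟩ := Sylow_exists hp.1 A
    obtain ⟨T, hT⟩ := Sylow_exists hp.1 B
    obtain ⟨a1, a2⟩ := h.zj hA hp.1 hq hS
    obtain ⟨b1, b2⟩ := h.zj hB hp.1 (isPi_iff_primesOf.2 (hπ.trans (isPi_iff_primesOf.1 hq))) hT
    obtain ⟨g, -, rfl⟩ := Sylow_trans hp.1 a2 b2
    have hAB : B = cj g A := by
      rw [← a1, ← b1, cj_N]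
      exact congrArg (fun X : Subgroup G => N[X]) (centerThompsonOf_cj g S)
    have hZ : Z[F[A]] ≤ cj g A := hAB ▸ ((inf_le_inf_left _ (C_anti hY)).trans hYC).trans hYB
    have hZp : IsPi {p} Z[F[A]] := hq.inf_left _
    obtain ⟨a, ha, h1⟩ := Sylow_Jsub hp.1 hS (hZp.cj g⁻¹) (le_cj_iff.1 hZ)
    obtain ⟨S', rfl⟩ := a2.exists_sylow_top hp.1
    obtain ⟨n, hn, h2⟩ := zj_controls_fusion hp2 (Or.inl rfl) (h.not_quad' hp2) S'
      (Z[F[A]] : Subgroup G) (hS.nml_le hZp (Fitting_nml A).center) (g * a⁻¹) (by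
        rintro _ ⟨z, hz, rfl⟩
        have := h1 (conj_mem_cj a (conj_mem_cj g⁻¹ hz))
        simp only [mul_inv_rev, inv_inv, mul_assoc] at this ⊢
        exact this)
    have h3 : g * a⁻¹ * n⁻¹ ∈ A := h.C_le hA.coatom
      ((Fitting_nil A).center_ne_bot (h.F_ne_bot hA)) (Fitting_nml A).center (mem_C'.2 fun z hz => by
        calc g * a⁻¹ * n⁻¹ * z = g * a⁻¹ * (n⁻¹ * z * n) * n⁻¹ := by group
          _ = z * (g * a⁻¹ * n⁻¹) := by rw [h2 z hz]; group)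
    rw [a1] at hn
    rw [hAB, cj_of_mem ((mul_mem_cancel_right (inv_mem ha)).1
      ((mul_mem_cancel_right (inv_mem hn)).1 h3))]

theorem fc_of (hM : IsCoatom M) (H : ∀ z ∈ M, orderOf z = 2 → z ∉ C[F[O[{2}ᶜ, M]]]) : FC M := by
  have hK := pcore_nml {2}ᶜ M
  have h1 : M ⊓ C[F[O[{2}ᶜ, M]]] ≤ F[O[{2}ᶜ, M]] :=
    le_Fitting_of_cent (sol_of_odd (odd_pcore M))
      (le_O (odd_of_forall fun z hz h2 => H z hz.1 h2 hz.2) hK.Fitting.infC) inf_le_right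
  refine ⟨hM, ?_, ?_⟩
  · by_contra h2
    rw [Nat.not_odd_iff_even, even_iff_two_dvd, ← pcore_ne_bot_iff_dvd_Fitting Nat.prime_two] at h2
    obtain ⟨z, hz, h3⟩ := exists_two_of_pi (pcore_pi _ _) h2
    exact H z (pcore_le _ _ hz) h3
      (pcore_cents ((pcore_pi _ _).of_le (Fitting_le _)) hK.Fitting hz)
  · refine le_trans (le_inf (h.C_le hM (fun e => h.coatom_ne_bot hM ?_) (Fitting_nml M))
      (C_anti hK.Fitting_le)) (h1.trans hK.Fitting_le)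
    rwa [eq_bot_of_le e hK.Fitting_le, C_bot, inf_top_eq, le_bot_iff] at h1

theorem ul' (hA : FC A) (hB : FC B) (hπ : primesOf F[B] ⊆ primesOf F[A]) (hD : D ≤ F[A])
    (hN : N[D] ≤ B) : A = B :=
  h.ul hA hB hπ (Y := F[A] ⊓ N[D]) inf_le_left (inf_le_right.trans hN)
    (inf_le_inf_left _ ((C_anti (le_inf hD (norm_self D))).trans (C_le_N D)))

end AB

end H18.JRC
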