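import Mathlib
import Cfsg.Agent.H18.JRC1
import Cfsg.Agent.H26.GMain
import Cfsg.Agent.H13.DihMain
import Cfsg.Agent.H12.JRAF

/-! Simple groups with abelian Sylow `2`-subgroups: the induction statement and Lemma B. -/

set_option autoImplicit false
set_option linter.unusedSectionVars false

namespace H18.JRC

open H24 H26 Cfsg Subgroup H26.Gold
open H13.Dih hiding MC QS mem_zpowers_sq
open scoped commutatorElement

universe u

variable {G : Type u} [Group G] [Finite G]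

/-- the involutions -/
def DI (G : Type u) [Group G] : Set G := {x | x * x = 1 ∧ x ≠ 1}

theorem mem_DI {t : G} (ht : orderOf t = 2) : t ∈ DI G := ⟨sq_of ht, ne_one_of ht⟩

theorem DI.two {t : G} (ht : t ∈ DI G) : orderOf t = 2 := two_of ht.1 ht.2

/-- the induction statement -/
def PP (G : Type u) [Group G] : Prop :=
  ∀ t : G, orderOf t = 2 → ∀ p : ℕ, p.Prime → p ≠ 2 → ∀ U : Subgroup G, IsPi {p} U →
    C{t} ≤ N[U] → U ≤ C{t} ∧ (8 ∣ Nat.card G → ∀ w : G, orderOf w = 2 → w ∈ C{t} → U ≤ C{w})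

/-- the induction hypothesis -/
def IHP (n : ℕ) : Prop := ∀ (X : Type u) [Group X] [Finite X], Nat.card X < n → AB X → PP X

theorem sc_of_ab (hab : ∀ P : Subgroup G, IsPi {2} P → Abl P) : Gold.SC (DI G) := by
  refine ⟨fun d hd => hd.2, fun d hd => hd.1, fun d hd g => ⟨conj_sq hd.1 g, by
    rw [Ne, conj_eq_one_iff']; exact hd.2⟩, fun d hd e he h => ?_⟩
  have hn : zpowers d ≤ N[zpowers (d * e)] := zpowers_le.2 (mem_N_of_cj_le (by
    rw [cj_zpowers, zpowers_le]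
    have : d * (d * e) * d⁻¹ = (d * e)⁻¹ := by
      rw [← mul_assoc, hd.1, one_mul, mul_inv_rev, H6.inv_eq_of_mul_self he.1]
    rw [this]; exact inv_mem (mem_zpowers _)))
  have h0 := hab _ (h.isPi.sup (twoE_of_sq hd.1).isPi hn)
  have h1 : d ∈ zpowers (d * e) ⊔ zpowers d := mem_sup_right (mem_zpowers d)
  have h3 := (mul_mem_cancel_left h1).1 (mem_sup_left (mem_zpowers _))
  refine or_iff_not_imp_left.2 fun h4 => ⟨?_, h4⟩
  rw [mul_assoc, ← mul_assoc e, h0.comm h3 h1, mul_assoc, he.1, mul_one, hd.1]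

namespace AB

variable (h : AB G) {A B D K L M S T U X Y P : Subgroup G} {t s w x y : G} {p : ℕ}
include h

theorem sc : Gold.SC (DI G) := sc_of_ab h.ab

theorem Od_top : O[{2}ᶜ, (⊤ : Subgroup G)] = ⊥ :=
  (h.eq_or (eq_top_iff.2 (pcore_nml _ _).norm)).resolve_right (h.ne_top (Od_sol _))

theorem main (hS : Syl 2 ⊤ S) (hse : ¬ ∃ H : Subgroup G, IsStronglyEmbedded H) :
    EA S ∧ (♯S = 4 ∨ C8 (DI G) S) := by
  have := h.simple
  have S1 : S ≠ ⊥ := fun e => h.not_sol (OddG.sol (hS.isPi_compl_of_eq_bot e))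
  obtain ⟨d, hd, d1, d2⟩ := TwoG.exists_inv hS.pi S1
  have h1 := exists_mc' h.nab h.sc (maxD_of_syl h.sc hS) (ne_bot_of_mem (mem_Og ⟨d2, d1⟩ hd) d1) hse
  rw [← h1.main.1.eq_of_le hS.pi (Og_le _ _) le_top] at h1
  exact ⟨h1.ea, h1.main.2.1⟩

theorem pp_se (hse : ∃ H : Subgroup G, IsStronglyEmbedded H) : PP G := by
  have := h.simple
  obtain ⟨H, hH⟩ := hse
  obtain ⟨T0, Z0, h0, h1⟩ := ty1_of_stronglyEmbedded h.nab hH
  intro t ht p hp hp2 U hU hN
  obtain ⟨g, -, hg⟩ := Sylow_subJ Nat.prime_two h0.syl (isPi_zp ht) le_top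
  have hT : Syl 2 ⊤ (cj g T0) := h0.syl.cj_mem (mem_top g)
  have htT := hg (mem_zpowers t)
  have ti : ∀ z ∈ cj g T0, z ≠ 1 → C{z} ≤ N[cj g T0] := fun z hz z1 c hc => by
    have h2 := h1.ti (g⁻¹ * c * g) (mem_top _) (ne_bot_of_mem (x := g⁻¹ * z * g)
      (mem_inf.2 ⟨mem_cj.1 hz, by
        rw [mem_cj]
        have e : (g⁻¹ * c * g)⁻¹ * (g⁻¹ * z * g) * (g⁻¹ * c * g) = g⁻¹ * (c⁻¹ * z * c) * g := by group
        rw [e, mul_assoc c⁻¹, ← mem_C1.1 hc, inv_mul_cancel_left]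
        exact mem_cj.1 hz⟩) (by
          intro e; apply z1
          calc z = g * (g⁻¹ * z * g) * g⁻¹ := by group
            _ = 1 := by rw [e]; group))
    rw [← cj_N, mem_cj]
    exact h2
  obtain ⟨s0, hs0, s1, s2⟩ := h0.exists_ne (g⁻¹ * t * g)
  have hs := conj_mem_cj g (h0.le hs0)
  have hab := h.ab _ hT.pi
  have hf : Four t (g * s0 * g⁻¹) := ⟨ht, two_conj (two_of (h0.ea.sq hs0) s1) g,
    fun e => s2 (by rw [← e]; group), hab.comm hs htT⟩
  have hTN : cj g T0 ≤ N[U] := (hab.le_C.trans (C_le_C1 htT)).trans hN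
  have hUo := odd_of_pi hp2 hU
  have h3 : U ≤ N[cj g T0] := hf.gen hUo ((Four.V_le.2 ⟨htT, hs⟩).trans hTN)
    (inf_le_right.trans (ti _ htT (ne_one_of ht))) (inf_le_right.trans (ti _ hs (ne_one_of hf.hs)))
    (inf_le_right.trans (ti _ (mul_mem htT hs) hf.mul_ne_one))
  have h4 : U ≤ C[cj g T0] := cents_of_inf_eq_bot h3 hTN ((isPi_odd.2 hUo).inf_eq_bot' hT.pi)
  refine ⟨h4.trans (C_le_C1 htT), fun _ w hw hwt => h4.trans (C_le_C1 ?_)⟩
  exact hT.le_of_norm (isPi_zp hw) le_top (zpowers_le.2 (ti _ htT (ne_one_of ht) hwt))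
    (mem_zpowers w)

theorem cd (hS : Syl 2 ⊤ S) (hE : EA S) (h4 : ♯S = 4) : CD G := fun P hP => by
  have hP' := isPi_of_isPGroup Nat.prime_two hP
  obtain ⟨g, -, hg⟩ := Sylow_subJ Nat.prime_two hS hP' le_top
  have hsq : ∀ x ∈ P, x * x = 1 := fun x hx => by
    obtain ⟨y, hy, rfl⟩ := mem_cj'.1 (hg hx)
    exact conj_sq (hE.sq hy) g
  by_cases h1 : P = ⊥
  · exact ⟨1, one_mem _, fun x hx hx' => absurd (by rw [h1, mem_bot] at hx; rw [hx]; exact one_mem _) hx'⟩
  obtain ⟨a, ha, a1⟩ := exists_ne_one h1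
  have hab := h.ab P hP'
  refine ⟨a, ha, fun x hx hx' => ⟨hsq x hx, ?_, fun y hy hy' => ?_⟩⟩
  · rw [hab.comm hx ha, mul_inv_cancel_right, H6.inv_eq_of_mul_self (hsq a ha)]
  · have hf : Four a x := ⟨two_of (hsq a ha) a1, two_of (hsq x hx) fun e => hx' (e ▸ one_mem _),
      fun e => hx' (e ▸ mem_zpowers _), hab.comm hx ha⟩
    have e : V4 a x = P := eq_of_card_ge (Four.V_le.2 ⟨ha, hx⟩)
      (by rw [hf.V_card, ← h4, ← card_cj g S]; exact card_le hg)
    rcases hf.mem_V.1 (e ▸ hy) with rfl | rfl | rfl | rfl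
    · exact absurd (one_mem _) hy'
    · exact absurd (mem_zpowers _) hy'
    · rw [hsq y hy]; exact one_mem _
    · rw [hf.s_ts]; exact mem_zpowers _

theorem res_top : res (⊤ : Subgroup G) = ⊤ := eq_top_iff.2 (le_res le_rfl h.perf)

theorem gw_res (hc : CD G) : GW (res (⊤ : Subgroup G)) := by
  rw [h.res_top]
  exact (gw_of_cd hc h.perf h.top_ne_bot').of_surjective (topEquiv (G := G)).symm.toMonoidHom
    (topEquiv (G := G)).symm.surjective (by
      rw [(MonoidHom.ker_eq_bot_iff _).2 (topEquiv (G := G)).symm.injective, card_bot]; exact odd_one)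

theorem not_eight (hS : Syl 2 ⊤ S) (h4 : ♯S = 4) : ¬ 8 ∣ Nat.card G := fun e => by
  have := hS.dvd_card (n := 8) (piNat_self_pow Nat.prime_two 3) (by rwa [card_top])
  rw [h4] at this
  exact absurd this (by decide)

theorem pp_four (hS : Syl 2 ⊤ S) (hE : EA S) (h4 : ♯S = 4) : PP G := by
  intro t ht p hp hp2 U hU hN
  have hc := h.cd hS hE h4
  refine ⟨comm_zp_eq_bot.1 ?_, fun e => absurd e (h.not_eight hS h4)⟩
  have h1 := hN (self_mem_C1 t)
  exact lemB_bar hc h.Od_top (fun _ => h.gw_res hc) ht (mem_top t) hp hp2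
    (hU.of_le (comm_le_left (zpowers_le.2 h1))) le_top (comm_idem (odd_of_pi hp2 hU) ht h1).ge
    (inf_le_right.trans (norm_comm_zp hN le_rfl))

theorem four_cent (hS : Syl 2 ⊤ S) (hE : EA S) (h4 : ♯S = 4) (ho : Odd (orderOf y))
    (hy : y ∈ C[S]) : y = 1 := by
  have hc := h.cd hS hE h4
  obtain ⟨hQ, hC⟩ := qs_res hc h.Od_top (h.gw_res hc)
  rw [inf_top_eq] at hC
  have hm : ∀ x, x ∈ res (⊤ : Subgroup G) := fun x => by rw [h.res_top]; exact mem_top x
  rcases h.gw_res hc with h2 | ⟨⟨e⟩⟩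
  · obtain ⟨m, m', T, K⟩ := exists_kl2 hc hQ h2
    obtain ⟨t, ht, t1⟩ := exists_ne_one (H := S) (by rintro rfl; simp at h4)
    obtain ⟨s, hs, hs'⟩ : ∃ s ∈ S, s ∉ zpowers t := by
      by_contra! hh
      have := card_le (show S ≤ zpowers t from hh)
      rw [card_zpowers', two_of (hE.sq ht) t1] at this
      omega
    have hf : Four t s := ⟨two_of (hE.sq ht) t1, two_of (hE.sq hs) fun e => hs' (e ▸ one_mem _),
      fun e => hs' (e ▸ mem_zpowers _), hE.comm hs ht⟩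
    have h3 := K.odd_mem (norm_self _ (hm t)) hf.ht ⟨hm y, C_le_C1 ht hy⟩ ho
    rw [hC, sup_bot_eq] at h3
    exact (K.inv' hf (norm_self _ (hm t)) (norm_self _ (hm s))).eq_one h3 ho (C_le_C1 hs hy)
  · refine absurd ?_ (h.not_eight hS h4)
    have h3 : 8 ∣ Nat.card (alternatingGroup (Fin 7)) := by
      have := two_mul_nat_card_alternatingGroup (α := Fin 7)
      rw [Nat.card_perm, Nat.card_eq_fintype_card (α := Fin 7), Fintype.card_fin] at this
      rw [show Nat.factorial 7 = 5040 from rfl] at this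
      omega
    rw [← Nat.card_congr e.toEquiv] at h3
    exact (h3.trans (card_quotient_dvd_card _)).trans (card_subgroup_dvd_card _)

end AB

end H18.JRC
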