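import Mathlib
import Cfsg.Agent.H18.JRC2

/-! Simple groups with abelian Sylow `2`-subgroups: Lemma B. -/

set_option autoImplicit false
set_option linter.unusedSectionVars false

namespace H18.JRC

open H24 H26 Cfsg Subgroup H26.Gold
open H13.Dih hiding MC QS mem_zpowers_sq
open scoped commutatorElement

universe u

variable {G : Type u} [Group G] [Finite G] {A B H K L M S T U X Y P Q : Subgroup G} {t s w x y z : G}
  {p n : ℕ}

theorem ab_sub (hL : AS L) (hT : Syl 2 L T) (hab : Abl T) : AB L :=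
  ⟨hL.isSimpleGroup, hL.nab, ab_of_syl ((hall_subgroupOf_top hT.le).2 hT) (hab.subgroupOf L)⟩

theorem IHP.sub (ih : IHP.{u} n) (hL : AS L) (hT : Syl 2 L T) (hab : Abl T) (hn : ♯L < n)
    (htL : t ∈ L) (ht : orderOf t = 2) (hp : p.Prime) (hp2 : p ≠ 2) (hU : IsPi {p} U) (hUL : U ≤ L)
    (hN : L ⊓ C{t} ≤ N[U]) :
    U ≤ C{t} ∧ (8 ∣ ♯L → ∀ w ∈ L, orderOf w = 2 → w ∈ C{t} → U ≤ C{w}) := by
  have h := ih L hn (ab_sub hL hT hab) ⟨t, htL⟩ (by rw [← orderOf_coe]; exact ht) p hp hp2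
    (U.subgroupOf L) (isPi_subgroupOf hU L) fun g hg => mem_N_of_finite fun x hx =>
      mem_subgroupOf.2 (conj_mem (hN ⟨g.2, mem_C1.2 (congrArg Subtype.val (mem_C1.1 hg))⟩)
        (mem_subgroupOf.1 hx))
  refine ⟨fun x hx => mem_C1.2 (congrArg Subtype.val (mem_C1.1 (h.1 (x := ⟨x, hUL hx⟩) hx))),
    fun h8 w hwL hw hwt x hx => mem_C1.2 (congrArg Subtype.val (mem_C1.1
      (h.2 h8 ⟨w, hwL⟩ (by rw [← orderOf_coe]; exact hw)
        (mem_C1.2 (Subtype.ext (mem_C1.1 hwt))) (x := ⟨x, hUL hx⟩) hx)))⟩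

theorem four_cent_sub (hL : AS L) (hT : Syl 2 L T) (hE : EA T) (h4 : ♯T = 4) (hyL : y ∈ L)
    (ho : Odd (orderOf y)) (hy : y ∈ C[T]) : y = 1 :=
  congrArg Subtype.val ((ab_sub hL hT hE.abl).four_cent (y := ⟨y, hyL⟩)
    ((hall_subgroupOf_top hT.le).2 hT) (ea_of_sq fun a ha => Subtype.ext (hE.sq ha))
    (by rw [card_subgroupOf_of_le hT.le, h4]) (by rw [← orderOf_coe]; exact ho)
    (mem_C.2 fun a ha => Subtype.ext (mem_C.1 hy a ha)))

theorem inf_Ck (hab : ∀ P : Subgroup G, IsPi {2} P → Abl P) (hK : ⁅K, K⁆ = K) :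
    K ⊓ Ck K ≤ Od[K] := fun x hx => by
  obtain ⟨T, hT⟩ := Sylow_exists Nat.prime_two K
  have hn := (pcore_nml {2}ᶜ K).norm
  have hxN := hn hx.1
  rw [← cs_eq_one hxN]
  refine H12.abelian_hall_center (hT.quo hn) ((hab T hT.pi).quo _) ?_ ?_ ?_
  · rw [← quo_sup_right (hT.le.trans hn)]
    exact cs_mem_quo (inf_Ck_le hT hx) hxN
  · rw [← quo_comm hn hn, hK]
    exact cs_mem_quo hx.1 hxN
  · rw [← mem_C_iff_le_C1, ← zpowers_le, ← quo_zpowers hxN, quo_cents (zpowers_le.2 hxN) hn]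
    exact le_Ck.1 (zpowers_le.2 hx.2)

theorem hat_cent {Y : Type u} [Group Y] [Finite Y] {π : N[K] →* Y}
    (hab : ∀ P : Subgroup G, IsPi {2} P → Abl P) (hπ : Hat K π) (hK : ⁅K, K⁆ = K)
    (ht : orderOf t = 2) (htN : t ∈ N[K]) : img π K ⊓ C{ap π t} ≤ img π (K ⊓ C{t}) := by
  rintro z ⟨hz, hc⟩
  obtain ⟨k, hk, hkN, rfl⟩ := mem_img.1 hz
  have h1 : t * k * t⁻¹ * k⁻¹ ∈ Od[K] := by
    refine inf_Ck hab hK (mem_inf.2 ⟨mul_mem (conj_mem htN hk) (inv_mem hk), ?_⟩)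
    rw [← hπ.eq_one (mul_mem (mul_mem (mul_mem htN hkN) (inv_mem htN)) (inv_mem hkN)),
      ap_mul _ (mul_mem (mul_mem htN hkN) (inv_mem htN)) (inv_mem hkN), ap_conj _ htN hkN,
      ap_inv _ hkN, ← mem_C1.1 hc]
    group
  obtain ⟨v, hv, h2⟩ := coprime_lift_cent (A := zpowers t) (V := Od[K])
    (zpowers_le.2 (N_le_N_pcore _ _ htN)) (cop_zp (odd_pcore K) ht) (Or.inl (Od_sol K)) (g := k)
    fun a ha => by
      rcases (mem_zpowers_of_sq (sq_of ht)).1 ha with rfl | rfl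
      · simp
      · exact h1
  have hvK := pcore_le _ _ hv
  rw [C_zpowers] at h2
  refine mem_img.2 ⟨v * k, ⟨mul_mem hvK hk, h2⟩, mul_mem (norm_self K hvK) hkN, ?_⟩
  rw [ap_mul _ (norm_self K hvK) hkN, (hπ.eq_one (norm_self K hvK)).2 (Od_le_Ck K hv), one_mul]

theorem piece_P (ih : IHP.{u} n) (hab : ∀ P : Subgroup G, IsPi {2} P → Abl P)
    (hc : Ctx (DI G) H A) (hK : Piece (DI G) H K) (hn : ♯H < n) (ht : orderOf t = 2)
    (htN : t ∈ N[K]) (hp : p.Prime) (hp2 : p ≠ 2) (hQ : IsPi {p} Q) (hQN : Q ≤ N[K])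
    (hN : K ⊓ C{t} ≤ N[Q]) (hw : orderOf w = 2) (hwN : w ∈ N[K]) (hwQ : w ∈ N[Q])
    (hwt : w = t ∨ (t ∉ Ck K ∧ 8 ∣ (Ck K).relIndex A ∧ w ∈ C{t})) : ⁅Q, zpowers w⁆ ≤ Ck K := by
  by_cases hwC : w ∈ Ck K
  · exact (comm_mono_right (zpowers_le.2 hwC)).trans (comm_le_right (norm_Ck hQN))
  have htC : t ∉ Ck K := hwt.elim (fun e => e ▸ hwC) fun e => e.1
  obtain ⟨Y, _, _, π, T, hd⟩ := hc.hd0 hK
  have two : ∀ {x : G}, orderOf x = 2 → x ∈ N[K] → x ∉ Ck K → orderOf (ap π x) = 2 :=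
    fun hx hN hC => two_of (hd.sq (mem_DI hx) hN) fun e => hC ((hd.hat.eq_one hN).1 e)
  have hP := ih.sub hd.as hd.tz.syl ((hab T hd.syl.pi).img π)
    (((Nat.le_of_dvd (card_pos K) (card_img_dvd π K)).trans (card_le hK.le')).trans_lt hn)
    (hd.mem t (mem_DI ht) htN) (two ht htN htC) hp hp2 ((hQ.img π).inf_left (img π K)) inf_le_right
    (norm_inf ((hat_cent hab hd.hat hK.perf ht htN).trans (img_norm π hN)) (norm_of_le inf_le_left))
  have h1 : img π Q ⊓ img π K ≤ C{ap π w} := by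
    rcases hwt with rfl | ⟨-, h8, hwt⟩
    · exact hP.1
    · refine hP.2 (h8.trans ?_) _ (hd.mem w (mem_DI hw) hwN) (two hw hwN hwC)
        (img_cent1 π (zpowers_le.2 hwt) htN (ap_mem_img π (mem_zpowers w) hwN))
      rw [← hd.card]
      exact card_dvd (hd.tz.le.trans hd.tz.syl.le)
  have hw' := zpowers_le.2 hwN
  have hX : ⁅Q, zpowers w⁆ ≤ Q := comm_le_left (zpowers_le.2 hwQ)
  have h2 : img π ⁅Q, zpowers w⁆ ≤ img π Q ⊓ img π K := le_inf (img_mono π hX) (by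
    rw [img_comm π hQN hw', img_zpowers π hwN]
    exact (comm_mono_right (zpowers_le.2 (hd.mem w (mem_DI hw) hwN))).trans
      (comm_le_right (hd.as.norm _)))
  rw [← comm_idem (odd_of_pi hp2 hQ) hw hwQ, ← hd.hat.ker, comm_le_ker (hX.trans hQN) hw',
    img_zpowers π hwN, C_zpowers]
  exact h2.trans h1

/-- Lemma B -/
theorem lemB (ih : IHP.{u} n) (hab : ∀ P : Subgroup G, IsPi {2} P → Abl P) (hL : ♯L < n)
    (ht : orderOf t = 2) (htL : t ∈ L) (hp : p.Prime) (hp2 : p ≠ 2)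
    (hX : IsPi {p} X) (hXL : X ≤ L) (hXt : X ≤ ⁅X, zpowers t⁆) (hN : L ⊓ C{t} ≤ N[X]) :
    X ≤ O[{p}, L] := by
  have hD := sc_of_ab hab
  have hK := pcore_nml {2}ᶜ L
  have hKo := odd_pcore L
  have htK := hK.norm htL
  have htX := hN ⟨htL, self_mem_C1 t⟩
  have h1 : X ≤ O[{2}ᶜ, L] := by
    obtain ⟨A, hA, htA⟩ := exists_maxD (B := zpowers t) hD (zpowers_le.2 htL) fun b hb =>
      ((mem_zpowers_of_sq (sq_of ht)).1 hb).imp_right fun e => by rw [e]; exact mem_DI ht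
    have hc := ctx_all hD hA
    have htO := mem_Og (mem_DI ht) htL
    have hXO : X ≤ Og (DI G) L := hXt.trans ((comm_mono_right (zpowers_le.2 htO)).trans
      (comm_le_right (hXL.trans (hD.Og_nml L).norm)))
    refine (hc.le_Od_Og (isPi_odd.2 (odd_of_pi hp2 hX)) hXO
      ((le_inf hA.le (hc.ea.le_C.trans (C_le_C1 (htA (mem_zpowers t))))).trans hN)
      fun K hK => hXt.trans ?_).trans (hD.Od_Og_le L)
    exact piece_P ih hab hc hK hL ht (hK.norm htO) hp hp2 hX (hXO.trans hK.norm)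
      ((inf_le_inf_right _ hK.le').trans hN) ht (hK.norm htO) htX (Or.inl rfl)
  set K := O[{2}ᶜ, L]
  refine le_trans ?_ (hK.pcore_le {p})
  have hP := pcore_nml {p} K
  have htP : t ∈ N[O[{p}, K]] := N_le_N_pcore _ _ htK
  have hPo := odd_of_le hKo hP.le
  rw [← quo_eq_bot (h1.trans hP.norm)]
  refine lemB_odd (odd_quo hKo _) (pcore_quo_pcore _ K) (two_cs hPo ht htP) (cs_mem_N htK htP) hp
    (hX.quo _) (quo_mono _ h1) (cs_mem_N htX htP) ?_ ?_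
  · rw [← quo_zpowers htP, ← quo_comm (h1.trans hP.norm) (zpowers_le.2 htP)]
    exact quo_mono _ hXt
  · rw [← quo_C1 hPo ht htP hP.le]
    exact quo_norm _ ((inf_le_inf_right _ hK.le).trans hN)

theorem lemB' (ih : IHP.{u} n) (hab : ∀ P : Subgroup G, IsPi {2} P → Abl P) (hL : ♯L < n)
    (ht : orderOf t = 2) (htL : t ∈ L) (hp : p.Prime) (hp2 : p ≠ 2)
    (hX : IsPi {p} X) (hN : L ⊓ C{t} ≤ N[X]) : ⁅X ⊓ L, zpowers t⁆ ≤ O[{p}, L] := by
  have h1 : L ⊓ C{t} ≤ N[X ⊓ L] := norm_inf hN (norm_of_le inf_le_left)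
  have h2 := h1 ⟨htL, self_mem_C1 t⟩
  have h3 : ⁅X ⊓ L, zpowers t⁆ ≤ X ⊓ L := comm_le_left (zpowers_le.2 h2)
  exact lemB ih hab hL ht htL hp hp2 ((hX.inf_left L).of_le h3) (h3.trans inf_le_right)
    (comm_idem (odd_of_pi hp2 (hX.inf_left L)) ht h2).ge (norm_comm_zp h1 inf_le_right)

theorem pxq (hp : p.Prime) (hp2 : p ≠ 2) (hz : orderOf z = 2) (hP : IsPi {p} P) (hU : IsPi {p} U)
    (hPz : P ≤ C{z}) (hPU : P ≤ N[U]) (hzU : z ∈ N[U]) (h : U ⊓ C[P] ≤ C{z}) : U ≤ C{z} :=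
  mem_C_iff_le_C1.1 (Thompson_PxQ hp hP ((isPi_zp hz).compl_of_ne hp2.symm) hU
    (by rwa [C_zpowers]) hPU (zpowers_le.2 hzU) (by rwa [C_zpowers]) (mem_zpowers z))

theorem le_C_of_comm (hX : Odd ♯X) (ht : orderOf t = 2) (hN : t ∈ N[X])
    (h : ⁅X, zpowers t⁆ ≤ C{t}) : X ≤ C{t} := by
  rwa [← comm_zp_eq_bot, comm_idem hX ht hN, comm_zp_eq_bot] at h

theorem cent_O (ht : orderOf t = 2) (htM : t ∈ M)
    (H : ∀ p : ℕ, p.Prime → p ≠ 2 → O[{p}, M] ≤ C{t}) : O[{2}ᶜ, M] ≤ C{t} := by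
  have hK := pcore_nml {2}ᶜ M
  refine mem_C_iff_le_C1.1 (coprime_cent_Fitting (zpowers_le.2 (hK.norm htM))
    (cop_zp (odd_pcore M) ht) (sol_of_odd (odd_pcore M)) ⟨mem_zpowers t, mem_C_iff_le_C1.2
      (Fitting_le_of_pcore_le fun p hp hd => (hK.pcore_le _).trans (H p hp ?_))⟩)
  rintro rfl
  exact (isPi_compl_iff hp).1 ((pcore_pi _ _).of_le (Fitting_le _)) hd

theorem card_sup_le (h : B ≤ N[A]) : ♯(A ⊔ B) ≤ ♯A * ♯B := by
  rw [← card_sup h]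
  exact Nat.le_mul_of_pos_right _ (card_pos _)

end H18.JRC
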