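import Mathlib
import Cfsg.Agent.H18.JRC3

/-! Simple groups with elementary abelian Sylow `2`-subgroups of order `8`: basic facts. -/

set_option autoImplicit false
set_option linter.unusedSectionVars false

namespace H18.JRC

open H24 H26 Cfsg Subgroup H26.Gold
open H13.Dih hiding MC QS mem_zpowers_sq
open scoped commutatorElement

universe u

variable {G : Type u} [Group G] [Finite G] {A B H K L M N S T U V W X Y P Q : Subgroup G}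
  {a b c g t s w x y z : G} {p n : ℕ}

/-- the configuration of order `8` -/
structure CX (S : Subgroup G) : Prop where
  ab : AB G
  c8 : C8 (DI G) S
  ih : IHP.{u} (Nat.card G)

/-- `R_a` -/
def RR (S : Subgroup G) (a : G) : Subgroup G := KK (DI G) a ⊓ N[S]

namespace CX

variable (h : CX S)
include h

theorem ea : EA S := h.c8.mc.ea

theorem syl : Syl 2 ⊤ S := h.c8.syl

theorem syl' (hM : S ≤ M) : Syl 2 M S := h.syl.of_le hM le_top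

theorem two (ha : a ∈ S) (a1 : a ≠ 1) : orderOf a = 2 := two_of (h.ea.sq ha) a1

theorem le_C1 (ha : a ∈ S) : S ≤ C{a} := h.ea.le_C.trans (C_le_C1 ha)

theorem mem_zp (ha : a ∈ S) : x ∈ zpowers a ↔ x = 1 ∨ x = a := mem_zpowers_of_sq (h.ea.sq ha)

theorem not_mem_zp (ha : a ∈ S) (x1 : x ≠ 1) (hx : x ≠ a) : x ∉ zpowers a := fun e =>
  ((h.mem_zp ha).1 e).elim x1 hx

theorem card_zp (ha : a ∈ S) : ♯(zpowers a) ≤ 2 := by
  rw [card_zpowers']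
  exact orderOf_le_of_pow_eq_one two_pos (by rw [pow_two, h.ea.sq ha])

theorem card_lt (hL : L ≠ ⊤) : ♯L < Nat.card G := by
  rw [← card_top (G := G)]
  exact H24.card_lt (lt_top_iff_ne_top.2 hL)

theorem lemB (hL : L ≠ ⊤) (ht : orderOf t = 2) (htL : t ∈ L) (hp : p.Prime) (hp2 : p ≠ 2)
    (hX : IsPi {p} X) (hXL : X ≤ L) (hXt : X ≤ ⁅X, zpowers t⁆) (hN : L ⊓ C{t} ≤ N[X]) :
    X ≤ O[{p}, L] := JRC.lemB h.ih h.ab.ab (h.card_lt hL) ht htL hp hp2 hX hXL hXt hN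

theorem lemB' (hL : L ≠ ⊤) (ht : orderOf t = 2) (htL : t ∈ L) (hp : p.Prime) (hp2 : p ≠ 2)
    (hX : IsPi {p} X) (hN : L ⊓ C{t} ≤ N[X]) : ⁅X ⊓ L, zpowers t⁆ ≤ O[{p}, L] :=
  JRC.lemB' h.ih h.ab.ab (h.card_lt hL) ht htL hp hp2 hX hN

theorem piece (ha : a ∈ S) (a1 : a ≠ 1) : Piece (DI G) C{a} (KK (DI G) a) := (h.c8.KK_spec ha a1).1

theorem R_le (ha : a ∈ S) (a1 : a ≠ 1) : RR S a ≤ C{a} := inf_le_left.trans (h.piece ha a1).le'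

omit h in
theorem R_N : RR S a ≤ N[S] := inf_le_right

theorem trs (ha : a ∈ S) (a1 : a ≠ 1) (hx : x ∈ S) (hx' : x ∉ zpowers a) (hy : y ∈ S)
    (hy' : y ∉ zpowers a) : ∃ u ∈ RR S a, u * x * u⁻¹ * y ∈ zpowers a := by
  have h1 := (h.c8.mc.ctxA ha a1).trs (h.piece ha a1)
  rw [(h.c8.KK_spec ha a1).2] at h1
  obtain ⟨u, hu, -, h2⟩ := h1.trans x hx hx' y hy hy'
  exact ⟨u, hu, h2⟩

theorem hR (ha : a ∈ S) (a1 : a ≠ 1) (hW : W ≤ S) (hn : RR S a ≤ N[W]) (h1 : ¬ W ≤ zpowers a) :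
    S ≤ W ⊔ zpowers a := fun y hy => by
  by_cases hy' : y ∈ zpowers a
  · exact mem_sup_right hy'
  obtain ⟨x, hx, hx'⟩ := SetLike.not_le_iff_exists.1 h1
  obtain ⟨u, hu, h2⟩ := h.trs ha a1 (hW hx) hx' hy hy'
  exact (mul_mem_cancel_left (mem_sup_left (conj_mem (hn hu) hx))).1 (mem_sup_right h2)

theorem exists_not (hW : ♯W ≤ 4) : ∃ y ∈ S, y ∉ W := by
  by_contra! hh
  have := card_le (show S ≤ W from hh)
  rw [h.c8.card] at this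
  omega

theorem card_sup_zp (hW : W ≤ S) (ha : a ∈ S) : ♯(W ⊔ zpowers a) ≤ ♯W * 2 :=
  (card_sup_le (h.ea.abl.norm (zpowers_le.2 ha) hW)).trans (Nat.mul_le_mul_left _ (h.card_zp ha))

theorem exists_not' (ha : a ∈ S) (hb : b ∈ S) : ∃ y ∈ S, y ∉ zpowers a ⊔ zpowers b :=
  h.exists_not ((h.card_sup_zp (zpowers_le.2 ha) hb).trans (Nat.mul_le_mul_right _ (h.card_zp ha)))

theorem hyper (hV : V ≤ S) (hx : x ∈ S) (hS : S ≤ V ⊔ zpowers x) : 4 ≤ ♯V := by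
  have := (card_le hS).trans (h.card_sup_zp hV hx)
  rw [h.c8.card] at this
  omega

theorem sup_eq (hV : V ≤ S) (h4 : 4 ≤ ♯V) (ha : a ∈ S) (haV : a ∉ V) : S ≤ V ⊔ zpowers a := by
  have a1 : a ≠ 1 := fun e => haV (e ▸ one_mem _)
  refine (eq_of_card_ge (sup_le hV (zpowers_le.2 ha)) ?_).ge
  rw [card_sup_of_inf (h.ea.abl.norm (zpowers_le.2 ha) hV) (eq_bot_iff.2 fun y hy => by
    rcases (h.mem_zp ha).1 hy.2 with rfl | rfl
    exacts [one_mem _, absurd hy.1 haV]), card_zpowers', h.two ha a1, h.c8.card]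
  omega

theorem four (ha : a ∈ S) (a1 : a ≠ 1) (hb : b ∈ S) (hb' : b ∉ zpowers a) : Four a b :=
  ⟨h.two ha a1, h.two hb fun e => hb' (e ▸ one_mem _), fun e => hb' (e ▸ mem_zpowers _),
    h.ea.comm hb ha⟩

theorem exists_four (hV : V ≤ S) (h4 : 4 ≤ ♯V) : ∃ v ∈ V, ∃ w ∈ V, Four v w := by
  obtain ⟨v, hv, v1⟩ := exists_ne_one (H := V) (by rintro rfl; simp at h4)
  obtain ⟨w, hw, hw'⟩ : ∃ w ∈ V, w ∉ zpowers v := by
    by_contra! hh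
    have := (card_le (show V ≤ zpowers v from hh)).trans (h.card_zp (hV hv))
    omega
  exact ⟨v, hv, w, hw, h.four (hV hv) v1 (hV hw) hw'⟩

theorem gen' (ha : a ∈ S) (hK : Odd ♯K) (hS : S ≤ N[K])
    (H : ∀ x ∈ S, x ∉ zpowers a → K ⊓ C{x} ≤ L) : K ≤ L := by
  obtain ⟨x, hx, hx'⟩ := h.exists_not ((h.card_zp ha).trans (by norm_num))
  obtain ⟨y, hy, hy'⟩ := h.exists_not' ha hx
  exact (h.four hx (fun e => hx' (e ▸ one_mem _)) hy fun e => hy' (mem_sup_right e)).gen hK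
    ((Four.V_le.2 ⟨hx, hy⟩).trans hS) (H x hx hx') (H y hy fun e => hy' (mem_sup_left e))
    (H _ (mul_mem hx hy) fun e => hy'
      ((mul_mem_cancel_left (mem_sup_right (mem_zpowers x))).1 (mem_sup_left e)))

theorem mover (ha : a ∈ S) (a1 : a ≠ 1) (hb : b ∈ S) (b1 : b ≠ 1) (hab : a ≠ b) :
    ∃ u ∈ RR S b, u ∉ C{a} := by
  obtain ⟨y, hy, hy'⟩ := h.exists_not' ha hb
  obtain ⟨u, hu, h2⟩ := h.trs hb b1 ha (h.not_mem_zp hb a1 hab) hy fun e => hy' (mem_sup_right e)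
  refine ⟨u, hu, fun e => hy' ?_⟩
  rw [mem_C1_iff_conj.1 e] at h2
  exact (mul_mem_cancel_left (mem_sup_left (mem_zpowers a))).1 (mem_sup_right h2)

theorem cl_eq (ha : a ∈ S) (a1 : a ≠ 1) : cl N[S] a = (S : Set G) \ {1} := by
  ext y
  refine ⟨?_, fun hy => ?_⟩
  · rintro ⟨g, hg, rfl⟩
    exact ⟨conj_mem hg ha, fun e => a1 (conj_eq_one_iff'.1 e)⟩
  · obtain ⟨g, hg, e⟩ := h.c8.trans a ha a1 y hy.1 hy.2
    exact ⟨g, hg, e.symm⟩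

theorem seven (ha : a ∈ S) (a1 : a ≠ 1) : (C{a}).relIndex N[S] = 7 := by
  rw [← ncard_cl, h.cl_eq ha a1, Set.ncard_sdiff_singleton_of_mem (one_mem S),
    ← Nat.card_coe_set_eq]
  exact congrArg (· - 1) h.c8.card

theorem iso1 (ha : a ∈ S) (a1 : a ≠ 1) (h1 : N[S] ⊓ C{a} ≤ M) (hg : g ∈ M) (hgN : g ∈ N[S])
    (hg' : g ∉ C{a}) : N[S] ≤ M := by
  have h2 : N[S] ⊓ C{a} ⋖ N[S] := covBy_of_relIndex_prime inf_le_left (by
    rw [inf_relIndex_left, h.seven ha a1]; norm_num)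
  rcases covBy_eq_or h2 (L := N[S] ⊓ M) (le_inf inf_le_left h1) inf_le_left with e | e
  · exact absurd (e.le ⟨hgN, hg⟩).2 hg'
  · exact inf_eq_left.1 e

theorem iso2 (ha : a ∈ S) (a1 : a ≠ 1) (hM : C{a} ≤ M) (hM1 : M ≠ ⊤) : M ⊓ N[S] ≤ C{a} := by
  intro g hg
  by_contra hg'
  have h1 := h.iso1 ha a1 (inf_le_right.trans hM) hg.1 hg.2 hg'
  refine hM1 (h.c8.mc.gen M fun b hb b1 => ?_)
  obtain ⟨k, hk, rfl⟩ := h.c8.trans a ha a1 b hb b1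
  rw [← cj_C1]
  exact cj_le_of_mem hM (h1 hk)

theorem iso3 (ha : a ∈ S) (a1 : a ≠ 1) (hb : b ∈ S) (b1 : b ≠ 1) (hab : a ≠ b) (hM : C{a} ≤ M)
    (hM' : C{b} ≤ M) : M = ⊤ := by
  by_contra hM1
  obtain ⟨u, hu, hu'⟩ := h.mover ha a1 hb b1 hab
  exact hu' (h.iso2 ha a1 hM hM1 ⟨hM' (h.R_le hb b1 hu), R_N hu⟩)

theorem zc (hSN : S ≤ N) (hz : z ∈ S) (z1 : z ≠ 1) (H : N ⊓ N[S] ≤ C{z}) :
    ⁅zpowers z, N⁆ ≤ Od[N] :=
  zstar_sub (h.syl' hSN) hz z1 (h.ea.sq hz) fun g hg hg' => by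
    obtain ⟨n, hn, e⟩ := fusion_syl (h.syl' hSN) (h.ea.le_C hz) hg (h.ea.le_C hg')
    rw [e, mem_C1_iff_conj.1 (H hn)]

theorem zc' (hSN : S ≤ N) (hz : z ∈ S) (z1 : z ≠ 1) (H : N ⊓ N[S] ≤ C{z}) (hc : Od[N] ≤ C{z}) :
    N ≤ C{z} := fun g hg => by
  have h1 := h.zc hSN hz z1 H (commutator_mem_commutator (mem_zpowers z) hg)
  have h2 := mem_C1.1 (hc h1)
  have h3 := h.ea.sq hz
  have h4 := h.ea.inv hz
  rw [commutatorElement_def, h4] at h1 h2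
  have h5 : z * g * z * g⁻¹ = 1 := eq_one_of_odd_sq ((Od_odd N).piElt h1) (by
    calc z * g * z * g⁻¹ * (z * g * z * g⁻¹) = z * g * z * g⁻¹ * z * (g * z * g⁻¹) := by group
      _ = (z * z) * (g * (z * z) * g⁻¹) := by rw [h2]; group
      _ = 1 := by rw [h3]; group)
  rw [mem_C1_iff_conj, ← h4]
  nth_rewrite 1 [h4]
  exact eq_inv_of_mul_eq_one_right (by rw [← h5]; group)

theorem odd_fix (hg : g ∈ N[S]) (hy : y ∈ S) (h2 : g * g ∈ C{y}) : g ∈ C{y} := by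
  obtain ⟨k, k', hk, hk', h3, h4, e⟩ := exists_piElt_decomp {2} g
  rw [e]
  refine mul_mem (C_le_C1 hy (h.c8.two k (zpowers_le.2 hg h3) hk)) ?_
  refine zpowers_le.2 ?_ (H13.Dih.mem_zpowers_sq (piElt_odd.1 hk'))
  obtain ⟨m, rfl⟩ := mem_zpowers_iff.1 h4
  rw [← zpow_add, ← two_mul, zpow_mul, zpow_two]
  exact zpow_mem h2 m

theorem nc (hx : x ∈ S) (x1 : x ≠ 1) (hy : y ∈ S) (hy' : y ∉ zpowers x) :
    N[S] ⊓ C{x} ≤ RR S x ⊔ (C{x} ⊓ C{y}) := fun g hg => by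
  obtain ⟨u, hu, h1⟩ := h.trs hx x1 (conj_mem hg.1 hy)
    (fun e => hy' ((conj_mem_iff (norm_zpowers_of_cent le_rfl hg.2)).1 e)) hy hy'
  have hk : u * g ∈ C{x} := mul_mem (h.R_le hx x1 hu) hg.2
  refine (mul_mem_cancel_left (mem_sup_left hu)).1 (mem_sup_right ⟨hk, ?_⟩)
  refine h.odd_fix (mul_mem (R_N hu) hg.1) hy (mem_C1_iff_conj.2 ?_)
  have e : u * (g * y * g⁻¹) * u⁻¹ = u * g * y * (u * g)⁻¹ := by group
  rw [e] at h1
  set k := u * g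
  set e := k * y * k⁻¹ * y with he
  have h2 : k * y * k⁻¹ = e * y := by rw [he, mul_assoc _ y y, h.ea.sq hy, mul_one]
  have h3 : k * e * k⁻¹ = e := mem_C1_iff_conj.1 (C1_le_C1_of_mem_zpowers h1 hk)
  calc k * k * y * (k * k)⁻¹ = k * (k * y * k⁻¹) * k⁻¹ := by group
    _ = k * (e * y) * k⁻¹ := by rw [h2]
    _ = (k * e * k⁻¹) * (k * y * k⁻¹) := by group
    _ = y := by rw [h3, h2, ← mul_assoc, h.ea.sq (zpowers_le.2 hx h1), one_mul]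

theorem fc_S (hN : IsCoatom N) (hSN : S ≤ N) (hp : p.Prime) (hp2 : p ≠ 2)
    (H : ∀ z ∈ S, z ≠ 1 → z ∉ C[O[{p}, N]]) : FC N := h.ab.fc_of hN fun z hz h2 hc => by
  obtain ⟨v, hv, h3⟩ := H13.Dih.MC.exists_cent (h.syl' hSN) (pcore_nml {2}ᶜ N).Fitting.infC
    ⟨hz, hc⟩ h2
  exact H v hv.1.1 (ne_one_of h3) (C_anti (pcore_le_FO hp hp2 N) hv.1.2.2)

end CX

end H18.JRC
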