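import Mathlib
import Cfsg.Agent.H18.JRC4

/-! Simple groups with elementary abelian Sylow `2`-subgroups of order `8`: step 1. -/

set_option autoImplicit false
set_option linter.unusedSectionVars false

namespace H18.JRC

open H24 H26 Cfsg Subgroup H26.Gold
open H13.Dih hiding MC QS mem_zpowers_sq
open scoped commutatorElement

universe u

variable {G : Type u} [Group G] [Finite G] {A B H K L M N S T U V W X Y P Q : Subgroup G}
  {a b c g t s w x y z : G} {p n : ℕ}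

namespace CX

variable (h : CX S)
include h

theorem exists_t1 (ha : a ∈ S) (a1 : a ≠ 1) (hp : p.Prime) (hp2 : p ≠ 2) (hU : IsPi {p} U)
    (hN : C{a} ≤ N[U]) (hc : ¬ U ≤ C{a}) : ∃ M, T1 p a M := by
  have ht := h.two ha a1
  have key : ∀ {P : Subgroup G}, IsPi {p} P → C{a} ≤ N[P] → IsPi {p} ⁅P, zpowers a⁆ ∧
      C{a} ≤ N[⁅P, zpowers a⁆] ∧ ⁅P, zpowers a⁆ ≤ ⁅⁅P, zpowers a⁆, zpowers a⁆ := fun hP hN =>
    ⟨hP.of_le (comm_le_left (zpowers_le.2 (hN (self_mem_C1 a)))), norm_comm_zp hN le_rfl,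
      (comm_idem (odd_of_pi hp2 hP) ht (hN (self_mem_C1 a))).ge⟩
  obtain ⟨X, hX0, ⟨hX, hN, hXt⟩, hmax⟩ := exists_max
    (P := fun X => IsPi {p} X ∧ C{a} ≤ N[X] ∧ X ≤ ⁅X, zpowers a⁆) (key hU hN)
  have hX1 : X ≠ ⊥ := ne_bot_of_le (fun e => hc (comm_zp_eq_bot.1 e)) hX0
  obtain ⟨M, hM, h2⟩ := exists_coatom (h.ab.N_ne_top' hX1 (hX.sol hp))
  have hH := hN.trans h2
  have h3 := h.lemB hM.1 ht (hH (self_mem_C1 a)) hp hp2 hX ((norm_self X).trans h2) hXt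
    (inf_le_right.trans hN)
  have hQ := hH.trans (pcore_nml {p} M).norm
  have h4 := hmax _ (key (pcore_pi {p} M) hQ) (hXt.trans (comm_mono_left h3))
  have haX : a ∉ C[X] := fun e =>
    hX1 (eq_bot_of_le (comm_zp_eq_bot.2 (mem_C_iff_le_C1.1 e)) hXt)
  refine ⟨M, h.fc_S hM ((h.le_C1 ha).trans hH) hp hp2 fun v hv v1 hvQ => ?_, hH, h4 ▸ hX1, h4 ▸ h2⟩
  have haW : a ∉ S ⊓ C[O[{p}, M]] := fun e => haX (C_anti h3 e.2)
  have hS := h.hR ha a1 (W := S ⊓ C[O[{p}, M]]) inf_le_left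
    (norm_inf R_N (norm_C ((h.R_le ha a1).trans hQ))) fun e =>
      ((h.mem_zp ha).1 (e ⟨hv, hvQ⟩)).elim v1 fun e' => haW (e' ▸ ⟨hv, hvQ⟩)
  obtain ⟨n, hn, rfl⟩ := h.c8.trans a ha a1 v hv v1
  have hHv : C{n * a * n⁻¹} ≤ cj n M := by rw [← cj_C1]; exact cj_mono n hH
  have h5 : X ≤ cj n O[{p}, M] := by
    rw [← pcore_cj]
    exact h.lemB (fun e => hM.1 (cj_eq_top.1 e)) ht (hHv (h.le_C1 hv ha)) hp hp2 hX
      ((h3.trans (mem_C_iff_le_C1.1 hvQ)).trans hHv) hXt (inf_le_right.trans hN)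
  have h6 : n ∈ N[S ⊓ C[O[{p}, M]]] := mem_N_of_cj_le fun y hy => by
    rw [cj_inf, cj_C, cj_of_mem_N hn] at hy
    obtain ⟨w, hw, e, he, rfl⟩ := (mem_sup_of_norm (h.ea.abl.norm (zpowers_le.2 ha) inf_le_left)).1
      (hS hy.1)
    rcases (h.mem_zp ha).1 he with rfl | rfl
    · rwa [mul_one]
    · exact absurd ((mul_mem_cancel_left (C_anti h3 hw.2)).1 (C_anti h5 hy.2)) haX
  exact haW ((conj_mem_iff h6).1 ⟨hv, hvQ⟩)

theorem step1 (ha : a ∈ S) (a1 : a ≠ 1) (hp : p.Prime) (hp2 : p ≠ 2) (hU : IsPi {p} U)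
    (hN : C{a} ≤ N[U]) : U ≤ C{a} := by
  by_contra hc
  obtain ⟨M, h0⟩ := h.exists_t1 ha a1 hp hp2 hU hN hc
  have ht := h.two ha a1
  have all : ∀ z ∈ S, z ≠ 1 → ∃ M', T1 p z M' ∧ primesOf F[M'] = primesOf F[M] := fun z hz z1 => by
    obtain ⟨n, -, rfl⟩ := h.c8.trans a ha a1 z hz z1
    exact ⟨_, h0.cj n, by rw [Fitting_cj, primesOf_cj]⟩
  have hQ := pcore_pi {p} M
  have hHQ := h0.le.trans (pcore_nml {p} M).norm
  have hSQ := (h.le_C1 ha).trans hHQ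
  set Q := O[{p}, M]
  have hQo := odd_of_pi hp2 hQ
  obtain ⟨V, hV, ⟨x, hx, hVx⟩, hc⟩ : ∃ V ≤ S, (∃ x ∈ S, S ≤ V ⊔ zpowers x) ∧ ¬ Q ⊓ C[V] ≤ C{a} := by
    by_contra! hh
    exact h0.ne (comm_zp_eq_bot.2 (coprime_abelian_gen_cent h.ea.abl hSQ
      ((isPi_odd.2 hQo).coprime' h.ea.two) hh))
  have h4 := h.hyper hV hx hVx
  have hQV : S ≤ N[Q ⊓ C[V]] := norm_inf hSQ (norm_C (h.ea.abl.norm le_rfl hV))
  have R1 : ⁅Q ⊓ C[V], zpowers a⁆ ≠ ⊥ := fun e => hc (comm_zp_eq_bot.1 e)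
  have RQ : ⁅Q ⊓ C[V], zpowers a⁆ ≤ Q ⊓ C[V] := comm_le_left (zpowers_le.2 (hQV ha))
  have Rid := comm_idem (odd_of_le hQo inf_le_left) ht (hQV ha)
  have SR := norm_comm_zp hQV (h.le_C1 ha)
  set R := ⁅Q ⊓ C[V], zpowers a⁆
  have Rp : IsPi {p} R := hQ.of_le (RQ.trans inf_le_left)
  have hB : ∀ L, L ≠ ⊤ → S ≤ L → R ≤ L → R ≤ O[{p}, L] := fun L hL hSL hRL =>
    Rid.ge.trans ((comm_mono_left (le_inf (RQ.trans inf_le_left) hRL)).trans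
      (h.lemB' hL ht (hSL ha) hp hp2 hQ (inf_le_right.trans hHQ)))
  have hRz : ∀ z ∈ V, R ≤ C{z} := fun z hz => (RQ.trans inf_le_right).trans (C_le_C1 hz)
  have hB' : ∀ z ∈ V, ∀ M', T1 p z M' → R ≤ O[{p}, M'] := fun z hz M' hM' =>
    hB M' hM'.fc.coatom.1 ((h.le_C1 (hV hz)).trans hM'.le) ((hRz z hz).trans hM'.le)
  obtain ⟨N, hN, hRN⟩ := exists_coatom (h.ab.N_ne_top' R1 (Rp.sol hp))
  have hSN := SR.trans hRN
  have h5 := hB N hN.1 hSN ((norm_self R).trans hRN)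
  have hfc : FC N := h.fc_S hN hSN hp hp2 fun z hz z1 hzc => by
    have z2 := h.two hz z1
    by_cases hzV : z ∈ V
    · obtain ⟨M', hM', -⟩ := all z hz z1
      have hn := (pcore_nml {p} M').norm
      have h6 : O[{p}, M'] ⊓ N ≤ C{z} := le_C_of_comm
        (odd_of_pi hp2 ((pcore_pi _ _).inf_left _)) z2
        (zpowers_le.1 (norm_inf (zpowers_le.2 hM'.mem) (norm_of_le (zpowers_le.2 (hSN hz)))))
        ((h.lemB' hN.1 z2 (hSN hz) hp hp2 (pcore_pi _ _)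
          (inf_le_right.trans (hM'.le.trans hn))).trans (mem_C_iff_le_C1.1 hzc))
      exact hM'.ne (comm_zp_eq_bot.2 (pxq hp hp2 z2 Rp (pcore_pi _ _) (hRz z hzV)
        (norm_of_le (hB' z hzV M' hM')) hM'.mem
        ((inf_le_inf_left _ ((C_le_N R).trans hRN)).trans h6)))
    · have h6 : S ≤ C[R] := (h.sup_eq hV h4 hz hzV).trans
        (sup_le (cents_symm (RQ.trans inf_le_right)) (zpowers_le.2 (C_anti h5 hzc)))
      exact R1 (Rid.symm.trans (comm_zp_eq_bot.2 (mem_C_iff_le_C1.1 (h6 ha))))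
  obtain ⟨v, hv, w, hw, hf⟩ := h.exists_four hV h4
  have hπ : primesOf F[N] ⊆ primesOf F[M] := by
    have hn := (pcore_Fitting_nml (primesOf F[M])ᶜ N).norm
    have key : ∀ z ∈ V, z ≠ 1 → O[(primesOf F[M])ᶜ, F[N]] ⊓ C{z} ≤ ⊥ := fun z hz z1 => by
      obtain ⟨M', hM', e⟩ := all z (hV hz) z1
      rw [← hM'.fc.inf_eq_bot ((hB' z hz M' hM').trans (pcore_le_Fitting hp _)) (hRN.trans hn)
        (e ▸ pcore_pi _ _)]
      exact inf_le_inf_left _ hM'.le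
    have hR0 := hf.gen (odd_of_le hfc.odd (pcore_le _ _))
      (((Four.V_le.2 ⟨hv, hw⟩).trans hV).trans (hSN.trans hn)) (key v hv (ne_one_of hf.ht))
      (key w hw (ne_one_of hf.hs)) (key _ (mul_mem hv hw) hf.mul_ne_one)
    have := ((Fitting_nil N).pcore_hall _).isPi_compl_of_eq_bot (le_bot_iff.1 hR0)
    rw [compl_compl] at this
    exact isPi_iff_primesOf.1 this
  have fin : ∀ z ∈ V, z ≠ 1 → C{z} ≤ N := fun z hz z1 => by
    obtain ⟨M', hM', e⟩ := all z (hV hz) z1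
    exact hM'.le.trans (h.ab.ul' hM'.fc hfc (e ▸ hπ)
      ((hB' z hz M' hM').trans (pcore_le_Fitting hp _)) hRN).le
  exact hN.1 (h.iso3 (hV hw) (ne_one_of hf.hs) (hV hv) (ne_one_of hf.ht) hf.ne
    (fin w hw (ne_one_of hf.hs)) (fin v hv (ne_one_of hf.ht)))

theorem coatom (ha : a ∈ S) (a1 : a ≠ 1) : IsCoatom C{a} :=
  ⟨h.ab.C1_ne_top a1, fun M hM => by
    by_contra hM1
    exact hM.not_ge (h.zc' ((h.le_C1 ha).trans hM.le) ha a1 (h.iso2 ha a1 hM.le hM1)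
      (cent_O (h.two ha a1) (hM.le (self_mem_C1 a)) fun p hp hp2 =>
        h.step1 ha a1 hp hp2 (pcore_pi _ _) (hM.le.trans (pcore_nml _ _).norm)))⟩

end CX

end H18.JRC
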