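import Mathlib
import Cfsg.Agent.H18.JRC5

/-! Simple groups with elementary abelian Sylow `2`-subgroups of order `8`: step 3a. -/

set_option autoImplicit false
set_option linter.unusedSectionVars false

namespace H18.JRC

open H24 H26 Cfsg Subgroup H26.Gold
open H13.Dih hiding MC QS mem_zpowers_sq
open scoped commutatorElement

universe u

variable {G : Type u} [Group G] [Finite G] {A B H K L M N S T U V W X Y P Q : Subgroup G}
  {a b c g t s v w x y z : G} {p n : ℕ}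

namespace CX

variable (h : CX S)
include h

theorem card_inf_Ck (hc : Ctx (DI G) N S) (hK : Piece (DI G) N K) : ♯(S ⊓ Ck K) ≤ 2 := by
  have h1 := card_inf_mul_relIndex (Ck K) S
  have h2 := hc.four hK
  rw [h.c8.card, inf_comm] at h1
  nlinarith

theorem inf_Ck_bot (hc : Ctx (DI G) N S) (hK : Piece (DI G) N K)
    (H : ∀ z ∈ S, z ≠ 1 → ¬ N ⊓ N[S] ≤ C{z}) : S ⊓ Ck K = ⊥ := by
  by_contra h1
  obtain ⟨z, hz, z1⟩ := exists_ne_one h1
  refine H z hz.1 z1 fun n hn => ?_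
  have hK' : Piece (DI G) N (cj n K) := by
    have := hK.cj hc.sc n
    rwa [cj_of_mem hn.1] at this
  have h2 : n ∈ N[K] := by
    rw [mem_N_iff_cj]
    by_contra hne
    have h3 := (card_le (hc.le_sup hK')).trans
      (card_sup_le (h.ea.abl.norm inf_le_left inf_le_left))
    have h4 := (card_le (inf_le_inf_left S (hK.le_Ck_of_ne hK' hne))).trans (h.card_inf_Ck hc hK)
    have h5 := h.card_inf_Ck hc hK'
    rw [h.c8.card] at h3
    nlinarith
  have h3 : zpowers z = S ⊓ Ck K := eq_of_card_ge (zpowers_le.2 hz) (by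
    rw [card_zpowers', h.two hz.1 z1]; exact h.card_inf_Ck hc hK)
  have h4 : n * z * n⁻¹ ∈ zpowers z := h3 ▸ ⟨conj_mem hn.2 hz.1,
    conj_mem (norm_Ck le_rfl h2) hz.2⟩
  exact mem_C1_iff_conj.2 (((h.mem_zp hz.1).1 h4).resolve_left fun e => z1 (conj_eq_one_iff'.1 e))

theorem le_C_of_one (ha : a ∈ S) (a1 : a ≠ 1) (hQ : Odd ♯Q) (hQa : Q ≤ C{a}) (hn : C{a} ≤ N[Q])
    (hy : y ∈ S) (hy' : y ∉ zpowers a) (h1 : Q ⊓ C{y} ≤ C[S]) : Q ≤ C[S] :=
  h.gen' ha hQ ((h.le_C1 ha).trans hn) fun x hx hx' q hq => by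
    obtain ⟨u, hu, h2⟩ := h.trs ha a1 hy hy' hx hx'
    refine (conj_mem_iff' (N_le_NC S (R_N hu))).1
      (h1 (mem_inf.2 ⟨conj_mem' (hn (h.R_le ha a1 hu)) hq.1, ?_⟩))
    rw [← mem_cj, cj_C1, mem_C1_comm]
    exact (mul_mem_cancel_right (mem_C1_comm.1 hq.2)).1
      (mem_C1_comm.1 (C1_le_C1_of_mem_zpowers h2 (hQa hq.1)))

theorem step3a (hp : p.Prime) (hp2 : p ≠ 2) (ha : a ∈ S) (a1 : a ≠ 1) : O[{p}, C{a}] ≤ C[S] := by
  by_contra hc
  have nc : ∀ x ∈ S, x ≠ 1 → ∀ y ∈ S, y ∉ zpowers x → ¬ O[{p}, C{x}] ≤ C{y} :=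
    fun x hx x1 y hy hy' e => by
      have h1 := h.hR hx x1 (W := S ⊓ C[O[{p}, C{x}]]) inf_le_left
        (norm_inf R_N (norm_C ((h.R_le hx x1).trans (pcore_nml _ _).norm)))
        fun e' => hy' (e' ⟨hy, mem_C_iff_le_C1.2 e⟩)
      have h2 := cents_symm (h1.trans (sup_le inf_le_right
        (zpowers_le.2 (mem_C_iff_le_C1.2 (pcore_le _ _)))))
      obtain ⟨g, hg, rfl⟩ := h.c8.trans a ha a1 x hx x1
      rw [← cj_C1, pcore_cj, ← cj_of_mem_N (N_le_NC S hg), cj_le_cj] at h2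
      exact hc h2
  have ht := h.two ha a1
  have hQ := pcore_pi {p} C{a}
  have hQn := pcore_nml {p} C{a}
  have hQo := odd_of_pi hp2 hQ
  have hSQ := (h.le_C1 ha).trans hQn.norm
  have hZ := hQn.center
  obtain ⟨c, hcS, hca, hD⟩ : ∃ c ∈ S, c ∉ zpowers a ∧ ¬ Z[O[{p}, C{a}]] ⊓ C{c} ≤ ⊥ := by
    by_contra! hh
    exact (hQ.nil hp).center_ne_bot (fun e => hc (e ▸ bot_le)) (le_bot_iff.1
      (h.gen' ha (odd_of_le hQo inf_le_left) ((h.le_C1 ha).trans hZ.norm) hh))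
  have hf := h.four ha a1 hcS hca
  have c1 := ne_one_of hf.hs
  have hDp : IsPi {p} (Z[O[{p}, C{a}]] ⊓ C{c}) := (hQ.inf_left _).inf_left _
  obtain ⟨N, hN, hDN⟩ := exists_coatom (h.ab.N_ne_top' (fun e => hD e.le) (hDp.sol hp))
  have hac : C{a} ⊓ C{c} ≤ N :=
    (norm_inf (inf_le_left.trans hZ.norm) (norm_of_le inf_le_right)).trans hDN
  have hSN : S ≤ N := (le_inf (h.le_C1 ha) (h.le_C1 hcS)).trans hac
  have hq : ∀ q, O[{q}, C{a}] ≤ N := fun q => le_trans (norm_of_cent (by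
    by_cases e : q = p
    · rw [e]; exact (le_C_center _).trans (C_anti inf_le_left)
    · exact (pcore_cent_pcore_of_ne e _).trans (C_anti (inf_le_left.trans inf_le_left)))) hDN
  have nle : ¬ N ≤ C{a} := fun e => nc c hcS c1 a ha (h.not_mem_zp hcS a1 hf.ne.symm)
    (pxq hp hp2 ht hDp (pcore_pi _ _) (inf_le_left.trans hZ.le)
      (inf_le_right.trans (pcore_nml _ _).norm) ((pcore_nml _ _).norm hf.t_mem_C)
      (inf_le_right.trans ((C_le_N _).trans (hDN.trans e))))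
  have aO : Od[N] ≤ C{a} := cent_O ht (hSN ha) fun q hq' hq2 => by
    have hn := (pcore_nml {q} N).norm
    by_cases e : O[{q}, C{a}] = ⊥
    · have key : ∀ x ∈ S, x ≠ 1 → C{x} ⊓ C{a} ≤ C{c} → O[{q}, N] ⊓ C{x} ≤ C{a} :=
        fun x hx x1 h1 => by
          have h2 := h.lemB' (h.ab.C1_ne_top x1) ht (h.le_C1 hx ha) hq' hq2 (pcore_pi {q} N)
            ((le_inf inf_le_right h1).trans (hac.trans hn))
          obtain ⟨g, hg, rfl⟩ := h.c8.trans a ha a1 x hx x1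
          rw [← cj_C1 g a, pcore_cj, e, cj_bot, le_bot_iff, comm_zp_eq_bot, cj_C1] at h2
          exact h2
      exact hf.gen (odd_of_pi hq2 (pcore_pi _ _)) ((Four.V_le.2 ⟨ha, hcS⟩).trans (hSN.trans hn))
        inf_le_right (key c hcS c1 inf_le_left)
        (key _ (mul_mem ha hcS) hf.mul_ne_one fun y hy => hf.C_of_ts hy.2 hy.1)
    · have hZq := (pcore_nml {q} C{a}).center
      exact pxq hq' hq2 ht ((pcore_pi {q} C{a}).inf_left _) (pcore_pi _ _) hZq.le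
        (inf_le_left.trans ((hq q).trans hn)) (hn (hSN ha)) (inf_le_right.trans (h.ab.C_le
          (h.coatom ha a1) (((pcore_pi _ _).nil hq').center_ne_bot e) hZq))
  have hC := (pcore_nml {2}ᶜ N).infC
  have haC : a ∈ N ⊓ C[Od[N]] := ⟨hSN ha, mem_C_iff_le_C1.2 aO⟩
  obtain ⟨n, hn, hn'⟩ := SetLike.not_le_iff_exists.1 fun e => nle (h.zc' hSN ha a1 e aO)
  have hv := conj_mem hn.2 ha
  have hvC := hC.conj_mem hn.1 haC
  have hva : n * a * n⁻¹ ∉ zpowers a := h.not_mem_zp ha (fun e => a1 (conj_eq_one_iff'.1 e))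
    fun e => hn' (mem_C1_iff_conj.2 e)
  set v := n * a * n⁻¹
  have hfv := h.four ha a1 hv hva
  have hXQ : ⁅O[{p}, C{a}], zpowers v⁆ ≤ O[{p}, C{a}] := comm_le_left (zpowers_le.2 (hSQ hv))
  have Xid := comm_idem hQo hfv.hs (hSQ hv)
  by_cases hα : ∃ z ∈ S, z ≠ 1 ∧ N ⊓ N[S] ≤ C{z}
  · obtain ⟨z, hz, z1, hzN⟩ := hα
    have h1 := h.zc hSN hz z1 hzN
    have hzC : z ∉ N ⊓ C[Od[N]] := fun e => by
      have h2 := h.zc' hSN hz z1 hzN (mem_C_iff_le_C1.1 e.2)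
      have h3 : C{z} = N := (hN.le_iff.1 h2).resolve_left (h.ab.C1_ne_top z1)
      refine nc z hz z1 a ha (h.not_mem_zp hz a1 fun e' => nle (e' ▸ h2)) ?_
      rw [h3]
      exact (pcore_mono N (singleton_subset_compl hp2)).trans aO
    have h2 : ⁅zpowers z, N ⊓ C[Od[N]]⁆ ≤ C[N ⊓ C[Od[N]]] :=
      ((comm_mono_right inf_le_left).trans h1).trans (cents_symm inf_le_right)
    have h3 : ⁅N ⊓ C[Od[N]], N ⊓ C[Od[N]]⁆ ≤ C{z} := comm_zp_eq_bot.1
      (three_subgroup (by rw [commC _ (zpowers z)]; exact comm_eq_bot.2 h2) (comm_eq_bot.2 h2))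
    have hXC : ⁅O[{p}, C{a}], zpowers v⁆ ≤ N ⊓ C[Od[N]] :=
      (comm_mono_right (zpowers_le.2 hvC)).trans (comm_le_right ((hq p).trans hC.norm))
    have hXz : ⁅O[{p}, C{a}], zpowers v⁆ ≤ C{z} :=
      Xid.ge.trans ((commutator_mono hXC (zpowers_le.2 hvC)).trans h3)
    have hV : V4 a v ≤ N ⊓ C[Od[N]] := Four.V_le.2 ⟨haC, hvC⟩
    have hfz : Four z v := (h.four hv (ne_one_of hfv.hs) hz fun e => hzC (zpowers_le.2 hvC e)).symm
    have hzv := mul_mem hz hv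
    have hYn : v ∈ N[O[{p}, C{a}] ⊓ C{z * v}] := zpowers_le.1
      (norm_inf (zpowers_le.2 (hSQ hv)) (norm_of_le (zpowers_le.2 (h.le_C1 hzv hv))))
    have hY : O[{p}, C{a}] ⊓ C{z * v} ≤ C{v} :=
      le_C_of_comm (odd_of_le hQo inf_le_left) hfv.hs hYn fun y hy => hfz.C_of_ts
        (hXz (comm_mono_left inf_le_left hy)) (comm_le_left (zpowers_le.2 hYn) hy).2
    refine hc (h.le_C_of_one ha a1 hQo hQn.le hQn.norm hzv
      (fun e => hzC ((mul_mem_cancel_right hvC).1 (zpowers_le.2 haC e))) ?_)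
    refine le_trans ?_ (C_anti (h.sup_eq (Four.V_le.2 ⟨ha, hv⟩) hfv.V_card.ge hz fun e => hzC (hV e)))
    rw [C_sup, Four.C_V, C_zpowers]
    exact le_inf (le_inf (inf_le_left.trans hQn.le) hY) fun y hy => hfz.C_of_ts' (hY hy) hy.2
  · push Not at hα
    have ctx := h.c8.mc.ctx hSN hN.1
    have hvO := mem_Og (mem_DI hfv.hs) (hSN hv)
    refine nc a ha a1 v hv hva (le_C_of_comm hQo hfv.hs (hSQ hv) (le_trans ?_
      (mem_C_iff_le_C1.1 hvC.2)))
    refine (ctx.le_Od_Og (isPi_odd.2 (odd_of_le hQo hXQ)) ((comm_mono_right (zpowers_le.2 hvO)).trans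
      (comm_le_right ((hq p).trans (ctx.sc.Og_nml N).norm))) (norm_comm_zp hSQ (h.le_C1 hv))
      fun K hK => ?_).trans (ctx.sc.Od_Og_le N)
    have h0 := h.inf_Ck_bot ctx hK hα
    have hSK := hK.normA ctx.max
    refine piece_P h.ih h.ab.ab ctx hK (h.card_lt hN.1) ht (hSK ha) hp hp2 hQ
      (ctx.norm_of_odd hK (isPi_odd.2 hQo) (hq p) hSQ) (inf_le_right.trans hQn.norm) hfv.hs (hSK hv)
      (hSQ hv) (Or.inr ⟨fun e => a1 (mem_bot.1 (h0 ▸ ⟨ha, e⟩)), ?_, hfv.s_mem_C⟩)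
    have h1 := card_inf_mul_relIndex (Ck K) S
    rw [inf_comm, h0, card_bot, one_mul, h.c8.card] at h1
    rw [h1]

end CX

theorem AB.cx (h : AB G) (ih : IHP.{u} (Nat.card G)) (hS : Syl 2 ⊤ S) (h4 : ♯S ≠ 4)
    (hse : ¬ ∃ H : Subgroup G, IsStronglyEmbedded H) : CX S :=
  ⟨h, (h.main hS hse).2.resolve_left h4, ih⟩

theorem ihp_all (n : ℕ) : IHP.{u} n := by
  induction n with
  | zero => intro X _ _ h; exact absurd h (Nat.not_lt_zero _)
  | succ n ih =>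
    intro X _ _ hX h
    by_cases hse : ∃ H : Subgroup X, IsStronglyEmbedded H
    · exact h.pp_se hse
    obtain ⟨S, hS⟩ := Sylow_exists Nat.prime_two (⊤ : Subgroup X)
    by_cases h4 : ♯S = 4
    · exact h.pp_four hS (h.main hS hse).1 h4
    have ih' : IHP.{u} (Nat.card X) := fun Y _ _ hY => ih Y (by omega)
    have key : ∀ P : Subgroup X, IsPi {2} P → ∃ S', CX S' ∧ P ≤ S' := fun P hP => by
      obtain ⟨S', hS', h1⟩ := Sylow_superset Nat.prime_two hP le_top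
      exact ⟨S', h.cx ih' hS' (hS'.card_eq hS ▸ h4) hse, h1⟩
    intro t ht p hp hp2 U hU hN
    obtain ⟨S', h1, h2⟩ := key _ (isPi_zp ht)
    have h3 := h1.step1 (h2 (mem_zpowers t)) (ne_one_of ht) hp hp2 hU hN
    refine ⟨h3, fun _ w hw hwt => ?_⟩
    obtain ⟨S', h1, h2⟩ := key _ ((isPi_zp ht).sup (isPi_zp hw)
      (norm_zpowers_of_cent (zpowers_le.2 hwt)))
    exact (pcore_max' hU h3 hN).trans ((h1.step3a hp hp2 (h2 (mem_sup_left (mem_zpowers t)))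
      (ne_one_of ht)).trans (C_le_C1 (h2 (mem_sup_right (mem_zpowers w)))))

end H18.JRC
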