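import Mathlib
import Cfsg.Agent.H18.JRC6

/-! Simple groups with elementary abelian Sylow `2`-subgroups of order `8`: step 3b. -/

set_option autoImplicit false
set_option linter.unusedSectionVars false

namespace H18.JRC

open H24 H26 Cfsg Subgroup H26.Gold
open H13.Dih hiding MC QS mem_zpowers_sq
open scoped commutatorElement

universe u

variable {G : Type u} [Group G] [Finite G] {A B H K L M N S T U V W X Y P Q : Subgroup G}
  {a b c g t s v w x y z : G} {p n : ℕ}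

theorem exists_quad (hp : p.Prime) (hG : ∀ [Fact p.Prime], ¬ H12.QuadInvolved p G)
    (hB : IsPi {p} B) : ∃ O : Subgroup G, N[B] ≤ N[O] ∧
      (∀ A ≤ N[B], ⁅⁅B, A⁆, A⁆ = ⊥ → A ≤ O) ∧ ∀ H ≤ O, PiNat {p} (C[B].relIndex H) := by
  have := Fact.mk hp
  have := (C_nml_N B).normal
  let f := QuotientGroup.mk' (C[B].subgroupOf N[B])
  have hk : pre f ⊥ = C[B] := by
    ext x
    rw [mem_pre_bot]
    refine ⟨fun ⟨h1, h2⟩ => ?_, fun h => ⟨C_le_N B h, ?_⟩⟩
    · rw [ap_of_mem _ h1, QuotientGroup.mk'_apply, QuotientGroup.eq_one_iff] at h2; exact h2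
    · rw [ap_of_mem _ (C_le_N B h), QuotientGroup.mk'_apply, QuotientGroup.eq_one_iff]; exact h
  refine ⟨pre f O[{p}, ⊤], ?_, fun A hA hq => (img_le_iff hA).1 ?_, fun H hH => ?_⟩
  · have := ((pcore_nml {p} ⊤).pre f).norm
    rwa [pre_top] at this
  · rw [pcore_singleton_top hp]
    exact H12.map_le_pCore_of_quadratic hG (hB.isPGroup hp) hq
  · rw [← hk, ← card_img f (hH.trans (pre_le _ _))]
    exact (pcore_pi _ _).of_le (img_le_of_le_pre hH)

namespace CX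

variable (h : CX S)
include h

theorem Og_le_C (ha : a ∈ S) (a1 : a ≠ 1) : Og (DI G) C{a} ≤ C[Od[C{a}]] := by
  refine Og_le_iff.2 fun d hd hda => ?_
  obtain ⟨g, hg, h1⟩ := Sylow_Jsub Nat.prime_two (h.syl' (h.le_C1 ha)) (isPi_zp (DI.two hd))
    (zpowers_le.2 hda)
  have h2 := h1 (conj_mem_cj g (mem_zpowers d))
  refine (conj_mem_iff (norm_C (pcore_nml _ _).norm hg)).1 (mem_C_iff_le_C1.2
    (cent_O (two_conj (DI.two hd) g) (h.le_C1 ha h2) fun p hp hp2 => ?_))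
  exact (h.step3a hp hp2 ha a1).trans (C_le_C1 h2)

theorem R_le_C (ha : a ∈ S) (a1 : a ≠ 1) : RR S a ≤ C[Od[C{a}]] :=
  inf_le_left.trans ((h.piece ha a1).le.trans (h.Og_le_C ha a1))

theorem O_inf (hx : x ∈ S) (x1 : x ≠ 1) (hy : y ∈ S) (y1 : y ≠ 1) (hxy : x ≠ y) :
    Od[C{x}] ⊓ Od[C{y}] = ⊥ := by
  by_contra h1
  obtain ⟨u, hu, hu'⟩ := h.mover hx x1 hy y1 hxy
  have h2 : N[S] ≤ N[Od[C{x}] ⊓ Od[C{y}]] := h.iso1 hx x1
    ((h.nc hx x1 hy (h.not_mem_zp hx y1 hxy.symm)).trans (sup_le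
      (norm_of_cent ((h.R_le_C hx x1).trans (C_anti inf_le_left)))
      (norm_inf (inf_le_left.trans (pcore_nml _ _).norm) (inf_le_right.trans (pcore_nml _ _).norm))))
    (C_le_N _ (C_anti inf_le_right (h.R_le_C hy y1 hu))) (R_N hu) hu'
  refine h.ab.C_ne_top h1 (h.c8.mc.gen_Og fun z hz z1 => (h.Og_le_C hz z1).trans (C_anti ?_))
  obtain ⟨g, hg, rfl⟩ := h.c8.trans x hx x1 z hz z1
  rw [← cj_C1, pcore_cj, ← cj_of_mem_N (h2 hg)]
  exact cj_mono g inf_le_left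

theorem odd_cent (hc : c ∈ S) (c1 : c ≠ 1) (hy : y ∈ KK (DI G) c) (ho : Odd (orderOf y))
    (hyS : y ∈ C[S]) : y ∈ Od[C{c}] := by
  have hK := h.piece hc c1
  obtain ⟨Y, _, _, π, T, hd⟩ := (h.c8.mc.ctxA hc c1).hd0 hK
  have hyN := norm_self _ hy
  have e : img π T = img π S := le_antisymm
    (img_mono π (h.syl.le_of_norm hd.syl.pi le_top hd.TA)) hd.tz.le
  refine (h.ab.sc.Od_Og_le _) (hK.Od_le h.ab.sc (inf_Ck h.ab.ab hK.perf (mem_inf.2 ⟨hy, ?_⟩)))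
  rw [← hd.hat.eq_one hyN]
  exact four_cent_sub hd.as (e ▸ hd.tz.syl) hd.tz.ea (hd.card.trans (h.c8.relIndex hc c1))
    (ap_mem_img π hy hyN) (ho.of_dvd_nat (orderOf_ap_dvd π hyN)) (ap_mem_C π hyS hyN)

theorem step3b (ha : a ∈ S) (a1 : a ≠ 1) : Od[C{a}] = ⊥ := by
  by_contra h1
  obtain ⟨p, hp, h2⟩ := exists_pcore_ne_bot (Od_sol _) h1
  have hp2 : p ≠ 2 := by
    rintro rfl
    exact h2 (Od_odd _).pcore_eq_bot
  have hQ := ne_bot_of_le h2 ((pcore_nml _ _).pcore_le _)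
  have hB := pcore_pi {p} C[S]
  have hSB : N[S] ≤ N[O[{p}, C[S]]] := norm_pcore _ (N_le_NC S)
  obtain ⟨O, hO, hq, hi⟩ := exists_quad hp (h.ab.not_quad' hp2) hB
  obtain ⟨c, hc, hca⟩ := h.exists_not ((h.card_zp ha).trans (by norm_num))
  have hf := h.four ha a1 hc hca
  have c1 := ne_one_of hf.hs
  have hRO : RR S c ≤ O := hq _ (R_N.trans hSB) (comm_eq_bot.2 (le_trans (fun y hy => ?_)
    (cents_symm (h.R_le_C hc c1))))
  swap
  · have h3 := comm_le_left (R_N.trans hSB) hy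
    exact h.odd_cent hc c1 (((comm_mono_right inf_le_left).trans (comm_le_right ((pcore_le _ _).trans
      ((C_le_C1 hc).trans (h.c8.norm hc))))) hy) (odd_orderOf (odd_of_pi hp2 hB) h3) (pcore_le _ _ h3)
  have h0 : C[O[{p}, C[S]]] ⊓ N[S] ≤ C{a} := fun g hg => by
    by_contra hg'
    have h3 : O[{p}, C{a}] ≤ O[{p}, C[S]] := pcore_max' (pcore_pi _ _) (h.step3a hp hp2 ha a1)
      ((C_le_C1 ha).trans (pcore_nml _ _).norm)
    have h4 := pcore_mono C{a} (singleton_subset_compl hp2)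
    refine hQ (eq_bot_of_le (h.O_inf ha a1 (conj_mem hg.2 ha) (fun e => a1 (conj_eq_one_iff'.1 e))
      fun e => hg' (mem_C1_iff_conj.2 e.symm)) (le_inf h4 ?_))
    rw [← cj_C1, pcore_cj, ← cj_of_mem_C (C_anti h3 hg.1)]
    exact cj_mono g h4
  have key : ∀ H ≤ O ⊓ N[S], PiNat {p} ((C{a}).relIndex H) := fun H hH => by
    refine (hi H (hH.trans inf_le_left)).dvd ?_
    rw [← inf_relIndex_right C[O[{p}, C[S]]]]
    exact relIndex_dvd_of_le_left _ ((inf_le_inf_left _ (hH.trans inf_le_right)).trans h0)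
  obtain ⟨u, hu, hu'⟩ := h.mover ha a1 hc c1 hf.ne.symm
  have h7 : (C{a}).relIndex (O ⊓ N[S]) = 7 := by
    have h3 : N[S] ⊓ C{a} ⊔ O ⊓ N[S] = N[S] := le_antisymm (sup_le inf_le_left inf_le_right)
      (h.iso1 ha a1 le_sup_left (mem_sup_right ⟨hRO hu, R_N hu⟩) (R_N hu) hu')
    have h4 := relIndex_sup_of_norm' (A := N[S] ⊓ C{a}) (B := O ⊓ N[S])
      (norm_inf (inf_le_left.trans (hSB.trans hO)) (norm_of_le inf_le_left))
    rw [h3, inf_relIndex_left, h.seven ha a1, ← inf_relIndex_right, inf_comm N[S], inf_assoc,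
      inf_eq_right.2 inf_le_right, inf_relIndex_right] at h4
    exact h4.symm
  have h8 : p = 7 := ((key _ le_rfl) 7 (by norm_num) h7.symm.dvd).symm
  have h9 : (C{a}).relIndex (RR S c) < 7 := by
    rw [← h.seven ha a1, ← ncard_cl, ← ncard_cl]
    refine Set.ncard_lt_ncard ⟨cl_mono R_N a, fun e => ?_⟩
    obtain ⟨k, hk, e'⟩ := e (show c ∈ cl N[S] a by rw [h.cl_eq ha a1]; exact ⟨hc, c1⟩)
    refine hf.ne ?_
    calc c = k⁻¹ * c * k := by
          rw [mul_assoc, ← mem_C1.1 (h.R_le hc c1 hk), inv_mul_cancel_left]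
      _ = a := by rw [← e']; group
  have h10 : (C{a}).relIndex (RR S c) ≠ 1 := fun e => hu' (relIndex_eq_one.1 e hu)
  obtain ⟨q, hq1, hq2⟩ := Nat.exists_prime_and_dvd h10
  have h11 : q = p := key _ (le_inf hRO R_N) q hq1 hq2
  have := Nat.le_of_dvd (relIndex_pos _ _) hq2
  omega

end CX

end H18.JRC
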