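import Mathlib
import Cfsg.Agent.H18.JRC7

/-! S0506, local part: centralisers of involutions in the configuration of order `8`. -/

set_option autoImplicit false
open Cfsg H24 Subgroup H26 H26.Gold

namespace H1

open H18.JRC
open H13.Dih hiding MC QS mem_zpowers_sq

universe u

theorem exists_cx {G : Type u} [Group G] [Finite G] [IsSimpleGroup G]
    (nab : ¬ IsMulCommutative G) {S : Subgroup G} (hS : Syl 2 ⊤ S) (hab : Abl S) (h4 : ♯S ≠ 4)
    (hse : ¬ ∃ H : Subgroup G, IsStronglyEmbedded H) {t : G} (ht : orderOf t = 2) :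
    ∃ S' : Subgroup G, CX S' ∧ t ∈ S' := by
  obtain ⟨S', hS', h1⟩ := Sylow_superset Nat.prime_two (isPi_zp ht) le_top
  exact ⟨S', AB.cx ⟨‹_›, nab, ab_of_syl hS hab⟩ (ihp_all _) hS' (hS'.card_eq hS ▸ h4) hse,
    h1 (mem_zpowers t)⟩

theorem core_eq_bot {G : Type u} [Group G] [Finite G] [IsSimpleGroup G]
    (nab : ¬ IsMulCommutative G) {S : Subgroup G} (hS : Syl 2 ⊤ S) (hab : Abl S) (h4 : ♯S ≠ 4)
    (hse : ¬ ∃ H : Subgroup G, IsStronglyEmbedded H) {t : G} (ht : orderOf t = 2) :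
    Od[C{t}] = ⊥ ∧ IsCoatom C{t} := by
  obtain ⟨S', h, htS⟩ := exists_cx nab hS hab h4 hse ht
  exact ⟨h.step3b htS (ne_one_of ht), h.coatom htS (ne_one_of ht)⟩

/-- the hypotheses of `exists_jr` (JRSetup.lean) -/
theorem exists_comp {G : Type u} [Group G] [Finite G] [IsSimpleGroup G]
    (nab : ¬ IsMulCommutative G) {S : Subgroup G} (hS : Syl 2 ⊤ S) (hab : Abl S) (h4 : ♯S ≠ 4)
    (hse : ¬ ∃ H : Subgroup G, IsStronglyEmbedded H) {t : G} (ht : orderOf t = 2) :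
    (∀ u : G, orderOf u = 2 → IsConj t u) ∧ ∃ K V : Subgroup G, K ⊴ C{t} ∧ IsSimpleGroup K ∧
      ¬ Abl K ∧ Syl 2 K V ∧ EA V ∧ ♯V = 4 ∧ C{t} ⊓ C[K] = zpowers t ∧
      Odd ((zpowers t ⊔ K).relIndex C{t}) := by
  obtain ⟨A, h, htA⟩ := exists_cx nab hS hab h4 hse ht
  have t1 := ne_one_of ht
  have hO := h.step3b htA t1
  obtain ⟨hK, hAK⟩ := h.c8.KK_spec htA t1
  have hn : KK (DI G) t ⊴ C{t} := ⟨hK.le', h.c8.norm htA⟩
  set K := KK (DI G) t
  have hOK : Od[K] = ⊥ := eq_bot_of_le hO (hn.pcore_le _)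
  have hC : Ck K = C[K] := le_antisymm (comm_eq_bot.1 (eq_bot_of_le hOK (le_Ck.1 le_rfl))) (C_le_Ck K)
  have hZ : K ⊓ Ck K = ⊥ := eq_bot_of_le hOK (inf_Ck h.ab.ab hK.perf)
  have hA := h.syl' (h.le_C1 htA)
  have hle : A ≤ A ⊓ K ⊔ zpowers t := hAK ▸ (h.c8.mc.ctxA htA t1).le_sup hK
  have htC : zpowers t ≤ Ck K := hAK.ge.trans inf_le_right
  refine ⟨fun u hu => ?_, K, A ⊓ K, hn, ?_, fun e => hK.qs.not_sol e.sol, hA.inf_nml hn,
    h.ea.of_le inf_le_left, ?_, ?_, ?_⟩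
  · obtain ⟨g, -, h1⟩ := Sylow_Jsub Nat.prime_two h.syl (isPi_zp hu) le_top
    obtain ⟨k, -, e⟩ := h.c8.trans t htA t1 _ (h1 (conj_mem_cj g (mem_zpowers u)))
      (ne_one_of (two_conj hu g))
    exact isConj_iff.2 ⟨g⁻¹ * k, by
      calc _ = g⁻¹ * (k * t * k⁻¹) * g := by group
        _ = u := by rw [← e]; group⟩
  · have := (nontrivial_iff_ne_bot K).2 hK.qs.ne
    refine ⟨fun M hM => ((hK.qs.nml _ (nml_map_subtype M)).imp (fun e => ?_) fun e => ?_).symm⟩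
    · exact map_injective K.subtype_injective (e.trans (map_subtype_top K).symm)
    · exact (map_eq_bot_iff_of_injective M K.subtype_injective).1
        (eq_bot_of_le hZ (le_inf (map_subtype_le' M) e))
  · have h1 := card_sup_of_inf (h.ea.abl.norm (zpowers_le.2 htA) inf_le_left)
      (eq_bot_of_le hZ (inf_le_inf inf_le_right htC))
    rw [le_antisymm (sup_le inf_le_left (zpowers_le.2 htA)) hle, h.c8.card, card_zpowers', ht] at h1
    omega
  · have hD := hn.infC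
    have h1 := hA.inf_nml hD
    have e : A ⊓ (C{t} ⊓ C[K]) = zpowers t := by
      rw [← inf_assoc, inf_eq_left.2 (h.le_C1 htA), ← hC, hAK]
    rw [e] at h1
    have h2 : NCompl {2} (C{t} ⊓ C[K]) := H12.ncompl_two fun e4 => by
      have := h1.dvd_card (n := 4) (piNat_self_pow Nat.prime_two 2) e4
      rw [card_zpowers', ht] at this
      exact absurd this (by decide)
    rw [← ((ncompl_iff h1).1 h2).sup, eq_bot_of_le hO (hD.pcore_le _), bot_sup_eq]
  · exact piNat_odd.1 (hA.idx_of_ge (hle.trans (sup_le (inf_le_right.trans le_sup_right) le_sup_left)))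

end H1
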