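import Mathlib

/-! HN recognition: brute force in `S₆`. -/

set_option autoImplicit false

namespace H18.HNC

def ap (c i : ℕ) : ℕ := (c >>> (3 * i)) % 8

def mk (a b c d e f : ℕ) : ℕ := a + 8 * (b + 8 * (c + 8 * (d + 8 * (e + 8 * f))))

def mu (c d : ℕ) : ℕ :=
  mk (ap c (ap d 0)) (ap c (ap d 1)) (ap c (ap d 2)) (ap c (ap d 3)) (ap c (ap d 4)) (ap c (ap d 5))

def sq (c : ℕ) : ℕ := mu c c

def cu (c : ℕ) : ℕ := mu c (mu c c)

def fi (c : ℕ) : ℕ := mu c (sq (sq c))

def LI : List ℕ := [181896, 153224, 178312, 117384, 181448, 152776, 173832, 109320, 83784, 80200, 181840, 153168,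
  178256, 117328, 180888, 152216, 172824, 82776, 169632, 105120, 169184, 71520, 50856, 47272,
  50408, 42792, 181889, 153217, 178305, 117377, 181441, 152769, 173825, 109313, 83777, 80193,
  181770, 153098, 178186, 117258, 180762, 152090, 169506, 104994, 50730, 47146, 180363, 151691,
  172299, 82251, 180307, 151635, 168099, 69987, 49323, 41259, 165516, 101004, 165068, 67404,
  165460, 100948, 164508, 66396, 34476, 34028, 18061, 14477, 17613, 9997, 18005, 14421,
  17053, 8989, 5797, 5349]

def LO : List ℕ := [181896, 120968, 146056, 174280, 84680, 177416, 87816, 116040, 141128, 180944, 169744, 51024,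
  181336, 170136, 51864, 173664, 176800, 54944, 83560, 115368, 136872, 181777, 120849, 145937,
  180377, 86297, 139609, 165537, 68321, 99681, 18089, 10473, 13609, 181826, 120898, 145986,
  180426, 165642, 18250, 35610, 6490, 53474, 13154, 135402, 99114, 180867, 86787, 140099,
  181259, 166027, 19083, 6931, 35155, 54307, 10851, 136235, 67691, 169604, 72388, 103748,
  173580, 176268, 22156, 21204, 45396, 43548, 21596, 107052, 77932, 50821, 43205, 46341,
  83469, 114829, 132749, 131797, 102677, 71709, 132189, 78373, 106597]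

def all6 (P : ℕ → Bool) : Bool :=
  (List.range 6).all fun a => (List.range 6).all fun b => a == b || (List.range 6).all fun c =>
    a == c || b == c || (List.range 6).all fun d => a == d || b == d || c == d ||
      (List.range 6).all fun e => a == e || b == e || c == e || d == e ||
        (List.range 6).all fun f => P (mk a b c d e f)

theorem chkI : all6 (fun c => sq c != 181896 || LI.contains c) = true := by decide +kernel

theorem chkO : all6 (fun c => cu c != 181896 || LO.contains c) = true := by decide +kernel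

def P2 (F R B : ℕ) : Bool := mu (mu (mu (sq 166097) (mu F (mu B 166097))) F) 181896 ==
    mu B (mu (sq 166097) (mu F (mu B 166097))) && LI.all fun S =>
  sq (mu B S) != F || cu (mu S 166097) != 181896 ||
    ((fi (mu R 166097) == 181896) !=
      (fi (mu (mu (mu B S) (mu R (cu (mu B S)))) (sq 166097)) == 181896))

def P1 (F R B : ℕ) : Bool := mu R B != mu (mu B F) R ||
  ((cu (mu B 166097) == 181896 || cu (mu B (sq 166097)) == 181896) &&
    (cu (mu B 166097) != 181896 || P2 F R B))

theorem chk : (LI.all fun F => F == 181896 || sq (mu F 166097) != 181896 ||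
    LO.all fun R => P1 F R (mu R (mu F (sq R)))) = true := by decide +kernel

def code (σ : Equiv.Perm (Fin 6)) : ℕ := mk (σ 0) (σ 1) (σ 2) (σ 3) (σ 4) (σ 5)

theorem ap_code (σ : Equiv.Perm (Fin 6)) (i : Fin 6) : ap (code σ) i = σ i := by
  have := (σ 0).2; have := (σ 1).2; have := (σ 2).2; have := (σ 3).2; have := (σ 4).2
  have := (σ 5).2
  fin_cases i <;> simp [ap, code, mk, Nat.shiftRight_eq_div_pow] <;> omega

theorem code_mul (σ τ : Equiv.Perm (Fin 6)) : code (σ * τ) = mu (code σ) (code τ) := by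
  have h := ap_code τ
  rw [mu, show ap (code τ) 0 = _ from h 0, show ap (code τ) 1 = _ from h 1,
    show ap (code τ) 2 = _ from h 2, show ap (code τ) 3 = _ from h 3,
    show ap (code τ) 4 = _ from h 4, show ap (code τ) 5 = _ from h 5]
  simp only [ap_code]
  rfl

theorem code_inj : Function.Injective code := fun σ τ h => by
  ext i
  rw [← ap_code, ← ap_code, h]

theorem all_code {P : ℕ → Bool} (h : all6 P = true) (σ : Equiv.Perm (Fin 6)) :
    P (code σ) = true := by
  simp only [all6, List.all_eq_true, List.mem_range, Bool.or_eq_true, beq_iff_eq] at h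
  have e : ∀ i j, (σ i : ℕ) = σ j ↔ i = j := fun i j => by rw [Fin.val_inj, σ.injective.eq_iff]
  exact ((((h _ (σ 0).2 _ (σ 1).2).resolve_left (by simp [e]) _ (σ 2).2).resolve_left
    (by simp [e]) _ (σ 3).2).resolve_left (by simp [e]) _ (σ 4).2).resolve_left (by simp [e])
    _ (σ 5).2

def T0 : Equiv.Perm (Fin 6) := ⟨![1, 2, 3, 4, 0, 5], ![4, 0, 1, 2, 3, 5], by decide, by decide⟩

theorem exists_code {X : Type*} [Group X] (φ : X →* Equiv.Perm (Fin 6))
    (hφ : Function.Injective φ) {t : X} (ht : orderOf t = 5) :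
    ∃ c : X → ℕ, Function.Injective c ∧ (∀ a b, c (a * b) = mu (c a) (c b)) ∧ c 1 = 181896 ∧
      c t = 166097 ∧ ∀ P, all6 P = true → ∀ a, P (c a) = true := by
  have h1 : orderOf (φ t) = 5 := by rw [orderOf_injective φ hφ, ht]
  have h2 : orderOf T0 = 5 := by
    have : Fact (Nat.Prime 5) := ⟨by norm_num⟩
    exact orderOf_eq_prime (by decide) (by decide)
  have cyc : ∀ σ : Equiv.Perm (Fin 6), orderOf σ = 5 → σ.IsCycle := fun σ h =>
    Equiv.Perm.isCycle_of_prime_order' (by rw [h]; norm_num) (by rw [h]; simp)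
  obtain ⟨g, hg⟩ := isConj_iff.1 ((cyc _ h1).isConj (cyc _ h2)
    (by rw [← (cyc _ h1).orderOf, ← (cyc _ h2).orderOf, h1, h2]))
  refine ⟨fun a => code (g * φ a * g⁻¹), fun a b e => hφ (by simpa using code_inj e),
    fun a b => ?_, by simp only [map_one, mul_one, mul_inv_cancel]; rfl, by simp only [hg]; rfl,
    fun P hP a => all_code hP _⟩
  rw [← code_mul]
  simp only [map_mul]
  congr 1; group

/-- the facts proved by brute force -/
theorem brute {X : Type*} [Group X] (φ : X →* Equiv.Perm (Fin 6)) (hφ : Function.Injective φ)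
    {t f r β : X} (ht : orderOf t = 5) (hf : f ≠ 1) (hf2 : f * f = 1) (hft : f * t * (f * t) = 1)
    (hr1 : r * f * r⁻¹ = β) (hr2 : r * β * r⁻¹ = β * f) (hr3 : r ^ 3 = 1) :
    ((β * t) ^ 3 = 1 ∨ (β * (t * t)) ^ 3 = 1) ∧ ((β * t) ^ 3 = 1 →
      t * t * (f * (β * t)) * f = β * (t * t * (f * (β * t))) ∧
      ∀ s, s * s = 1 → β * s * (β * s) = f → (s * t) ^ 3 = 1 →
        ¬ ((r * t) ^ 5 = 1 ↔ (β * s * (r * (β * s) ^ 3) * (t * t)) ^ 5 = 1)) := by
  obtain ⟨c, hc, hm, h1, h2, h3⟩ := exists_code φ hφ ht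
  have e1 : ∀ a, a = 1 ↔ c a = 181896 := fun a => by rw [← h1, hc.eq_iff]
  have e3 : ∀ a, c (a ^ 3) = cu (c a) := fun a => by
    rw [cu, ← hm, ← hm]; congr 1; simp [pow_succ, mul_assoc]
  have e5 : ∀ a, c (a ^ 5) = fi (c a) := fun a => by
    rw [fi, sq, sq, ← hm, ← hm, ← hm]; congr 1; simp [pow_succ, mul_assoc]
  have hI : ∀ a, a * a = 1 → c a ∈ LI := fun a e => by
    simpa [sq, ← hm, e, h1] using h3 _ chkI a
  have hO : c r ∈ LO := by simpa [← e3, hr3, h1] using h3 _ chkO r
  have hB : mu (c r) (mu (c f) (sq (c r))) = c β := by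
    rw [sq, ← hm, ← hm, ← hm, ← hr1]
    congr 1
    calc _ = r * f * r⁻¹ * r ^ 3 := by simp [pow_succ, mul_assoc]
      _ = _ := by rw [hr3, mul_one]
  have h4 := List.all_eq_true.1 chk _ (hI f hf2)
  have h5 : sq (mu (c f) 166097) = 181896 := by rw [← h2, sq, ← hm, ← hm, hft, h1]
  have h6 : mu (c r) (c β) = mu (mu (c β) (c f)) (c r) := by
    rw [← hm, ← hm, ← hm, ← hr2]; congr 1; group
  simp only [h5, bne_self_eq_false, Bool.or_false, Bool.or_eq_true, beq_iff_eq, ← e1, hf,
    false_or, List.all_eq_true] at h4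
  have h7 := h4 _ hO
  rw [hB, P1, P2, h6, ← h2, ← h1] at h7
  simp only [sq, ← hm, ← e3, ← e5, bne_self_eq_false, Bool.false_or, Bool.and_eq_true,
    Bool.or_eq_true, beq_iff_eq, bne_iff_ne, ne_eq, hc.eq_iff, List.all_eq_true, mul_one] at h7
  refine ⟨h7.1, fun e => ?_⟩
  obtain ⟨h8, h9⟩ := h7.2.resolve_left (not_not.2 e)
  refine ⟨h8, fun s hs hw hst => ?_⟩
  have := h9 _ (hI s hs)
  simp only [← hm, ← e3, ← e5, hw, hst, not_true, false_or] at this
  intro e
  apply this
  rw [Bool.eq_iff_iff, beq_iff_eq, beq_iff_eq, hc.eq_iff, hc.eq_iff, e]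

end H18.HNC
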