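import Mathlib
import Cfsg.Agent.H15.KM

/-! Bit masks for extraspecial groups of order at most `2 ^ 9`. -/

set_option autoImplicit false

namespace H18.HND

open Subgroup

variable {G : Type*} [Group G]

/-- `e` or `1` -/
def E (e : G) (b : Bool) : G := cond b e 1

@[simp] theorem E_true (e : G) : E e true = e := rfl
@[simp] theorem E_false (e : G) : E e false = 1 := rfl

theorem E_mul {e : G} (h : e * e = 1) (a b : Bool) : E e a * E e b = E e (a ^^ b) := by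
  cases a <;> cases b <;> simp [h]

theorem E_comm {e x : G} (h : x * e = e * x) (b : Bool) : x * E e b = E e b * x := by
  cases b <;> simp [h]

theorem E_inj {e : G} (h : e ≠ 1) {a b : Bool} (hab : E e a = E e b) : a = b := by
  cases a <;> cases b
  · rfl
  · exact absurd hab.symm h
  · exact absurd hab h
  · rfl

/-- equality modulo `e` -/
def Me (e a b : G) : Prop := ∃ s : Bool, a = b * E e s

theorem Me.rfl' {e a : G} : Me e a a := ⟨false, by simp⟩

theorem Me.of_eq {e a b : G} (h : a = b) : Me e a b := ⟨false, by simp [h]⟩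

theorem Me.mul_e {e a : G} : Me e (a * e) a := ⟨true, rfl⟩

theorem me_iff {e a b : G} : Me e a b ↔ a = b ∨ a = b * e :=
  ⟨fun ⟨s, h⟩ => by cases s <;> simp_all, fun h => h.elim Me.of_eq fun h => ⟨true, h⟩⟩

theorem Me.trans {e a b c : G} (h : e * e = 1) (h1 : Me e a b) (h2 : Me e b c) : Me e a c := by
  obtain ⟨s, rfl⟩ := h1
  obtain ⟨t, rfl⟩ := h2
  exact ⟨t ^^ s, by rw [mul_assoc, E_mul h]⟩

theorem Me.symm {e a b : G} (h : e * e = 1) (h1 : Me e a b) : Me e b a := by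
  obtain ⟨s, rfl⟩ := h1
  exact ⟨s, by rw [mul_assoc, E_mul h]; simp⟩

theorem Me.mul {e a b a' b' : G} (h : e * e = 1) (hb : b' * e = e * b') (h1 : Me e a a')
    (h2 : Me e b b') : Me e (a * b) (a' * b') := by
  obtain ⟨s, rfl⟩ := h1
  obtain ⟨t, rfl⟩ := h2
  refine ⟨s ^^ t, ?_⟩
  rw [← E_mul h]
  calc a' * E e s * (b' * E e t) = a' * (E e s * b') * E e t := by group
    _ = _ := by rw [← E_comm hb]; group

theorem Me.conj {e a b g : G} (hg : g * e = e * g) (h1 : Me e a b) :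
    Me e (g * a * g⁻¹) (g * b * g⁻¹) := by
  obtain ⟨s, rfl⟩ := h1
  refine ⟨s, ?_⟩
  calc g * (b * E e s) * g⁻¹ = g * b * g⁻¹ * (g * E e s) * g⁻¹ := by group
    _ = _ := by rw [E_comm hg]; group

theorem Me.comm_e {e a b : G} (hb : b * e = e * b) (h1 : Me e a b) : a * e = e * a := by
  obtain ⟨s, rfl⟩ := h1
  rw [mul_assoc, ← E_comm rfl, ← mul_assoc, hb, mul_assoc]

theorem Me.comm {e a b x : G} (hx : x * e = e * x) (h1 : Me e a b) :
    a * x = x * a ↔ b * x = x * b := by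
  obtain ⟨s, rfl⟩ := h1
  rw [mul_assoc, ← E_comm hx, ← mul_assoc, ← mul_assoc, mul_left_inj]

theorem Me.sq {e a b : G} (h : e * e = 1) (hb : b * e = e * b) (h1 : Me e a b) : a * a = b * b := by
  obtain ⟨s, rfl⟩ := h1
  calc b * E e s * (b * E e s) = b * (E e s * b) * E e s := by group
    _ = b * b * (E e s * E e s) := by rw [← E_comm hb]; group
    _ = _ := by rw [E_mul h]; simp

theorem Me.of_zpowers {e a b : G} (h : e * e = 1) (hb : b * e = e * b) (h1 : a * b⁻¹ ∈ zpowers e) :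
    Me e a b := by
  obtain ⟨k, hk⟩ := h1
  have h2 : e ^ (2 : ℤ) = 1 := by rw [zpow_two, h]
  have ha : a = e ^ k * b := by simp only [] at hk; rw [hk]; group
  obtain ⟨j, rfl | rfl⟩ := Int.even_or_odd' k
  · exact Me.of_eq (by rw [ha, zpow_mul, h2]; simp)
  · exact ⟨true, by rw [ha, zpow_add, zpow_mul, h2]; simp [hb]⟩

/-- one factor -/
def pp (c : ℕ → G) (n i : ℕ) : G := cond (n.testBit i) (c i) 1

/-- the element with mask `n` -/
def ι (c : ℕ → G) (n : ℕ) : G :=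
  (pp c n 0 * pp c n 1) * ((pp c n 2 * pp c n 3) * ((pp c n 4 * pp c n 5) * (pp c n 6 * pp c n 7)))

/-- the cocycle -/
def sg (n m : ℕ) : Bool :=
  (n.testBit 1 && m.testBit 0) ^^ ((n.testBit 3 && m.testBit 2) ^^ ((n.testBit 5 && m.testBit 4) ^^
    (n.testBit 7 && m.testBit 6)))

/-- the commutator form -/
def bb (n m : ℕ) : Bool := sg n m ^^ sg m n

/-- a linear map on masks -/
def lin (t : ℕ → ℕ) (n : ℕ) : ℕ :=
  (cond (n.testBit 0) (t 0) 0 ^^^ cond (n.testBit 1) (t 1) 0) ^^^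
    ((cond (n.testBit 2) (t 2) 0 ^^^ cond (n.testBit 3) (t 3) 0) ^^^
      ((cond (n.testBit 4) (t 4) 0 ^^^ cond (n.testBit 5) (t 5) 0) ^^^
        (cond (n.testBit 6) (t 6) 0 ^^^ cond (n.testBit 7) (t 7) 0)))

theorem ι_zero (c : ℕ → G) : ι c 0 = 1 := by simp [ι, pp]

theorem ι_pow (c : ℕ → G) {i : ℕ} (hi : i < 8) : ι c (2 ^ i) = c i := by
  simp only [ι, pp, Nat.testBit_two_pow]
  interval_cases i <;> simp

theorem ι_65 (c : ℕ → G) : ι c 65 = c 0 * c 6 := by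
  simp [ι, pp, show Nat.testBit 65 0 = true from rfl, show Nat.testBit 65 1 = false from rfl,
    show Nat.testBit 65 2 = false from rfl, show Nat.testBit 65 3 = false from rfl,
    show Nat.testBit 65 4 = false from rfl, show Nat.testBit 65 5 = false from rfl,
    show Nat.testBit 65 6 = true from rfl, show Nat.testBit 65 7 = false from rfl]

theorem ι_66 (c : ℕ → G) : ι c 66 = c 1 * c 6 := by
  simp [ι, pp, show Nat.testBit 66 0 = false from rfl, show Nat.testBit 66 1 = true from rfl,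
    show Nat.testBit 66 2 = false from rfl, show Nat.testBit 66 3 = false from rfl,
    show Nat.testBit 66 4 = false from rfl, show Nat.testBit 66 5 = false from rfl,
    show Nat.testBit 66 6 = true from rfl, show Nat.testBit 66 7 = false from rfl]

theorem bit_lt {n N i : ℕ} (hn : n < 2 ^ N) (h : n.testBit i = true) : i < N := by
  by_contra hi
  rw [Nat.testBit_lt_two_pow (hn.trans_le (Nat.pow_le_pow_right (by norm_num) (not_lt.1 hi)))] at h
  exact Bool.false_ne_true h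

theorem pp_mem {c : ℕ → G} {K : Subgroup G} {N n : ℕ} (hn : n < 2 ^ N) (h : ∀ i < N, c i ∈ K) (i : ℕ) :
    pp c n i ∈ K := by
  unfold pp
  cases hb : n.testBit i
  · exact K.one_mem
  · exact h i (bit_lt hn hb)

theorem ι_mem {c : ℕ → G} {K : Subgroup G} {N n : ℕ} (hn : n < 2 ^ N) (h : ∀ i < N, c i ∈ K) :
    ι c n ∈ K := by
  have := pp_mem hn h
  unfold ι
  apply_rules [K.mul_mem]

theorem ι_congr {c c' : ℕ → G} {N n : ℕ} (hn : n < 2 ^ N) (h : ∀ i < N, c' i = c i) :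
    ι c' n = ι c n := by
  have : ∀ i, pp c' n i = pp c n i := fun i => by
    unfold pp
    cases hb : n.testBit i
    · rfl
    · exact h i (bit_lt hn hb)
  simp only [ι, this]

theorem ev_mw (c : ℕ → G) (a : ℕ) (l : List ℕ) (n : ℕ) :
    H29.ev c (H15.KM.mw (a :: l) n) = cond (n.testBit 0) (c a) 1 * H29.ev c (H15.KM.mw l (n / 2)) := by
  obtain ⟨k, rfl | rfl⟩ := Nat.even_or_odd' n
  · rw [H15.KM.mw_even, show 2 * k / 2 = k by omega]
    simp
  · rw [H15.KM.mw_odd, show (2 * k + 1) / 2 = k by omega]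
    simp [Nat.testBit_zero]

theorem ev_eq_ι (c : ℕ → G) {n : ℕ} (hn : n < 128) :
    H29.ev c (H15.KM.mw [0, 1, 2, 3, 4, 5, 6] n) = ι c n := by
  have h7 : n.testBit 7 = false := Nat.testBit_lt_two_pow hn
  simp only [ev_mw, Nat.testBit_div_two, ι, pp, h7, show ∀ m, H15.KM.mw [] m = [] from fun _ => rfl,
    H29.ev_nil, cond_false, mul_one, mul_assoc]

/-- the relations of the first `N` generators -/
structure Fam (c : ℕ → G) (e : G) (N : ℕ) : Prop where
  e2 : e * e = 1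
  e1 : e ≠ 1
  sq : ∀ i < N, c i * c i = 1 ∧ c i * e = e * c i
  rel : ∀ i < N, ∀ j < N, (j ≠ i ^^^ 1 → c i * c j = c j * c i) ∧
      (j = i ^^^ 1 → c i * c j = c j * c i * e)

namespace Fam

variable {c : ℕ → G} {e : G} {N : ℕ} (h : Fam c e N)
include h

theorem mono {M : ℕ} (hM : M ≤ N) : Fam c e M :=
  ⟨h.e2, h.e1, fun i hi => h.sq i (by omega), fun i hi j hj => h.rel i (by omega) j (by omega)⟩

theorem pp_e {n : ℕ} (hn : n < 2 ^ N) (i : ℕ) : pp c n i * e = e * pp c n i :=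
  mem_centralizer_singleton_iff.1
    (pp_mem hn (fun i hi => mem_centralizer_singleton_iff.2 (h.sq i hi).2) i)

theorem ι_e {n : ℕ} (hn : n < 2 ^ N) : ι c n * e = e * ι c n :=
  mem_centralizer_singleton_iff.1 (ι_mem hn fun i hi => mem_centralizer_singleton_iff.2 (h.sq i hi).2)

theorem pp_comm {n m : ℕ} (hn : n < 2 ^ N) (hm : m < 2 ^ N) {i j : ℕ} (hij : j ≠ i ^^^ 1) :
    Commute (pp c n i) (pp c m j) := by
  unfold pp
  cases hb : n.testBit i
  · exact Commute.one_left _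
  cases hb' : m.testBit j
  · exact Commute.one_right _
  exact (h.rel i (bit_lt hn hb) j (bit_lt hm hb')).1 hij

theorem pp_mul {n m : ℕ} (hn : n < 2 ^ N) (i : ℕ) :
    pp c n i * pp c m i = pp c (n ^^^ m) i := by
  unfold pp
  rw [Nat.testBit_xor]
  cases hb : n.testBit i <;> cases m.testBit i <;> simp
  exact (h.sq i (bit_lt hn hb)).1

theorem pair {n m : ℕ} (hn : n < 2 ^ N) (hm : m < 2 ^ N) {i j : ℕ} (hij : i = j ^^^ 1) :
    (pp c n i * pp c n j) * (pp c m i * pp c m j) =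
      pp c (n ^^^ m) i * pp c (n ^^^ m) j * E e (n.testBit j && m.testBit i) := by
  have : pp c n j * pp c m i = pp c m i * pp c n j * E e (n.testBit j && m.testBit i) := by
    unfold pp
    cases hb : n.testBit j
    · simp
    cases hb' : m.testBit i
    · simp
    exact (h.rel j (bit_lt hn hb) i (bit_lt hm hb')).2 hij
  rw [← h.pp_mul hn, ← h.pp_mul hn]
  calc _ = pp c n i * (pp c n j * pp c m i) * pp c m j := by group
    _ = pp c n i * pp c m i * pp c n j * (E e (n.testBit j && m.testBit i) * pp c m j) := by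
      rw [this]; group
    _ = _ := by rw [← E_comm (h.pp_e hm j)]; group

omit h in
theorem step {a b a' b' x y s t : G} (h1 : Commute b a') (h2 : a * a' = x * s) (h3 : b * b' = y * t)
    (h4 : y * s = s * y) : (a * b) * (a' * b') = x * y * (s * t) := by
  calc (a * b) * (a' * b') = a * (b * a') * b' := by group
    _ = (a * a') * (b * b') := by rw [h1.eq]; group
    _ = x * (s * y) * t := by rw [h2, h3]; group
    _ = _ := by rw [← h4]; group

theorem mul {n m : ℕ} (hn : n < 2 ^ N) (hm : m < 2 ^ N) :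
    ι c n * ι c m = ι c (n ^^^ m) * E e (sg n m) := by
  have hx : n ^^^ m < 2 ^ N := Nat.xor_lt_two_pow hn hm
  have C := fun i j hij => h.pp_comm hn hm (i := i) (j := j) hij
  have P := fun i j hij => h.pair hn hm (i := i) (j := j) hij
  have Z : ∀ i s, Commute (pp c (n ^^^ m) i) (E e s) := fun i s => E_comm (h.pp_e hx i) s
  unfold ι sg
  rw [← E_mul h.e2, ← E_mul h.e2, ← E_mul h.e2]
  refine step ?_ (P 0 1 rfl) (step ?_ (P 2 3 rfl) (step ?_ (P 4 5 rfl) (P 6 7 rfl) ?_) ?_) ?_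
  all_goals try apply Commute.eq
  all_goals repeat' first | apply Commute.mul_left | apply Commute.mul_right
  all_goals first | exact Z _ _ | (refine C _ _ ?_; decide)

theorem comm {n m : ℕ} (hn : n < 2 ^ N) (hm : m < 2 ^ N) :
    ι c n * ι c m = ι c m * ι c n * E e (bb n m) := by
  rw [h.mul hn hm, h.mul hm hn, Nat.xor_comm m n, mul_assoc, E_mul h.e2, bb]
  cases sg n m <;> cases sg m n <;> rfl

theorem comm_iff {n m : ℕ} (hn : n < 2 ^ N) (hm : m < 2 ^ N) :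
    ι c n * ι c m = ι c m * ι c n ↔ bb n m = false := by
  rw [h.comm hn hm]
  cases bb n m <;> simp [h.e1]

theorem sq' {n : ℕ} (hn : n < 2 ^ N) : ι c n * ι c n = E e (sg n n) := by
  rw [h.mul hn hn, Nat.xor_self, ι_zero, one_mul]

theorem sq_iff {n : ℕ} (hn : n < 2 ^ N) : ι c n * ι c n = 1 ↔ sg n n = false := by
  rw [h.sq' hn]
  cases sg n n <;> simp [h.e1]

theorem mul_me {n m : ℕ} (hn : n < 2 ^ N) (hm : m < 2 ^ N) {a b : G} (ha : Me e a (ι c n))
    (hb : Me e b (ι c m)) : Me e (a * b) (ι c (n ^^^ m)) :=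
  (ha.mul h.e2 (h.ι_e hm) hb).trans h.e2 ⟨_, h.mul hn hm⟩

/-- the group generated by the first `N` generators and `e` -/
def Sub : Subgroup G where
  carrier := {x | ∃ n < 2 ^ N, Me e x (ι c n)}
  one_mem' := ⟨0, by positivity, Me.of_eq (ι_zero c).symm⟩
  mul_mem' := fun ⟨n, hn, ha⟩ ⟨m, hm, hb⟩ => ⟨n ^^^ m, Nat.xor_lt_two_pow hn hm, h.mul_me hn hm ha hb⟩
  inv_mem' := by
    rintro x ⟨n, hn, ha⟩
    refine ⟨n, hn, Me.trans h.e2 ⟨sg n n, ?_⟩ ha⟩
    rw [inv_eq_iff_mul_eq_one, ← mul_assoc, ha.sq h.e2 (h.ι_e hn), h.sq' hn, E_mul h.e2]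
    simp

theorem mem_Sub {x : G} : x ∈ h.Sub ↔ ∃ n < 2 ^ N, Me e x (ι c n) := Iff.rfl

theorem ι_mem_Sub {n : ℕ} (hn : n < 2 ^ N) : ι c n ∈ h.Sub := ⟨n, hn, Me.rfl'⟩

theorem e_mem : e ∈ h.Sub := ⟨0, by positivity, true, by simp [ι_zero]⟩

theorem c_mem (hN : N ≤ 8) {i : ℕ} (hi : i < N) : c i ∈ h.Sub :=
  ι_pow c (show i < 8 by omega) ▸ h.ι_mem_Sub (Nat.pow_lt_pow_right (by norm_num) hi)

theorem Sub_le {K : Subgroup G} (he : e ∈ K) (hc : ∀ i < N, c i ∈ K) : h.Sub ≤ K := by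
  rintro x ⟨n, hn, s, rfl⟩
  refine K.mul_mem (ι_mem hn hc) ?_
  cases s
  · exact K.one_mem
  · exact he

theorem Sub_e {x : G} (hx : x ∈ h.Sub) : x * e = e * x := by
  obtain ⟨n, hn, hx⟩ := hx
  exact hx.comm_e (h.ι_e hn)

theorem me_comm {n m : ℕ} (hn : n < 2 ^ N) (hm : m < 2 ^ N) {a b : G} (ha : Me e a (ι c n))
    (hb : Me e b (ι c m)) : a * b = b * a ↔ bb n m = false := by
  rw [ha.comm (hb.comm_e (h.ι_e hm)), eq_comm, hb.comm (h.ι_e hn), eq_comm, h.comm_iff hn hm]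

theorem me_sq {n : ℕ} (hn : n < 2 ^ N) {a : G} (ha : Me e a (ι c n)) :
    a * a = 1 ↔ sg n n = false := by
  rw [ha.sq h.e2 (h.ι_e hn), h.sq_iff hn]

theorem Sub_comm {a b : G} (ha : a ∈ h.Sub) (hb : b ∈ h.Sub) : Me e (a * b) (b * a) := by
  have hbe := h.Sub_e hb
  have hae := h.Sub_e ha
  obtain ⟨n, hn, ha⟩ := ha
  obtain ⟨m, hm, hb⟩ := hb
  refine (h.mul_me hn hm ha hb).trans h.e2 (Me.symm h.e2 ?_)
  rw [Nat.xor_comm]
  exact h.mul_me hm hn hb ha

theorem Sub_conj {a b : G} (ha : a ∈ h.Sub) (hb : b ∈ h.Sub) : Me e (a * b * a⁻¹) b := by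
  obtain ⟨s, hs⟩ := h.Sub_comm ha hb
  refine ⟨s, ?_⟩
  rw [hs, mul_assoc (b), E_comm (h.Sub_e ha)]
  group

theorem Sub_sq {a : G} (ha : a ∈ h.Sub) : Me e (a * a) 1 := by
  obtain ⟨n, hn, ha⟩ := ha
  rw [ha.sq h.e2 (h.ι_e hn), h.sq' hn]
  exact ⟨_, (one_mul _).symm⟩

theorem conj_lin {g : G} {t : ℕ → ℕ} (ht : ∀ i < N, t i < 2 ^ N ∧ Me e (g * c i * g⁻¹) (ι c (t i)))
    {n : ℕ} (hn : n < 2 ^ N) : lin t n < 2 ^ N ∧ Me e (g * ι c n * g⁻¹) (ι c (lin t n)) := by
  have A : ∀ i, cond (n.testBit i) (t i) 0 < 2 ^ N ∧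
      Me e (g * pp c n i * g⁻¹) (ι c (cond (n.testBit i) (t i) 0)) := by
    intro i
    unfold pp
    cases hb : n.testBit i
    · exact ⟨by positivity, Me.of_eq (by simp [ι_zero])⟩
    · exact ht i (bit_lt hn hb)
  have B : ∀ {x y : G} {a b : ℕ}, (a < 2 ^ N ∧ Me e (g * x * g⁻¹) (ι c a)) →
      (b < 2 ^ N ∧ Me e (g * y * g⁻¹) (ι c b)) →
      a ^^^ b < 2 ^ N ∧ Me e (g * (x * y) * g⁻¹) (ι c (a ^^^ b)) := by
    intro x y a b h1 h2
    refine ⟨Nat.xor_lt_two_pow h1.1 h2.1, ?_⟩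
    rw [show g * (x * y) * g⁻¹ = g * x * g⁻¹ * (g * y * g⁻¹) by group]
    exact h.mul_me h1.1 h2.1 h1.2 h2.2
  exact B (B (A 0) (A 1)) (B (B (A 2) (A 3)) (B (B (A 4) (A 5)) (B (A 6) (A 7))))

end Fam

theorem nondeg : ∀ n < 2 ^ 8, (∀ i < 8, bb n (2 ^ i) = false) → n = 0 := by decide +kernel

theorem Fam.inj {c : ℕ → G} {e : G} (h : Fam c e 8) {n m : ℕ} (hn : n < 2 ^ 8) (hm : m < 2 ^ 8)
    (hnm : Me e (ι c n) (ι c m)) : n = m := by
  have hx := Nat.xor_lt_two_pow hn hm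
  have h1 : Me e (ι c n * ι c m) (ι c (n ^^^ m)) := h.mul_me hn hm Me.rfl' Me.rfl'
  have h2 : Me e (ι c n * ι c m) (ι c (m ^^^ m)) := h.mul_me hm hm hnm Me.rfl'
  rw [Nat.xor_self] at h2
  refine Nat.xor_eq_zero_iff.1 (nondeg _ hx fun i hi => ?_)
  have hi' : 2 ^ i < 2 ^ 8 := Nat.pow_lt_pow_right (by norm_num) hi
  rw [← h.me_comm hx hi' h1 Me.rfl', h.me_comm (by norm_num) hi' h2 Me.rfl']
  simp [bb, sg]

end H18.HND
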