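import Mathlib
import Cfsg.Agent.H18.HND1

/-! The group `Q = 2 ^ (1 + 8)` in the HN recognition. -/

set_option autoImplicit false

namespace H18.HND

open Subgroup

variable {G : Type*} [Group G]

/-- the members `u` of the class of `f` commuting with `e` with `u e` in the class of `f` -/
def VV (f e u : G) : Prop := u * e = e * u ∧ IsConj f u ∧ IsConj f (u * e)

theorem isConj_conj {f u : G} (g : G) (h : IsConj f u) : IsConj f (g * u * g⁻¹) :=
  h.trans (isConj_iff.2 ⟨g, rfl⟩)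

theorem comm_conj {a b : G} (g : G) (h : a * b = b * a) :
    g * a * g⁻¹ * (g * b * g⁻¹) = g * b * g⁻¹ * (g * a * g⁻¹) := by
  calc _ = g * (a * b) * g⁻¹ := by group
    _ = _ := by rw [h]; group

theorem conj_eq {a g : G} (h : g * a = a * g) : g * a * g⁻¹ = a := by rw [h]; group

theorem comm_of_conj {a g : G} (h : g * a * g⁻¹ = a) : g * a = a * g := mul_inv_eq_iff_eq_mul.1 h

theorem inv_comm {a g : G} (h : g * a = a * g) : g⁻¹ * a = a * g⁻¹ := (Commute.inv_left h).eq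

theorem mul_comm' {a g k : G} (h : g * a = a * g) (h' : k * a = a * k) : g * k * a = a * (g * k) :=
  (Commute.mul_left h h').eq

theorem conj_comm_e {a g e : G} (hg : g * e = e * g) (h : a * e = e * a) :
    g * a * g⁻¹ * e = e * (g * a * g⁻¹) := mul_comm' (mul_comm' hg h) (inv_comm hg)

theorem VV.conj {f e u g : G} (hg : g * e = e * g) (h : VV f e u) : VV f e (g * u * g⁻¹) := by
  refine ⟨conj_comm_e hg h.1, isConj_conj g h.2.1, ?_⟩
  have := isConj_conj g h.2.2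
  rwa [show g * (u * e) * g⁻¹ = g * u * g⁻¹ * (g * e * g⁻¹) by group, conj_eq hg] at this

theorem VV.me {f e u v : G} (he : e * e = 1) (h : VV f e u) (hv : Me e v u) : VV f e v := by
  rcases me_iff.1 hv with rfl | rfl
  · exact h
  · exact ⟨mul_comm' h.1 rfl, h.2.2, by rw [mul_assoc, he, mul_one]; exact h.2.1⟩

theorem sq_of_conj {f u : G} (hf : f * f = 1) (h : IsConj f u) : u * u = 1 := by
  obtain ⟨g, rfl⟩ := isConj_iff.1 h
  calc _ = g * (f * f) * g⁻¹ := by group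
    _ = 1 := by rw [hf]; group

theorem ne_one_of_conj {f u : G} (hf : f ≠ 1) (h : IsConj f u) : u ≠ 1 := by
  rintro rfl
  exact hf (isConj_one_left.1 h)

theorem conj_inv_of_finite [Finite G] {K : Subgroup G} {g : G} (h : ∀ q ∈ K, g * q * g⁻¹ ∈ K) :
    ∀ q ∈ K, g⁻¹ * q * g ∈ K := by
  have : ∀ n : ℕ, ∀ q ∈ K, g ^ n * q * (g ^ n)⁻¹ ∈ K := by
    intro n
    induction n with
    | zero => simp
    | succ n ih =>
      intro q hq
      have := h _ (ih q hq)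
      rwa [show g * (g ^ n * q * (g ^ n)⁻¹) * g⁻¹ = g ^ (n + 1) * q * (g ^ (n + 1))⁻¹ by group] at this
  intro q hq
  have h1 := this (orderOf g - 1) q hq
  have h2 : g ^ (orderOf g - 1) = g⁻¹ := by
    rw [eq_inv_iff_mul_eq_one, ← pow_succ, Nat.sub_add_cancel (orderOf_pos g), pow_orderOf_eq_one]
  rwa [h2, inv_inv] at h1

theorem me_c {c : ℕ → G} {e : G} {i : ℕ} (hi : i < 8) : Me e (c i) (ι c (2 ^ i)) :=
  Me.of_eq (ι_pow c hi).symm

def D0 : ℕ := 21973901876580535896678605696022282550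

def t1 (i : ℕ) : ℕ := [84, 34, 40, 4, 2, 85, 64, 160].getD i 0
def t2 (i : ℕ) : ℕ := [81, 2, 4, 72, 16, 34, 64, 134].getD i 0

/-- the hypotheses -/
structure Hy (G1 : Subgroup G) (c : ℕ → G) (f e w1 w2 : G) : Prop where
  F : Fam c e 7
  c6 : c 6 = f
  f1 : f ≠ 1
  fe : ¬ IsConj f e
  hK : ∀ g, g * f = f * g → g ∈ G1
  hcl : ∀ u, u * f = f * u → u * u = 1 → u ≠ 1 → ∃ g ∈ G1, g * u * g⁻¹ = f ∨ g * u * g⁻¹ = e
  hE : ∀ u, u * f = f * u → IsConj e u → IsConj f (u * f) → ∃ k, k * f = f * k ∧ k * u * k⁻¹ = e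
  hV : ∀ u, u * f = f * u → VV f e u → u ∈ F.Sub
  hm : ∀ n < 2 ^ 7, VV f e (ι c n) ↔ D0.testBit n = true
  hCR : ∀ g, (∀ i < 7, g * c i = c i * g) → g * e = e * g → g ∈ F.Sub
  hy : ∀ u ∈ F.Sub, VV f e u → IsConj f (u * f) →
      ∃ w, w * f = f * w ∧ w * e = e * w ∧ w * u * w⁻¹ = c 0
  hfix : ∀ w, w * f = f * w → w * e = e * w → w * w ∈ F.Sub →
      ∃ y ∈ F.Sub, VV f e y ∧ IsConj f (y * f) ∧ (Me e (w * y * w⁻¹) y ∨ Me e (w * y * w⁻¹) (f * y))
  hw1 : w1 * e = e * w1 ∧ ∀ i < 7, Me e (w1 * c i * w1⁻¹) (ι c (t1 i))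
  hw2 : w2 * e = e * w2 ∧ ∀ i < 7, Me e (w2 * c i * w2⁻¹) (ι c (t2 i))

theorem d_pow : ∀ i < 7, D0.testBit (2 ^ i) = true := by decide +kernel

theorem d_S2 : ∀ m < 2 ^ 7, sg m m = false → (∀ j < 6, j ≠ 1 → bb m (2 ^ j) = bb 2 (2 ^ j)) →
    m = 2 ∨ m = 66 := by decide +kernel

theorem d_rad : ∀ m < 2 ^ 7, (∀ j < 6, bb m (2 ^ j) = false) → m = 0 ∨ m = 64 := by decide +kernel

theorem d_dual : ∀ b0 b1 b2 b3 b4 b5 : Bool, ∃ m < 2 ^ 7,
    ∀ i < 7, bb m (2 ^ i) = [b0, b1, b2, b3, b4, b5].getD i false := by decide +kernel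

namespace Hy

variable {G1 : Subgroup G} {c : ℕ → G} {f e w1 w2 : G} (h : Hy G1 c f e w1 w2)
include h

theorem e2 : e * e = 1 := h.F.e2
theorem f2 : f * f = 1 := h.c6 ▸ (h.F.sq 6 (by norm_num)).1
theorem cfe : f * e = e * f := h.c6 ▸ (h.F.sq 6 (by norm_num)).2
theorem ce {i : ℕ} (hi : i < 7) : c i * e = e * c i := (h.F.sq i hi).2
theorem cf {i : ℕ} (hi : i < 7) : c i * f = f * c i := by
  rw [← h.c6]
  refine (h.F.rel i hi 6 (by norm_num)).1 ?_
  interval_cases i <;> decide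

theorem cV {i : ℕ} (hi : i < 7) : VV f e (c i) :=
  ι_pow c (show i < 8 by omega) ▸ (h.hm _ (Nat.pow_lt_pow_right (by norm_num) hi)).2 (d_pow i hi)

theorem fV : VV f e f := h.c6 ▸ h.cV (by norm_num)

theorem yfV : VV f e (c 0 * f) := by
  have := (h.hm 65 (by norm_num)).2 (by decide +kernel)
  rwa [ι_65, h.c6] at this

theorem cR {i : ℕ} (hi : i < 7) : c i ∈ h.F.Sub := h.F.c_mem (by norm_num) hi

theorem fR : f ∈ h.F.Sub := h.c6 ▸ h.cR (by norm_num)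

theorem Rf {r : G} (hr : r ∈ h.F.Sub) : r * f = f * r :=
  mem_centralizer_singleton_iff.1 (h.F.Sub_le (K := centralizer {f})
    (mem_centralizer_singleton_iff.2 h.cfe.symm)
    (fun _ hi => mem_centralizer_singleton_iff.2 (h.cf hi)) hr)

theorem Vsq {u : G} (hu : IsConj f u) : u * u = 1 := sq_of_conj h.f2 hu

theorem B0 {u : G} (hu : IsConj f u) (huf : u * f = f * u) : ∃ g ∈ G1, g * u * g⁻¹ = f := by
  obtain ⟨g, hg, h1 | h1⟩ := h.hcl u huf (h.Vsq hu) (ne_one_of_conj h.f1 hu)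
  · exact ⟨g, hg, h1⟩
  · exact absurd (h1 ▸ isConj_conj g hu) h.fe

theorem B1 {u : G} (hu : VV f e u) : ∃ g, g * e = e * g ∧ g * u * g⁻¹ = f := by
  obtain ⟨g, hg⟩ := isConj_iff.1 hu.2.1.symm
  obtain ⟨k, k1, k2⟩ := h.hE (g * e * g⁻¹) (by rw [← hg]; exact comm_conj g hu.1.symm)
    (isConj_iff.2 ⟨g, rfl⟩) (by
      have := isConj_conj g hu.2.2
      rwa [hu.1, show g * (e * u) * g⁻¹ = g * e * g⁻¹ * (g * u * g⁻¹) by group, hg] at this)
  refine ⟨k * g, comm_of_conj (Eq.trans (by group) k2), ?_⟩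
  calc k * g * u * (k * g)⁻¹ = k * (g * u * g⁻¹) * k⁻¹ := by group
    _ = f := by rw [hg, conj_eq k1]

/-- `N0` normalises `R` -/
theorem normR {g : G} (hg : g * e = e * g) (hf : Me e (g * f * g⁻¹) f) {r : G} (hr : r ∈ h.F.Sub) :
    g * r * g⁻¹ ∈ h.F.Sub := by
  have : h.F.Sub ≤ h.F.Sub.comap (MulAut.conj g).toMonoidHom := by
    refine h.F.Sub_le ?_ fun i hi => ?_
    · show g * e * g⁻¹ ∈ h.F.Sub
      rw [conj_eq hg]; exact h.F.e_mem
    · show g * c i * g⁻¹ ∈ h.F.Sub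
      refine h.hV _ ?_ ((h.cV hi).conj hg)
      exact ((hf.comm (conj_comm_e hg (h.ce hi))).1 (comm_conj g (h.cf hi).symm)).symm
  exact this hr

theorem S2 {v : G} (hv : VV f e v) (hy : v * c 0 = c 0 * v) (hf : v * f * v⁻¹ = f * e) :
    ∀ i < 7, Me e (v * c i * v⁻¹) (c i) := by
  obtain ⟨g, hg, hgy⟩ := h.B1 (h.cV (i := 0) (by norm_num))
  have inR : ∀ u, VV f e u → u * c 0 = c 0 * u → g * u * g⁻¹ ∈ h.F.Sub := fun u hu hu0 =>
    h.hV _ (by rw [← hgy]; exact comm_conj g hu0) (hu.conj hg)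
  have A : ∀ i < 7, i ≠ 1 → Me e (v * c i * v⁻¹) (c i) := by
    intro i hi hi1
    have h1 := h.F.Sub_conj (inR v hv hy) (inR (c i) (h.cV hi)
      ((h.F.rel 0 (by norm_num) i hi).1 hi1).symm)
    have h2 := h1.conj (inv_comm hg)
    convert h2 using 1 <;> group
  intro i hi
  by_cases hi1 : i ≠ 1
  · exact A i hi hi1
  obtain rfl : i = 1 := not_not.1 hi1
  obtain ⟨m, hm, hx⟩ := h.normR hv.1 ⟨true, hf⟩ (h.cR hi)
  have h1 : sg m m = false := (h.F.me_sq hm hx).1 (h.Vsq (isConj_conj v (h.cV hi).2.1))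
  have h2 : ∀ j < 6, j ≠ 1 → bb m (2 ^ j) = bb 2 (2 ^ j) := by
    intro j hj hj1
    have hj' : 2 ^ j < 2 ^ 7 := Nat.pow_lt_pow_right (by norm_num) (by omega)
    have e1 := h.F.me_comm hm hj' hx ((A j (by omega) hj1).trans h.e2 (me_c (by omega)))
    have e2 := h.F.me_comm (n := 2 ^ 1) (by norm_num) hj' (me_c (by norm_num)) (me_c (show j < 8 by omega))
    have e3 : v * c 1 * v⁻¹ * (v * c j * v⁻¹) = v * c j * v⁻¹ * (v * c 1 * v⁻¹) ↔
        c 1 * c j = c j * c 1 :=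
      ⟨fun hh => by have := comm_conj v⁻¹ hh; convert this using 1 <;> group, comm_conj v⟩
    have e4 : bb m (2 ^ j) = false ↔ bb 2 (2 ^ j) = false := by rw [← e1, e3, e2]; rfl
    revert e4
    cases bb m (2 ^ j) <;> cases bb 2 (2 ^ j) <;> simp
  rcases d_S2 m hm h1 h2 with rfl | rfl
  · exact ι_pow c (show 1 < 8 by norm_num) ▸ hx
  exfalso
  rw [ι_66, h.c6] at hx
  obtain ⟨s, hs⟩ := hx
  have v2 := h.Vsq hv.2.1
  have vE : v * E e s * v⁻¹ = E e s := conj_eq (E_comm hv.1 s)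
  apply h.F.e1
  have : c 1 = c 1 * e := by
    calc c 1 = (v * v) * c 1 * (v * v)⁻¹ := by rw [v2]; group
      _ = v * (v * c 1 * v⁻¹) * v⁻¹ := by group
      _ = v * (c 1 * f * E e s) * v⁻¹ := by rw [hs]
      _ = (v * c 1 * v⁻¹) * (v * f * v⁻¹) * (v * E e s * v⁻¹) := by group
      _ = c 1 * f * (E e s * (f * e)) * E e s := by rw [hs, hf, vE]; group
      _ = c 1 * (f * f) * e * (E e s * E e s) := by
        rw [← E_comm (mul_comm' h.cfe rfl)]; group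
      _ = c 1 * e := by rw [h.f2, E_mul h.e2]; simp
  exact left_eq_mul.1 this

theorem exists_h : ∃ v, VV f e v ∧ v * c 0 = c 0 * v ∧ v * f * v⁻¹ = f * e := by
  obtain ⟨g, hg, hgy⟩ := h.B1 (h.cV (i := 0) (by norm_num))
  obtain ⟨m, hm, hx⟩ := h.hV (g * f * g⁻¹)
    (by have := comm_conj g (h.cf (i := 0) (by norm_num)).symm; rwa [hgy] at this) (h.fV.conj hg)
  have h1 : ∃ j < 6, bb m (2 ^ j) = true := by
    by_contra hc
    push Not at hc
    rcases d_rad m hm (fun j hj => by simpa using hc j hj) with rfl | rfl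
    · rw [ι_zero] at hx
      rcases me_iff.1 hx with h2 | h2
      · exact ne_one_of_conj h.f1 (isConj_iff.2 ⟨g, rfl⟩) h2
      · exact h.fe (isConj_iff.2 ⟨g, by rw [h2, one_mul]⟩)
    · rw [show 64 = 2 ^ 6 from rfl, ι_pow c (by norm_num), h.c6] at hx
      have h2 : Me e f (c 0) := by
        have := hx.conj (inv_comm hg)
        rw [← hgy] at this
        convert this using 1
        · rw [hgy]; group
        · group
      have h3 := (h2.comm (h.ce (i := 1) (by norm_num))).1 (h.cf (by norm_num)).symm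
      rw [(h.F.rel 0 (by norm_num) 1 (by norm_num)).2 rfl] at h3
      exact h.F.e1 (mul_eq_left.1 h3)
  obtain ⟨j, hj, hb⟩ := h1
  have hj7 : j < 7 := by omega
  have hj' : 2 ^ j < 2 ^ 7 := Nat.pow_lt_pow_right (by norm_num) hj7
  have h2 : c j * (g * f * g⁻¹) * (c j)⁻¹ = g * f * g⁻¹ * e := by
    rcases me_iff.1 (h.F.Sub_conj (h.cR hj7) ⟨m, hm, hx⟩) with h3 | h3
    · have := (h.F.me_comm hm hj' hx (Me.of_eq (ι_pow c (show j < 8 by omega)).symm)).1
        (comm_of_conj h3).symm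
      rw [hb] at this
      exact absurd this (by simp)
    · exact h3
  refine ⟨g⁻¹ * c j * g⁻¹⁻¹, (h.cV hj7).conj (inv_comm hg), ?_, ?_⟩
  · have := comm_conj g⁻¹ (h.cf hj7)
    rw [← hgy] at this
    convert this using 1 <;> group
  · calc _ = g⁻¹ * (c j * (g * f * g⁻¹) * (c j)⁻¹) * g := by group
      _ = f * (g⁻¹ * e * g⁻¹⁻¹) := by rw [h2]; group
      _ = _ := by rw [conj_eq (inv_comm hg)]

/-- correcting by an element of `R` -/
theorem dual {g : G} (hg : g * e = e * g) (hc : ∀ i < 6, Me e (g * c i * g⁻¹) (c i)) :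
    ∃ r ∈ h.F.Sub, ∀ i < 6, (g * r) * c i = c i * (g * r) := by
  choose! b hb using hc
  obtain ⟨m, hm, hd⟩ := d_dual (b 0) (b 1) (b 2) (b 3) (b 4) (b 5)
  refine ⟨ι c m, h.F.ι_mem_Sub hm, fun i hi => ?_⟩
  have hi' : 2 ^ i < 2 ^ 7 := Nat.pow_lt_pow_right (by norm_num) (by omega)
  have h1 := h.F.comm hm hi'
  have h2 : bb m (2 ^ i) = b i := by
    rw [hd i (by omega)]
    interval_cases i <;> rfl
  rw [ι_pow c (by omega), h2] at h1
  calc g * ι c m * c i = g * (ι c m * c i) := by group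
    _ = (g * c i * g⁻¹) * g * (ι c m * E e (b i)) := by rw [h1]; group
    _ = c i * (E e (b i) * (g * ι c m)) * E e (b i) := by rw [hb i hi]; group
    _ = c i * (g * ι c m) * (E e (b i) * E e (b i)) := by
      rw [← E_comm (mul_comm' hg (h.F.ι_e hm))]; group
    _ = _ := by rw [E_mul h.e2]; simp

theorem mem_R {g : G} (hg : g * e = e * g) (hf : g * f = f * g)
    (hc : ∀ i < 6, Me e (g * c i * g⁻¹) (c i)) : g ∈ h.F.Sub := by
  obtain ⟨r, hr, h1⟩ := h.dual hg hc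
  have : g * r ∈ h.F.Sub := by
    refine h.hCR _ (fun i hi => ?_) (mul_comm' hg (h.F.Sub_e hr))
    rcases Nat.lt_succ_iff_lt_or_eq.1 hi with h2 | rfl
    · exact h1 i h2
    · rw [h.c6]; exact mul_comm' hf (h.Rf hr)
  exact (mul_mem_cancel_right hr).1 this

theorem exists_h0 : ∃ v, VV f e v ∧ ∃ r ∈ h.F.Sub, (v * r) * (v * r) = 1 ∧
    (∀ i < 6, v * r * c i = c i * (v * r)) ∧ v * r * f * (v * r)⁻¹ = f * e := by
  obtain ⟨v, hv, hy, hf⟩ := h.exists_h
  obtain ⟨r, hr, h1⟩ := h.dual hv.1 fun i hi => h.S2 hv hy hf i (by omega)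
  have he : v * r * e = e * (v * r) := mul_comm' hv.1 (h.F.Sub_e hr)
  have hf' : v * r * f * (v * r)⁻¹ = f * e := by
    rw [← hf, ← conj_eq (h.Rf hr)]; rw [conj_eq (h.Rf hr), mul_assoc v, h.Rf hr]; group
  obtain ⟨x, hx⟩ : ∃ x, x = v * r := ⟨_, rfl⟩
  rw [← hx] at h1 he hf'
  have hxe : x * e * x⁻¹ = e := conj_eq he
  have hxx : x * x * f = f * (x * x) := comm_of_conj (by
    calc _ = x * (x * f * x⁻¹) * x⁻¹ := by group
      _ = x * (f * e) * x⁻¹ := by rw [hf']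
      _ = (x * f * x⁻¹) * (x * e * x⁻¹) := by group
      _ = f := by rw [hf', hxe, mul_assoc, h.e2, mul_one])
  obtain ⟨m, hm, hs⟩ := h.mem_R (mul_comm' he he) hxx fun i hi =>
    Me.of_eq (conj_eq (mul_comm' (h1 i hi) (h1 i hi)))
  rcases d_rad m hm (fun j hj => (h.F.me_comm hm (Nat.pow_lt_pow_right (by norm_num) (by omega)) hs
    (me_c (by omega))).1 (mul_comm' (h1 j hj) (h1 j hj))) with rfl | rfl
  · rw [ι_zero] at hs
    rcases me_iff.1 hs with h2 | h2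
    · exact ⟨v, hv, r, hr, hx ▸ h2, hx ▸ h1, hx ▸ hf'⟩
    · refine ⟨v, hv, r * f, mul_mem hr h.fR, ?_, ?_, ?_⟩ <;> rw [← mul_assoc v r f, ← hx]
      · calc x * f * (x * f) = (x * f * x⁻¹) * (x * x) * f := by group
          _ = f * (e * e) * f := by rw [hf', h2]; group
          _ = 1 := by rw [h.e2, mul_one, h.f2]
      · exact fun i hi => mul_comm' (h1 i hi) (h.cf (by omega)).symm
      · rw [← hf']; group
  · exfalso
    rw [show 64 = 2 ^ 6 from rfl, ι_pow c (by norm_num), h.c6] at hs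
    have h2 := (hs.comm he).1 (mul_assoc _ _ _)
    rw [conj_eq h2.symm] at hf'
    exact h.F.e1 (left_eq_mul.1 hf')

theorem congr {c' : ℕ → G} (hc : ∀ i < 7, c' i = c i) : Hy G1 c' f e w1 w2 := by
  have F' : Fam c' e 7 := ⟨h.e2, h.F.e1, fun i hi => hc i hi ▸ h.F.sq i hi,
    fun i hi j hj => by rw [hc i hi, hc j hj]; exact h.F.rel i hi j hj⟩
  have hι : ∀ n < 2 ^ 7, ι c' n = ι c n := fun n hn => ι_congr hn hc
  have hS : F'.Sub = h.F.Sub := by
    ext x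
    exact ⟨fun ⟨n, hn, hx⟩ => ⟨n, hn, hι n hn ▸ hx⟩, fun ⟨n, hn, hx⟩ => ⟨n, hn, (hι n hn).symm ▸ hx⟩⟩
  have ht : ∀ i < 7, t1 i < 2 ^ 7 ∧ t2 i < 2 ^ 7 := by decide
  refine ⟨F', (hc 6 (by norm_num)).trans h.c6, h.f1, h.fe, h.hK, h.hcl, h.hE, hS ▸ h.hV, ?_, ?_, ?_,
    hS ▸ h.hfix, ⟨h.hw1.1, ?_⟩, h.hw2.1, ?_⟩
  · intro n hn
    rw [hι n hn]; exact h.hm n hn
  · intro g hg
    rw [hS]
    exact h.hCR g fun i hi => hc i hi ▸ hg i hi
  · rw [hS, hc 0 (by norm_num)]; exact h.hy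
  · intro i hi
    rw [hc i hi, hι _ (ht i hi).1]; exact h.hw1.2 i hi
  · intro i hi
    rw [hc i hi, hι _ (ht i hi).2]; exact h.hw2.2 i hi

end Hy

/-- the hypotheses with the eighth generator -/
structure H8 (G1 : Subgroup G) (c : ℕ → G) (f e w1 w2 : G) : Prop extends Hy G1 c f e w1 w2 where
  F8 : Fam c e 8
  c7 : ∃ v, VV f e v ∧ ∃ r ∈ F.Sub, c 7 = v * r

theorem Hy.exists_H8 {G1 : Subgroup G} {c : ℕ → G} {f e w1 w2 : G} (h : Hy G1 c f e w1 w2) :
    ∃ c', H8 G1 c' f e w1 w2 := by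
  obtain ⟨v, hv, r, hr, h1, h2, h3⟩ := h.exists_h0
  have hc : ∀ i < 7, Function.update c 7 (v * r) i = c i := fun i hi =>
    Function.update_of_ne (by omega) _ _
  have h7 : Function.update c 7 (v * r) 7 = v * r := Function.update_self _ _ _
  have h' := h.congr hc
  have he := mul_comm' hv.1 (h.F.Sub_e hr)
  have h4 : v * r * f = f * (v * r) * e := by
    rw [mul_inv_eq_iff_eq_mul.1 h3, mul_assoc f e, ← he]; group
  refine ⟨_, h', ⟨h.e2, h.F.e1, fun i hi => ?_, fun i hi j hj => ?_⟩, v, hv, r, ?_, h7⟩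
  · rcases Nat.lt_succ_iff_lt_or_eq.1 hi with h4 | rfl
    · exact h'.F.sq i h4
    · rw [h7]; exact ⟨h1, he⟩
  · rcases Nat.lt_succ_iff_lt_or_eq.1 hi with hi7 | rfl <;>
      rcases Nat.lt_succ_iff_lt_or_eq.1 hj with hj7 | rfl
    · exact h'.F.rel i hi7 j hj7
    · rw [h7, hc i hi7]
      rcases Nat.lt_succ_iff_lt_or_eq.1 hi7 with hi6 | rfl
      · exact ⟨fun _ => (h2 i hi6).symm, fun hh => by interval_cases i <;> simp at hh⟩
      · refine ⟨fun hh => absurd rfl hh, fun _ => ?_⟩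
        rw [h.c6, h4, mul_assoc _ e, h.e2, mul_one]
    · rw [h7, hc j hj7]
      rcases Nat.lt_succ_iff_lt_or_eq.1 hj7 with hj6 | rfl
      · exact ⟨fun _ => h2 j hj6, fun hh => by interval_cases j <;> simp at hh⟩
      · exact ⟨fun hh => absurd rfl hh, fun _ => by rw [h.c6, h4]⟩
    · exact ⟨fun _ => rfl, fun hh => by simp at hh⟩
  · obtain ⟨n, hn, hr⟩ := hr
    exact ⟨n, hn, (ι_congr hn hc).symm ▸ hr⟩

end H18.HND
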