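import Mathlib
import Cfsg.Agent.H18.HND2
import Cfsg.Agent.H27.HNB

/-! The members of `𝒱` lie in `Q`. -/

set_option autoImplicit false

namespace H18.HND

open Subgroup

variable {G : Type*} [Group G]

def chk (b : ℕ) : List ℕ → Bool
  | [] => true
  | x :: l => chk b l && decide (x < 2 ^ 8) && (x == b || l.any fun y => lin t1 y == x || lin t2 y == x)

theorem chain {p : ℕ → Prop} (h1 : ∀ n < 2 ^ 8, p n ↔ p (lin t1 n)) (h2 : ∀ n < 2 ^ 8, p n ↔ p (lin t2 n))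
    {b : ℕ} : ∀ l : List ℕ, chk b l = true → ∀ n ∈ l, n < 2 ^ 8 ∧ (p n ↔ p b)
  | [], _, _, hn => absurd hn List.not_mem_nil
  | x :: l, h, n, hn => by
    simp only [chk, Bool.and_eq_true, decide_eq_true_eq, Bool.or_eq_true, beq_iff_eq, List.any_eq_true] at h
    have ih := chain h1 h2 l h.1.1
    rcases List.mem_cons.1 hn with rfl | hn
    · refine ⟨h.1.2, ?_⟩
      rcases h.2 with rfl | ⟨y, hy, rfl | rfl⟩
      · rfl
      · rw [← h1 y (ih y hy).1, (ih y hy).2]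
      · rw [← h2 y (ih y hy).1, (ih y hy).2]
    · exact ih n hn

def L24 : List ℕ := [204, 206, 130, 136, 175, 138, 220, 132, 187, 133, 148, 154, 146, 238, 211, 221, 161,
  203, 170, 164, 245, 134, 160, 128]

def L40 : List ℕ := [246, 249, 242, 237, 145, 190, 236, 153, 250, 255, 199, 222, 168, 166, 149, 143, 241,
  235, 152, 150, 162, 195, 189, 165, 231, 205, 144, 227, 169, 179, 219, 183, 137, 248, 188, 240, 159, 215,
  244, 129]

def P0 : ℕ := 56980822897525314578552353213558104393000095550686546076525457357986529590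

theorem d_24 : chk 128 L24 = true := by decide +kernel
theorem d_40 : chk 129 L40 = true := by decide +kernel
theorem d_up : ∀ n < 2 ^ 8, 2 ^ 7 ≤ n → sg n n = false → n ∈ L24 ∨ n ∈ L40 := by decide +kernel
theorem d_t1 : ∀ m < 2 ^ 8, sg m m = false → (∀ i < 6, bb m (t1 i) = false) → bb m 64 = true → m = t1 7 := by
  decide +kernel
theorem d_t2 : ∀ m < 2 ^ 8, sg m m = false → (∀ i < 6, bb m (t2 i) = false) → bb m 64 = true → m = t2 7 := by
  decide +kernel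
theorem d_t : ∀ i < 8, t1 i < 2 ^ 8 ∧ t2 i < 2 ^ 8 := by decide
theorem d_44 : ((Finset.range (2 ^ 8)).filter fun n =>
    ((n < 2 ^ 7 ∧ D0.testBit n = true) ∨ n ∈ L40) ∧ bb n 1 = false).card = 44 := by decide +kernel
theorem d_36 : ((Finset.range (2 ^ 7)).filter fun n => D0.testBit n = true).card = 36 := by decide +kernel
theorem d_P0 : ∀ n < 2 ^ 8, (n < 2 ^ 7 → P0.testBit n = D0.testBit n) ∧
    (n ∈ L24 → P0.testBit n = true) ∧ (2 ^ 7 ≤ n → P0.testBit n = true → n ∈ L24) := by decide +kernel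
theorem d_60 : ((Finset.range (2 ^ 8)).filter fun n => P0.testBit n = true).card = 60 := by decide +kernel
theorem d_12 : ∀ k < 2 ^ 8, P0.testBit k = false → k ≠ 0 → ((Finset.range (2 ^ 8)).filter fun n =>
    (P0.testBit n && P0.testBit (n ^^^ k)) = true).card ≤ 12 := by decide +kernel
theorem d_28 : ∀ k < 2 ^ 8, P0.testBit k = false → k ≠ 0 → ((Finset.range (2 ^ 8)).filter fun n =>
    (P0.testBit n && !bb n k) = true).card = 28 := by decide +kernel

theorem Me.conj_inv {e g f : G} (he : e * e = 1) (hg : g * e = e * g) (hf : Me e (g * f * g⁻¹) f) :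
    Me e (g⁻¹ * f * g⁻¹⁻¹) f := by
  have := (hf.conj (inv_comm hg)).symm he
  convert this using 1
  group

namespace H8

variable {G1 : Subgroup G} {c : ℕ → G} {f e w1 w2 : G} (h : H8 G1 c f e w1 w2)
include h

theorem RQ : h.F.Sub ≤ h.F8.Sub := h.F.Sub_le h.F8.e_mem fun _ hi => h.F8.c_mem le_rfl (by omega)

theorem cQ {i : ℕ} (hi : i < 8) : c i ∈ h.F8.Sub := h.F8.c_mem le_rfl hi

theorem c7f : c 7 * f * (c 7)⁻¹ = f * e := by
  have := (h.F8.rel 7 (by norm_num) 6 (by norm_num)).2 rfl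
  rw [h.c6] at this
  rw [this, mul_assoc f, (h.F8.sq 7 (by norm_num)).2]; group

theorem Qchar {g : G} (hg : g * e = e * g) (hc : ∀ i < 7, Me e (g * c i * g⁻¹) (c i)) :
    g ∈ h.F8.Sub := by
  have h6 := hc 6 (by norm_num)
  rw [h.c6] at h6
  rcases me_iff.1 h6 with h1 | h1
  · exact h.RQ (h.toHy.mem_R hg (comm_of_conj h1) fun i hi => hc i (by omega))
  · have h7 := h.cQ (i := 7) (by norm_num)
    have : g * c 7 ∈ h.F.Sub := by
      refine h.toHy.mem_R (mul_comm' hg (h.F8.Sub_e h7)) (comm_of_conj ?_) fun i hi => ?_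
      · calc _ = g * (c 7 * f * (c 7)⁻¹) * g⁻¹ := by group
          _ = g * (f * e) * g⁻¹ := by rw [h.c7f]
          _ = g * f * g⁻¹ * (g * e * g⁻¹) := by group
          _ = f := by rw [h1, conj_eq hg, mul_assoc, h.toHy.e2, mul_one]
      · have := ((h.F8.Sub_conj h7 (h.cQ (i := i) (by omega))).conj hg).trans h.toHy.e2 (hc i (by omega))
        convert this using 1
        group
    exact (mul_mem_cancel_right h7).1 (h.RQ this)

theorem QfR {g : G} (hg : g ∈ h.F8.Sub) (hf : g * f = f * g) : g ∈ h.F.Sub :=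
  h.toHy.mem_R (h.F8.Sub_e hg) hf fun _ hi => h.F8.Sub_conj hg (h.cQ (by omega))

theorem normQ {g : G} (hg : g * e = e * g) (hf : Me e (g * f * g⁻¹) f) {q : G} (hq : q ∈ h.F8.Sub) :
    g * q * g⁻¹ ∈ h.F8.Sub := by
  refine h.Qchar (conj_comm_e hg (h.F8.Sub_e hq)) fun i hi => ?_
  have h1 := h.toHy.normR (inv_comm hg) (hf.conj_inv h.toHy.e2 hg) (h.toHy.cR hi)
  have h2 := (h.F8.Sub_conj hq (h.RQ h1)).conj hg
  convert h2 using 1 <;> group

theorem fixY {z : G} (hz : z * e = e * z) (z2 : z * z = 1) (hf : z * f * z⁻¹ = f * e) :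
    ∃ y ∈ h.F.Sub, VV f e y ∧ IsConj f (y * f) ∧ z * y = y * z := by
  have e2 := h.toHy.e2
  have h7 := h.cQ (i := 7) (by norm_num)
  have hwe := mul_comm' hz (h.F8.Sub_e h7)
  have hwf : z * c 7 * f = f * (z * c 7) := comm_of_conj (by
    calc _ = z * (c 7 * f * (c 7)⁻¹) * z⁻¹ := by group
      _ = z * (f * e) * z⁻¹ := by rw [h.c7f]
      _ = z * f * z⁻¹ * (z * e * z⁻¹) := by group
      _ = f := by rw [hf, conj_eq hz, mul_assoc, e2, mul_one])
  have hww : z * c 7 * (z * c 7) ∈ h.F.Sub := by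
    refine h.QfR ?_ (mul_comm' hwf hwf)
    have := mul_mem (h.normQ hz ⟨true, hf⟩ h7) h7
    rwa [← eq_inv_of_mul_eq_one_left z2, mul_assoc (z * c 7)] at this
  obtain ⟨y, hy, yV, yf, h1⟩ := h.hfix _ hwf hwe hww
  have h2 : Me e (z * c 7 * y * (z * c 7)⁻¹) (z * y * z⁻¹) := by
    have := (h.F8.Sub_conj h7 (h.RQ hy)).conj hz
    convert this using 1
    group
  rcases h1 with h1 | h1
  · rcases me_iff.1 ((h2.symm e2).trans e2 h1) with h3 | h3
    · exact ⟨y, hy, yV, yf, comm_of_conj h3⟩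
    · refine ⟨y * f, mul_mem hy h.toHy.fR, ⟨mul_comm' yV.1 h.toHy.cfe, yf, ?_⟩, ?_, comm_of_conj ?_⟩
      · obtain ⟨w, w1, w2, w3⟩ := h.hy y hy yV yf
        refine h.toHy.yfV.2.2.trans (isConj_iff.2 ⟨w⁻¹, ?_⟩)
        rw [← w3, mul_assoc _ f e, mul_assoc _ w⁻¹, inv_comm (mul_comm' (a := w) w1.symm w2.symm).symm]
        group
      · rw [mul_assoc, h.toHy.f2, mul_one]; exact yV.2.1
      · calc _ = (z * y * z⁻¹) * (z * f * z⁻¹) := by group
          _ = y * (e * f) * e := by rw [h3, hf]; group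
          _ = y * f := by rw [← h.toHy.cfe, mul_assoc, mul_assoc, e2, mul_one]
  · exfalso
    obtain ⟨s, hs⟩ := (h2.symm e2).trans e2 h1
    apply h.F.e1
    have zE : z * E e s * z⁻¹ = E e s := conj_eq (E_comm hz s)
    have : y = e * y := by
      calc y = (z * z) * y * (z * z)⁻¹ := by rw [z2]; group
        _ = z * (z * y * z⁻¹) * z⁻¹ := by group
        _ = z * (f * y * E e s) * z⁻¹ := by rw [hs]
        _ = (z * f * z⁻¹) * (z * y * z⁻¹) * (z * E e s * z⁻¹) := by group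
        _ = (f * e) * f * y * (E e s * E e s) := by rw [hs, hf, zE]; group
        _ = e * (f * f) * y := by rw [h.toHy.cfe, E_mul e2]; simp [mul_assoc]
        _ = e * y := by rw [h.toHy.f2, mul_one]
    exact right_eq_mul.1 this

theorem hVC {v : G} (hv : VV f e v) (hf : Me e (v * f * v⁻¹) f) : v ∈ h.F8.Sub := by
  rcases me_iff.1 hf with h1 | h1
  · exact h.RQ (h.hV v (comm_of_conj h1) hv)
  obtain ⟨y, hy, yV, yf, vy⟩ := h.fixY hv.1 (h.toHy.Vsq hv.2.1) h1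
  obtain ⟨w, w1, w2, w3⟩ := h.hy y hy yV yf
  have h2 : w * v * w⁻¹ ∈ h.F8.Sub := by
    refine h.Qchar (conj_comm_e w2 hv.1) (h.toHy.S2 (hv.conj w2) (w3 ▸ comm_conj w vy) ?_)
    calc _ = w * (v * (w⁻¹ * f * w⁻¹⁻¹) * v⁻¹) * w⁻¹ := by group
      _ = w * (f * e) * w⁻¹ := by rw [conj_eq (inv_comm w1), h1]
      _ = _ := conj_eq (mul_comm' w1.symm w2.symm).symm
  have := h.normQ (inv_comm w2) (Me.of_eq (conj_eq (inv_comm w1))) h2
  convert this using 1
  group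

theorem exists_up : ∃ v, VV f e v ∧ v ∈ h.F8.Sub ∧ ∃ r ∈ h.F.Sub, c 7 = v * r := by
  obtain ⟨v, hv, r, hr, h1⟩ := h.c7
  exact ⟨v, hv, (mul_mem_cancel_right (h.RQ hr)).1 (h1 ▸ h.cQ (by norm_num)), r, hr, h1⟩

theorem hT [Finite G] {g : G} (hg : g * e = e * g) (hq : g * f * g⁻¹ ∈ h.F8.Sub) :
    ∀ q ∈ h.F8.Sub, g * q * g⁻¹ ∈ h.F8.Sub := by
  have A : ∀ u, VV f e u → u ∈ h.F8.Sub → u ∈ h.F8.Sub.comap (MulAut.conj g⁻¹).toMonoidHom := by
    intro u hu huq
    show g⁻¹ * u * g⁻¹⁻¹ ∈ h.F8.Sub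
    refine h.hVC (hu.conj (inv_comm hg)) ?_
    have := (h.F8.Sub_conj huq hq).conj (inv_comm hg)
    convert this using 1 <;> group
  have he : e ∈ h.F8.Sub.comap (MulAut.conj g⁻¹).toMonoidHom := by
    show g⁻¹ * e * g⁻¹⁻¹ ∈ h.F8.Sub
    rw [conj_eq (inv_comm hg)]; exact h.F8.e_mem
  have B : h.F.Sub ≤ h.F8.Sub.comap (MulAut.conj g⁻¹).toMonoidHom :=
    h.F.Sub_le he fun i hi => A _ (h.toHy.cV hi) (h.cQ (by omega))
  have C : h.F8.Sub ≤ h.F8.Sub.comap (MulAut.conj g⁻¹).toMonoidHom := by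
    refine h.F8.Sub_le he fun i hi => ?_
    rcases Nat.lt_succ_iff_lt_or_eq.1 hi with h1 | rfl
    · exact B (h.toHy.cR h1)
    · obtain ⟨v, hv, vq, r, hr, h1⟩ := h.exists_up
      rw [h1]
      exact mul_mem (A v hv vq) (B hr)
  intro q hq
  have := conj_inv_of_finite (K := h.F8.Sub) (g := g⁻¹) (fun q hq => C hq) q hq
  rwa [inv_inv] at this

theorem p_lin {w : G} {t : ℕ → ℕ} (ht : ∀ i < 8, t i < 2 ^ 8) (h6 : t 6 = 64)
    (hd : ∀ m < 2 ^ 8, sg m m = false → (∀ i < 6, bb m (t i) = false) → bb m 64 = true → m = t 7)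
    (hw : w * e = e * w ∧ ∀ i < 7, Me e (w * c i * w⁻¹) (ι c (t i))) :
    ∀ n < 2 ^ 8, VV f e (ι c n) ↔ VV f e (ι c (lin t n)) := by
  have e2 := h.toHy.e2
  have hf : Me e (w * f * w⁻¹) f := by
    have := hw.2 6 (by norm_num)
    rwa [h6, show 64 = 2 ^ 6 from rfl, ι_pow c (by norm_num), h.c6] at this
  obtain ⟨m, hm, hx⟩ := h.normQ hw.1 hf (h.cQ (i := 7) (by norm_num))
  have h7 : m = t 7 := by
    refine hd m hm ((h.F8.me_sq hm hx).1 ?_) (fun i hi => ?_) ?_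
    · calc _ = w * (c 7 * c 7) * w⁻¹ := by group
        _ = 1 := by rw [(h.F8.sq 7 (by norm_num)).1]; group
    · refine (h.F8.me_comm hm (ht i (by omega)) hx (hw.2 i (by omega))).1 (comm_conj w ?_)
      refine (h.F8.rel 7 (by norm_num) i (by omega)).1 ?_
      interval_cases i <;> decide
    · rw [← Bool.not_eq_false, ← h6, ← h.F8.me_comm hm (ht 6 (by omega)) hx (hw.2 6 (by omega)), h.c6]
      intro hh
      have h1 : c 7 * f = f * c 7 := by
        have := comm_conj w⁻¹ hh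
        convert this using 1 <;> group
      have h2 := h.c7f
      rw [conj_eq h1] at h2
      exact h.F.e1 (left_eq_mul.1 h2)
  intro n hn
  obtain ⟨-, h1⟩ := h.F8.conj_lin (g := w) (t := t) (fun i hi => ⟨ht i hi, by
    rcases Nat.lt_succ_iff_lt_or_eq.1 hi with h1 | rfl
    · exact hw.2 i h1
    · exact h7 ▸ hx⟩) hn
  refine ⟨fun hh => (hh.conj hw.1).me e2 (h1.symm e2), fun hh => ?_⟩
  have := (hh.me e2 h1).conj (inv_comm hw.1)
  convert this using 1
  group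

theorem p_iff : ∀ n < 2 ^ 8, VV f e (ι c n) ↔ P0.testBit n = true := by
  classical
  have e2 := h.toHy.e2
  have A1 := h.p_lin (fun i hi => (d_t i hi).1) rfl d_t1 h.hw1
  have A2 := h.p_lin (fun i hi => (d_t i hi).2) rfl d_t2 h.hw2
  have C24 := chain (p := fun n => VV f e (ι c n)) A1 A2 L24 d_24
  have C40 := chain (p := fun n => VV f e (ι c n)) A1 A2 L40 d_40
  have N40 : ¬ VV f e (ι c 129) := by
    intro hh
    obtain ⟨g, hg, hgy⟩ := h.toHy.B1 (h.toHy.cV (i := 0) (by norm_num))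
    have B : ∀ n ∈ (Finset.range (2 ^ 8)).filter fun n =>
        ((n < 2 ^ 7 ∧ D0.testBit n = true) ∨ n ∈ L40) ∧ bb n 1 = false,
        ∃ m ∈ (Finset.range (2 ^ 7)).filter fun n => D0.testBit n = true,
          Me e (g * ι c n * g⁻¹) (ι c m) := by
      intro n hn
      obtain ⟨h1, h2, h3⟩ := Finset.mem_filter.1 hn
      have h1 := Finset.mem_range.1 h1
      have hv : VV f e (ι c n) := h2.elim (fun h2 => (h.hm n h2.1).2 h2.2) fun h2 => (C40 n h2).2.2 hh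
      have hc : ι c n * c 0 = c 0 * ι c n :=
        (h.F8.me_comm (m := 2 ^ 0) h1 (by norm_num) Me.rfl' (me_c (by norm_num))).2 h3
      obtain ⟨m, hm, hx⟩ := h.hV _ (by rw [← hgy]; exact comm_conj g hc) (hv.conj hg)
      exact ⟨m, Finset.mem_filter.2 ⟨Finset.mem_range.2 hm,
        (h.hm m hm).1 ((hv.conj hg).me e2 (hx.symm e2))⟩, hx⟩
    choose! φ hφ hφ' using B
    have := Finset.card_le_card_of_injOn φ hφ (by
      intro n hn m hm hnm
      have h1 := ((hφ' n hn).trans e2 (hnm ▸ (hφ' m hm).symm e2)).conj (inv_comm hg)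
      refine h.F8.inj (Finset.mem_range.1 (Finset.mem_filter.1 hn).1)
        (Finset.mem_range.1 (Finset.mem_filter.1 hm).1) ?_
      convert h1 using 1 <;> group)
    rw [d_44, d_36] at this
    omega
  have U : ∀ n < 2 ^ 8, 2 ^ 7 ≤ n → VV f e (ι c n) → n ∈ L24 := fun n hn hn' hv =>
    (d_up n hn hn' ((h.F8.sq_iff hn).1 (h.toHy.Vsq hv.2.1))).resolve_right fun h1 => N40 ((C40 n h1).2.1 hv)
  have Y24 : VV f e (ι c 128) := by
    obtain ⟨v, hv, ⟨n, hn, hx⟩, r, hr, h1⟩ := h.exists_up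
    have hn' : 2 ^ 7 ≤ n := by
      by_contra hc
      have h2 : c 7 ∈ h.F.Sub := h1 ▸ mul_mem ⟨n, not_le.1 hc, hx⟩ hr
      have h3 := h.c7f
      rw [conj_eq (h.toHy.Rf h2)] at h3
      exact h.F.e1 (left_eq_mul.1 h3)
    have hv' := hv.me e2 (hx.symm e2)
    exact (C24 n (U n hn hn' hv')).2.1 hv'
  intro n hn
  obtain ⟨d1, d2, d3⟩ := d_P0 n hn
  rcases lt_or_ge n (2 ^ 7) with h1 | h1
  · rw [d1 h1]; exact h.hm n h1
  · exact ⟨fun hv => d2 (U n hn h1 hv), fun hp => (C24 n (d3 h1 hp)).2.2 Y24⟩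

theorem main [Finite G] {v : G} (hv : VV f e v) : v ∈ h.F8.Sub := by
  classical
  have e2 := h.toHy.e2
  let Ce : Subgroup G := centralizer {e}
  have mC : ∀ {x : G}, x ∈ Ce ↔ x * e = e * x := mem_centralizer_singleton_iff
  let e' : Ce := ⟨e, mC.2 rfl⟩
  have : (zpowers e').Normal := ⟨by
    rintro _ ⟨k, rfl⟩ g
    refine ⟨k, ?_⟩
    have : Commute g e' := Subtype.ext (mC.1 g.2)
    simp only [(this.zpow_right k).eq, mul_inv_cancel_right]⟩
  let π : Ce →* Ce ⧸ zpowers e' := QuotientGroup.mk' _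
  have πs : Function.Surjective π := QuotientGroup.mk'_surjective _
  have πe : ∀ x y : Ce, π x = π y ↔ Me e (x : G) y := by
    intro x y
    rw [eq_comm]
    refine QuotientGroup.eq.trans ⟨fun hh => ?_, fun hh => ?_⟩
    · obtain ⟨k, hk⟩ := hh
      refine Me.of_zpowers e2 (mC.1 y.2) ⟨k, ?_⟩
      have h1 : e ^ k = (y : G)⁻¹ * x := by simpa using congrArg Subtype.val hk
      have h2 : Commute (y : G) e := mC.1 y.2
      calc e ^ k = y * e ^ k * (y : G)⁻¹ := (conj_eq (h2.zpow_right k).eq).symm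
        _ = _ := by rw [h1]; group
    · rcases me_iff.1 hh with h1 | h1
      · rw [Subtype.ext h1]; simp
      · refine ⟨1, Subtype.ext ?_⟩
        simp [h1, e']
  have ιC : ∀ n, ι c n ∈ Ce := fun n => by
    have : ∀ i < 8, pp c n i ∈ Ce := fun i hi => by
      unfold pp
      cases n.testBit i
      · exact Ce.one_mem
      · exact mC.2 (h.F8.sq i hi).2
    unfold ι
    refine mul_mem (mul_mem ?_ ?_) (mul_mem (mul_mem ?_ ?_) (mul_mem (mul_mem ?_ ?_) (mul_mem ?_ ?_))) <;>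
      exact this _ (by norm_num)
  let j : ℕ → Ce ⧸ zpowers e' := fun n => π ⟨ι c n, ιC n⟩
  let f' : Ce := ⟨f, mC.2 h.toHy.cfe⟩
  let Q : Subgroup (Ce ⧸ zpowers e') := (h.F8.Sub.subgroupOf Ce).map π
  have mQ : ∀ x : Ce, π x ∈ Q ↔ (x : G) ∈ h.F8.Sub := by
    intro x
    refine ⟨?_, fun hx => ⟨x, hx, rfl⟩⟩
    rintro ⟨y, ⟨n, hn, hy⟩, hxy⟩
    exact ⟨n, hn, (((πe _ _).1 hxy).symm e2).trans e2 hy⟩
  have mQ' : ∀ v, v ∈ Q ↔ ∃ n < 2 ^ 8, v = j n := by
    intro v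
    obtain ⟨x, rfl⟩ := πs v
    rw [mQ]
    exact ⟨fun ⟨n, hn, hx⟩ => ⟨n, hn, (πe _ _).2 hx⟩, fun ⟨n, hn, hx⟩ => ⟨n, hn, (πe _ _).1 hx⟩⟩
  have mV : ∀ x : Ce, IsConj (π f') (π x) ↔ VV f e x := by
    intro x
    constructor
    · intro hh
      obtain ⟨g, hg⟩ := isConj_iff.1 hh
      obtain ⟨g, rfl⟩ := πs g
      rw [← map_inv, ← map_mul, ← map_mul, πe] at hg
      exact (h.toHy.fV.conj (mC.1 g.2)).me e2 (hg.symm e2)
    · intro hh
      obtain ⟨g, hg, h1⟩ := h.toHy.B1 hh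
      refine IsConj.symm (isConj_iff.2 ⟨π ⟨g, mC.2 hg⟩, ?_⟩)
      rw [← map_inv, ← map_mul, ← map_mul]
      exact congrArg π (Subtype.ext h1)
  let B : Ce ⧸ zpowers e' → Ce ⧸ zpowers e' → Prop := fun a b =>
    ∀ x y : Ce, π x = a → π y = b → (x : G) * y = y * x
  have mB : ∀ x y : Ce, B (π x) (π y) ↔ (x : G) * y = y * x := by
    intro x y
    refine ⟨fun hh => hh x y rfl rfl, fun hh x' y' hx hy => ?_⟩
    rw [((πe _ _).1 hx).comm (mC.1 y'.2), eq_comm, ((πe _ _).1 hy).comm (mC.1 x.2), hh]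
  have jmul : ∀ n < 2 ^ 8, ∀ m < 2 ^ 8, j n * j m = j (n ^^^ m) := fun n hn m hm => by
    show π _ * π _ = π _
    rw [← map_mul, πe]
    exact ⟨_, h.F8.mul hn hm⟩
  have j0 : j 0 = 1 := by
    show π _ = 1
    rw [← map_one π]
    exact congrArg π (Subtype.ext (ι_zero c))
  have jV : ∀ n < 2 ^ 8, IsConj (π f') (j n) ↔ P0.testBit n = true := fun n hn =>
    (mV _).trans (h.p_iff n hn)
  have cnt : ∀ (S : Set (Ce ⧸ zpowers e')) (ψ : ℕ → Prop) [DecidablePred ψ], (∀ v ∈ S, v ∈ Q) →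
      (∀ n < 2 ^ 8, j n ∈ S ↔ ψ n) → S.ncard = ((Finset.range (2 ^ 8)).filter ψ).card := by
    intro S ψ _ h1 h2
    rw [← Set.ncard_coe_finset, ← Set.InjOn.ncard_image (f := j)]
    · congr 1
      ext v
      constructor
      · intro hv
        obtain ⟨n, hn, rfl⟩ := (mQ' v).1 (h1 v hv)
        exact ⟨n, Finset.mem_coe.2 (Finset.mem_filter.2 ⟨Finset.mem_range.2 hn, (h2 n hn).1 hv⟩), rfl⟩
      · rintro ⟨n, hn, rfl⟩
        obtain ⟨h3, h4⟩ := Finset.mem_filter.1 (Finset.mem_coe.1 hn)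
        exact (h2 n (Finset.mem_range.1 h3)).2 h4
    · intro n hn m hm hnm
      exact h.F8.inj (Finset.mem_range.1 (Finset.mem_filter.1 (Finset.mem_coe.1 hn)).1)
        (Finset.mem_range.1 (Finset.mem_filter.1 (Finset.mem_coe.1 hm)).1) ((πe _ _).1 hnm)
  have jQ : ∀ n < 2 ^ 8, j n ∈ Q := fun n hn => (mQ' _).2 ⟨n, hn, rfl⟩
  have key := H27.HN.endgame {v | IsConj (π f') v} Q (π f') B (fun _ => Iff.rfl) ?_
    ((mQ f').2 (h.RQ h.toHy.fR)) ?_ ?_ ?_ ?_ ?_ ?_ ?_ ?_ ?_ ?_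
  · exact (mQ ⟨v, mC.2 hv.1⟩).1 (key _ ((mV ⟨v, mC.2 hv.1⟩).2 hv))
  · refine orderOf_eq_prime ?_ ?_
    · rw [← map_pow, ← map_one π]
      exact congrArg π (Subtype.ext (by simpa [pow_two] using h.toHy.f2))
    · rw [← map_one π, Ne, πe]
      intro hh
      rcases me_iff.1 hh with h1 | h1
      · exact h.f1 h1
      · exact h.fe (by rw [show f = e by simpa using h1])
  · intro q hq
    obtain ⟨n, hn, rfl⟩ := (mQ' q).1 hq
    rw [jmul n hn n hn, Nat.xor_self, j0]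
  · have := cnt Q (fun _ => True) (fun _ hv => hv) fun n hn => iff_true_intro (jQ n hn)
    rw [← Nat.card_coe_set_eq] at this
    simpa using this
  · intro g hg q hq
    obtain ⟨g, rfl⟩ := πs g
    obtain ⟨q, rfl⟩ := πs q
    rw [← map_inv, ← map_mul, ← map_mul, mQ]
    rw [← mul_inv_eq_iff_eq_mul, ← map_inv, ← map_mul, ← map_mul, πe] at hg
    exact h.normQ (mC.1 g.2) hg ((mQ _).1 hq)
  · intro v hv hg
    obtain ⟨v, rfl⟩ := πs v
    rw [← mul_inv_eq_iff_eq_mul, ← map_inv, ← map_mul, ← map_mul, πe] at hg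
    exact (mQ _).2 (h.hVC ((mV _).1 hv) hg)
  · intro v hv hq
    obtain ⟨g, hg⟩ := isConj_iff.1 hv
    refine ⟨g, fun q hq' => ?_, hg⟩
    obtain ⟨g, rfl⟩ := πs g
    obtain ⟨q, rfl⟩ := πs q
    rw [← hg, ← map_inv, ← map_mul, ← map_mul, mQ] at hq
    rw [← map_inv, ← map_mul, ← map_mul, mQ]
    exact h.hT (mC.1 g.2) hq q ((mQ _).1 hq')
  · rw [← d_60]
    exact cnt _ _ (fun _ hv => hv.2) fun n hn => ⟨fun hh => (jV n hn).1 hh.1, fun hh =>
      ⟨(jV n hn).2 hh, jQ n hn⟩⟩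
  · intro k hk hkV hk1
    obtain ⟨k, hk', rfl⟩ := (mQ' k).1 hk
    refine le_of_eq_of_le (cnt _ _ (fun _ hv => hv.2.1) fun n hn => ?_)
      (d_12 k hk' (by simpa using mt (jV k hk').2 hkV) (by rintro rfl; exact hk1 j0))
    simp only [Set.mem_ofPred_eq, jmul n hn k hk', jV n hn, jV _ (Nat.xor_lt_two_pow hn hk'), jQ n hn,
      Bool.and_eq_true, true_and]
  · intro g a b hab
    obtain ⟨g, rfl⟩ := πs g
    obtain ⟨a, rfl⟩ := πs a
    obtain ⟨b, rfl⟩ := πs b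
    rw [← map_inv, ← map_mul, ← map_mul, ← map_mul, ← map_mul, mB]
    exact comm_conj (g : G) ((mB _ _).1 hab)
  · intro v hv k hk k' hk'
    obtain ⟨v, rfl⟩ := πs v
    obtain ⟨k, rfl⟩ := πs k
    obtain ⟨k', rfl⟩ := πs k'
    rw [← map_mul, mB, mB, mB]
    obtain ⟨s, hs⟩ := h.F8.Sub_comm ((mQ _).1 hv) ((mQ _).1 hk)
    obtain ⟨t, ht⟩ := h.F8.Sub_comm ((mQ _).1 hv) ((mQ _).1 hk')
    have h1 : (v : G) * (k * k') = k * k' * v * E e (s ^^ t) := by
      rw [← mul_assoc, hs, mul_assoc _ (E e s), ← E_comm (mC.1 k'.2), Bool.xor_comm, ← E_mul e2]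
      calc (k : G) * v * (k' * E e s) = k * (v * k') * E e s := by group
        _ = _ := by rw [ht]; group
    rw [Subgroup.coe_mul, h1, hs, ht]
    have := h.F.e1
    cases s <;> cases t <;> simp [this]
  · intro k hk hkV hk1
    obtain ⟨k, hk', rfl⟩ := (mQ' k).1 hk
    refine (cnt _ _ (fun _ hv => hv.2.1) fun n hn => ?_).trans
      (d_28 k hk' (by simpa using mt (jV k hk').2 hkV) (by rintro rfl; exact hk1 j0))
    have : B (j n) (j k) ↔ bb n k = false := (mB _ _).trans (h.F8.comm_iff hn hk')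
    simp only [Set.mem_ofPred_eq, jV n hn, jQ n hn, this, Bool.and_eq_true, true_and,
      Bool.not_eq_true']

end H8

end H18.HND
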