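import Mathlib

/-! `JR.three`, the module step: an abelian group of exponent `13` inverted by `t`. -/

set_option autoImplicit false

namespace H18.JT3

variable {X M : Type*} [Group X] [AddCommGroup M] [DistribMulAction X M]

theorem eq_zero_of_13 (h3 : ∀ v : M, 3 • v = 0) {u : M} (h : 13 • u = 0) : u = 0 := by
  have : u = 13 • u - 4 • (3 • u) := by module
  rw [this, h, h3, smul_zero, sub_zero]

theorem fix_of (h3 : ∀ v : M, 3 • v = 0) {z : X} (hz : z ^ 13 = 1) {v : M}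
    (h : z • (z • v - v) = z • v - v) : z • v = v := by
  have k : ∀ n : ℕ, z ^ n • v = v + n • (z • v - v) := by
    intro n
    induction n with
    | zero => simp
    | succ n ih =>
      rw [pow_succ', mul_smul, ih, smul_add, smul_comm z n, h, succ_nsmul]
      abel
  have := k 13
  rw [hz, one_smul] at this
  exact sub_eq_zero.1 (eq_zero_of_13 h3 (by linear_combination (norm := abel1) -this))

theorem pow_fix {x : X} {v : M} (h : x • v = v) (n : ℕ) : x ^ n • v = v := by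
  induction n with
  | zero => simp
  | succ n ih => rw [pow_succ, mul_smul, h, ih]

theorem zpow_fix {x : X} {v : M} (h : x • v = v) (n : ℤ) : x ^ n • v = v :=
  (zpow_mem (show x ∈ MulAction.stabilizer X v from h) n :)

/-- an element of order `13` inverted by `t` and trivial on the fixed points of `t` is trivial -/
theorem triv_of (h3 : ∀ v : M, 3 • v = 0) {t z : X} (ht : t * t = 1) (hz : z ^ 13 = 1)
    (hi : t * z = z⁻¹ * t) (h : ∀ v : M, t • v = v → z • v = v) (v : M) : z • v = v := by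
  have H : ∀ w : M, z • t • w - t • w = w - z • w := by
    intro w
    have := h (w + t • w) (by rw [smul_add, ← mul_smul, ht, one_smul, add_comm])
    rw [smul_add] at this
    linear_combination (norm := abel1) this
  have e1 : z * t * z = t := by rw [mul_assoc, hi]; group
  have h1 : t • (z • v - v) = z • (z • v - v) := by
    have := H (z • v)
    rw [← mul_smul, ← mul_smul, e1] at this
    rw [smul_sub, smul_sub]
    linear_combination (norm := abel1) -this
  have h2 : z • t • (z • v - v) = z • v - v := by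
    have := H v
    rw [smul_sub, smul_sub, ← mul_smul, ← mul_smul, e1]
    linear_combination (norm := abel1) -this
  rw [h1, ← mul_smul, ← pow_two] at h2
  have h4 := pow_fix h2 7
  rw [← pow_mul, show 2 * 7 = 13 + 1 from rfl, pow_succ, hz, one_mul] at h4
  exact fix_of h3 hz h4

/-- `S x v = x v + x⁻¹ v` -/
def S (x : X) (v : M) : M := x • v + x⁻¹ • v

theorem S_add (x : X) (u v : M) : S x (u + v) = S x u + S x v := by
  simp only [S, smul_add]; abel

theorem S_neg (x : X) (u : M) : S x (-u) = -S x u := by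
  simp only [S, smul_neg]; abel

theorem S_zero (x : X) : S x (0 : M) = 0 := by simp [S]

theorem S_inv (x : X) (u : M) : S x⁻¹ u = S x u := by
  simp only [S, inv_inv]; abel

theorem smul_S (g x : X) (u : M) : g • S x u = S (g * x * g⁻¹) (g • u) := by
  simp [S, smul_add, mul_smul]

theorem S_sub (x : X) (u v : M) : S x (u - v) = S x u - S x v := by
  rw [sub_eq_add_neg, S_add, S_neg, sub_eq_add_neg]

theorem S_comm {x y : X} (h : x * y = y * x) (u : M) : S x (S y u) = S y (S x u) := by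
  have h1 : Commute x y := h
  simp only [S, smul_add, ← mul_smul, h1.eq, h1.inv_left.eq, h1.inv_right.eq,
    h1.inv_inv.eq]
  abel

theorem fix_of_S (h3 : ∀ v : M, 3 • v = 0) {z : X} (hz : z ^ 13 = 1) {v : M}
    (h : S z v = S (1 : X) v) : z • v = v := by
  refine fix_of h3 hz ?_
  have := congrArg (z • ·) h
  simp only [S, smul_add, inv_one, one_smul, smul_inv_smul] at this
  rw [smul_sub]
  linear_combination (norm := abel1) this

theorem zpow_eq_of_dvd {ρ : X} (hρ : ρ ^ 13 = 1) {c d : ℤ} (h : (13 : ℤ) ∣ c - d) :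
    ρ ^ c = ρ ^ d := by
  obtain ⟨k, hk⟩ := h
  have : c = 13 * k + d := by linarith
  rw [this, zpow_add, zpow_mul, show (13 : ℤ) = ((13 : ℕ) : ℤ) from rfl, zpow_natCast, hρ,
    one_zpow, one_mul]

theorem exists_mul_inv {c : ℤ} (h : ¬ (13 : ℤ) ∣ c) : ∃ k : ℤ, (13 : ℤ) ∣ c * k - 1 := by
  have : IsCoprime (13 : ℤ) c :=
    (Prime.coprime_iff_not_dvd (Int.prime_iff_natAbs_prime.2 (by norm_num))).2 h
  obtain ⟨a, b, hab⟩ := this
  exact ⟨b, -a, by linarith⟩

section
variable {ρ : X} (hρ : ρ ^ 13 = 1) (hC : ∀ v : M, ρ • v = v → v = 0)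
include hρ hC

theorem eq_zero_of_zpow {c : ℤ} (h : ¬ (13 : ℤ) ∣ c) {v : M} (hv : ρ ^ c • v = v) : v = 0 := by
  obtain ⟨k, hk⟩ := exists_mul_inv h
  have := zpow_fix hv k
  rw [← zpow_mul, zpow_eq_of_dvd hρ hk, zpow_one] at this
  exact hC v this

theorem S_inj {c d : ℤ} {u : M} (hu : u ≠ 0) (h : S (ρ ^ c) u = S (ρ ^ d) u) :
    (13 : ℤ) ∣ c - d ∨ (13 : ℤ) ∣ c + d := by
  by_contra hn
  push Not at hn
  refine hu (eq_zero_of_zpow hρ hC hn.1 (sub_eq_zero.1 (eq_zero_of_zpow hρ hC hn.2 ?_)))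
  have := congrArg (ρ ^ c • ·) h
  simp only [S, smul_add, ← mul_smul, ← zpow_add, ← zpow_sub, sub_self, zpow_zero,
    one_smul] at this
  rw [smul_sub, ← mul_smul, ← zpow_add, show c + d + (c - d) = c + c by ring]
  linear_combination (norm := abel1) this

omit hC in
theorem S_eq_of {c d : ℤ} (h : (13 : ℤ) ∣ c - d ∨ (13 : ℤ) ∣ c + d) (u : M) :
    S (ρ ^ c) u = S (ρ ^ d) u := by
  rcases h with h | h
  · rw [zpow_eq_of_dvd hρ h]
  · rw [zpow_eq_of_dvd hρ (d := -d) (by rwa [sub_neg_eq_add]), zpow_neg, S_inv]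

/-- eigenvalues on a subgroup all of whose elements are eigenvectors agree -/
theorem unif {z : X} (hz : z * ρ = ρ * z) {W : M → Prop} (hW : ∀ u v, W u → W v → W (u + v))
    (H : ∀ u, W u → u ≠ 0 → ∃ c : ℤ, S z u = S (ρ ^ c) u) {v : M} (hv : W v) (v0 : v ≠ 0) {a : ℤ}
    (ha : S z v = S (ρ ^ a) v) {u : M} (hu : W u) : S z u = S (ρ ^ a) u := by
  by_cases u0 : u = 0
  · rw [u0, S_zero, S_zero]
  by_cases uv : u + v = 0
  · rw [eq_neg_of_add_eq_zero_left uv, S_neg, S_neg, ha]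
  obtain ⟨b, hb⟩ := H u hu u0
  obtain ⟨c, hc⟩ := H _ (hW u v hu hv) uv
  by_contra hn
  have hab : ¬ ((13 : ℤ) ∣ b - a ∨ (13 : ℤ) ∣ b + a) := fun h => hn (hb.trans (S_eq_of hρ h u))
  have c1 : ∀ d : ℤ, z * ρ ^ d = ρ ^ d * z := fun d => (Commute.zpow_right hz d).eq
  have c2 : ∀ d e : ℤ, ρ ^ d * ρ ^ e = ρ ^ e * ρ ^ d := fun d e => zpow_mul_comm ρ d e
  rw [S_add, S_add, ha, hb] at hc
  have e : S (ρ ^ b) u - S (ρ ^ c) u = -(S (ρ ^ a) v - S (ρ ^ c) v) := by
    linear_combination (norm := abel1) hc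
  have e0 : S (ρ ^ b) u - S (ρ ^ c) u = 0 := by
    by_contra h0
    refine hab (S_inj hρ hC h0 ?_)
    calc S (ρ ^ b) (S (ρ ^ b) u - S (ρ ^ c) u) = S z (S (ρ ^ b) u - S (ρ ^ c) u) := by
          rw [S_sub, S_sub, S_comm (c1 b), S_comm (c1 c), hb, S_comm (c2 b c)]
      _ = S (ρ ^ a) (S (ρ ^ b) u - S (ρ ^ c) u) := by
          rw [e, S_neg, S_neg, S_sub, S_sub, S_comm (c1 a), S_comm (c1 c), ha, S_comm (c2 a c)]
  have e1 := S_inj hρ hC u0 (sub_eq_zero.1 e0)
  rw [e0, eq_comm, neg_eq_zero] at e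
  have e2 := S_inj hρ hC v0 (sub_eq_zero.1 e)
  omega

omit hρ hC in
theorem norm_fix {x : X} (hx : x ^ 13 = 1) (w : M) :
    x • ∑ i ∈ Finset.range 13, x ^ i • w = ∑ i ∈ Finset.range 13, x ^ i • w := by
  have h1 := Finset.sum_range_succ (fun i => x ^ i • w) 13
  have h2 := Finset.sum_range_succ' (fun i => x ^ i • w) 13
  rw [h1, hx, pow_zero, add_left_inj] at h2
  rw [Finset.smul_sum, h2]
  simp only [pow_succ', mul_smul]

theorem thirteen_eq {z : X} (hz : z * ρ = ρ * z) (w : M) :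
    ∑ i ∈ Finset.range 13, ∑ j ∈ Finset.range 13, (ρ ^ i * z) ^ j • w = 13 • w := by
  rw [Finset.sum_comm, Finset.sum_range_succ']
  have hc : Commute ρ z := hz.symm
  have : ∀ j ∈ Finset.range 12, ∑ i ∈ Finset.range 13, (ρ ^ i * z) ^ (j + 1) • w = 0 := by
    intro j hj
    have e : ∀ i : ℕ, (ρ ^ i * z) ^ (j + 1) • w = (ρ ^ (j + 1)) ^ i • z ^ (j + 1) • w := by
      intro i
      rw [(hc.pow_left i).mul_pow, mul_smul, ← pow_mul, ← pow_mul, mul_comm]
    simp only [e]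
    refine eq_zero_of_zpow hρ hC (c := (j + 1 : ℕ)) ?_ ?_
    · have := Finset.mem_range.1 hj
      omega
    · rw [zpow_natCast]
      exact norm_fix (by rw [← pow_mul, mul_comm, pow_mul, hρ, one_pow]) _
  rw [Finset.sum_eq_zero this]
  simp

theorem exists_eig (h3 : ∀ v : M, 3 • v = 0) {t : X} {v : M} (hv : v + t • v ≠ 0)
    (s : Finset X) (h1 : ∀ z ∈ s, z ^ 13 = 1) (h2 : ∀ z ∈ s, z * ρ = ρ * z)
    (h4 : ∀ z ∈ s, ∀ y ∈ s, z * y = y * z) :
    ∃ w : M, w + t • w ≠ 0 ∧ ∀ z ∈ s, ∃ c : ℤ, z • w = ρ ^ c • w := by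
  classical
  induction s using Finset.induction_on with
  | empty => exact ⟨v, hv, by simp⟩
  | insert z s hz ih =>
    obtain ⟨w, hw, H⟩ := ih (fun y hy => h1 y (Finset.mem_insert_of_mem hy))
      (fun y hy => h2 y (Finset.mem_insert_of_mem hy))
      (fun y hy x hx => h4 y (Finset.mem_insert_of_mem hy) x (Finset.mem_insert_of_mem hx))
    have z1 := h1 z (Finset.mem_insert_self _ _)
    have z2 : Commute z ρ := h2 z (Finset.mem_insert_self _ _)
    have : ∃ i ∈ Finset.range 13, ∑ j ∈ Finset.range 13, (ρ ^ i * z) ^ j • w +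
        t • ∑ j ∈ Finset.range 13, (ρ ^ i * z) ^ j • w ≠ 0 := by
      by_contra hn
      push Not at hn
      have := Finset.sum_eq_zero hn
      rw [Finset.sum_add_distrib, ← Finset.smul_sum, thirteen_eq hρ hC z2.eq, smul_comm t 13,
        ← smul_add] at this
      exact hw (eq_zero_of_13 h3 this)
    obtain ⟨i, -, hi⟩ := this
    refine ⟨_, hi, fun y hy => ?_⟩
    rcases Finset.mem_insert.1 hy with rfl | hy
    · refine ⟨-i, ?_⟩
      have := norm_fix (x := ρ ^ i * y) (by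
        rw [(z2.symm.pow_left i).mul_pow, z1, mul_one, ← pow_mul, mul_comm, pow_mul, hρ,
          one_pow]) w
      rw [zpow_neg, zpow_natCast, eq_inv_smul_iff, ← mul_smul, this]
    · obtain ⟨c, hc⟩ := H y hy
      refine ⟨c, ?_⟩
      have c1 : Commute y (ρ ^ i * z) :=
        ((Commute.pow_right (h2 y (Finset.mem_insert_of_mem hy)) i).mul_right
          (h4 y (Finset.mem_insert_of_mem hy) z (Finset.mem_insert_self _ _)))
      have c2 : Commute (ρ ^ c) (ρ ^ i * z) :=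
        (((Commute.refl ρ).zpow_left c).pow_right i).mul_right (z2.symm.zpow_left c)
      rw [Finset.smul_sum, Finset.smul_sum]
      refine Finset.sum_congr rfl fun j _ => ?_
      rw [← mul_smul, (c1.pow_right j).eq, mul_smul, hc, ← mul_smul, ← (c2.pow_right j).eq,
        mul_smul]

/-- the module step -/
theorem module_step [Finite X] (h3 : ∀ v : M, 3 • v = 0)
    (hf : ∀ x : X, (∀ v : M, x • v = v) → x = 1) {t : X} (ht : t * t = 1) (hρt : ρ * t = t * ρ)
    {Z : Subgroup X} (h1 : ∀ z ∈ Z, z ^ 13 = 1) (h2 : ∀ z ∈ Z, z * ρ = ρ * z)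
    (h4 : ∀ z ∈ Z, ∀ y ∈ Z, z * y = y * z) (hi : ∀ z ∈ Z, t * z = z⁻¹ * t)
    {v : M} (v0 : v ≠ 0) (hv : t • v = v)
    (tr : ∀ u u' : M, u ≠ 0 → u' ≠ 0 → t • u = u → t • u' = u' → ∃ r : X, r * ρ = ρ * r ∧
      (∀ z ∈ Z, r⁻¹ * z * r ∈ Z) ∧ (r • u = u' ∨ r • u = -u'))
    {z : X} (hz : z ∈ Z) (z1 : z ≠ 1) :
    (∀ y ∈ Z, y ∈ Subgroup.zpowers z) ∧ ∀ (ψ : X) (ω μ : ℤ), ψ * t = t * ψ →
      ψ * ρ * ψ⁻¹ = ρ ^ ω → ψ * z * ψ⁻¹ = z ^ μ → (13 : ℤ) ∣ ω - μ ∨ (13 : ℤ) ∣ ω + μ := by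
  classical
  obtain ⟨w, hw, H⟩ := exists_eig hρ hC h3 (t := t) (v := v) (by
      rw [hv]
      intro h
      apply v0
      have : v = 2 • (v + v) - 3 • v := by module
      rw [this, h, h3]; simp) (Set.toFinite (Z : Set X)).toFinset
    (by simpa using h1) (by simpa using h2) (by simpa using h4)
  simp only [Set.Finite.mem_toFinset, SetLike.mem_coe] at H
  have tw : t • (w + t • w) = w + t • w := by rw [smul_add, ← mul_smul, ht, one_smul, add_comm]
  have ti : t⁻¹ = t := inv_eq_of_mul_eq_one_right ht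
  have A : ∀ y ∈ Z, ∀ c : ℤ, y • w = ρ ^ c • w → S y (w + t • w) = S (ρ ^ c) (w + t • w) := by
    intro y hy c hc
    have c1 : Commute y (ρ ^ c) := Commute.zpow_right (h2 y hy) c
    have e : S y w = S (ρ ^ c) w := by
      have : y⁻¹ • w = (ρ ^ c)⁻¹ • w := by
        rw [inv_smul_eq_iff, ← mul_smul, c1.inv_right.eq, mul_smul, hc, inv_smul_smul]
      rw [S, S, hc, this]
    have e1 : t * y * t⁻¹ = y⁻¹ := by rw [hi y hy]; group
    have e2 : t * ρ ^ c * t⁻¹ = ρ ^ c := by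
      rw [(Commute.zpow_right hρt.symm c).eq]; group
    have e3 := congrArg (t • ·) e
    simp only [smul_S, e1, e2, S_inv] at e3
    rw [S_add, S_add, e, e3]
  have B : ∀ y ∈ Z, ∀ c : ℤ, y • w = ρ ^ c • w → ∀ u : M, t • u = u → S y u = S (ρ ^ c) u := by
    intro y hy c hc u hu
    refine unif hρ hC (h2 y hy) (W := fun u => t • u = u)
      (fun u u' a b => by rw [smul_add, a, b]) (fun u hu u0 => ?_) tw hw (A y hy c hc) hu
    obtain ⟨r, r1, r2, r3⟩ := tr _ u hw u0 tw hu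
    obtain ⟨d, hd⟩ := H _ (r2 y hy)
    refine ⟨d, ?_⟩
    have e := congrArg (r • ·) (A _ (r2 y hy) d hd)
    have e1 : r * (r⁻¹ * y * r) * r⁻¹ = y := by group
    have e2 : r * ρ ^ d * r⁻¹ = ρ ^ d := by rw [(Commute.zpow_right r1 d).eq]; group
    simp only [smul_S, e1, e2] at e
    rcases r3 with r3 | r3
    · rwa [r3] at e
    · rwa [r3, S_neg, S_neg, neg_inj] at e
  have D : ∀ y ∈ Z, ∀ c : ℤ, y • w = ρ ^ c • w → (13 : ℤ) ∣ c → y = 1 := by
    intro y hy c hc h13
    refine hf y (triv_of h3 ht (h1 y hy) (hi y hy) fun u hu => fix_of_S h3 (h1 y hy) ?_)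
    rw [B y hy c hc u hu, zpow_eq_of_dvd hρ (d := 0) (by rwa [sub_zero]), zpow_zero]
  obtain ⟨c, hc⟩ := H z hz
  have c0 : ¬ (13 : ℤ) ∣ c := fun h => z1 (D z hz c hc h)
  have E : ∀ k : ℤ, z ^ k • w = ρ ^ (c * k) • w := by
    intro k
    have c1 : Commute (ρ ^ c)⁻¹ z := (Commute.zpow_right (h2 z hz) c).symm.inv_left
    have := zpow_fix (show ((ρ ^ c)⁻¹ * z) • w = w by rw [mul_smul, hc, inv_smul_smul]) k
    rwa [c1.mul_zpow, mul_smul, inv_zpow, inv_smul_eq_iff, ← zpow_mul] at this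
  refine ⟨fun y hy => ?_, fun ψ ω μ p1 p2 p3 => ?_⟩
  · obtain ⟨d, hd⟩ := H y hy
    obtain ⟨k, hk⟩ := exists_mul_inv c0
    have := D (y * z ^ (-(k * d))) (Z.mul_mem hy (Z.zpow_mem hz _)) (d + c * (-(k * d))) (by
      rw [mul_smul, E, ← mul_smul, (Commute.zpow_right (h2 y hy) _).eq, mul_smul, hd,
        ← mul_smul, ← zpow_add, add_comm]) (by
      obtain ⟨m, hm⟩ := hk
      exact ⟨-(d * m), by linear_combination -d * hm⟩)
    exact ⟨k * d, by
      simp only
      rw [zpow_neg, mul_inv_eq_one] at this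
      exact this.symm⟩
  · have e := congrArg (ψ • ·) (B z hz c hc (ψ⁻¹ • (w + t • w)) (by
      rw [← mul_smul, (Commute.inv_right p1.symm).eq, mul_smul, tw]))
    have e2 : ψ * ρ ^ c * ψ⁻¹ = ρ ^ (c * ω) := by rw [← conj_zpow, p2, ← zpow_mul, mul_comm]
    simp only [smul_S, p3, e2, smul_inv_smul] at e
    rw [A _ (Z.zpow_mem hz μ) _ (E μ)] at e
    have pr : Prime (13 : ℤ) := Int.prime_iff_natAbs_prime.2 (by norm_num)
    rcases S_inj hρ hC hw e with h | h
    · rw [← mul_sub] at h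
      exact Or.inl (by simpa using dvd_neg.2 ((pr.dvd_or_dvd h).resolve_left c0))
    · rw [← mul_add] at h
      exact Or.inr (by rw [add_comm]; exact (pr.dvd_or_dvd h).resolve_left c0)

end

end H18.JT3
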