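import Mathlib
import Cfsg.Agent.H18.JR3a
import Cfsg.Agent.H1.BG34
import Cfsg.Agent.H13.DihMC

/-! `JR.three`, the faithful solvable group acting on an elementary abelian `3`-group. -/

set_option autoImplicit false
open Cfsg H24 H26 Subgroup H13.Dih
open scoped commutatorElement

namespace H18.JT3

theorem det_one {X : Type*} [Group X] {ρ z : X} (hc : Commute ρ z)
    (ind : ∀ a b : ℤ, ρ ^ a * z ^ b = 1 → (13 : ℤ) ∣ a ∧ (13 : ℤ) ∣ b)
    (A : ∀ x : X, ∃ a b : ℤ, x * ρ * x⁻¹ = ρ ^ a * z ^ b)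
    (B : ∀ x : X, ∃ c d : ℤ, x * z * x⁻¹ = ρ ^ c * z ^ d) {ψ : X} (hψ : ψ ∈ commutator X)
    {ω μ : ℤ} (h1 : ψ * ρ * ψ⁻¹ = ρ ^ ω) (h2 : ψ * z * ψ⁻¹ = z ^ μ) : (13 : ℤ) ∣ ω * μ - 1 := by
  choose a b hab using A
  choose c d hcd using B
  have mul : ∀ u v u' v' : ℤ, ρ ^ u * z ^ v * (ρ ^ u' * z ^ v') = ρ ^ (u + u') * z ^ (v + v') := by
    intro u v u' v'
    rw [zpow_add, zpow_add, mul_assoc, mul_assoc, ← mul_assoc (z ^ v),
      ← (hc.zpow_zpow u' v).eq, mul_assoc]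
  have uq : ∀ {u v u' v' : ℤ}, ρ ^ u * z ^ v = ρ ^ u' * z ^ v' →
      (u : ZMod 13) = u' ∧ (v : ZMod 13) = v' := by
    intro u v u' v' h
    have := ind (u' + -u) (v' + -v) (by rw [← mul, ← h, mul]; simp)
    exact ⟨(ZMod.intCast_eq_intCast_iff_dvd_sub _ _ 13).2 (by simpa [sub_eq_add_neg] using this.1),
      (ZMod.intCast_eq_intCast_iff_dvd_sub _ _ 13).2 (by simpa [sub_eq_add_neg] using this.2)⟩
  have cj : ∀ (x y : X) (g : X) (u v : ℤ), y * g * y⁻¹ = ρ ^ u * z ^ v →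
      x * y * g * (x * y)⁻¹ = ρ ^ (a x * u + c x * v) * z ^ (b x * u + d x * v) := by
    intro x y g u v h
    have : x * y * g * (x * y)⁻¹ = (x * ρ * x⁻¹) ^ u * (x * z * x⁻¹) ^ v := by
      rw [conj_zpow, conj_zpow]
      calc _ = x * (y * g * y⁻¹) * x⁻¹ := by group
        _ = _ := by rw [h]; group
    rw [this, hab, hcd, (hc.zpow_zpow _ _).mul_zpow, (hc.zpow_zpow _ _).mul_zpow, ← zpow_mul,
      ← zpow_mul, ← zpow_mul, ← zpow_mul, mul]
  let δ : X →* ZMod 13 :=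
    { toFun := fun x => a x * d x - b x * c x
      map_one' := by
        have e1 := uq (u' := 1) (v' := 0) ((hab 1).symm.trans (by simp))
        have e2 := uq (u' := 0) (v' := 1) ((hcd 1).symm.trans (by simp))
        rw [e1.1, e1.2, e2.2]
        simp
      map_mul' := fun x y => by
        have e1 := uq ((hab (x * y)).symm.trans (cj x y _ _ _ (hab y)))
        have e2 := uq ((hcd (x * y)).symm.trans (cj x y _ _ _ (hcd y)))
        rw [e1.1, e1.2, e2.1, e2.2]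
        push_cast
        ring }
  have e : δ ψ = 1 := by
    have := Abelianization.commutator_subset_ker δ.toHomUnits hψ
    simpa using congrArg Units.val (MonoidHom.mem_ker.1 this)
  have e1 := uq (u' := ω) (v' := 0) ((hab ψ).symm.trans (by simp [h1]))
  have e2 := uq (u' := 0) (v' := μ) ((hcd ψ).symm.trans (by simp [h2]))
  change (a ψ : ZMod 13) * d ψ - b ψ * c ψ = 1 at e
  rw [e1.1, e1.2, e2.2] at e
  exact (ZMod.intCast_eq_intCast_iff_dvd_sub 1 _ 13).1 (by push_cast at e ⊢; linear_combination -e)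

variable {X V : Type*} [Group X] [CommGroup V] [Finite X] [Finite V]

theorem bg34 (α : X →* MulAut V) (hα : Function.Injective α) (h3 : ∀ v : V, v ^ 3 = 1)
    {Y K : Subgroup X} (hY : Odd ♯Y) (hK : K ≤ Y) {ρ : X} (hρY : ρ ∈ Y) (hρ : orderOf ρ = 13)
    (hn : ρ ∈ N[K]) (k3 : IsPi {3}ᶜ K) (k13 : IsPi {13}ᶜ K) (hC : ∀ v, α ρ v = v → v = 1) :
    ρ ∈ C[K] := by
  have : Finite (V ⋊[α] X) := Finite.of_equiv _ SemidirectProduct.equivProd.symm
  have hc : ♯(zpowers ρ) = 13 := by rw [card_zpowers', hρ]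
  have hR : IsPi {13} (zpowers ρ) := isPi_of_card_prime (by norm_num) hc
  have sd : SD K (zpowers ρ) (K ⊔ zpowers ρ) := SD.mk_sup (zpowers_le.2 hn) (k13.inf_eq_bot' hR)
  have inj := SemidirectProduct.inr_injective (φ := α)
  have o : Odd ♯((K ⊔ zpowers ρ).map (SemidirectProduct.inr : X →* V ⋊[α] X)) := by
    rw [card_map_of_injective inj]
    exact odd_of_le hY (sup_le hK (zpowers_le.2 hρY))
  have cm : ∀ (x : X) (v : V), (SemidirectProduct.inr x * SemidirectProduct.inl v : V ⋊[α] X) =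
      SemidirectProduct.inl v * SemidirectProduct.inr x → α x v = v := by
    intro x v h
    apply SemidirectProduct.inl_injective (φ := α)
    rw [SemidirectProduct.inl_aut, h, map_inv, mul_inv_cancel_right]
  have : (SemidirectProduct.inl : V →* V ⋊[α] X).range.Normal := by
    rw [SemidirectProduct.range_inl_eq_ker_rightHom]; infer_instance
  have key := H1.odd_prime_sdprod_abelem_cent1 (k := 3)
    (V := (SemidirectProduct.inl : V →* V ⋊[α] X).range) (sol_of_odd o) o (sd.map inj)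
    ((k13.map _).coprime' (hR.map _)) (by rw [card_map_of_injective inj, hc]; norm_num)
    Nat.prime_three
    ⟨abl_iff.2 (le_C_iff.2 (by
        rintro _ ⟨a, rfl⟩ _ ⟨b, rfl⟩
        rw [← map_mul, mul_comm, map_mul])), by
      rintro _ ⟨a, rfl⟩
      rw [← map_pow, h3, map_one]⟩ (norm_of_normal _ _)
    ((k3.sup (hR.compl_of_ne (by norm_num)) (zpowers_le.2 hn)).map _) (by
      rw [eq_bot_iff]
      rintro _ ⟨⟨v, rfl⟩, hv⟩
      rw [hC v (cm ρ v (mem_C.1 hv _ (mem_map_of_mem _ (mem_zpowers ρ)))), map_one]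
      exact one_mem _)
  refine mem_C'.2 fun k hk => commutatorElement_eq_one_iff_mul_comm.1 (hα ?_)
  rw [map_one]
  ext v
  have := (key (commutator_mem_commutator (mem_map_of_mem _ (mem_zpowers ρ))
    (mem_map_of_mem _ hk))).2
  rw [← map_commutatorElement] at this
  exact cm _ v (mem_C'.1 this _ ⟨v, rfl⟩)

/-- the action on the additive group -/
@[reducible] def act (α : X →* MulAut V) : DistribMulAction X (Additive V) where
  smul x v := Additive.ofMul (α x v.toMul)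
  one_smul v := by change Additive.ofMul (α 1 v.toMul) = v; simp
  mul_smul x y v := by
    change Additive.ofMul (α (x * y) v.toMul) = Additive.ofMul (α x (α y v.toMul)); simp
  smul_zero x := by change Additive.ofMul (α x 1) = 0; simp
  smul_add x u v := by
    change Additive.ofMul (α x (u.toMul * v.toMul)) =
      Additive.ofMul (α x u.toMul) + Additive.ofMul (α x v.toMul)
    simp

theorem x_step (α : X →* MulAut V) (hα : Function.Injective α) (h3 : ∀ v : V, v ^ 3 = 1)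
    {Y : Subgroup X} [Y.Normal] (hY : Odd ♯Y) (o3 : O[{3}, Y] = ⊥) {t ρ ψ : X} (ht : t * t = 1)
    (ρY : ρ ∈ Y) (ρt : ρ * t = t * ρ) (hρ : ρ ^ 13 = 1) (hC : ∀ v, α ρ v = v → v = 1)
    {v : V} (v1 : v ≠ 1) (hv : α t v = v)
    (tr : ∀ u u' : V, u ≠ 1 → u' ≠ 1 → α t u = u → α t u' = u' →
      ∃ r : X, r * t = t * r ∧ r * ρ = ρ * r ∧ (α r u = u' ∨ α r u = u'⁻¹))
    (h13 : ∀ y ∈ Y, y * t = t * y → y ^ 13 = 1 → y ∈ zpowers ρ)
    (ψt : ψ * t = t * ψ) (ψK : ψ ∈ ⁅Y, zpowers t⁆) {ω : ℤ} (hω : ω = 3 ∨ ω = 9)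
    (ψρ : ψ * ρ * ψ⁻¹ = ρ ^ ω) : False := by
  have p13 : Nat.Prime 13 := by norm_num
  have := Fact.mk p13
  have ρ1 : ρ ≠ 1 := fun h => v1 (hC v (by rw [h, map_one]; rfl))
  have oρ : orderOf ρ = 13 := orderOf_eq_prime hρ ρ1
  have od : ∀ {z : X}, z ^ 13 = 1 → z ≠ 1 → ∀ a : ℤ, z ^ a = 1 → (13 : ℤ) ∣ a := by
    intro z h h1 a ha
    have := orderOf_dvd_iff_zpow_eq_one.2 ha
    rwa [orderOf_eq_prime h h1] at this
  have gen : ∀ {y z : X}, z ^ 13 = 1 → y ≠ 1 → y ∈ zpowers z → z ∈ zpowers y := by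
    intro y z h y1 hy
    have z1 : z ≠ 1 := by rintro rfl; exact y1 (by simpa using hy)
    rw [zpowers_eq_of_prime (by rw [card_zpowers', orderOf_eq_prime h z1]; exact p13) hy y1]
    exact mem_zpowers z
  have nψ : ψ * ρ ≠ ρ * ψ := fun h => by
    have := od hρ ρ1 (ω - 1) (by rw [zpow_sub_one, ← ψρ, h]; group)
    omega
  -- `ρ ∈ O₁₃(Y)`
  have nD : ∀ g : X, g ∈ N[O[{13}, Y]] := fun g =>
    norm_pcore _ (norm_of_normal ⊤ Y) (mem_top g)
  have oD : Odd ♯O[{13}, Y] := odd_of_le hY (pcore_le _ _)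
  have ρD : ρ ∈ O[{13}, Y] := by
    by_contra hn
    have i : Inv t O[{13}, Y] := inv_of_inf_C oD ht (nD t) (by
      by_contra hb
      obtain ⟨y, hy, oy⟩ := exists_orderOf_eq p13 (((pcore_pi _ _).inf_left _).dvd_card hb)
      refine hn (zpowers_le.2 hy.1 (gen hρ (ne_one_of_orderOf_prime (oy ▸ p13))
        (h13 y (pcore_le _ _ hy.1) (mem_C1.1 hy.2) (oy ▸ pow_orderOf_eq_one y)))))
    have h1 : ψ ∈ C[O[{13}, Y]] := i.comm_le_C ht (fun g _ => nD g) ψK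
    have h2 : ρ ^ (ω - 1) ∈ C[O[{13}, Y]] := by
      have := mul_mem h1 (conj_mem (N_le_NC _ (nD ρ)) (inv_mem h1))
      rwa [zpow_sub_one, ← ψρ, show ψ * ρ * ψ⁻¹ * ρ⁻¹ = ψ * (ρ * ψ⁻¹ * ρ⁻¹) by group]
    have h4 : ρ ∈ C[O[{13}, Y]] := zpowers_le.2 h2 (gen hρ (fun h => by
      have := od hρ ρ1 _ h
      omega) (zpow_mem_zpowers _ _))
    have h5 : IsPi {3}ᶜ F[Y] := (isPi_compl_iff Nat.prime_three).2 fun h =>
      (pcore_ne_bot_iff_dvd_Fitting Nat.prime_three).2 h o3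
    have h6 : ρ ∈ C[O[{13}ᶜ, F[Y]]] := bg34 α hα h3 hY ((pcore_le _ _).trans (Fitting_le _)) ρY oρ
      ((pcore_Fitting_nml _ _).norm ρY) (h5.of_le (pcore_le _ _)) (pcore_pi _ _) hC
    have h7 : ρ ∈ F[Y] := cent_sub_Fitting (sol_of_odd hY) ⟨ρY, by
      rw [(Fitting_nil Y).C_eq {13}, p_core_Fitting p13]
      exact ⟨h4, h6⟩⟩
    exact hn (p_core_Fitting p13 Y ▸ (Fitting_nil Y).mem_pcore (piElt_of_orderOf_prime p13 oρ) h7)
  -- `Z₀ = Ω₁ Z(D)` and its `t`-inverted part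
  have cZ : ∀ {a b : X}, a ∈ Z[O[{13}, Y]] → b ∈ Z[O[{13}, Y]] → Commute a b := fun ha hb =>
    (abl_center _).comm ha hb
  let Z0 : Subgroup X :=
    { carrier := {x | x ∈ Z[O[{13}, Y]] ∧ x ^ 13 = 1}
      one_mem' := ⟨one_mem _, one_pow _⟩
      mul_mem' := fun ha hb => ⟨mul_mem ha.1 hb.1, by
        rw [(cZ ha.1 hb.1).mul_pow, ha.2, hb.2, one_mul]⟩
      inv_mem' := fun ha => ⟨inv_mem ha.1, by rw [inv_pow, ha.2, inv_one]⟩ }
  have nZ : ∀ g : X, ∀ x ∈ Z0, g * x * g⁻¹ ∈ Z0 := fun g x hx =>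
    ⟨conj_mem (norm_Z (X := ⊤) (fun g _ => nD g) (mem_top g)) hx.1, by
      rw [conj_pow, hx.2, mul_one, mul_inv_cancel]⟩
  have nZ' : ∀ g : X, g ∈ N[Z0] := fun g => mem_N_of_finite (nZ g)
  have oZ : Odd ♯Z0 := odd_of_le oD fun x hx => hx.1.1
  have Zρ : ∀ x ∈ Z0, x * ρ = ρ * x := fun x hx => mem_C'.1 hx.1.2 ρ ρD
  let Zm : Subgroup X :=
    { carrier := {x | x ∈ Z0 ∧ t * x * t⁻¹ = x⁻¹}
      one_mem' := ⟨one_mem _, by simp⟩
      mul_mem' := fun {a b} ha hb => ⟨mul_mem ha.1 hb.1, by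
        rw [(cZ ha.1.1 hb.1.1).eq, mul_inv_rev, ← ha.2, ← hb.2, (cZ hb.1.1 ha.1.1).eq]; group⟩
      inv_mem' := fun {a} ha => ⟨inv_mem ha.1, by rw [← conj_inv, ha.2]⟩ }
  have nM : ∀ g : X, g * t = t * g → ∀ x ∈ Zm, g * x * g⁻¹ ∈ Zm := fun g hg x hx =>
    ⟨nZ g x hx.1, by
      calc _ = t * g * x * (t * g)⁻¹ := by group
        _ = g * (t * x * t⁻¹) * g⁻¹ := by rw [← hg]; group
        _ = _ := by rw [hx.2]; group⟩
  have dec : ∀ x ∈ Z0, ∃ c ∈ zpowers ρ, c ∈ Z0 ∧ ∃ z ∈ Zm, x = c * z := by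
    intro x hx
    obtain ⟨c, hc, z, hz, e, e'⟩ := decomp oZ ht (nZ' t) hx
    exact ⟨c, h13 c (pcore_le _ _ hc.1.1.1) (mem_C1.1 hc.2) hc.1.2, hc.1, z, ⟨hz, e⟩, e'⟩
  by_cases hm : ∀ z ∈ Zm, z = 1
  · obtain ⟨y, hy, oy⟩ := exists_orderOf_eq p13 (((pcore_pi {13} Y).inf_left _).dvd_card
      (((pcore_pi _ _).nil p13).center_ne_bot (ne_bot_of_mem ρD ρ1)))
    have hy0 : y ∈ Z0 := ⟨hy, oy ▸ pow_orderOf_eq_one y⟩
    have le : Z0 ≤ zpowers ρ := fun x hx => by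
      obtain ⟨c, hc, -, z, hz, e⟩ := dec x hx
      rwa [e, hm z hz, mul_one]
    have h1 : ρ ∈ Z0 := zpowers_le.2 hy0 (gen hρ (ne_one_of_orderOf_prime (oy ▸ p13)) (le hy0))
    have h2 : zpowers t ≤ C[Z0] := (zpowers_le.2 (mem_C1.2 ρt.symm)).trans
      ((C_zpowers ρ).ge.trans (C_anti le))
    exact nψ (mem_C'.1 (((comm_mono_right h2).trans
      (comm_le_right (norm_C fun g _ => nZ' g))) ψK) ρ h1)
  push Not at hm
  obtain ⟨z, hz, z1⟩ := hm
  let _ := act α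
  obtain ⟨cyc, eig⟩ := module_step (M := Additive V) hρ (fun u hu => hC u.toMul hu)
    (fun u => h3 u.toMul) (fun x hx => hα (by
      rw [map_one]
      ext u
      exact hx (Additive.ofMul u))) ht ρt (Z := Zm) (fun x hx => hx.1.2) (fun x hx => Zρ x hx.1)
    (fun x hx y hy => (cZ hx.1.1 hy.1.1).eq) (fun x hx => by rw [← hx.2]; group)
    (v := Additive.ofMul v) v1 hv (fun u u' a b c d => by
      obtain ⟨r, r1, r2, r3⟩ := tr u.toMul u'.toMul a b c d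
      refine ⟨r, r2, fun x hx => ?_, r3⟩
      simpa using nM r⁻¹ (Commute.inv_left r1) x hx) hz z1
  obtain ⟨μ, hμ⟩ := cyc _ (nM ψ ψt z hz)
  have e1 := eig ψ ω μ ψt ψρ hμ.symm
  by_cases h0 : ρ ∈ Z0
  · have co : ∀ x ∈ Z0, ∃ a b : ℤ, x = ρ ^ a * z ^ b := by
      intro x hx
      obtain ⟨_, ⟨a, rfl⟩, -, y, hy, e⟩ := dec x hx
      obtain ⟨b, rfl⟩ := cyc y hy
      exact ⟨a, b, e⟩
    have e2 := det_one (ρ := ρ) (z := z) (Zρ z hz.1).symm (fun a b h => by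
        have h1 : z ^ b = (ρ ^ a)⁻¹ := eq_inv_of_mul_eq_one_right h
        have h2 : z ^ b = 1 := Inv.eq_one (X := Zm) (fun x hx => hx.2) (zpow_mem hz b)
          (odd_orderOf oZ (zpow_mem hz.1 b)) (h1 ▸ inv_mem (zpow_mem (mem_C1.2 ρt) a))
        rw [h2, mul_one] at h
        exact ⟨od hρ ρ1 a h, od hz.1.2 z1 b h2⟩)
      (fun x => co _ (nZ x ρ h0)) (fun x => co _ (nZ x z hz.1))
      (commutator_mono le_top le_top ψK) ψρ hμ.symm
    rcases hω with rfl | rfl <;> omega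
  · have i : Inv t Z0 := fun x hx => by
      obtain ⟨c, hc, c0, y, hy, e⟩ := dec x hx
      by_cases c1 : c = 1
      · rw [e, c1, one_mul]; exact hy.2
      · exact absurd (zpowers_le.2 c0 (gen hρ c1 hc)) h0
    have h1 := mem_C'.1 (i.comm_le_C ht (fun g _ => nZ' g) ψK) z hz.1
    have := od hz.1.2 z1 (μ - 1) (by
      rw [zpow_sub_one, show z ^ μ = ψ * z * ψ⁻¹ from hμ, h1]; group)
    omega

end H18.JT3
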