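import Mathlib
import Cfsg.Agent.H18.JR3b

/-! `JR.three`, the solvable group `N(Z(J(P)))`. -/

set_option autoImplicit false
open Cfsg H24 H26 Subgroup H13.Dih
open scoped commutatorElement

namespace H18.JT3

variable {Γ X : Type*} [Group Γ] [Group X] [Finite Γ]

theorem lift2 (f : Γ →* X) {K : Subgroup Γ} {x k : Γ} (hx : x ∈ N[K])
    (cop : (♯K).Coprime (orderOf x)) (hk : k ∈ K) (h : f x * f k = f k * f x) :
    ∃ k' ∈ K ⊓ C{x}, f k' = f k := by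
  have hn : zpowers x ≤ N[K ⊓ f.ker] := norm_inf (zpowers_le.2 hx) (norm_of_normal _ _)
  obtain ⟨l, hl, e⟩ := coprime_lift_cent (g := k) hn (by
      rw [card_zpowers']
      exact cop.coprime_dvd_left (card_dvd inf_le_left)) (Or.inr (cyc_zpowers x).sol) (by
    rintro _ ⟨n, rfl⟩
    refine mem_inf.2 ⟨mul_mem (conj_mem (zpow_mem hx n) hk) (inv_mem hk), ?_⟩
    simp only [MonoidHom.mem_ker, map_mul, map_inv, map_zpow]
    rw [(Commute.zpow_left h n).eq]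
    group)
  exact ⟨l * k, ⟨mul_mem hl.1 hk, by rwa [C_zpowers] at e⟩, by
    rw [map_mul, MonoidHom.mem_ker.1 hl.2, one_mul]⟩

omit [Finite Γ] in
theorem cop_two {K : Subgroup Γ} (hK : Odd ♯K) {t : Γ} (ht : t * t = 1) :
    (♯K).Coprime (orderOf t) :=
  hK.coprime_two_right.coprime_dvd_right (orderOf_dvd_of_pow_eq_one (by rwa [pow_two]))

theorem n_step {O P : Subgroup Γ} [O.Normal] (hO : Odd ♯O) {t ρ ψ : Γ} (ht : t * t = 1)
    (PH : P ≤ O ⊓ C{t}) (P1 : P ≠ ⊥) (P3 : ∀ x ∈ P, x ^ 3 = 1) (nP : O ⊓ C{t} ≤ N[P])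
    (cP : O ⊓ C{t} ⊓ C[P] ≤ P)
    (tr : ∀ u ∈ P, ∀ u' ∈ P, u ≠ 1 → u' ≠ 1 → ∃ r ∈ C{t}, r * ρ = ρ * r ∧
      (r * u * r⁻¹ = u' ∨ r * u * r⁻¹ = u'⁻¹))
    (ρH : ρ ∈ O ⊓ C{t}) (hρ : ρ ^ 13 = 1) (fpf : ∀ u ∈ P, ρ * u = u * ρ → u = 1)
    (hb : ∀ w, PiElt {3} w → t * w * t⁻¹ = w⁻¹ → w * ρ = ρ * w → w = 1)
    (h13 : ∀ y ∈ O ⊓ C{t}, y ^ 13 ∈ P → ∃ c ∈ zpowers ρ, ∃ p ∈ P, y = c * p)
    (ψt : ψ ∈ C{t}) (ψK : ψ ∈ ⁅O, zpowers t⁆) {ω : ℤ} (hω : ω = 3 ∨ ω = 9)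
    (ψρ : ∃ p ∈ P, ψ * ρ * ψ⁻¹ = ρ ^ ω * p) : False := by
  obtain ⟨B, -, ⟨Bn, BO, Bt⟩, Bmax⟩ := exists_max
    (P := fun B : Subgroup Γ => B.Normal ∧ B ≤ O ∧ B ⊓ C{t} = ⊥) (H := ⊥)
    ⟨inferInstance, bot_le, bot_inf_eq _⟩
  let π := QuotientGroup.mk' B
  have πs : Function.Surjective π := QuotientGroup.mk'_surjective B
  have injH : ∀ {x y}, x ∈ C{t} → y ∈ C{t} → π x = π y → x = y := fun {x y} hx hy h => by
    have : x⁻¹ * y ∈ B ⊓ C{t} := mem_inf.2 ⟨QuotientGroup.eq.1 h, mul_mem (inv_mem hx) hy⟩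
    rwa [Bt, mem_bot, inv_mul_eq_one] at this
  have oO : Odd ♯(O.map π) := hO.of_dvd_nat (card_map_dvd _ _)
  have := Subgroup.Normal.map (inferInstance : O.Normal) π πs
  obtain ⟨u₀, hu₀, u₀1⟩ := exists_ne_one P1
  obtain ⟨V, p, mV, VO, pp, eV⟩ := solvable_norm_abelem (A := ⊤) (sol_of_odd oO)
    (ne_bot_of_mem (mem_map_of_mem π (PH hu₀).1) fun h =>
      u₀1 (injH (PH hu₀).2 (one_mem _) (h.trans (map_one π).symm))) (norm_of_normal _ _)
  have : V.Normal := nml_top_iff.1 ⟨le_top, mV.norm⟩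
  have AO : V.comap π ≤ O := (comap_mono VO).trans (by
    rw [comap_map_eq, QuotientGroup.ker_mk']; exact sup_le le_rfl BO)
  have oA : Odd ♯(V.comap π) := odd_of_le hO AO
  have A0 : V.comap π ⊓ C{t} ≠ ⊥ := fun h => mV.ne_bot (by
    have := Bmax _ ⟨inferInstance, AO, h⟩ fun x hx => by
      rw [mem_comap, show π x = 1 from (QuotientGroup.eq_one_iff x).2 hx]; exact one_mem _
    rw [← map_comap_eq_self_of_surjective πs V, this, QuotientGroup.map_mk'_self])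
  have le : V.comap π ⊓ C{t} ≤ O ⊓ C{t} := inf_le_inf_right _ AO
  have A1 : V.comap π ⊓ C{t} ⊓ P ≠ ⊥ := fun h => A0 (by
    have h1 : V.comap π ⊓ C{t} ≤ C[P] := cents_of_inf_eq_bot (le.trans nP)
      (norm_inf (norm_of_normal _ _) (norm_of_le (PH.trans inf_le_right))) h
    rw [← h, eq_comm, inf_eq_left]
    exact (le_inf le h1).trans cP)
  obtain ⟨u₁, hu₁, u₁1⟩ := exists_ne_one A1
  obtain rfl : p = 3 := by
    have := Fact.mk Nat.prime_three
    have h1 : u₁ ^ p = 1 := injH (pow_mem hu₁.1.2 p) (one_mem _) (by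
      rw [map_pow, map_one]; exact eV.2 _ hu₁.1.1)
    have h2 := orderOf_dvd_of_pow_eq_one h1
    rw [orderOf_eq_prime (P3 _ hu₁.2) u₁1] at h2
    exact ((Nat.prime_dvd_prime_iff_eq Nat.prime_three pp).1 h2).symm
  have PA : P ≤ V.comap π := fun u hu => by
    by_cases u1 : u = 1
    · rw [u1]; exact one_mem _
    obtain ⟨r, -, -, e | e⟩ := tr _ hu₁.2 _ hu u₁1 u1
    · exact e ▸ conj_mem (norm_of_normal ⊤ _ (mem_top r)) hu₁.1.1
    · exact inv_mem_iff.1 (e ▸ conj_mem (norm_of_normal ⊤ _ (mem_top r)) hu₁.1.1)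
  have cV : ∀ {a b : Γ ⧸ B}, a ∈ V → b ∈ V → a * b = b * a := fun ha hb => Abl.comm eV.1 ha hb
  have cP' : ∀ y ∈ O ⊓ C{t}, (∀ u ∈ P, π y * π u = π u * π y) → y ∈ P := fun y hy h =>
    cP ⟨hy, mem_C'.2 fun u hu => injH (mul_mem hy.2 (PH hu).2) (mul_mem (PH hu).2 hy.2) (by
      rw [map_mul, map_mul, h u hu])⟩
  have AP : V.comap π ⊓ C{t} ≤ P := fun y hy => cP' y (le hy) fun u hu => cV hy.1 (PA hu)
  let _ : CommGroup V := 
    { (inferInstance : Group V) with mul_comm := fun a b => Subtype.ext (cV a.2 b.2) }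
  let β : Γ →* MulAut V := (MulAut.conjNormal (H := V)).comp π
  have βe : ∀ (g : Γ) (v v' : V), β g v = v' ↔ π g * v * (π g)⁻¹ = v' := fun g v v' =>
    Subtype.ext_iff
  have βc : ∀ (g : Γ) (v : V), β g v = v ↔ π g * v = v * π g := fun g v => by
    rw [βe, mul_inv_eq_iff_eq_mul]
  let f := β.rangeRestrict
  have fs : Function.Surjective f := β.rangeRestrict_surjective
  have f1 : ∀ g, f g = 1 ↔ ∀ v : V, π g * v = v * π g := fun g => by
    rw [Subtype.ext_iff, MulEquiv.ext_iff]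
    exact forall_congr' fun v => βc g v
  have fP : ∀ u ∈ P, f u = 1 := fun u hu => (f1 u).2 fun v => cV (PA hu) v.2
  have fx : ∀ v : V, β t v = v → ∃ u ∈ P, π u = v := fun v hv => by
    obtain ⟨a, ha⟩ := πs v
    obtain ⟨k, hk, e⟩ := lift2 π (K := V.comap π) (x := t) (k := a)
      (norm_of_normal ⊤ _ (mem_top t)) (cop_two oA ht) (by rw [mem_comap, ha]; exact v.2)
      (by rw [ha]; exact (βc t v).1 hv)
    exact ⟨k, AP hk, e.trans ha⟩
  have := Subgroup.Normal.map (inferInstance : O.Normal) f fs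
  obtain ⟨p₀, hp₀, ψρ⟩ := ψρ
  refine x_step β.range.subtype (subtype_injective _) (fun v => Subtype.ext (eV.2 _ v.2))
    (Y := O.map f) (hO.of_dvd_nat (card_map_dvd _ _)) ?_ (t := f t) (ρ := f ρ) (ψ := f ψ)
    (by rw [← map_mul, ht, map_one]) (mem_map_of_mem _ ρH.1)
    (by rw [← map_mul, mem_C1.1 ρH.2, map_mul]) (by rw [← map_pow, hρ, map_one]) ?_
    (v := ⟨π u₀, PA hu₀⟩) (fun h => u₀1 (injH (PH hu₀).2 (one_mem _)
      ((congrArg Subtype.val h).trans (map_one π).symm)))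
    ((βc t _).2 (by rw [← map_mul, ← mem_C1.1 (PH hu₀).2, map_mul])) ?_ ?_
    (by rw [← map_mul, mem_C1.1 ψt, map_mul])
    (by rw [← MonoidHom.map_zpowers, ← map_commutator]; exact mem_map_of_mem _ ψK) hω
    (by rw [← map_mul, ← map_inv, ← map_mul, ψρ, map_mul, fP _ hp₀, mul_one, map_zpow])
  · have := Fact.mk Nat.prime_three
    have hQ : IsPGroup 3 O[{3}, O.map f] := (pcore_pi _ _).isPGroup Nat.prime_three
    have : O[{3}, O.map f].Normal :=
      nml_top_iff.1 ⟨le_top, norm_pcore _ (norm_of_normal _ _)⟩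
    have := Subgroup.Normal.map (inferInstance : (O[{3}, O.map f].comap f).Normal) π πs
    obtain ⟨b, hb, b1⟩ := hQ.exists_fixed_point_of_prime_dvd_card_of_fixed_point V
      ((isPi_iff_piElt.2 fun x hx => piElt_of_pow_eq_one (piNat_self Nat.prime_three)
        (eV.2 x hx)).dvd_card mV.ne_bot) (a := 1) fun g => map_one g.1.1
    have h1 := mV.min (V ⊓ C[(O[{3}, O.map f].comap f).map π]) inf_le_left
      (ne_bot_of_mem (x := b.1) ⟨b.2, mem_C.2 (by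
        rintro _ ⟨g, hg, rfl⟩
        exact (βc g b).1 (hb ⟨f g, hg⟩))⟩ fun h => b1 (Subtype.ext h.symm))
      (norm_inf mV.norm (norm_C (norm_of_normal _ _)))
    rw [eq_bot_iff]
    intro q hq
    obtain ⟨g, rfl⟩ := fs q
    exact (f1 g).2 fun v => mem_C.1 (h1.ge v.2).2 _ (mem_map_of_mem π hq)
  · intro v hv
    have nW : ∀ g, g * ρ = ρ * g → g ∈ N[V.comap π ⊓ C{π ρ}.comap π] := fun g hg =>
      norm_inf (norm_of_normal _ _) (norm_of_le (A := C{π ρ}.comap π) le_rfl)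
        (mem_comap.2 (mem_C1.2 (by rw [← map_mul, hg, map_mul])))
    have oW : Odd ♯(V.comap π ⊓ C{π ρ}.comap π) := odd_of_le oA inf_le_left
    have i : Inv t (V.comap π ⊓ C{π ρ}.comap π) := inv_of_inf_C oW ht
      (nW t (mem_C1.1 ρH.2).symm) (by
        rw [eq_bot_iff]
        intro a ha
        exact fpf a (AP ⟨ha.1.1, ha.2⟩) (injH (mul_mem ρH.2 ha.2) (mul_mem ha.2 ρH.2) (by
          rw [map_mul, map_mul]; exact (mem_C1.1 ha.1.2).symm)))
    obtain ⟨a, ha⟩ := πs v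
    have aW : a ∈ V.comap π ⊓ C{π ρ}.comap π :=
      mem_inf.2 ⟨by rw [mem_comap, ha]; exact v.2, by
        rw [mem_comap, ha]; exact mem_C1.2 ((βc ρ v).1 hv).symm⟩
    have e : π (constt {3} a) = v := by
      rw [constt_map, ha, constt_eq_self
        (piElt_of_pow_eq_one (piNat_self Nat.prime_three) (eV.2 _ v.2))]
    obtain ⟨k, hk, e'⟩ := lift2 π (K := O[{3}, V.comap π ⊓ C{π ρ}.comap π]) (x := ρ)
      (k := constt {3} a) (N_le_N_pcore _ _ (nW ρ rfl))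
      ((pcore_pi _ _).piNat.coprime ((piElt_of_pow_eq_one (piNat_self (by norm_num)) hρ).mono
        (singleton_subset_compl (by norm_num))))
      (i.abl.nil.mem_pcore (piElt_constt _ _) (constt_mem _ aW))
      (by rw [e]; exact (βc ρ v).1 hv)
    rw [hb k ((pcore_pi _ _).piElt hk.1) (i k (pcore_le _ _ hk.1)) (mem_C1.1 hk.2), map_one,
      e] at e'
    exact Subtype.ext e'.symm
  · intro v v' v1 v1' hv hv'
    obtain ⟨u, hu, e⟩ := fx v hv
    obtain ⟨u', hu', e'⟩ := fx v' hv'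
    obtain ⟨r, r1, r2, r3⟩ := tr u hu u' hu'
      (fun h => v1 (Subtype.ext (by rw [← e, h, map_one]; rfl)))
      (fun h => v1' (Subtype.ext (by rw [← e', h, map_one]; rfl)))
    refine ⟨f r, by rw [← map_mul, mem_C1.1 r1, map_mul], by rw [← map_mul, r2, map_mul], ?_⟩
    rcases r3 with r3 | r3
    · exact Or.inl ((βe r v v').2 (by rw [← e, ← e', ← r3, map_mul, map_mul, map_inv]))
    · exact Or.inr ((βe r v v'⁻¹).2 (by
        rw [coe_inv, ← e, ← e', ← map_inv π u', ← r3, map_mul, map_mul, map_inv]))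
  · rintro _ ⟨y, hy, rfl⟩ h1 h2
    obtain ⟨k, hk, e⟩ := lift2 f (K := O) (norm_of_normal ⊤ _ (mem_top t)) (cop_two hO ht) hy
      h1.symm
    obtain ⟨c, hc, u, hu, e'⟩ := h13 k hk (cP' _ (pow_mem hk _) fun u hu =>
      (f1 _).1 (by rw [map_pow, e, h2]) ⟨π u, PA hu⟩)
    rw [← e, e', map_mul, fP u hu, mul_one, ← MonoidHom.map_zpowers]
    exact mem_map_of_mem _ hc

end H18.JT3
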