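import Mathlib
import Cfsg.Agent.H1.JRBasic
import Cfsg.Agent.H13.DihMC

/-! `JR.three`, the Borel subgroup of `PSL₂(F)`. -/

set_option autoImplicit false
open Cfsg H24 Subgroup H16 H1
open scoped MatrixGroups

namespace H18.JT3

variable {F : Type*} [Field F]

theorem sl_app {a b : SL(2, F)} (h : a = b) (i j : Fin 2) : a i j = b i j := by rw [h]

theorem uu_add (x y : F) : uu (x + y) = uu x * uu y := by
  rw [uu, uu, uu, ← QuotientGroup.mk_mul]
  congr 1
  ext i j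
  fin_cases i <;> fin_cases j <;> simp [Matrix.mul_apply, Fin.sum_univ_two, add_comm]

theorem uu_zero : uu (0 : F) = 1 := by
  have := uu_add (0 : F) 0
  rwa [add_zero, left_eq_mul] at this

theorem uu_neg (x : F) : uu (-x) = (uu x)⁻¹ :=
  eq_inv_of_mul_eq_one_left (by rw [← uu_add, neg_add_cancel, uu_zero])

/-- the unipotent subgroup -/
def UU (F : Type*) [Field F] : Subgroup PSL(2, F) where
  carrier := Set.range uu
  one_mem' := ⟨0, uu_zero⟩
  mul_mem' := by rintro _ _ ⟨x, rfl⟩ ⟨y, rfl⟩; exact ⟨_, uu_add x y⟩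
  inv_mem' := by rintro _ ⟨x, rfl⟩; exact ⟨_, uu_neg x⟩

theorem uu_mem (x : F) : uu x ∈ UU F := ⟨x, rfl⟩

/-- diagonal matrices -/
def dS (a : Fˣ) : SL(2, F) := sl2 (a : F) 0 0 (a : F)⁻¹ (by simp)

/-- the split torus -/
noncomputable def dd : Fˣ →* PSL(2, F) :=
  MonoidHom.mk' (fun a => (dS a : PSL(2, F))) fun a b => by
    rw [← QuotientGroup.mk_mul]
    congr 1
    ext i j
    fin_cases i <;> fin_cases j <;> simp [dS, Matrix.mul_apply, Fin.sum_univ_two, mul_comm]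

theorem dd_def (a : Fˣ) : dd a = (dS a : PSL(2, F)) := rfl

theorem dd_uu (a : Fˣ) (x : F) : dd a * uu x * (dd a)⁻¹ = uu ((a : F) ^ 2 * x) := by
  rw [mul_inv_eq_iff_eq_mul, dd_def, uu, uu, ← QuotientGroup.mk_mul, ← QuotientGroup.mk_mul]
  congr 1
  ext i j
  fin_cases i <;> fin_cases j <;> simp [dS, Matrix.mul_apply, Fin.sum_univ_two]
  field_simp

theorem dd_eq_one {a : Fˣ} (h : a ^ 2 = 1) : dd a = 1 := by
  rw [dd_def, psl2_mk_eq_one_iff]
  have := congrArg Units.val h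
  simp only [Units.val_mul, Units.val_one, pow_two] at this
  simp [dS, eq_inv_of_mul_eq_one_left this |>.symm]

theorem sq_of_dd {a : Fˣ} {x : F} (h2 : (2 : F) ≠ 0) (h : dd a = uu x) : a ^ 2 = 1 := by
  have := dd_uu a 1
  rw [h, ← uu_neg, ← uu_add, ← uu_add] at this
  exact Units.ext (by simpa using (uu_inj h2 this).symm)

theorem pslMap_dd (σ : F ≃+* F) (a : Fˣ) :
    pslMap (σ : F →+* F) (dd a) = dd (Units.map (σ : F →* F) a) := by
  rw [dd_def, dd_def, pslMap_mk]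
  congr 1
  ext i j
  fin_cases i <;> fin_cases j <;> simp [dS, Matrix.SpecialLinearGroup.map_apply_coe]

theorem tri_of (g : SL(2, F)) (h : g 1 0 = 0) : ∃ x a, (g : PSL(2, F)) = uu x * dd a := by
  have hd := sl2_det g
  rw [h, mul_zero, sub_zero] at hd
  have h0 : g 0 0 ≠ 0 := left_ne_zero_of_mul_eq_one hd
  refine ⟨g 0 0 * g 0 1, Units.mk0 _ h0, ?_⟩
  rw [dd_def, uu, ← QuotientGroup.mk_mul]
  congr 1
  ext i j
  fin_cases i <;> fin_cases j <;> simp [dS, Matrix.mul_apply, Fin.sum_univ_two, h]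
  · field_simp
  · exact eq_inv_of_mul_eq_one_right hd

theorem bruhat (h2 : (2 : F) ≠ 0) (y : PSL(2, F)) :
    (∃ x a, y = uu x * dd a) ∨ ∃ x x', orderOf (uu x * y * uu x') = 2 := by
  induction y using QuotientGroup.induction_on with | H g =>
  by_cases h : g 1 0 = 0
  · exact Or.inl (tri_of g h)
  refine Or.inr ⟨-(g 0 0 / g 1 0), -(g 1 1 / g 1 0), ?_⟩
  rw [uu, uu, ← QuotientGroup.mk_mul, ← QuotientGroup.mk_mul]
  have := sq_eq_of_trace (sl2 1 (-(g 0 0 / g 1 0)) 0 1 (by simp) * g *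
    sl2 1 (-(g 1 1 / g 1 0)) 0 1 (by simp)) (by
      simp [Matrix.mul_apply, Fin.sum_univ_two, Matrix.vecMul, dotProduct]
      field_simp
      ring)
  exact H13.Dih.two_of (mk_mul_self_of_sq _ this) (mk_ne_one_of_sq h2 _ this)

theorem tri_of_conj (h2 : (2 : F) ≠ 0) {y : PSL(2, F)} {c c' : F} (hc : c ≠ 0)
    (h : y * uu c = uu c' * y) : ∃ x a, y = uu x * dd a := by
  induction y using QuotientGroup.induction_on with | H g =>
  refine tri_of g ?_
  rw [uu, uu, ← QuotientGroup.mk_mul, ← QuotientGroup.mk_mul, psl2_mk_eq_iff] at h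
  rcases h with k | k
  · have k1 := sl_app k 1 1
    simp [Matrix.mul_apply, Fin.sum_univ_two] at k1
    exact k1.resolve_right hc
  · have k1 := sl_app k 1 0
    simp [Matrix.mul_apply, Fin.sum_univ_two] at k1
    exact mul_left_cancel₀ h2 (by linear_combination k1)

theorem tri_mul (x y : F) (a b : Fˣ) :
    uu x * dd a * (uu y * dd b) = uu (x + (a : F) ^ 2 * y) * dd (a * b) := by
  rw [uu_add, ← dd_uu, map_mul]; group

theorem tri_pow (x : F) (a : Fˣ) (n : ℕ) : ∃ z, (uu x * dd a) ^ n = uu z * dd (a ^ n) := by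
  induction n with
  | zero => exact ⟨0, by simp [uu_zero]⟩
  | succ n ih =>
    obtain ⟨z, hz⟩ := ih
    exact ⟨_, by rw [pow_succ, hz, tri_mul, pow_succ a n]⟩

theorem tri_inv (h2 : (2 : F) ≠ 0) (hm : ¬ IsSquare (-1 : F)) {x : F} {a : Fˣ}
    (h : uu x * dd a * (uu x * dd a) = 1) : uu x * dd a = 1 := by
  rw [tri_mul] at h
  have h1 := congrArg Units.val (sq_of_dd h2 ((eq_inv_of_mul_eq_one_right h).trans (uu_neg _).symm))
  simp only [Units.val_pow_eq_pow_val, Units.val_mul, Units.val_one] at h1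
  have h3 : a ^ 2 = 1 := Units.ext (by
    rcases sq_eq_one_iff.1 h1 with k | k
    · simpa [pow_two] using k
    · exact absurd ⟨a, k.symm⟩ hm)
  rw [← pow_two, h3, map_one, mul_one, ← Units.val_pow_eq_pow_val, h3, ← uu_zero] at h
  have h4 : x = 0 := mul_left_cancel₀ h2 (by simpa [two_mul] using uu_inj h2 h)
  rw [h4, uu_zero, dd_eq_one h3, mul_one]

theorem inv_comm_dd (h2 : (2 : F) ≠ 0) (hm : ¬ IsSquare (-1 : F)) {a : Fˣ} (ha : a ^ 2 ≠ 1)
    {y : PSL(2, F)} (hy : y * y = 1) (h : y * dd a = dd a * y) : y = 1 := by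
  induction y using QuotientGroup.induction_on with | H g =>
  have a0 := a.ne_zero
  have : g 1 0 = 0 := by
    rw [dd_def, ← QuotientGroup.mk_mul, ← QuotientGroup.mk_mul, psl2_mk_eq_iff] at h
    by_contra g0
    rcases h with k | k
    · have k1 := sl_app k 1 0
      simp [dS, Matrix.mul_apply, Fin.sum_univ_two] at k1
      field_simp at k1
      exact ha (Units.ext (by simpa using k1.symm))
    · have k1 := sl_app k 1 0
      simp [dS, Matrix.mul_apply, Fin.sum_univ_two] at k1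
      field_simp at k1
      exact hm ⟨a, by linear_combination -k1⟩
  obtain ⟨x, b, e⟩ := tri_of g this
  rw [e] at hy ⊢
  exact tri_inv h2 hm hy

theorem ww_dd (a : Fˣ) :
    ((wS : SL(2, F)) : PSL(2, F)) * dd a * ((wS : SL(2, F)) : PSL(2, F))⁻¹ = (dd a)⁻¹ := by
  rw [mul_inv_eq_iff_eq_mul, ← map_inv, dd_def, dd_def, ← QuotientGroup.mk_mul,
    ← QuotientGroup.mk_mul]
  congr 1
  ext i j
  fin_cases i <;> fin_cases j <;> simp [dS, wS, Matrix.mul_apply, Fin.sum_univ_two]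

theorem exists_sq [Finite F] (hm : ¬ IsSquare (-1 : F)) {x y : F} (hx : x ≠ 0) (hy : y ≠ 0) :
    ∃ a : Fˣ, (a : F) ^ 2 * x = y ∨ (a : F) ^ 2 * x = -y := by
  by_cases h : IsSquare (y / x)
  · obtain ⟨a, ha⟩ := h
    have : a ≠ 0 := by rintro rfl; simp [hx, hy] at ha
    exact ⟨Units.mk0 a this, Or.inl (by rw [Units.val_mk0, pow_two, ← ha]; field_simp)⟩
  · obtain ⟨a, ha⟩ := isSquare_mul_of_not hm h
    have : a ≠ 0 := by rintro rfl; simp [hx, hy] at ha
    exact ⟨Units.mk0 a this, Or.inr (by rw [Units.val_mk0, pow_two, ← ha]; field_simp)⟩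

theorem mem_zp {a b : Fˣ} (ha : orderOf a = 13) (hb : b ^ 13 = 1) : b ∈ zpowers a := by
  have h : IsPrimitiveRoot (a : F) 13 := by
    rw [← ha, ← orderOf_units]; exact IsPrimitiveRoot.orderOf _
  obtain ⟨i, -, hi⟩ := h.eq_pow_of_pow_eq_one (ξ := (b : F)) (by
    rw [← Units.val_pow_eq_pow_val, hb, Units.val_one])
  exact ⟨i, Units.ext (by simpa using hi)⟩

theorem uu_pi (h3 : (3 : F) = 0) (x : F) : uu x ^ 3 = 1 := by
  rw [pow_three, ← uu_add, ← uu_add, ← uu_zero]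
  congr 1
  linear_combination x * h3

theorem syl_UU [Fintype F] (h2 : (2 : F) ≠ 0) {n : ℕ} (hn : n ≠ 0)
    (hq : Fintype.card F = 3 ^ n) : Syl 3 ⊤ (UU F) := by
  have hc : ♯(UU F) = 3 ^ n := by
    rw [← hq, ← Nat.card_eq_fintype_card]
    exact (Nat.card_congr (Equiv.ofInjective uu fun _ _ => uu_inj h2)).symm
  refine Syl.mk' Nat.prime_three le_top (isPi_of_card Nat.prime_three hc) fun h => ?_
  have h1 := card_mul_relIndex (le_top : UU F ≤ ⊤)
  have h4 := card_psl_two' (F := F)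
  rw [card_top] at h1
  rw [← h1, hc, Nat.card_eq_fintype_card, hq, mul_left_comm] at h4
  have h5 := (Dvd.dvd.mul_left h _).trans (Nat.eq_of_mul_eq_mul_left (by positivity) h4).dvd
  have h6 : 3 ∣ (3 ^ n) ^ 2 := dvd_pow (dvd_pow_self 3 hn) two_ne_zero
  have h7 : 0 < (3 ^ n) ^ 2 := by positivity
  omega

theorem no_inv_norm [Finite F] (h2 : (2 : F) ≠ 0) (hm : ¬ IsSquare (-1 : F))
    (hU : Syl 3 ⊤ (UU F)) {Q : Subgroup PSL(2, F)} (hQ : IsPi {3} Q) {i : PSL(2, F)}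
    (hi : i * i = 1) (i1 : i ≠ 1) (hn : i ∈ N[Q]) : Q = ⊥ := by
  by_contra h
  obtain ⟨x, hx, x1⟩ := exists_ne_one h
  obtain ⟨g, -, hg⟩ := Sylow_Jsub Nat.prime_three hU hQ le_top
  obtain ⟨c, hc⟩ := hg (conj_mem_cj g hx)
  obtain ⟨c', hc'⟩ := hg (conj_mem_cj g (conj_mem hn hx))
  obtain ⟨z, a, e⟩ := tri_of_conj h2 (y := g * i * g⁻¹) (c := c) (c' := c') (by
    rintro rfl
    exact x1 (conj_eq_one_iff'.1 (hc.symm.trans uu_zero))) (by rw [hc, hc']; group)
  refine i1 (conj_eq_one_iff'.1 (e.trans (tri_inv h2 hm ?_)))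
  rw [← e, show g * i * g⁻¹ * (g * i * g⁻¹) = g * (i * i) * g⁻¹ by group, hi]
  group

theorem frob [Finite F] {σ : F ≃+* F} (hq : Nat.card (fixF σ) = 3) {a : Fˣ} (ha : orderOf a = 13)
    {k : ℕ} (hk : ¬ 3 ∣ k) : ∃ ω : ℤ, (ω = 3 ∨ ω = 9) ∧
      Units.map ((σ ^ k : F ≃+* F) : F →* F) a = a ^ ω := by
  have := Fact.mk Nat.prime_three
  have := Fintype.ofFinite (fixF σ)
  have c3 : CharP (fixF σ) 3 := charP_of_card_eq_prime (by rwa [← Nat.card_eq_fintype_card])
  let _ : Algebra (ZMod 3) (fixF σ) := ZMod.algebra _ _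
  obtain ⟨i, hi⟩ := FiniteField.exists_forall_apply_eq_pow (fixF σ) 3 F
    (AlgEquiv.ofRingEquiv (f := σ) fun x => mem_fixF.1 x.2)
  rw [hq] at hi
  have h1 : ∀ m : ℕ, ∀ x, (σ ^ m) x = x ^ 3 ^ (i * m) := by
    intro m x
    induction m with
    | zero => simp
    | succ m ih =>
      rw [pow_succ', RingAut.mul_apply, ih, Nat.mul_succ, pow_add, pow_mul (M := F)]
      exact hi _
  have a13 : (a : F) ^ 13 = 1 := by
    rw [← Units.val_pow_eq_pow_val, ← ha, pow_orderOf_eq_one, Units.val_one]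
  have h4 : ∀ j r : ℕ, (a : F) ^ 3 ^ (3 * j + r) = a ^ 3 ^ r := by
    intro j r
    induction j with
    | zero => simp
    | succ j ih =>
      rw [show 3 * (j + 1) + r = 3 + (3 * j + r) by ring, pow_add, pow_mul, ← ih,
        show 3 ^ 3 = 13 * 2 + 1 by norm_num, pow_succ, pow_mul, a13, one_pow, one_mul]
  have h5 : ¬ 3 ∣ i := by
    rintro ⟨j, rfl⟩
    have e : σ a = a := by simpa using (h1 1 a).trans (by simpa using h4 j 0)
    have e1 := FiniteField.pow_card (⟨a, mem_fixF.2 e⟩ : fixF σ)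
    rw [← Nat.card_eq_fintype_card, hq] at e1
    have e2 : a ^ 2 = 1 := by
      have : a ^ 3 = a := Units.ext (by simpa using congrArg Subtype.val e1)
      rwa [pow_succ, mul_eq_right] at this
    have := orderOf_dvd_of_pow_eq_one e2
    rw [ha] at this
    omega
  have h6 : ¬ 3 ∣ i * k := fun h => (Nat.prime_three.dvd_mul.1 h).elim h5 hk
  have h7 := h4 (i * k / 3) (i * k % 3)
  rw [Nat.div_add_mod, ← h1] at h7
  have : i * k % 3 = 1 ∨ i * k % 3 = 2 := by omega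
  rcases this with e | e <;> rw [e] at h7
  · exact ⟨3, Or.inl rfl, Units.ext (by simpa [zpow_ofNat] using h7)⟩
  · exact ⟨9, Or.inr rfl, Units.ext (by simpa [zpow_ofNat] using h7)⟩

end H18.JT3
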