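import Mathlib
import Cfsg.Agent.H18.JR3c
import Cfsg.Agent.H18.JR3d

/-! `JR.three`, `3`-subgroups normalised by involutions. -/

set_option autoImplicit false
open Cfsg H24 H26 Subgroup H16 H1 H13.Dih
open scoped MatrixGroups commutatorElement

namespace H18.JT3

theorem exists_psi {Γ G : Type*} [Group Γ] [Finite Γ] [Group G] {O : Subgroup Γ} [O.Normal]
    (hO : Odd ♯O) {t : Γ} (ht : t * t = 1) (top : O ⊔ zpowers t = ⊤)
    (res : pResidual 3 Γ ⊔ commutator Γ = ⊤) (l : C{t} →* G) (comm : ∀ x y, l x * l y = l y * l x)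
    (three : ∀ x, l x ^ 3 = 1) {x : C{t}} (hx : l x ≠ 1) :
    ∃ y : C{t}, y.1 ∈ ⁅O, zpowers t⁆ ∧ l y ≠ 1 := by
  by_contra hn
  push Not at hn
  have : ⁅O, zpowers t⁆.Normal := nml_top_iff.1 ⟨le_top, top.ge.trans
    (sup_le (norm_comm_left _ _) (norm_comm_right _ _))⟩
  let π := QuotientGroup.mk' ⁅O, zpowers t⁆
  have fs : Function.Surjective (π.comp C{t}.subtype) := by
    intro z
    obtain ⟨g, rfl⟩ := QuotientGroup.mk'_surjective _ z
    obtain ⟨o, ho, s, hs, rfl⟩ := (mem_sup_of_norm (norm_of_normal _ _)).1 (top.ge (mem_top g))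
    obtain ⟨k, hk, e⟩ := lift2 π (norm_of_normal ⊤ O (mem_top t)) (cop_two hO ht) ho (by
      rw [eq_comm, ← commutatorElement_eq_one_iff_mul_comm, ← map_commutatorElement]
      exact (QuotientGroup.eq_one_iff _).2 (commutator_mem_commutator ho (mem_zpowers t)))
    exact ⟨⟨k * s, mul_mem hk.2 (zpowers_le_C1 t hs)⟩, by
      change π (k * s) = π (o * s)
      rw [map_mul, map_mul, e]⟩
  let l' := (π.comp C{t}.subtype).liftOfRightInverse _ (Function.rightInverse_surjInv fs)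
    ⟨l, fun y hy => hn y ((QuotientGroup.eq_one_iff _).1 hy)⟩
  have e : ∀ y : C{t}, l' (π y) = l y := fun y =>
    (π.comp C{t}.subtype).liftOfRightInverse_comp_apply _ _ _ y
  have e' : ∀ g, ∃ y, l' (π g) = l y := fun g => by
    obtain ⟨y, hy⟩ := fs (π g)
    exact ⟨y, by rw [← hy]; exact e y⟩
  have : (⊤ : Subgroup Γ) ≤ (l'.comp π).ker := res.ge.trans (sup_le ((closure_le _).2 fun g hg => by
      obtain ⟨y, hy⟩ := e' g
      refine orderOf_eq_one_iff.1 (Nat.eq_one_of_dvd_coprimes hg (orderOf_map_dvd (l'.comp π) g)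
        (orderOf_dvd_of_pow_eq_one ?_))
      rw [MonoidHom.comp_apply, hy, three])
    (commutator_le.2 fun g _ g' _ => by
      obtain ⟨y, hy⟩ := e' g
      obtain ⟨y', hy'⟩ := e' g'
      rw [MonoidHom.mem_ker, map_commutatorElement, commutatorElement_eq_one_iff_mul_comm,
        MonoidHom.comp_apply, MonoidHom.comp_apply, hy, hy', comm]))
  exact hx ((e x).symm.trans (this (mem_top _)))

variable {G : Type*} [Group G] [Finite G] {F : Type*} [Field F] [Fintype F] {t : G}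
  {ι : PSL(2, F) →* G} {φ : G} {σ : F ≃+* F} (h : JR t ι φ σ)
include h

theorem sd_two {N : Subgroup G} (ht : t ∈ N) (hn : ∀ s ∈ N, ¬ Four t s) :
    Syl 2 N (zpowers t) ∧ SD O[{2}ᶜ, N] (zpowers t) N := by
  have s : Syl 2 N (zpowers t) := syl_of_max Nat.prime_two h.two_t (zpowers_le.2 ht) (by
    intro Q hQ h1 h2 g hg
    obtain ⟨S, hS, le⟩ := Sylow_superset Nat.prime_two hQ le_top
    have tQ := h1 (mem_zpowers t)
    by_contra hg'
    rw [mem_zpowers_of_sq h.tt, not_or] at hg'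
    exact hn g (h2 hg) ⟨h.ord, two_of (h.S_sq hS (le tQ) (le hg)) hg'.1, hg'.2,
      (h.abl hQ).comm hg tQ⟩)
  refine ⟨s, (ncompl_iff s).1 (ncompl_of_forall fun X hX h2 g _ hg ho => ?_)⟩
  obtain ⟨c, -, hc⟩ := Sylow_subJ Nat.prime_two s h2 hX
  exact cent_of_cyc_two h2 (((cyc_zpowers t).cj c).of_le hc) hg ho

omit [Finite G] in
theorem cent_P {g : G} (hg : g ∈ C{t}) (hc : g ∈ C[(UU F).map ι]) :
    ∃ x, g = ι (uu x) ∨ g = t * ι (uu x) := by
  have key : ∀ y (k : ℕ), ι y * φ ^ k ∈ C[(UU F).map ι] → ∃ x, ι y * φ ^ k = ι (uu x) := by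
    intro y k hc
    have e : ∀ x, y * uu ((σ ^ k) x) = uu x * y := fun x => h.inj (by
      have h1 := mem_C'.1 hc _ (mem_map_of_mem ι (uu_mem x))
      have h2 := h.act_pow k (uu x)
      rw [pslMap_uu] at h2
      rw [map_mul, map_mul]
      calc _ = ι y * φ ^ k * ι (uu x) * (φ ^ k)⁻¹ := by rw [mul_assoc, mul_assoc, ← mul_assoc (φ ^ k), h2]; rfl
        _ = _ := by rw [h1]; group)
    obtain ⟨z, a, rfl⟩ := tri_of_conj h.two_ne (c := (σ ^ k) 1) (by simp) (e 1)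
    have e1 : a ^ 2 = 1 := by
      have := e 1
      rw [map_one, mul_assoc, ← mul_assoc (uu 1), ← uu_add, add_comm, uu_add, mul_assoc,
        mul_right_inj, ← mul_inv_eq_iff_eq_mul, dd_uu] at this
      exact Units.ext (by simpa using uu_inj h.two_ne this)
    rw [dd_eq_one e1, mul_one] at hc ⊢
    have e2 : φ ^ k ∈ C[(UU F).map ι] := by
      have : ι (uu z) ∈ C[(UU F).map ι] := mem_C.2 (by
        rintro _ ⟨_, ⟨x, rfl⟩, rfl⟩
        rw [← map_mul, ← uu_add, add_comm, uu_add, map_mul])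
      simpa using mul_mem (inv_mem this) hc
    exact ⟨z, by rw [h.pow_eq_one_of_comm fun x => mem_C'.1 e2 _ (mem_map_of_mem ι (uu_mem x)),
      mul_one]⟩
  obtain ⟨y, k, e | e⟩ := h.dec g hg
  · obtain ⟨x, hx⟩ := key y k (e ▸ hc)
    exact ⟨x, Or.inl (e.trans hx)⟩
  · have tc : t ∈ C[(UU F).map ι] := mem_C.2 (by
      rintro _ ⟨y, -, rfl⟩
      exact h.ιt y)
    obtain ⟨x, hx⟩ := key y k (by simpa [e, mul_assoc] using mul_mem (inv_mem tc) hc)
    exact ⟨x, Or.inr (by rw [e, mul_assoc, hx])⟩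

theorem exists_inv {s : G} (hf : Four t s) :
    ∃ y, y * y = 1 ∧ y ≠ 1 ∧ (s = ι y ∨ t * s = ι y) := by
  obtain ⟨y, e | e⟩ := h.mem_KK.1 (h.two_mem_KK (pi_two hf.hs) hf.s_mem_C)
  · exact ⟨y, h.inj (by rw [map_mul, ← e, sq_of hf.hs, map_one]),
      fun y1 => ne_one_of hf.hs (by rw [e, y1, map_one]), Or.inl e⟩
  · have e' : t * s = ι y := by rw [e, ← mul_assoc, h.tt, one_mul]
    exact ⟨y, h.inj (by rw [map_mul, ← e', hf.mul_sq, map_one]),
      fun y1 => hf.mul_ne_one (by rw [e', y1, map_one]), Or.inr e'⟩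

variable (hm : ¬ IsSquare (-1 : F)) (hU : Syl 3 ⊤ (UU F))
include hm hU

theorem u3a {T : Subgroup G} (hT : IsPi {3} T) {s : G} (hf : Four t s) (hn : V4 t s ≤ N[T]) :
    T ⊓ ι.range = ⊥ ∧ T ⊓ C{t} ≤ C{s} := by
  obtain ⟨y, y2, y1, e⟩ := exists_inv h hf
  have yn : ι y ∈ N[T] := hn (by
    rcases e with e | e <;> rw [← e]
    exacts [Four.s_mem, Four.ts_mem])
  have h1 : T.comap ι = ⊥ := no_inv_norm h.two_ne hm hU (isPi_iff_piElt.2 fun x hx => by
      have := hT.piElt hx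
      rwa [PiElt, orderOf_injective ι h.inj] at this) y2 y1
    (mem_N_of_finite fun x hx => by
      rw [mem_comap, map_mul, map_mul, map_inv]
      exact conj_mem yn hx)
  have h2 : T ⊓ ι.range = ⊥ := eq_bot_iff.2 (by
    rintro _ ⟨hx, x, rfl⟩
    rw [mem_bot.1 (h1.le (show x ∈ T.comap ι from hx)), map_one]
    exact one_mem _)
  refine ⟨h2, fun g hg => ?_⟩
  have h3 : g * ι y * g⁻¹ * (ι y)⁻¹ ∈ T ⊓ ι.range := mem_inf.2 ⟨by
    simpa [mul_assoc] using mul_mem hg.1 (conj_mem yn (inv_mem hg.1)),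
    mul_mem (conj_mem (h.L_norm hg.2) ⟨y, rfl⟩) (inv_mem ⟨y, rfl⟩)⟩
  rw [h2, mem_bot, mul_inv_eq_one, ← mem_C1_iff_conj] at h3
  rcases e with e | e <;> rw [← e] at h3
  exacts [h3, hf.C_of_ts hg.2 h3]

theorem u3b {T : Subgroup G} (hT : IsPi {3} T) {a b : G} (hf : Four a b) (hn : V4 a b ≤ N[T]) :
    T ⊓ C{a} ≤ C{b} := by
  obtain ⟨c, hc⟩ := isConj_iff.1 (h.cnj a hf.ht).symm
  have f := hf.conj c
  have e := norm_cj hn c
  rw [Four.cj_V] at e
  rw [hc] at f e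
  have := (u3a h hm hU (hT.cj c) f e).2
  rwa [← cj_C1, ← hc, ← cj_C1, ← cj_inf, cj_le_cj] at this

theorem u3 {T : Subgroup G} (hT : IsPi {3} T) {s : G} (hf : Four t s) (hn : V4 t s ≤ N[T]) :
    T ≤ C{t} :=
  hf.gen (odd_of_pi (by norm_num) hT) hn inf_le_right
    (u3b h hm hU hT hf.symm (by rwa [Four.V_symm]))
    (u3b h hm hU hT hf.mul.symm (by rwa [Four.V_symm, hf.V_mul]))

theorem no_four {T : Subgroup G} (hT : IsPi {3} T) (T1 : T ≠ ⊥) (hP : (UU F).map ι ≤ N[T])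
    (ht : t ∈ N[T]) (s : G) (hs : s ∈ N[T]) (hf : Four t s) : False := by
  have hn : V4 t s ≤ N[T] := Four.V_le.2 ⟨ht, hs⟩
  have h1 := u3 h hm hU hT hf hn
  have h2 := (u3a h hm hU hT hf hn).1
  refine T1 (h2 ▸ (inf_eq_left.2 fun g hg => ?_).symm)
  obtain ⟨x, e | e⟩ := cent_P h (h1 hg) (mem_C'.2 fun u hu => by
    have h3 : g * u * g⁻¹ * u⁻¹ ∈ T ⊓ ι.range := mem_inf.2 ⟨by
      simpa [mul_assoc] using mul_mem hg (conj_mem (hP hu) (inv_mem hg)),
      mul_mem (conj_mem (h.L_norm (h1 hg)) (map_le_range _ _ hu)) (inv_mem (map_le_range _ _ hu))⟩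
    rwa [h2, mem_bot, mul_inv_eq_one, mul_inv_eq_iff_eq_mul] at h3)
  · exact ⟨_, e.symm⟩
  · exact absurd (e ▸ (hT.compl_of_ne (by norm_num)).piElt hg) (h.not_odd _)

theorem exists_P : ∃ P, Syl 3 ⊤ P ∧ t ∈ N[P] ∧ (UU F).map ι ≤ P := by
  obtain ⟨P, h1, ⟨h2, h3⟩, h4⟩ := exists_max (P := fun P : Subgroup G => IsPi {3} P ∧ t ∈ N[P])
    (H := (UU F).map ι) ⟨hU.pi.map _, C_le_N _ (mem_C.2 (by
      rintro _ ⟨y, -, rfl⟩
      exact h.ιt y))⟩
  have P1 : P ≠ ⊥ := ne_bot_of_mem (h1 (mem_map_of_mem ι (uu_mem 1))) fun e =>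
    one_ne_zero (uu_inj h.two_ne (h.inj (by rw [e, uu_zero, map_one])))
  obtain ⟨s, sd⟩ := sd_two h h3 (no_four h hm hU h2 P1 (norm_of_le h1) h3)
  obtain ⟨T, hT, hn⟩ := sol_coprime_Sylow_exists Nat.prime_three sd.norm
    (cop_zp (odd_pcore _) h.ord) (Or.inl (cyc_zpowers t).sol)
  have hT' : Syl 3 N[P] T := (sd.hall_left (pcore_pi _ _) (by simpa using h.two_t)).trans_syl hT
    (by simp)
  have e := h4 T ⟨hT.pi, hn (mem_zpowers t)⟩ (hT'.nml_le h2 (nml_N P))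
  rw [e] at hT'
  exact ⟨P, Sylow_subnorm Nat.prime_three le_top (by rwa [top_inf_eq]), h3, h1⟩

theorem inv_cent {a : Fˣ} (ha : a ^ 2 ≠ 1) {w : G} (hw : PiElt {3} w) (hi : t * w * t⁻¹ = w⁻¹)
    (hc : w * ι (dd a) = ι (dd a) * w) : w = 1 := by
  have tc : t ∈ C{ι (dd a)} := mem_C1.2 (h.ιt _).symm
  obtain ⟨s, sd⟩ := sd_two h tc fun s hs hf => by
    obtain ⟨y, y2, y1, e⟩ := exists_inv h hf
    refine y1 (inv_comm_dd h.two_ne hm ha y2 (h.inj ?_))
    rw [map_mul, map_mul, ← mem_C1]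
    rcases e with e | e <;> rw [← e]
    exacts [hs, mul_mem tc hs]
  have w2 := wS_mul_self (F := F)
  have f : Four t (ι (wS : SL(2, F))) := ⟨h.ord, by
    rw [orderOf_injective ι h.inj]
    exact two_of (mk_mul_self_of_sq _ w2) (mk_ne_one_of_sq h.two_ne _ w2), h.ne _, h.ιt _⟩
  have n : V4 t (ι (wS : SL(2, F))) ≤ N[O[{2}ᶜ, C{ι (dd a)}]] := norm_pcore _ (by
    rw [← C_zpowers]
    refine norm_C (Four.V_le.2 ⟨norm_zpowers_of_cent le_rfl tc, (inv_zpowers ?_).norm⟩)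
    rw [← map_inv, ← map_mul, ← map_mul, ww_dd, map_inv])
  have o := odd_pcore C{ι (dd a)}
  obtain ⟨T, hT, hn⟩ := sol_coprime_Sylow_exists Nat.prime_three n
    ((pcore_pi _ _).coprime' f.V_pi) (Or.inl f.V_abl.sol)
  have wO : w ∈ O[{2}ᶜ, C{ι (dd a)}] := (sd.hall_left (pcore_pi _ _)
    (by simpa using h.two_t)).mem_of_nml sd.nml.norm (hw.of_mem (by simp)) (mem_C1.2 hc)
  obtain ⟨T', hT', hn', le⟩ := sol_coprime_Sylow_subset Nat.prime_three sd.norm (cop_zp o h.ord)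
    (Or.inl (cyc_zpowers t).sol) (zpowers_le.2 wO) hw.isPi (zpowers_le.2 (inv_zpowers hi).norm)
  obtain ⟨c, hc, e⟩ := sol_coprime_Sylow_trans Nat.prime_three sd.norm (cop_zp o h.ord)
    (Or.inl (cyc_zpowers t).sol) hT ((zpowers_le.2 Four.t_mem).trans hn) hT' hn'
  rw [C_zpowers] at hc
  exact (inv_zpowers hi).eq_one (mem_zpowers w) (piElt_odd.1 (hw.of_mem (by simp)))
    (cj_le_of_mem (u3 h hm hU hT.pi f hn) hc.2 (e ▸ le (mem_zpowers w)))

end H18.JT3
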