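import Mathlib
import Cfsg.Agent.H1.JRBasic
import Cfsg.Agent.H18.JR3e
import Cfsg.Agent.H13.ZJFusion
import Cfsg.Agent.H6.Transfer2

/-! No field automorphism of order `3` on the `L₂(3^n)` of a group of Janko–Ree type. -/

set_option autoImplicit false
open Cfsg H24 Subgroup
open scoped MatrixGroups

namespace H1

open H26 H16 H13.Dih H18.JT3

theorem JR.three {G : Type*} [Group G] [Finite G] [IsSimpleGroup G] {F : Type*} [Field F]
    [Fintype F] {t : G} {ι : PSL(2, F) →* G} {φ : G} {σ : F ≃+* F} (h : JR t ι φ σ)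
    (hq : Nat.card (fixF σ) = 3) (h3 : 3 ∣ orderOf φ) (h13 : ¬ 13 ∣ orderOf φ) : False := by
  classical
  have p13 : Nat.Prime 13 := by norm_num
  have := Fact.mk Nat.prime_three
  have := Fact.mk p13
  have h2 := h.two_ne
  have hc : Fintype.card F = 3 ^ orderOf φ := by rw [← h.card_fix, hq]
  have n0 : orderOf φ ≠ 0 := (orderOf_pos φ).ne'
  have hm : ¬ IsSquare (-1 : F) := by
    rw [FiniteField.isSquare_neg_one_iff, not_not, hc]
    obtain ⟨k, hk⟩ := h.odd_φ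
    rw [hk, pow_succ, pow_mul, Nat.mul_mod, Nat.pow_mod]
    simp
  have c3 : (3 : F) = 0 := by
    have := FiniteField.cast_card_eq_zero F
    rw [hc] at this
    push_cast at this
    exact (pow_eq_zero_iff n0).1 this
  have hU := syl_UU h2 n0 hc
  obtain ⟨m, hm3⟩ := h3
  obtain ⟨a, ha⟩ : ∃ a : Fˣ, orderOf a = 13 := exists_prime_orderOf_dvd_card 13 (by
    rw [Fintype.card_units, hc, hm3, pow_mul]
    simpa using (show 13 ∣ 3 ^ 3 - 1 by norm_num).trans (Nat.sub_dvd_pow_sub_pow (3 ^ 3) 1 m))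
  have a2 : a ^ 2 ≠ 1 := fun e => by
    have := orderOf_dvd_of_pow_eq_one e
    rw [ha] at this
    omega
  have a13 : dd a ^ 13 = 1 := by rw [← map_pow, ← ha, pow_orderOf_eq_one, map_one]
  obtain ⟨P, hP, tP, le⟩ := exists_P h hm hU
  obtain ⟨S, rfl⟩ := hP.exists_sylow_top Nat.prime_three
  have zj := H13.zj_controls_fusion (e := 3) (by norm_num) (Or.inr rfl)
    (fun q => q.not_abelian_two (by norm_num)
      fun U hU => ⟨⟨fun a b => Subtype.ext (h.ab U hU _ a.2 _ b.2)⟩⟩) S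
  have NP := H13.normalizer_le_normalizer_centerThompson 3 (S : Subgroup G)
  have u1 : ι (uu 1) ≠ 1 := fun e => one_ne_zero (uu_inj h2 (h.inj (by rw [e, uu_zero, map_one])))
  have uP : ∀ x, ι (uu x) ∈ (UU F).map ι := fun x => mem_map_of_mem ι (uu_mem x)
  have tN := NP tP
  have SN := (norm_self _).trans NP
  obtain ⟨s2, sd⟩ := sd_two h tN (no_four h hm hU (hP.pi.of_le (H13.centerThompsonOf_le 3 _))
    (H13.centerThompsonOf_ne_bot (Or.inr rfl) S.isPGroup' (ne_bot_of_mem (le (uP 1)) u1))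
    (le.trans SN) tN)
  generalize N[centerThompsonOf 3 (S : Subgroup G)] = N at zj tN SN s2 sd
  have oO := odd_pcore N
  have memO : ∀ g ∈ N, PiElt {2}ᶜ g → g ∈ O[{2}ᶜ, N] := fun g hg ho =>
    (sd.hall_left (pcore_pi _ _) (by simpa using h.two_t)).mem_of_nml sd.nml.norm ho hg
  generalize O[{2}ᶜ, N] = O at sd oO memO
  have tc : t ∈ C[(UU F).map ι] := mem_C.2 (by
    rintro _ ⟨y, -, rfl⟩
    exact h.ιt y)
  have ctrl : ∀ g ∈ C{t}, g ∈ N[(UU F).map ι] → g ∈ N := by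
    intro g gt gn
    obtain ⟨n, hn, e⟩ := zj ((UU F).map ι) le g (by
      rintro _ ⟨u, hu, rfl⟩
      exact le (conj_mem' gn hu))
    have nn : n⁻¹ ∈ N[(UU F).map ι] := mem_N_of_finite fun u hu => by
      rw [inv_inv, e u hu]; exact conj_mem' gn hu
    obtain ⟨c, hc, e1⟩ := Sylow_subJ Nat.prime_two
      (s2.of_le (L := N ⊓ C[(UU F).map ι]) (zpowers_le.2 ⟨tN, tc⟩) inf_le_left)
      ((pi_two h.ord).conj n⁻¹).isPi (zpowers_le.2 <| mem_inf.2
        ⟨mul_mem (mul_mem (inv_mem hn) tN) (inv_mem (inv_mem hn)), conj_mem (N_le_NC _ nn) tc⟩)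
    have e2 := (mem_zpowers_of_sq h.tt).1 (mem_cj.1 (e1 (mem_zpowers _)))
    have e3 : n * c ∈ C{t} := by
      rcases e2 with e2 | e2
      · refine absurd ?_ h.t_ne
        calc t = n * c * (c⁻¹ * (n⁻¹ * t * n⁻¹⁻¹) * c) * (n * c)⁻¹ := by group
          _ = 1 := by rw [e2]; group
      · rw [mem_C1_iff_conj]
        conv_lhs => rw [← e2]
        group
    obtain ⟨x, e4⟩ := cent_P h (mul_mem gt (inv_mem e3)) (mem_C'.2 fun u hu => by
      have h1 : (n * c) * (g⁻¹ * u * g) * (n * c)⁻¹ = u := by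
        rw [show n * c * (g⁻¹ * u * g) * (n * c)⁻¹ = n * (c * (g⁻¹ * u * g) * c⁻¹) * n⁻¹ by group,
          conj_eq_of_mem_C hc.2 (conj_mem' gn hu), ← e u hu]
        group
      conv_lhs => rw [← h1]
      group)
    have e5 : g * (n * c)⁻¹ ∈ N := by
      rcases e4 with e4 | e4 <;> rw [e4]
      exacts [SN (le (uP x)), mul_mem tN (SN (le (uP x)))]
    have := mul_mem e5 (mul_mem hn hc.1)
    rwa [inv_mul_cancel_right] at this
  have φn : φ ∈ N[(UU F).map ι] := mem_N_of_finite (by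
    rintro _ ⟨_, ⟨x, rfl⟩, rfl⟩
    rw [h.act, pslMap_uu]
    exact uP _)
  have dn : ∀ b, ι (dd b) ∈ N[(UU F).map ι] := fun b => mem_N_of_finite (by
    rintro _ ⟨_, ⟨x, rfl⟩, rfl⟩
    rw [← map_inv, ← map_mul, ← map_mul, dd_uu]
    exact uP _)
  have φN := ctrl φ h.φt φn
  have dN := fun b => ctrl _ (h.mem _) (dn b)
  have φO := memO φ φN (piElt_odd.2 h.odd_φ)
  have PO : (UU F).map ι ≤ O := fun u hu =>
    memO u (SN (le hu)) ((hP.pi.piElt (le hu)).of_mem (by simp))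
  have str : ∀ g ∈ O, g ∈ C{t} → ∃ x b, ∃ k : ℕ, g = ι (uu x * dd b) * φ ^ k := by
    intro g hg gt
    have e1 : ∀ {z} {k : ℕ}, g = z * φ ^ k → z ∈ O := fun {z k} e => by
      simpa [e] using mul_mem hg (inv_mem (pow_mem φO k))
    obtain ⟨y, k, e | e⟩ := h.dec g gt
    · rcases bruhat h2 y with ⟨x, b, rfl⟩ | ⟨x, x', o⟩
      · exact ⟨x, b, k, e⟩
      · refine absurd ?_ (not_mem_of_odd oO ((orderOf_injective ι h.inj _).trans o))
        rw [map_mul, map_mul]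
        exact mul_mem (mul_mem (PO (uP x)) (e1 e)) (PO (uP x'))
    · exact absurd (piElt_odd.2 (odd_orderOf oO (e1 e))) (h.not_odd y)
  have res : pResidual 3 N ⊔ commutator N = ⊤ := by
    have sN : Syl 3 N S := hP.of_le SN le_top
    have e := H6.pResidual_sup_commutator_inf (p := 3) N
      ((Nat.prime_three.coprime_iff_not_dvd).2 fun hd =>
        S.not_dvd_index (hd.trans (index_dvd_of_le SN))) (by
      rintro g hg ⟨k, hk⟩ x hx
      have g3 : PiElt {3} g := by rw [PiElt, hk]; exact piNat_self_pow Nat.prime_three k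
      obtain ⟨c, hc, e1⟩ := Sylow_Jsub Nat.prime_three sN g3.isPi (zpowers_le.2 hg)
      obtain ⟨d, hd, e2⟩ := Sylow_Jsub Nat.prime_three sN (g3.conj x).isPi (zpowers_le.2 hx)
      obtain ⟨n, hn, e⟩ := zj {c * g * c⁻¹}
        (Set.singleton_subset_iff.2 (e1 (conj_mem_cj c (mem_zpowers g)))) (c * x⁻¹ * d⁻¹) (by
          rintro _ ⟨_, rfl, rfl⟩
          have := e2 (conj_mem_cj d (mem_zpowers _))
          rwa [show d * (x * g * x⁻¹) * d⁻¹ = (c * x⁻¹ * d⁻¹)⁻¹ * (c * g * c⁻¹) * (c * x⁻¹ * d⁻¹)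
            by group] at this)
      refine ⟨d⁻¹ * n⁻¹ * c, mul_mem (mul_mem (inv_mem hd) (inv_mem hn)) hc, ?_⟩
      calc _ = d⁻¹ * (n⁻¹ * (c * g * c⁻¹) * n) * d := by group
        _ = _ := by rw [e _ rfl]; group)
    have e1 : commutator G = ⊤ := (inferInstance : (commutator G).Normal).eq_bot_or_eq_top.resolve_left
      fun hb => by
        have w2 := wS_mul_self (F := F)
        obtain ⟨c, hc⟩ := isConj_iff.1 (h.cnj (ι (wS : SL(2, F))) (by
          rw [orderOf_injective ι h.inj]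
          exact two_of (mk_mul_self_of_sq _ w2) (mk_ne_one_of_sq h2 _ w2)))
        refine h.ne _ (hc.symm.trans (mem_C1_iff_conj.1 (mem_C1.2 ?_)))
        exact commutatorElement_eq_one_iff_mul_comm.1
          (mem_bot.1 (hb.le (commutator_mem_commutator (mem_top c) (mem_top t))))
    rw [e1, sup_top_eq, top_inf_eq] at e
    exact map_injective N.subtype_injective (e.symm.trans (map_subtype_top N).symm)
  obtain ⟨Λ, hΛ, -⟩ := h.exists_Λ'
  have Λe : ∀ (x : C{t}) y (k : ℕ), x.1 = ι y * φ ^ k → Λ x = φ ^ k := fun x y k e =>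
    (mul_eq_mul_of_inf h.sd.inf (hΛ x).2 (JR.ι_mem y) (hΛ x).1 (npow_mem_zpowers φ k)
      (by rw [← e]; simp)).2
  have := sd.nml.normal
  have ct : ∀ {x : N}, x ∈ C{(⟨t, tN⟩ : N)} ↔ x.1 ∈ C{t} := by
    intro x
    rw [mem_C1, mem_C1, Subtype.ext_iff]
    rfl
  have oO' : Odd ♯(O.subgroupOf N) := by rwa [card_subgroupOf_of_le sd.left_le]
  have tt : (⟨t, tN⟩ : N) * ⟨t, tN⟩ = 1 := Subtype.ext h.tt
  have cΛ : ∀ x y, Commute (Λ x) (Λ y) := fun x y => (abl_zpowers φ).comm (hΛ x).1 (hΛ y).1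
  obtain ⟨ψ, ψK, ψ1⟩ := exists_psi oO' tt (map_injective N.subtype_injective (by
      rw [Subgroup.map_sup, map_subgroupOf' sd.left_le, MonoidHom.map_zpowers, map_subtype_top]
      exact sd.sup)) res
    (MonoidHom.mk' (fun x => Λ ⟨x.1.1, ct.1 x.2⟩ ^ m) fun x y => by
      rw [← (cΛ _ _).mul_pow, ← map_mul]; rfl)
    (fun x y => ((cΛ _ _).pow_pow m m).eq) (fun x => by
      obtain ⟨k, hk⟩ := h.exists_pow (hΛ ⟨x.1.1, ct.1 x.2⟩).1
      rw [MonoidHom.mk'_apply, hk, ← pow_mul, ← pow_mul, mul_comm m, ← hm3, mul_comm, pow_mul,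
        pow_orderOf_eq_one, one_pow]) (x := ⟨⟨φ, φN⟩, ct.2 h.φt⟩) (by
      rw [MonoidHom.mk'_apply, Λe _ 1 1 (by simp), pow_one]
      exact pow_ne_one_of_lt_orderOf (by omega) (by omega))
  obtain ⟨x, b, k, e⟩ := str ψ.1.1 (mem_subgroupOf.1 (comm_le_left (norm_of_normal _ _) ψK))
    (ct.1 ψ.2)
  obtain ⟨ω, hω, eω⟩ := frob hq ha (k := k) (by
    rintro ⟨j, rfl⟩
    refine ψ1 ?_
    rw [MonoidHom.mk'_apply, Λe _ _ _ e, ← pow_mul, mul_right_comm, ← hm3, pow_mul,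
      pow_orderOf_eq_one, one_pow])
  refine n_step (P := ((UU F).map ι).subgroupOf N) oO' tt (ρ := ⟨ι (dd a), dN a⟩)
    (fun u hu => ⟨PO hu, ct.2 (h.L_le (map_le_range _ _ hu))⟩)
    (ne_bot_of_mem (x := ⟨ι (uu 1), SN (le (uP 1))⟩) (uP 1) fun e => u1 (congrArg Subtype.val e))
    ?_ ?_ ?_ ?_ ⟨memO (ι (dd a)) (dN a) ((piElt_of_pow_eq_one (piNat_self p13) (by
      rw [← map_pow, a13, map_one])).of_mem (by simp)), ct.2 (h.mem _)⟩
    (Subtype.ext (by rw [SubmonoidClass.coe_pow, ← map_pow, a13, map_one]; rfl)) ?_ ?_ ?_ ψ.2 ψK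
    hω ?_
  · rintro ⟨_, _⟩ ⟨_, ⟨x, rfl⟩, rfl⟩
    exact Subtype.ext (by rw [SubmonoidClass.coe_pow, ← map_pow, uu_pi c3, map_one]; rfl)
  · intro g hg
    obtain ⟨x, b, k, e⟩ := str g.1 hg.1 (ct.1 hg.2)
    have : g.1 ∈ N[(UU F).map ι] := by
      rw [e, map_mul]
      exact mul_mem (mul_mem (norm_self _ (uP x)) (dn b)) (pow_mem φn k)
    exact mem_N_of_finite fun u hu => mem_subgroupOf.2 (conj_mem this (mem_subgroupOf.1 hu))
  · intro g hg
    obtain ⟨x, e | e⟩ := cent_P h (ct.1 hg.1.2) (mem_C'.2 fun u hu =>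
      congrArg Subtype.val (mem_C'.1 hg.2 ⟨u, SN (le hu)⟩ hu))
    · exact mem_subgroupOf.2 (e ▸ uP x)
    · exact absurd (e ▸ piElt_odd.2 (odd_orderOf oO (mem_subgroupOf.1 hg.1.1))) (h.not_odd _)
  · rintro ⟨_, _⟩ ⟨_, ⟨x, rfl⟩, rfl⟩ ⟨_, _⟩ ⟨_, ⟨y, rfl⟩, rfl⟩ x1 y1
    obtain ⟨c, hc⟩ := exists_sq hm (x := x) (y := y)
      (fun e => x1 (Subtype.ext (by simp [e, uu_zero])))
      (fun e => y1 (Subtype.ext (by simp [e, uu_zero])))
    refine ⟨⟨ι (dd c), dN c⟩, ct.2 (h.mem _), Subtype.ext (by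
      simp only [MulMemClass.mk_mul_mk, ← map_mul, mul_comm]), ?_⟩
    simp only [Subtype.ext_iff, coe_mul, coe_inv, ← map_inv, ← map_mul, ← uu_neg]
    simp only [map_inv, dd_uu]
    exact hc.imp (fun e => by rw [e]) fun e => by rw [e]
  · rintro ⟨_, _⟩ ⟨_, ⟨x, rfl⟩, rfl⟩ e
    have e1 : dd a * uu x = uu x * dd a := h.inj (by
      rw [map_mul, map_mul]; exact congrArg Subtype.val e)
    rw [← mul_inv_eq_iff_eq_mul, dd_uu] at e1
    have e2 : x = 0 := by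
      by_contra x0
      exact a2 (Units.ext (by simpa [x0] using uu_inj h2 e1))
    exact Subtype.ext (by simp [e2, uu_zero])
  · intro w hw e1 e2
    exact Subtype.ext (inv_cent h hm hU a2 (hw.map N.subtype) (congrArg Subtype.val e1)
      (congrArg Subtype.val e2))
  · rintro g hg ⟨_, ⟨z, rfl⟩, hz⟩
    obtain ⟨x, b, k, e⟩ := str g.1 hg.1 (ct.1 hg.2)
    have e1 : φ ^ k = 1 := by
      have h1 := Λe (⟨g.1, ct.1 hg.2⟩ ^ 13) (uu z) 0 (by rw [pow_zero, mul_one]; exact hz.symm)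
      rw [map_pow, Λe _ _ _ e, pow_zero, ← pow_mul, ← orderOf_dvd_iff_pow_eq_one] at h1
      exact orderOf_dvd_iff_pow_eq_one.1
        (((p13.coprime_iff_not_dvd.2 h13).symm).dvd_of_dvd_mul_right h1)
    rw [e1, mul_one] at e
    obtain ⟨y, hy⟩ := tri_pow x b 13
    have e2 : (b ^ 13) ^ 2 = 1 := sq_of_dd h2 (x := -y + z) (by
      rw [uu_add, uu_neg, eq_inv_mul_iff_mul_eq, ← hy]
      exact h.inj (by rw [map_pow, ← e, hz]; rfl))
    obtain ⟨i, hi⟩ := mem_zp ha (b := b ^ 14) (by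
      rw [← pow_mul, show 14 * 13 = 13 * 2 * 7 from rfl, pow_mul, pow_mul, e2, one_pow])
    have e3 : dd b = dd a ^ i := by
      rw [← map_zpow, show a ^ i = b ^ 14 from hi, pow_succ, map_mul, dd_eq_one e2, one_mul]
    refine ⟨_, ⟨i, rfl⟩, (⟨ι (dd a), dN a⟩ ^ i)⁻¹ * g, ?_, by simp⟩
    rw [mem_subgroupOf, coe_mul, coe_inv, coe_zpow, e, ← map_zpow, ← e3, map_mul, ← mul_assoc]
    exact conj_mem' (dn b) (uP x)
  · refine ⟨(⟨ι (dd a), dN a⟩ ^ ω)⁻¹ * (ψ.1 * ⟨ι (dd a), dN a⟩ * ψ.1⁻¹), ?_, by simp⟩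
    have e1 := h.act_pow k (dd a)
    rw [pslMap_dd, eω] at e1
    have e2 : ψ.1.1 * ι (dd a) * ψ.1.1⁻¹ = ι (uu x) * ι (dd (a ^ ω)) * (ι (uu x))⁻¹ := by
      calc _ = ι (uu x) * (ι (dd b) * (φ ^ k * ι (dd a) * (φ ^ k)⁻¹) * (ι (dd b))⁻¹) *
            (ι (uu x))⁻¹ := by rw [e, map_mul]; group
        _ = _ := by
          rw [e1, ← map_mul, ← map_mul, mul_comm b, map_mul, map_mul, mul_inv_cancel_right]
    rw [mem_subgroupOf, coe_mul, coe_inv, coe_zpow, coe_mul, coe_mul, coe_inv, e2, ← map_zpow,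
      ← map_zpow, ← mul_assoc, ← mul_assoc]
    exact mul_mem (conj_mem' (dn _) (uP x)) (inv_mem (uP x))

end H1
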