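import Mathlib
import Cfsg.Agent.H18.Blk
import Cfsg.Agent.H17.Cover
import Cfsg.Agent.H17.Height
import Cfsg.Agent.S0942

/-!
# Simple groups of order `q^a r^b p`: the Steinberg-like characters
-/

set_option autoImplicit false

open Cfsg H4 H17 Subgroup
open scoped ComplexConjugate

namespace H18.K3

variable {G : Type*} [Group G] [Finite G]

/-- every `q`-local subgroup has characteristic `q` -/
def CharT (q : ℕ) (G : Type*) [Group G] : Prop :=
  ∀ T : Subgroup G, IsPGroup q T → T ≠ ⊥ →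
    centralizer (pCore q ↥(normalizer (T : Set G)) : Set ↥(normalizer (T : Set G))) ≤
      pCore q ↥(normalizer (T : Set G))

omit [Finite G] in
theorem charT_of (h : IsCharacteristicTwoType G) : CharT 2 G := h.2

section

variable {p : ℕ} [hp : Fact p.Prime] {M : Ideal AlgInt} [PM p M]

theorem sb_of_constrained {Q : Subgroup G} [Q.Normal] (hQ : IsPGroup p Q)
    (hC : centralizer (Q : Set G) ≤ Q) (χ : Irr G) : SB M (irrOne G) χ := by
  obtain ⟨θ, hθ⟩ := exists_under Q χ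
  have h1 : SB M (irrOne Q) θ := sb_of_ker (N := ⊥) (fun g hg => mem_bot.mpr
    (eq_one_of_PElt_of_reg (PElt.of_mem (hQ.to_subgroup ⊤) (mem_top g)) hg))
    fun n hn => by rw [mem_bot.mp hn]
  exact ((((over_one_iff Q).mpr fun _ _ => rfl).cov M).indRel hQ hC).unique
    (((hθ.cov M).congr (self_mem_blockOf _) h1.symm).indRel hQ hC)

/-- in characteristic `p` type the non-principal blocks have defect zero -/
theorem defect_zero (h : CharT p G) {χ : Irr G} (hχ : ¬ SB M (irrOne G) χ) :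
    (Nat.card G).factorization p ≤ (deg χ).factorization p := by
  obtain ⟨D, hD⟩ := exists_DG (p := p) (M := M) χ
  refine hD.eq_bot_iff.1 (by_contra fun hb => hχ ?_)
  obtain ⟨ξ, h1, -⟩ := hD.exists_corr
  exact (h1.third (subtype_injective _)).2
    (sb_of_constrained (H2.pCore_isPGroup p _) (h D hD.isPGroup hb) ξ)

theorem vanish (h : CharT p G) {χ : Irr G} (hχ : ¬ SB M (irrOne G) χ) {g : G}
    (hg : p ∣ orderOf g) : χ.1 g = 0 := eq_zero_of_defect_zero M (defect_zero h hχ) hg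

variable (M) in
/-- a non-principal character of the principal block, of degree prime to `p`, not vanishing at a
given `p`-regular element -/
theorem exists_principal (hd : p ∣ Nat.card G) {x : G} (hx : ¬ p ∣ orderOf x) :
    ∃ χ : Irr G, SB M (irrOne G) χ ∧ χ ≠ irrOne G ∧ ¬ p ∣ deg χ ∧ χ.1 x ≠ 0 := by
  classical
  obtain ⟨y, hy⟩ := exists_prime_orderOf_dvd_card' p hd
  have hy' : PElt p y := ⟨1, by rw [hy, pow_one]⟩
  by_contra hc
  push Not at hc
  have h := weak_block_orth (fb_mem_ZS (M := M) (irrOne G)) (x := x) hx (y := y⁻¹)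
    (by rw [orderOf_inv, hy])
  rw [← Finset.add_sum_erase _ _ (Finset.mem_univ (irrOne G))] at h
  have h2 : ∑ χ ∈ Finset.univ.erase (irrOne G),
      ind (blockOf M (irrOne G).1) χ * (χ.1 x * conj (χ.1 y⁻¹)) ∈ Pm M := by
    refine sum_mem fun χ hχ => ?_
    rw [ind_apply]
    split_ifs with h1
    · by_cases h3 : p ∣ deg χ
      · rw [one_mul, H4.Cfsg.IsIrrCharacter.apply_inv χ.2 y, Complex.conj_conj]
        refine Pm_mul_left (irr_mem_S χ x) ?_
        have h4 := char_sub_pr_mem (p := p) (M := M) χ.2.isCharacter y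
        rw [pr_of_pElt hy', ← deg_eq] at h4
        exact mem_Pm_of_sub h4 (natCast_mem_Pm.2 h3)
      · rw [hc χ h1 (Finset.ne_of_mem_erase hχ) h3]; simp [(Pm M).zero_mem]
    · simp [(Pm M).zero_mem]
  rw [ind_of_mem (self_mem_blockOf _)] at h
  simp only [irrOne_apply, map_one, mul_one] at h
  rw [← eq_neg_iff_add_eq_zero] at h
  exact one_notMem_Pm (M := M) (h ▸ neg_mem h2)

theorem notMem_of_pElt {χ : Irr G} (hd : ¬ p ∣ deg χ) {y : G} (hy : PElt p y) : χ.1 y ∉ Pm M := by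
  have h4 := char_sub_pr_mem (p := p) (M := M) χ.2.isCharacter y
  rw [pr_of_pElt hy, ← deg_eq] at h4
  exact notMem_Pm_of_sub h4 fun h => hd (natCast_mem_Pm.1 h)

end

variable {p q r a b : ℕ}

theorem fact_third (hq : q.Prime) (hr : r.Prime) (hp : p.Prime) (hqp : q ≠ p) (hrp : r ≠ p) :
    (q ^ a * r ^ b * p).factorization p = 1 := by
  rw [Nat.factorization_mul (mul_pos (pow_pos hq.pos _) (pow_pos hr.pos _)).ne' hp.ne_zero,
    Nat.factorization_mul (pow_pos hq.pos _).ne' (pow_pos hr.pos _).ne', hq.factorization_pow,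
    hr.factorization_pow, hp.factorization]
  simp only [Finsupp.coe_add, Pi.add_apply, Finsupp.single_eq_of_ne hqp.symm,
    Finsupp.single_eq_of_ne hrp.symm, Finsupp.single_eq_same, zero_add]

theorem fact_first (hq : q.Prime) (hr : r.Prime) (hp : p.Prime) (hqp : q ≠ p) (hqr : q ≠ r) :
    (q ^ a * r ^ b * p).factorization q = a := by
  rw [Nat.factorization_mul (mul_pos (pow_pos hq.pos _) (pow_pos hr.pos _)).ne' hp.ne_zero,
    Nat.factorization_mul (pow_pos hq.pos _).ne' (pow_pos hr.pos _).ne', hq.factorization_pow,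
    hr.factorization_pow, hp.factorization]
  simp only [Finsupp.coe_add, Pi.add_apply, Finsupp.single_eq_of_ne hqp,
    Finsupp.single_eq_of_ne hqr, Finsupp.single_eq_same, add_zero]

/-- a character of `q`-power degree in the principal `r`-block, outside the principal `q`-block,
not vanishing at the element `x` of order `p` -/
theorem exists_pow [IsSimpleGroup G] (hG : ¬ IsMulCommutative G) (hq : q.Prime) (hr : r.Prime)
    (hp : p.Prime) (hqp : q ≠ p) (hrp : r ≠ p) (hcard : Nat.card G = q ^ a * r ^ b * p)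
    (hd : r ∣ Nat.card G) (Mq Mr : Ideal AlgInt) [PM q Mq] [PM r Mr] {x : G} (hx : orderOf x = p) :
    ∃ χ : Irr G, SB Mr (irrOne G) χ ∧ ¬ SB Mq (irrOne G) χ ∧ ¬ r ∣ deg χ ∧ χ.1 x ≠ 0 ∧
      ∃ k ≤ a, deg χ = q ^ k := by
  have := Fact.mk hp
  have := Fact.mk hq
  have := Fact.mk hr
  obtain ⟨M', hM'⟩ := H18.exists_PM hp
  obtain ⟨χ, c1, c2, c3, c4⟩ := exists_principal Mr hd (x := x)
    (by rw [hx]; exact fun h => hrp ((Nat.prime_dvd_prime_iff_eq hr hp).1 h))
  have c5 : ¬ p ∣ deg χ := fun h => c4 (eq_zero_of_defect_zero M' (by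
    rw [hcard, fact_third hq hr hp hqp hrp]
    exact (hp.dvd_iff_one_le_factorization (deg_ne_zero χ)).1 h) (by rw [hx]))
  have c6 : deg χ ∣ q ^ a := by
    have h3 := deg_dvd_card χ
    rw [hcard] at h3
    exact (Nat.Coprime.pow_right b ((Nat.Prime.coprime_iff_not_dvd hr).2 c3).symm).dvd_of_dvd_mul_right
      (((Nat.Prime.coprime_iff_not_dvd hp).2 c5).symm.dvd_of_dvd_mul_right h3)
  obtain ⟨k, hk1, hk⟩ := (Nat.dvd_prime_pow hq).1 c6
  exact ⟨χ, c1, fun h => c2 (eq_irrOne_of_deg_pow hG h hk), c3, c4, k, hk1, hk⟩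

/-- the Steinberg-like character of degree `q ^ a` -/
theorem exists_st [IsSimpleGroup G] (hG : ¬ IsMulCommutative G) (hq : q.Prime) (hr : r.Prime)
    (hp : p.Prime) (hqp : q ≠ p) (hrp : r ≠ p) (hqr : q ≠ r)
    (hcard : Nat.card G = q ^ a * r ^ b * p) (hd : r ∣ Nat.card G) (hc : CharT q G)
    (Mr : Ideal AlgInt) [PM r Mr] {x : G} (hx : orderOf x = p) :
    ∃ χ : Irr G, SB Mr (irrOne G) χ ∧ deg χ = q ^ a ∧ χ.1 x ≠ 0 ∧
      (∀ g, q ∣ orderOf g → χ.1 g = 0) ∧ ∀ y, PElt r y → χ.1 y ∉ Pm Mr := by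
  have := Fact.mk hq
  have := Fact.mk hr
  obtain ⟨Mq, hM⟩ := H18.exists_PM hq
  obtain ⟨χ, c1, c2, c3, c4, k, hk, c5⟩ := exists_pow hG hq hr hp hqp hrp hcard hd Mq Mr hx
  have c6 := defect_zero hc c2
  rw [hcard, fact_first hq hr hp hqp hqr, c5, hq.factorization_pow, Finsupp.single_eq_same] at c6
  exact ⟨χ, c1, by rw [c5, le_antisymm hk c6], c4, fun g hg => vanish hc c2 hg,
    fun y hy => notMem_of_pElt c3 hy⟩

/-- characteristic `q` type kills `O_{r'}(C(y))` for every nontrivial `r`-element `y` -/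
theorem core_bot [IsSimpleGroup G] (hG : ¬ IsMulCommutative G) (hq : q.Prime) (hr : r.Prime)
    (hp : p.Prime) (hqp : q ≠ p) (hrp : r ≠ p) (hqr : q ≠ r)
    (hcard : Nat.card G = q ^ a * r ^ b * p) (hc : CharT q G) {y : G} (hy : PElt r y)
    (h1 : y ≠ 1) : centralizerPPrimeCore r y = ⊥ := by
  have := Fact.mk hp
  have := Fact.mk hq
  have := Fact.mk hr
  obtain ⟨Mr, hM⟩ := H18.exists_PM hr
  obtain ⟨x, hx⟩ := exists_prime_orderOf_dvd_card' (G := G) p (hcard ▸ dvd_mul_left _ _)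
  have hry : r ∣ orderOf y := hy.dvd_orderOf h1
  obtain ⟨χ, c1, -, -, c4, c5⟩ := exists_st hG hq hr hp hqp hrp hqr hcard
    (hry.trans (orderOf_dvd_natCard y)) hc Mr hx
  rw [eq_bot_iff]
  intro s hs
  have e1 := Cfsg.Agent.S0942.result r Mr hM.out y hy s hs χ c1
  obtain ⟨s, hs', rfl⟩ := hs
  have reg : ¬ r ∣ orderOf (s : G) := by
    rw [Subgroup.orderOf_coe]; exact reg_of_mem (H2.not_dvd_card_pPrimeCore r _) hs'
  have hcm : Commute y s := (H17.mem_centralizer_singleton.mp s.2).symm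
  obtain ⟨k, hk⟩ := id hy
  have ho : orderOf (y * s) = orderOf y * orderOf (s : G) :=
    hcm.orderOf_mul_eq_mul_orderOf_of_coprime (by
      rw [hk]; exact Nat.Coprime.pow_left _ ((Nat.Prime.coprime_iff_not_dvd hr).2 reg))
  rw [mem_bot]
  change (s : G) = 1
  by_contra s1
  obtain ⟨l, hl, hls⟩ := Nat.exists_prime_and_dvd (n := orderOf (s : G))
    (fun h => s1 (orderOf_eq_one_iff.1 h))
  have hlG : l ∣ q ^ a * r ^ b * p := hcard ▸ hls.trans (orderOf_dvd_natCard _)
  have hl' : l ∣ orderOf (y * s) := ho ▸ hls.mul_left _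
  rcases (hl.dvd_mul).1 hlG with h | h
  · rcases (hl.dvd_mul).1 h with h | h
    · obtain rfl := (Nat.prime_dvd_prime_iff_eq hl hq).1 (hl.dvd_of_dvd_pow h)
      have e2 : χ.1 (y * s) = χ.1 y := e1
      exact ne_zero_of_notMem_Pm (c5 y hy) (e2 ▸ c4 _ hl')
    · obtain rfl := (Nat.prime_dvd_prime_iff_eq hl hr).1 (hl.dvd_of_dvd_pow h)
      exact reg hls
  · obtain rfl := (Nat.prime_dvd_prime_iff_eq hl hp).1 h
    exact not_dvd_orderOf_of_three_primes hG hr hq hl hrp hqp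
      (by rw [hcard, mul_comm (q ^ a)]) (g := y * s) (ho ▸ hry.mul_right _) hl'

/-- the block `ST` -/
theorem st_core [IsSimpleGroup G] (hG : ¬ IsMulCommutative G) (hp : p.Prime) (h5 : 5 ≤ p)
    (hcard : Nat.card G = p * 3 ^ a * 2 ^ b) (hc : IsCharacteristicTwoType G) {y : G}
    (hy : ∃ k, orderOf y = 3 ^ k) (h1 : y ≠ 1) : centralizerPPrimeCore 3 y = ⊥ :=
  core_bot (q := 2) (r := 3) (a := b) (b := a) hG Nat.prime_two Nat.prime_three hp (by omega)
    (by omega) (by omega) (by rw [hcard]; ring) (charT_of hc) hy h1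

/-- a `2`-subgroup normal in `C(y)` is trivial -/
theorem st_nml [IsSimpleGroup G] (hG : ¬ IsMulCommutative G) (hp : p.Prime) (h5 : 5 ≤ p)
    (hcard : Nat.card G = p * 3 ^ a * 2 ^ b) (hc : IsCharacteristicTwoType G) {y : G}
    (hy : ∃ k, orderOf y = 3 ^ k) (h1 : y ≠ 1) {Q : Subgroup G} (hQ : ¬ 3 ∣ Nat.card Q)
    (hle : Q ≤ centralizer ({y} : Set G)) (hn : centralizer ({y} : Set G) ≤ normalizer (Q : Set G)) :
    Q = ⊥ := by
  rw [eq_bot_iff, ← st_core hG hp h5 hcard hc hy h1]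
  intro g hg
  refine ⟨⟨g, hle hg⟩, ?_, rfl⟩
  have hN : (Q.subgroupOf (centralizer ({y} : Set G))).Normal :=
    (normal_subgroupOf_iff_le_normalizer hle).2 hn
  refine le_sSup (a := Q.subgroupOf (centralizer ({y} : Set G)))
    (s := {N : Subgroup ↥(centralizer ({y} : Set G)) | N.Normal ∧ (Nat.card N).Coprime 3})
    ⟨hN, ?_⟩ (mem_subgroupOf.2 hg)
  rw [Nat.card_congr (subgroupOfEquivOfLe hle).toEquiv]
  exact ((Nat.Prime.coprime_iff_not_dvd Nat.prime_three).2 hQ).symm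

end H18.K3
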