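import Mathlib
import Cfsg.Agent.H18.K3St
import Cfsg.Agent.H26.S01a
import Cfsg.Agent.S0144

/-!
# Simple groups of order `q^a r^b p`: characteristic `q` type implies characteristic `r` type
-/

set_option autoImplicit false
set_option linter.unusedSectionVars false

open Cfsg H24 H26 Subgroup

namespace H18.K3

universe u

variable {G : Type u} [Group G] [Finite G] {p q r a b : ℕ} {H T : Subgroup G} {x : G}

theorem sol_of_not_dvd (hq : q.Prime) (hr : r.Prime) (hp : p.Prime)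
    (hcard : Nat.card G = q ^ a * r ^ b * p) (h : ¬ p ∣ ♯H) : Sol H := by
  have h1 : ♯H ∣ q ^ a * r ^ b :=
    ((Nat.Prime.coprime_iff_not_dvd hp).2 h).symm.dvd_of_dvd_mul_right
      (hcard ▸ card_subgroup_dvd_card H)
  obtain ⟨m, n, hm, hn, e⟩ := exists_dvd_and_dvd_of_dvd_mul h1
  obtain ⟨i, -, rfl⟩ := (Nat.dvd_prime_pow hq).1 hm
  obtain ⟨j, -, rfl⟩ := (Nat.dvd_prime_pow hr).1 hn
  exact Cfsg.Agent.S0144.result q r i j hq hr e

/-- a nontrivial element of order prime to `p` has a `p'`-centraliser -/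
theorem not_dvd_C [IsSimpleGroup G] (hG : ¬ IsMulCommutative G) (hq : q.Prime) (hr : r.Prime)
    (hp : p.Prime) (hqp : q ≠ p) (hrp : r ≠ p) (hcard : Nat.card G = q ^ a * r ^ b * p)
    (h1 : x ≠ 1) (hx : ¬ p ∣ orderOf x) : ¬ p ∣ ♯C{x} := by
  intro hd
  have := Fact.mk hp
  obtain ⟨⟨y, hy⟩, ho⟩ := exists_prime_orderOf_dvd_card' p hd
  rw [← orderOf_coe] at ho
  simp only at ho
  have h2 : x ∈ zpowers y := by
    rw [← centralizer_eq_zpowers_of_three_primes hG hq hr hp hqp hrp hcard ho]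
    exact mem_C1_comm.1 hy
  have h3 := orderOf_dvd_of_mem_zpowers h2
  rw [ho] at h3
  rcases (Nat.dvd_prime hp).1 h3 with h | h
  · exact h1 (orderOf_eq_one_iff.1 h)
  · exact hx (h ▸ dvd_rfl)

theorem sol_C [IsSimpleGroup G] (hG : ¬ IsMulCommutative G) (hq : q.Prime) (hr : r.Prime)
    (hp : p.Prime) (hqp : q ≠ p) (hrp : r ≠ p) (hcard : Nat.card G = q ^ a * r ^ b * p)
    (h1 : x ≠ 1) (hx : ¬ p ∣ orderOf x) : Sol C{x} :=
  sol_of_not_dvd hq hr hp hcard (not_dvd_C hG hq hr hp hqp hrp hcard h1 hx)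

theorem CharT.le (hc : CharT q G) (hq : q.Prime) (hT : IsPi {q} T) (h1 : T ≠ ⊥) :
    N[T] ⊓ C[O[{q}, N[T]]] ≤ O[{q}, N[T]] := by
  intro g hg
  rw [pcore_singleton hq] at hg ⊢
  refine ⟨⟨g, hg.1⟩, hc T (hT.isPGroup hq) h1 (mem_centralizer_iff.2 fun h hh => ?_), rfl⟩
  exact Subtype.ext (mem_C.1 hg.2 h ⟨h, hh, rfl⟩)

theorem charT_of_le (hq : q.Prime)
    (h : ∀ T : Subgroup G, IsPi {q} T → T ≠ ⊥ → N[T] ⊓ C[O[{q}, N[T]]] ≤ O[{q}, N[T]]) :
    CharT q G := by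
  intro T hT h1 g hg
  have := h T (isPi_of_isPGroup hq hT) h1 (x := g.1) ⟨g.2, by
    rw [pcore_singleton hq]
    refine mem_C.2 ?_
    rintro _ ⟨k, hk, rfl⟩
    exact congrArg Subtype.val (mem_centralizer_iff.1 hg k hk)⟩
  rw [pcore_singleton hq] at this
  obtain ⟨k, hk, e⟩ := this
  rwa [← show k = g from Subtype.ext e]

/-- solvable centralisers without `r'`-core give characteristic `r` type -/
theorem charT_of_core (hr : r.Prime)
    (h : ∀ y : G, orderOf y = r → Sol C{y} ∧ O[{r}ᶜ, C{y}] = ⊥) : CharT r G := by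
  refine charT_of_le hr fun T hT h1 => ?_
  have := Fact.mk hr
  obtain ⟨z, hz, z1, zc⟩ := H17.exists_center_ne_one (hT.isPGroup hr) h1
  have hZ : T ⊓ C[T] ≠ ⊥ := fun e => z1 (by rw [← mem_bot, ← e]; exact ⟨hz, zc⟩)
  obtain ⟨y, hy, ho⟩ := exists_orderOf_eq hr ((hT.of_le (inf_le_left (b := C[T]))).dvd_card hZ)
  obtain ⟨hs, hO⟩ := h y ho
  have hTM : T ≤ C{y} := mem_C_iff_le_C1.1 hy.2
  have hCM : C[T] ≤ C{y} := fun g hg => mem_C1.2 (mem_C.1 hg y hy.1).symm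
  have h2 := p'core_cent_pgroup_eq_bot hr hT hTM hs hO
  rw [inf_eq_right.2 hCM] at h2
  have hTO : T ≤ O[{r}, N[T]] := pcore_max' hT (norm_self T) le_rfl
  have hn : N[T] ⊓ C[O[{r}, N[T]]] ⊴ N[T] := nml_inf_of_norm (norm_C (pcore_nml _ _).norm)
  have hle : N[T] ⊓ C[O[{r}, N[T]]] ≤ C[T] := inf_le_right.trans (C_anti hTO)
  have h3 : O[{r}ᶜ, N[T] ⊓ C[O[{r}, N[T]]]] = ⊥ := by
    rw [eq_bot_iff, ← h2]
    exact Nml.pcore_le ⟨hle, (C_le_N T).trans hn.norm⟩ _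
  have h4 := cent_sub_pcore hr (hs.of_le (hle.trans hCM)) h3
  exact le_trans (le_inf le_rfl (inf_le_right.trans (C_anti (hn.pcore_le _))))
    (h4.trans (hn.pcore_le _))

theorem core_bot' [IsSimpleGroup G] (hG : ¬ IsMulCommutative G) (hq : q.Prime) (hr : r.Prime)
    (hp : p.Prime) (hqp : q ≠ p) (hrp : r ≠ p) (hqr : q ≠ r)
    (hcard : Nat.card G = q ^ a * r ^ b * p) (hc : CharT q G) (hx : ∃ k, orderOf x = r ^ k)
    (h1 : x ≠ 1) : O[{r}ᶜ, C{x}] = ⊥ := by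
  rw [pcore_compl_singleton hr]
  exact core_bot hG hq hr hp hqp hrp hqr hcard hc hx h1

theorem charT_swap [IsSimpleGroup G] (hG : ¬ IsMulCommutative G) (hq : q.Prime) (hr : r.Prime)
    (hp : p.Prime) (hqp : q ≠ p) (hrp : r ≠ p) (hqr : q ≠ r)
    (hcard : Nat.card G = q ^ a * r ^ b * p) (hc : CharT q G) : CharT r G := by
  refine charT_of_core hr fun y hy => ?_
  have y1 : y ≠ 1 := fun e => hr.one_lt.ne' (by rw [← hy, e, orderOf_one])
  exact ⟨sol_C hG hq hr hp hqp hrp hcard y1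
      (by rw [hy]; exact fun h => hrp ((Nat.prime_dvd_prime_iff_eq hp hr).1 h).symm),
    core_bot' hG hq hr hp hqp hrp hqr hcard hc ⟨1, by rw [hy, pow_one]⟩ y1⟩

/-- the standing hypotheses for `S1000` in characteristic two type -/
structure KT (G : Type u) [Group G] (p a b : ℕ) : Prop where
  simple : IsSimpleGroup G
  na : ¬ IsMulCommutative G
  prime : p.Prime
  five : 5 ≤ p
  card : Nat.card G = p * 3 ^ a * 2 ^ b
  two : IsCharacteristicTwoType G

namespace KT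

theorem card' (h : KT G p a b) : Nat.card G = 2 ^ b * 3 ^ a * p := by rw [h.card]; ring

theorem ne2 (h : KT G p a b) : 2 ≠ p := by have := h.five; omega

theorem ne3 (h : KT G p a b) : 3 ≠ p := by have := h.five; omega

theorem sol (h : KT G p a b) (hH : ¬ p ∣ ♯H) : Sol H :=
  sol_of_not_dvd Nat.prime_two Nat.prime_three h.prime h.card' hH

theorem cent_p (h : KT G p a b) (hx : orderOf x = p) : C{x} = zpowers x :=
  have := h.simple
  centralizer_eq_zpowers_of_three_primes h.na Nat.prime_two Nat.prime_three h.prime h.ne2 h.ne3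
    h.card' hx

theorem not_dvdC (h : KT G p a b) (h1 : x ≠ 1) (hx : ¬ p ∣ orderOf x) : ¬ p ∣ ♯C{x} :=
  have := h.simple
  not_dvd_C h.na Nat.prime_two Nat.prime_three h.prime h.ne2 h.ne3 h.card' h1 hx

theorem solC (h : KT G p a b) (h1 : x ≠ 1) (hx : ¬ p ∣ orderOf x) : Sol C{x} :=
  h.sol (h.not_dvdC h1 hx)

theorem char2 (h : KT G p a b) : CharT 2 G := charT_of h.two

theorem char3 (h : KT G p a b) : CharT 3 G :=
  have := h.simple
  charT_swap h.na Nat.prime_two Nat.prime_three h.prime h.ne2 h.ne3 (by omega) h.card' h.char2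

theorem loc2 (h : KT G p a b) (hT : IsPi {2} T) (h1 : T ≠ ⊥) :
    N[T] ⊓ C[O[{2}, N[T]]] ≤ O[{2}, N[T]] := h.char2.le Nat.prime_two hT h1

theorem loc3 (h : KT G p a b) (hT : IsPi {3} T) (h1 : T ≠ ⊥) :
    N[T] ⊓ C[O[{3}, N[T]]] ≤ O[{3}, N[T]] := h.char3.le Nat.prime_three hT h1

/-- `O_{3'}(C(y)) = 1` for a `3`-element `y ≠ 1` -/
theorem core3 (h : KT G p a b) (hx : ∃ k, orderOf x = 3 ^ k) (h1 : x ≠ 1) : O[{3}ᶜ, C{x}] = ⊥ :=
  have := h.simple
  core_bot' h.na Nat.prime_two Nat.prime_three h.prime h.ne2 h.ne3 (by omega) h.card' h.char2 hx h1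

/-- `O_{2'}(C(t)) = 1` for a `2`-element `t ≠ 1` -/
theorem core2 (h : KT G p a b) (hx : ∃ k, orderOf x = 2 ^ k) (h1 : x ≠ 1) : O[{2}ᶜ, C{x}] = ⊥ :=
  have := h.simple
  core_bot' (q := 3) (r := 2) (a := a) (b := b) h.na Nat.prime_three Nat.prime_two h.prime h.ne3
    h.ne2 (by omega) (by rw [h.card]; ring) h.char3 hx h1

end KT

end H18.K3
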