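import Mathlib
import Cfsg.Agent.H24.Base5
import Cfsg.Agent.H26.Coprime

/-!
# A lemma on orthogonal `𝔽₂`-modules for solvable groups
-/

set_option autoImplicit false
set_option linter.all false

namespace H18.NL

open Subgroup H24

universe u v

variable {W : Type v} [AddCommGroup W] [Finite W] {H : Type u} [Group H] [Finite H] [DistribMulAction H W]

/-- the sum over a subgroup -/
noncomputable def av (K : Subgroup H) (w : W) : W :=
  letI := Fintype.ofFinite K
  ∑ k : K, (k : H) • w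

theorem av_add (K : Subgroup H) (u w : W) : av K (u + w) = av K u + av K w := by
  simp only [av, smul_add, Finset.sum_add_distrib]

theorem av_smul {K : Subgroup H} {h : H} (hh : h ∈ N[K]) (w : W) : av K (h • w) = h • av K w := by
  letI := Fintype.ofFinite K
  simp only [av, Finset.smul_sum, smul_smul]
  refine Fintype.sum_equiv ⟨fun k => ⟨h⁻¹ * k * h, conj_mem' hh k.2⟩, fun k => ⟨h * k * h⁻¹, conj_mem hh k.2⟩,
    fun k => Subtype.ext (by simp [mul_assoc]), fun k => Subtype.ext (by simp [mul_assoc])⟩ _ _ fun k => ?_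
  simp [mul_assoc]

theorem av_mem {K : Subgroup H} {k : H} (hk : k ∈ K) (w : W) : av K (k • w) = av K w := by
  letI := Fintype.ofFinite K
  simp only [av, smul_smul]
  exact Fintype.sum_equiv (Equiv.mulRight ⟨k, hk⟩) _ _ fun _ => rfl

theorem smul_av {K : Subgroup H} {k : H} (hk : k ∈ K) (w : W) : k • av K w = av K w := by
  rw [← av_smul (norm_self K hk), av_mem hk]

theorem odd_nsmul {M : Type*} [AddCommGroup M] (two : ∀ w : M, w + w = 0) {n : ℕ} (hn : Odd n) (w : M) :
    n • w = w := by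
  obtain ⟨k, rfl⟩ := hn
  rw [add_smul, mul_comm, mul_smul, two_smul, two, smul_zero, zero_add, one_smul]

theorem map_av {M : Type*} [AddCommGroup M] (two : ∀ w : M, w + w = 0) {K : Subgroup H} (ho : Odd ♯K)
    (f : W →+ M) {w : W} (h : ∀ k ∈ K, f (k • w) = f w) : f (av K w) = f w := by
  letI := Fintype.ofFinite K
  rw [av, map_sum, Finset.sum_congr rfl fun (k : K) _ => h k k.2, Finset.sum_const, Finset.card_univ,
    ← Nat.card_eq_fintype_card, odd_nsmul two ho]

theorem av_fix (two : ∀ w : W, w + w = 0) {K : Subgroup H} (ho : Odd ♯K) {w : W}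
    (h : ∀ k ∈ K, k • w = w) : av K w = w := map_av two ho (AddMonoidHom.id W) h

theorem av_av (two : ∀ w : W, w + w = 0) {K L : Subgroup H} (ho : Odd ♯K) (h : K ≤ L) (w : W) :
    av L (av K w) = av L w := map_av two ho (AddMonoidHom.mk' (av L) (av_add L)) fun _ hk => av_mem (h hk) w

theorem fix_of_sq {g : H} (ho : Odd (orderOf g)) {w : W} (h : g • g • w = w) : g • w = w := by
  obtain ⟨k, hk⟩ := ho
  have h1 : g * g ∈ MulAction.stabilizer H w := by rw [MulAction.mem_stabilizer_iff, mul_smul, h]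
  have h2 : g * (g * g) ^ k = 1 := by rw [← sq, ← pow_mul, ← pow_succ', ← hk, pow_orderOf_eq_one]
  have h3 := inv_mem (pow_mem h1 k)
  rwa [← eq_inv_of_mul_eq_one_left h2] at h3

/-- an involution inverting a fixed-point-free element acts freely -/
theorem free (X : AddSubgroup W) {g y : H} (ho : Odd (orderOf g)) (two : ∀ w : W, w + w = 0)
    (hg : ∀ w ∈ X, g • w ∈ X) (hg' : ∀ w ∈ X, g⁻¹ • w ∈ X) (hy : ∀ w ∈ X, y • w ∈ X)
    (hi : y * g * y⁻¹ = g⁻¹) (hf : ∀ w ∈ X, g • w = w → w = 0) {n : W} (hn : n ∈ X) (h : y • n = n) :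
    ∃ m ∈ X, n = m + y • m := by
  let L : X →+ X := AddMonoidHom.mk' (fun w => ⟨g • w.1 + g⁻¹ • w.1, add_mem (hg _ w.2) (hg' _ w.2)⟩)
    fun a b => Subtype.ext (by simp only [AddSubgroup.coe_add, smul_add]; abel)
  have h1 : Function.Injective L := (injective_iff_map_eq_zero _).2 fun w hw => by
    have h2 : g • w.1 + g⁻¹ • w.1 = 0 := congrArg Subtype.val hw
    have h3 : g • w.1 = g⁻¹ • w.1 := add_right_cancel (h2.trans (two _).symm)
    exact Subtype.ext (hf _ w.2 (fix_of_sq ho (by rw [h3, smul_inv_smul])))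
  obtain ⟨m, hm⟩ := Finite.surjective_of_injective h1 ⟨n, hn⟩
  have e1 : y * g = g⁻¹ * y := by rw [← hi]; group
  have e2 : y * g⁻¹ = g * y := by
    calc _ = (y * g * y⁻¹)⁻¹ * y := by group
      _ = _ := by rw [hi, inv_inv]
  have h2 : g • m.1 + g⁻¹ • m.1 = n := congrArg Subtype.val hm
  have h3 : (⟨y • m.1, hy _ m.2⟩ : X) = m := h1 (hm ▸ Subtype.ext (by
    show g • y • m.1 + g⁻¹ • y • m.1 = n
    rw [← h, ← h2, smul_add, smul_smul, smul_smul, smul_smul, smul_smul, e1, e2, add_comm]))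
  refine ⟨g • m.1, hg _ m.2, ?_⟩
  rw [smul_smul, e1, mul_smul, show y • m.1 = m.1 from congrArg Subtype.val h3, h2]

theorem z2 (a : ZMod 2) : a + a = 0 := by revert a; decide
theorem z2' {a : ZMod 2} (h : a ≠ 0) : a = 1 := by revert a; decide

/-- the configuration -/
structure St (q : W → ZMod 2) (β : W → W → ZMod 2) (v : W) (D : AddSubgroup W) (A F : Subgroup H) :
    Prop where
  two : ∀ w : W, w + w = 0
  qa : ∀ u w, q (u + w) = q u + q w + β u w
  ba : ∀ u w w', β u (w + w') = β u w + β u w'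
  qi : ∀ (h : H) w, q (h • w) = q w
  vD : v ∈ D
  qD : ∀ d ∈ D, q d = 0
  ex : ∃ x, β v x ≠ 0
  sq : ∀ a ∈ A, a * a = 1
  av : ∀ a ∈ A, a • v = v
  inj : ∀ x, β v x ≠ 0 → ∀ a ∈ A, x + a • x ∈ D → a = 1
  sur : ∀ x, β v x ≠ 0 → ∀ u, β v u = 0 → ∃ a ∈ A, u + (x + a • x) ∈ D
  w1 : ∀ u, β v u = 0 → ∀ a ∈ A, u + a • u ∈ D
  da : ∀ d ∈ D, ∀ a ∈ A, a • d = d ∨ a • d = d + v
  cd : ∀ d ∈ D, (∀ a ∈ A, a • d = d) → d = 0 ∨ d = v
  fn : F.Normal
  fo : Odd ♯F
  nil : Nil F
  fc : ∀ h, (∀ f ∈ F, h * f = f * h) → h ∈ F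
  hyp : ∀ a ∈ A, a ≠ 1 → ∃ B ≤ A, B.relIndex A = 2 ∧ a ∉ B ∧ ∃ f ∈ F, f ≠ 1 ∧ f ∈ C[B] ∧
    ∀ y ∈ A, y ∉ B → y * f * y⁻¹ = f⁻¹
  a4 : ∀ f ∈ F, f • v = v → f = 1
  a6 : ∀ h : H, h • v ∈ D → h • v = v
  gen : ∀ X : AddSubgroup W, (∀ h : H, h • v ∈ X) → ∀ w, w ∈ X

namespace St

variable {q : W → ZMod 2} {β : W → W → ZMod 2} {v : W} {D : AddSubgroup W} {A F : Subgroup H}
  (h : St q β v D A F)
include h

theorem β_eq (u w : W) : β u w = q (u + w) + q u + q w := by
  rw [h.qa]; linear_combination - z2 (q u) - z2 (q w)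
theorem bs (u w : W) : β u w = β w u := by rw [h.β_eq, h.β_eq, add_comm u]; ring
theorem bi (g : H) (u w : W) : β (g • u) (g • w) = β u w := by
  rw [h.β_eq, h.β_eq, ← smul_add, h.qi, h.qi, h.qi]
theorem ba' (u u' w : W) : β (u + u') w = β u w + β u' w := by rw [h.bs, h.ba, h.bs, h.bs w]
theorem b0 (u : W) : β u 0 = 0 := by
  have := h.ba u 0 0
  rw [add_zero] at this
  exact left_eq_add.1 this
theorem bD {d d' : W} (hd : d ∈ D) (hd' : d' ∈ D) : β d d' = 0 := by
  rw [h.β_eq, h.qD _ hd, h.qD _ hd', h.qD _ (add_mem hd hd')]; rfl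
theorem bb (u : W) : β u u = 0 := by
  rw [h.β_eq, h.two, h.qD _ (zero_mem _), zero_add, z2]
theorem ll (u w : W) : u + (u + w) = w := by rw [← add_assoc, h.two, zero_add]
theorem eq_of {u w : W} (e : u + w = 0) : u = w := add_right_cancel (e.trans (h.two w).symm)
theorem inv {a : H} (ha : a ∈ A) : a⁻¹ = a := inv_eq_of_mul_eq_one_left (h.sq a ha)
theorem comm {a b : H} (ha : a ∈ A) (hb : b ∈ A) : a * b = b * a := by
  rw [← h.inv (mul_mem ha hb), mul_inv_rev, h.inv ha, h.inv hb]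
theorem aa {a : H} (ha : a ∈ A) (w : W) : a • a • w = w := by rw [smul_smul, h.sq a ha, one_smul]
theorem bT {a : H} (ha : a ∈ A) (w : W) : β v (w + a • w) = 0 := by
  rw [h.ba, ← h.bi a v w, h.av a ha, z2]
theorem odd {f : H} (hf : f ∈ F) : Odd (orderOf f) := h.fo.of_dvd_nat (F.orderOf_dvd_natCard hf)
theorem not_mem {f : H} (hf : f ∈ F) (h1 : f ≠ 1) : f • v ∉ D := fun e => h1 (h.a4 f hf (h.a6 f e))

/-- the commutator space of `a` -/
theorem T_mem {x : W} (hx : β v x ≠ 0) {a : H} (ha : a ∈ A) (u : W) :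
    u + a • u ∈ D ∨ (u + a • u) + (x + a • x) ∈ D := by
  by_cases hu : β v u = 0
  · exact Or.inl (h.w1 u hu a ha)
  · have := h.w1 (u + x) (by rw [h.ba, z2' hu, z2' hx]; rfl) a ha
    rw [smul_add] at this
    exact Or.inr (by convert this using 1; abel)

theorem eq_of_T {x : W} (hx : β v x ≠ 0) {a b : H} (ha : a ∈ A) (hb : b ∈ A)
    (e : (x + a • x) + (x + b • x) ∈ D) : a = b := by
  have h1 := add_mem e (h.w1 _ (h.bT hb x) a ha)
  have h2 := h.inj x hx (a * b) (mul_mem ha hb) (by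
    rw [smul_add, smul_smul] at h1
    convert h1 using 1
    rw [show x + a • x + (x + b • x) + (x + b • x + (a • x + (a * b) • x)) =
      x + (a * b) • x + ((x + x) + (a • x + a • x) + (b • x + b • x)) by abel]
    simp [h.two])
  rw [← h.inv ha]; exact inv_eq_of_mul_eq_one_right h2

/-- two elements moving `d` have no common centraliser in `F` -/
theorem cent2 {d : W} {a b f : H} (ha : a ∈ A) (hb : b ∈ A) (hab : a ≠ b) (h1 : a • d = d + v)
    (h2 : b • d = d + v) (hf : f ∈ F) (c1 : a * f = f * a) (c2 : b * f = f * b) : f = 1 := by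
  by_contra h3
  obtain ⟨x, hx⟩ := h.ex
  have key : ∀ a ∈ A, a • d = d + v → a * f = f * a → f • v + (x + a • x) ∈ D := fun a ha h1 c1 => by
    have e : f • d + a • f • d = f • v := by rw [smul_smul, c1, mul_smul, h1, smul_add, h.ll]
    have := h.T_mem hx ha (f • d)
    rw [e] at this
    exact this.resolve_left (h.not_mem hf h3)
  have := add_mem (key a ha h1 c1) (key b hb h2 c2)
  rw [add_add_add_comm, h.two, zero_add] at this
  exact hab (h.eq_of_T hx ha hb this)

/-- the case of a four-group -/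
theorem four {d : W} (hd : d ∈ D) (d0 : d ≠ 0) (dv : d ≠ v) {b y g : H} (hb : b ∈ A) (hy : y ∈ A) (b1 : b ≠ 1)
    (y1 : y ≠ 1) (hby : b ≠ y) (hA : ∀ a ∈ A, a = 1 ∨ a = b ∨ a = y ∨ a = b * y)
    (hC : F ⊓ C[A] = ⊥) (hg : g ∈ Z[F]) (g1 : g ≠ 1) (bg : b * g = g * b) : False := by
  have two := h.two
  have := h.fn
  have og := h.odd hg.1
  have oK : Odd ♯(zpowers g) := by rwa [Nat.card_zpowers]
  have yg : y * g * y⁻¹ = g⁻¹ := by
    have h1 : y * g * y⁻¹ ∈ F := h.fn.conj_mem _ hg.1 _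
    have h2 : g * (y * g * y⁻¹) = y * g * y⁻¹ * g := (mem_C.1 hg.2 _ h1).symm
    have h3 : y * (g * (y * g * y⁻¹)) = g * (y * g * y⁻¹) * y := by
      calc _ = y * g * y⁻¹ * (y * y) * g * y⁻¹ := by group
        _ = _ := by rw [h.sq y hy, mul_one, ← h2]; congr 1; exact h.inv hy
    have h4 : b * (g * (y * g * y⁻¹)) = g * (y * g * y⁻¹) * b :=
      (Commute.mul_right bg (((Commute.mul_right (h.comm hb hy) bg)).mul_right
        (Commute.inv_right (h.comm hb hy)))).eq
    have h5 : g * (y * g * y⁻¹) ∈ F ⊓ C[A] := ⟨mul_mem hg.1 h1, mem_C.2 fun a ha => by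
      rcases hA a ha with rfl | rfl | rfl | rfl
      · simp
      · exact h4
      · exact h3
      · exact Commute.mul_left h4 h3⟩
    rw [hC] at h5
    exact eq_inv_of_mul_eq_one_right h5
  have nA : A ≤ N[zpowers g] := fun a ha => by
    have k1 : b ∈ N[zpowers g] := norm_zpowers_of_cent le_rfl (mem_C1.2 bg)
    have k2 : y ∈ N[zpowers g] := by
      rw [mem_N_iff_cj, cj_zpowers, yg, zpowers_inv]
    rcases hA a ha with rfl | rfl | rfl | rfl
    exacts [one_mem _, k1, k2, mul_mem k1 k2]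
  have nF : ∀ f ∈ F, f * g = g * f := fun f hf => mem_C.1 hg.2 f hf
  have fixK : ∀ w : W, g • w = w → ∀ k ∈ zpowers g, k • w = w := fun w hw k hk =>
    (zpowers_le (H := MulAction.stabilizer H w)).2 hw hk
  have NC : ∀ w : W, NL.av (zpowers g) w = 0 → g • w = w → w = 0 := fun w h1 h2 => by
    rw [← av_fix two oK (fixK w h2), h1]
  have pr : ∀ w : W, NL.av (zpowers g) (w + NL.av (zpowers g) w) = 0 := fun w => by
    rw [av_add, av_av two oK le_rfl, two]
  -- `v` lies in `[W, g]`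
  have hv : NL.av (zpowers g) v = 0 := by
    have fa : ∀ a ∈ A, a • NL.av (zpowers g) v = NL.av (zpowers g) v := fun a ha => by
      rw [← av_smul (nA ha), h.av a ha]
    let X : AddSubgroup W :=
      { carrier := {w | NL.av (zpowers g) w = 0 ∧ b • w = w}
        zero_mem' := ⟨av_fix two oK fun _ _ => smul_zero _, smul_zero _⟩
        add_mem' := fun h1 h2 => ⟨by rw [av_add, h1.1, h2.1, add_zero], by rw [smul_add, h1.2, h2.2]⟩
        neg_mem' := fun {w} h1 => by rwa [neg_eq_of_add_eq_zero_left (two w)] }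
    have hX : ∀ a ∈ N[zpowers g], b * a = a * b → ∀ w ∈ X, a • w ∈ X := fun a ha e w hw =>
      ⟨by rw [av_smul ha, hw.1, smul_zero], by rw [smul_smul, e, mul_smul, hw.2]⟩
    obtain ⟨m, hm, e⟩ := free X og two (hX g (norm_self _ (mem_zpowers g)) bg)
      (hX g⁻¹ (norm_self _ (inv_mem (mem_zpowers g))) (Commute.inv_right bg)) (hX y (nA hy) (h.comm hb hy)) yg
      (fun w hw => NC w hw.1) (n := v + NL.av (zpowers g) v)
      ⟨pr v, by rw [smul_add, h.av b hb, fa b hb]⟩ (by rw [smul_add, h.av y hy, fa y hy])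
    have m1 : β v m = 0 := by
      by_contra m1
      exact b1 (h.inj m m1 b hb (by rw [hm.2, two]; exact zero_mem _))
    have k := add_mem h.vD (e ▸ h.w1 m m1 y hy)
    rw [h.ll] at k
    refine (h.cd _ k fa).resolve_right fun k1 => g1 (h.a4 g hg.1 ?_)
    rw [← k1, smul_av (mem_zpowers g)]
  have C1 : ∀ c : W, g • c = c → β v c = 0 := fun c hc => by
    rw [h.bs, ← h.b0 c, ← hv]
    exact (map_av z2 oK (AddMonoidHom.mk' (β c) (h.ba c)) fun k hk => by
      show β c (k • v) = β c v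
      rw [← h.bi k c v, fixK c hc k hk]).symm
  obtain ⟨x, hx, xN⟩ : ∃ x, β v x ≠ 0 ∧ NL.av (zpowers g) x = 0 := by
    obtain ⟨x, hx⟩ := h.ex
    exact ⟨_, by rwa [h.ba, C1 _ (smul_av (mem_zpowers g) x), add_zero], pr x⟩
  have TN : ∀ a ∈ A, ∀ w : W, NL.av (zpowers g) w = 0 → NL.av (zpowers g) (w + a • w) = 0 := fun a ha w hw => by
    rw [av_add, av_smul (nA ha), hw, smul_zero, add_zero]
  have AC : ∀ c : W, g • c = c → ∀ a ∈ A, a • c = c := fun c hc a ha => by
    obtain ⟨a', ha', e⟩ := h.sur x hx c (C1 c hc)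
    have k1 := TN a ha _ (TN a' ha' x xN)
    have k2 : NL.av (zpowers g) ((c + (x + a' • x)) + a • (c + (x + a' • x))) = 0 := by
      rcases h.da _ e a ha with k | k
      · rw [k, two]; exact av_fix two oK fun _ _ => smul_zero _
      · rw [k, h.ll, hv]
    rw [smul_add, add_add_add_comm, av_add, k1, add_zero] at k2
    refine (h.eq_of (NC _ k2 ?_)).symm
    rw [← av_fix two oK (fixK c hc), ← av_smul (nA ha), ← av_add, smul_av (mem_zpowers g)]
  have FC : ∀ c : W, g • c = c → ∀ f ∈ F, f • c = c := by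
    let K : Subgroup H :=
      { carrier := {k | ∀ c : W, g • c = c → k • c = c}
        one_mem' := fun c _ => one_smul _ c
        mul_mem' := fun h1 h2 c hc => by rw [mul_smul, h2 c hc, h1 c hc]
        inv_mem' := fun h1 c hc => inv_smul_eq_iff.2 (h1 c hc).symm }
    have k1 : ⁅F, A⁆ ≤ K := commutator_le.2 fun f hf a ha c hc => by
      rw [commutatorElement_def, mul_smul, mul_smul, mul_smul, AC c hc _ (inv_mem ha),
        AC (f⁻¹ • c) (by rw [smul_smul, ← nF _ (inv_mem hf), mul_smul, hc]) a ha, smul_inv_smul]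
    have k2 : IsPGroup 2 A := fun a => ⟨1, Subtype.ext (by simpa [pow_two] using h.sq a a.2)⟩
    obtain ⟨n, hn⟩ := IsPGroup.iff_card.1 k2
    have k3 := (H26.coprime_cent_prod (norm_of_normal A F)
      (hn ▸ (Nat.Coprime.pow_right n (Odd.coprime_two_right h.fo))) h.nil.sol).sup_eq
    rw [hC, sup_bot_eq] at k3
    exact fun c hc f hf => k1 (k3.ge hf) c hc
  have C0 : ∀ c : W, g • c = c → c = 0 := fun c hc => by
    let X : AddSubgroup W := (AddMonoidHom.mk' (NL.av F) (av_add F)).ker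
    have := h.gen X (fun k => by
      show NL.av F (k • v) = 0
      rw [av_smul (norm_of_normal ⊤ F trivial), ← av_av two oK (zpowers_le.2 hg.1), hv,
        av_fix two h.fo fun _ _ => smul_zero _, smul_zero]) c
    rw [← av_fix two h.fo (FC c hc)]
    exact this
  have Ty : ∀ u, β v u = 0 → u + y • u = 0 ∨ u + y • u = v := fun u hu => by
    obtain ⟨a, ha, e⟩ := h.sur x hx u hu
    have k1 : (x + a • x) + y • (x + a • x) = 0 ∨ (x + a • x) + y • (x + a • x) = v := by
      have k2 : y • ((x + a • x) + y • (x + a • x)) = (x + a • x) + y • (x + a • x) := by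
        rw [smul_add, h.aa hy, add_comm]
      have k3 : a • (x + a • x) = x + a • x := by rw [smul_add, h.aa ha, add_comm]
      have k4 : a • ((x + a • x) + y • (x + a • x)) = (x + a • x) + y • (x + a • x) := by
        rw [smul_add, smul_smul, h.comm ha hy, mul_smul, k3]
      have k5 : a = b ∨ a = b * y → ∀ a' ∈ A, a' ∈ MulAction.stabilizer H ((x + a • x) + y • (x + a • x)) := by
        intro e a' ha'
        have k6 : b ∈ MulAction.stabilizer H ((x + a • x) + y • (x + a • x)) := by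
          rcases e with e | e
          · exact e ▸ k4
          · exact (mul_mem_cancel_right k2).1 (e ▸ k4)
        rcases hA a' ha' with rfl | rfl | rfl | rfl
        exacts [one_mem _, k6, k2, mul_mem k6 k2]
      rcases hA a ha with e | e | e | e
      · left; rw [e, one_smul, two, smul_zero, add_zero]
      · exact h.cd _ (h.w1 _ (h.bT ha x) y hy) (k5 (Or.inl e))
      · left; rw [← e, k3, two]
      · exact h.cd _ (h.w1 _ (h.bT ha x) y hy) (k5 (Or.inr e))
    have k2 : u + y • u = ((x + a • x) + y • (x + a • x)) + ((u + (x + a • x)) + y • (u + (x + a • x))) := by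
      rw [smul_add y u, add_add_add_comm u, add_left_comm, two, add_zero]
    rw [k2]
    rcases h.da _ e y hy with k | k <;> rcases k1 with k1 | k1 <;> rw [k, k1] <;> simp [two, h.ll]
  have fr : ∀ n : W, n + y • n = 0 → (n = 0 ∨ n = v) ∨ n + (x + y • x) ∈ D := fun n hn => by
    obtain ⟨m, -, e⟩ := free ⊤ og two (fun _ _ => trivial) (fun _ _ => trivial) (fun _ _ => trivial) yg
      (fun w _ => C0 w) (n := n) trivial (h.eq_of hn).symm
    by_cases hm : β v m = 0
    · exact Or.inl (e ▸ Ty m hm)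
    · have := h.w1 (m + x) (by rw [h.ba, z2' hm, z2' hx]; rfl) y hy
      rw [smul_add, add_add_add_comm, ← e] at this
      exact Or.inr this
  have no : ∀ d' ∈ D, ¬ (x + b • x + d') + y • (x + b • x + d') = 0 := fun d' hd' e => by
    rcases fr _ e with k | k
    · refine b1 (h.inj x hx b hb ((add_mem_cancel_right hd').1 ?_))
      rcases k with k | k <;> rw [k]
      exacts [zero_mem _, h.vD]
    · rw [add_right_comm] at k
      exact hby (h.eq_of_T hx hb hy ((add_mem_cancel_right hd').1 k))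
  have kd : d + y • d = v := (Ty d (h.bD h.vD hd)).resolve_left fun e => by
    rcases fr d e with (k | k) | k
    exacts [d0 k, dv k, y1 (h.inj x hx y hy ((add_mem_cancel_left hd).1 k))]
  rcases Ty _ (h.bT hb x) with k | k
  · exact no 0 (zero_mem _) (by rwa [add_zero])
  · exact no d hd (by rw [smul_add y _ d, add_add_add_comm, k, kd, two])

/-- the case of a group of order two -/
theorem one {d : W} (hd : d ∈ D) (d0 : d ≠ 0) (dv : d ≠ v) {a : H} (ha : a ∈ A) (a1 : a ≠ 1)
    (hA : ∀ b ∈ A, b = 1 ∨ b = a) : False := by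
  have two := h.two
  have cd : ∀ e ∈ D, a • e = e → e = 0 ∨ e = v := fun e he h1 => h.cd e he fun b hb => by
    rcases hA b hb with rfl | rfl
    exacts [one_smul _ _, h1]
  have ad : a • d = d + v := (h.da d hd a ha).resolve_left fun e => (cd d hd e).elim d0 dv
  have dw : ∀ x, β v x ≠ 0 → β d (x + a • x) = 1 := fun x hx => by
    rw [h.ba, ← h.bi a d (a • x), h.aa ha, ad, h.ba', ← add_assoc, z2, zero_add, z2' hx]
  have vd : β v d = 0 := h.bD h.vD hd
  have dv' : β d v = 0 := h.bD hd h.vD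
  obtain ⟨x, hx, dx, qx⟩ : ∃ x, β v x ≠ 0 ∧ β d x = 0 ∧ q x = 0 := by
    obtain ⟨x, hx, dx⟩ : ∃ x, β v x ≠ 0 ∧ β d x = 0 := by
      obtain ⟨x, hx⟩ := h.ex
      by_cases e : β d x = 0
      · exact ⟨x, hx, e⟩
      · exact ⟨x + (x + a • x), by rwa [h.ba, h.bT ha, add_zero], by rw [h.ba, dw x hx, z2' e, z2]⟩
    by_cases e : q x = 0
    · exact ⟨x, hx, dx, e⟩
    · exact ⟨v + x, by rwa [h.ba, h.bb, zero_add], by rw [h.ba, dx, dv', add_zero],
        by rw [h.qa, h.qD v h.vD, z2' e, z2' hx]; rfl⟩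
  obtain ⟨w, hw⟩ : ∃ w, w = x + a • x := ⟨_, rfl⟩
  have vx := z2' hx
  have vw : β v w = 0 := hw ▸ h.bT ha x
  have dw' : β d w = 1 := hw ▸ dw x hx
  have wD : w ∉ D := fun e => a1 (h.inj x hx a ha (hw ▸ e))
  have wx : β w x = q w := by rw [hw, h.ba', h.bb, h.qa, h.qi, z2, h.bs]
  let c : Bool × Bool × Bool × Bool → W := fun l =>
    cond l.1 v 0 + (cond l.2.1 d 0 + (cond l.2.2.1 w 0 + cond l.2.2.2 x 0))
  have cD : ∀ e ∈ D, ∃ i j : Bool, e = cond i v 0 + cond j d 0 := fun e he => by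
    rcases h.da e he a ha with k | k
    · rcases cd e he k with k | k
      exacts [⟨false, false, by simp [k]⟩, ⟨true, false, by simp [k]⟩]
    · rcases cd (e + d) (add_mem he hd) (by rw [smul_add, k, ad, add_add_add_comm, two, add_zero]) with k | k
      · exact ⟨false, true, by simp [h.eq_of k]⟩
      · exact ⟨true, true, by simp [← k, add_assoc, two]⟩
  have c1 : ∀ u, β v u = 0 → ∃ i j k : Bool, u = cond i v 0 + (cond j d 0 + cond k w 0) := fun u hu => by
    obtain ⟨b, hb, e⟩ := h.sur x hx u hu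
    obtain ⟨i, j, e'⟩ := cD _ e
    rcases hA b hb with rfl | rfl
    · exact ⟨i, j, false, by simpa [two] using e'⟩
    · exact ⟨i, j, true, by rw [← add_assoc, ← e', ← hw]; simp [add_assoc, two]⟩
  have sur : Function.Surjective c := fun u => by
    by_cases hu : β v u = 0
    · obtain ⟨i, j, k, e⟩ := c1 u hu
      exact ⟨(i, j, k, false), by simp [c, e]⟩
    · obtain ⟨i, j, k, e⟩ := c1 (u + x) (by rw [h.ba, z2' hu, vx]; rfl)
      exact ⟨(i, j, k, true), by simp only [c, cond_true, ← add_assoc] at e ⊢; rw [← e, add_assoc, two, add_zero]⟩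
  have b0' : ∀ u, β 0 u = 0 := fun u => by rw [h.bs, h.b0]
  have qv := h.qD v h.vD
  have qd := h.qD d hd
  have q0 := h.qD 0 (zero_mem _)
  have qc : ∀ l, q (c l) = cond l.2.2.1 (q w + cond l.2.1 1 0 + cond l.2.2.2 (q w) 0) 0 +
      cond (l.1 && l.2.2.2) 1 0 := by
    rintro ⟨_ | _, _ | _, _ | _, _ | _⟩ <;>
      simp [c, h.qa, h.ba, vd, vw, vx, dw', dx, wx, qv, qd, qx, q0] <;> ring
  have dc : ∀ l, β d (c l) = cond l.2.2.1 1 0 := by
    rintro ⟨_ | _, _ | _, _ | _, _ | _⟩ <;> simp [c, h.ba, dv', dw', dx, h.bb, h.b0]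
  have st : ∀ g ∈ F, g • d = d → g = 1 := fun g hg e => by
    by_contra g1
    have key : ∀ g ∈ F, g ≠ 1 → g • d = d → g • v = x ∨ g • v = d + x := fun g hg g1 e => by
      obtain ⟨l, hl⟩ := sur (g • v)
      have k1 := qc l
      have k2 := dc l
      have k3 := h.not_mem hg g1
      rw [hl, h.qi, qv] at k1
      rw [hl, ← e, h.bi, dv'] at k2
      rw [← hl] at k3 ⊢
      revert k1 k2 k3
      rcases l with ⟨_ | _, _ | _, _ | _, _ | _⟩ <;> simp [c, h.vD, hd, add_mem h.vD hd]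
    have g2 : g * g ≠ 1 := fun e2 => g1 (h.a4 g hg (fix_of_sq (h.odd hg) (by rw [smul_smul, e2, one_smul])))
    have k : g • (v + g • v) = 0 ∨ g • (v + g • v) = g • d := by
      rw [smul_add, smul_smul, e]
      rcases key g hg g1 e with k | k <;>
        rcases key _ (mul_mem hg hg) g2 (by rw [mul_smul, e, e]) with k' | k' <;> rw [k, k'] <;>
          simp [two, add_comm d, h.ll, add_assoc, add_left_comm d]
    refine h.not_mem hg g1 ((add_mem_cancel_left h.vD).1 ?_)
    rcases k with k | k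
    · rw [(smul_eq_zero_iff_eq g).1 k]; exact zero_mem _
    · rw [MulAction.injective g k]; exact hd
  have hc : 2 * ♯F ≤ 9 := by
    let T := {l : Bool × Bool × Bool × Bool // cond l.2.2.1 (q w + cond l.2.1 1 0 + cond l.2.2.2 (q w) 0) 0 +
      cond (l.1 && l.2.2.2) 1 0 = 0 ∧ l ≠ (false, false, false, false)}
    have hT : Nat.card T = 9 := by
      simp only [T]
      generalize q w = α
      rw [Nat.card_eq_fintype_card]
      revert α; decide
    have v0 : v ≠ 0 := fun e => hx (by rw [e, b0'])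
    let φ : Bool × F → T := fun p => ⟨Function.surjInv sur (p.2.1 • cond p.1 d v), by
      rw [← qc, Function.surjInv_eq sur, h.qi]; cases p.1 <;> assumption, fun e => by
        have := Function.surjInv_eq sur (p.2.1 • cond p.1 d v)
        rw [e] at this
        have k : cond p.1 d v = 0 := (smul_eq_zero_iff_eq p.2.1).1 (by simpa [c] using this.symm)
        revert k
        cases p.1 <;> assumption⟩
    have key : ∀ f g : F, f.1 • v ≠ g.1 • d := fun f g e => by
      have k : (g.1⁻¹ * f.1) • v = d := by rw [mul_smul, e, inv_smul_smul]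
      exact dv (k.symm.trans (h.a6 _ (k ▸ hd)))
    have hφ : Function.Injective φ := by
      rintro ⟨i, f⟩ ⟨j, g⟩ e
      have k : f.1 • cond i d v = g.1 • cond j d v :=
        Function.injective_surjInv sur (congrArg (fun t : T => t.1) e)
      have k' : ∀ u : W, f.1 • u = g.1 • u → (g.1⁻¹ * f.1) • u = u := fun u e => by
        rw [mul_smul, e, inv_smul_smul]
      have hm := mul_mem (inv_mem g.2) f.2
      cases i <;> cases j
      · rw [Subtype.ext (inv_mul_eq_one.1 (h.a4 _ hm (k' v k)))]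
      · exact absurd k (key f g)
      · exact absurd k.symm (key g f)
      · rw [Subtype.ext (inv_mul_eq_one.1 (st _ hm (k' d k)))]
    have := Nat.card_le_card_of_injective φ hφ
    rwa [hT, Nat.card_prod, Nat.card_eq_fintype_card, Fintype.card_bool] at this
  obtain ⟨B, -, -, aB, f, hf, f1, -, hi⟩ := h.hyp a ha a1
  have af := hi a ha aB
  have f2 : f * f ≠ 1 := fun e2 => f1 (h.a4 f hf (fix_of_sq (h.odd hf) (by rw [smul_smul, e2, one_smul])))
  have hF : ∀ g ∈ F, g = 1 ∨ g = f ∨ g = f⁻¹ := fun g hg => by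
    by_contra hn
    simp only [not_or] at hn
    have k : ({g, 1, f, f⁻¹} : Set H) ⊆ F := by
      rintro _ (rfl | rfl | rfl | rfl)
      exacts [hg, one_mem _, hf, inv_mem hf]
    have k1 : _ ≤ ♯F := Set.ncard_le_ncard k
    rw [Set.ncard_insert_of_notMem (by simp [hn]), Set.ncard_eq_three.2 ⟨1, f, f⁻¹, f1.symm,
      (inv_ne_one.2 f1).symm, fun e => f2 (mul_eq_one_iff_eq_inv.2 e), rfl⟩] at k1
    obtain ⟨n, hn⟩ := h.fo
    omega
  have ff : f * f = f⁻¹ := ((hF _ (mul_mem hf hf)).resolve_left f2).resolve_left fun e => f1 (mul_eq_left.1 e)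
  have orb : ∀ k : H, k • v = v ∨ k • v = f • v ∨ k • v = f⁻¹ • v := fun k => by
    have key : ∀ k : H, k * f * k⁻¹ = f → k ∈ F := fun k e => h.fc k fun g hg => by
      have e' : k * f = f * k := mul_inv_eq_iff_eq_mul.1 e
      rcases hF g hg with rfl | rfl | rfl
      exacts [by simp, e', Commute.inv_right e']
    obtain ⟨g, hg, e⟩ : ∃ g ∈ F, k • v = g • v := by
      rcases hF _ (h.fn.conj_mem f hf k) with e | e | e
      · exact absurd (conj_eq_one_iff.1 e) f1
      · exact ⟨k, key k e, rfl⟩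
      · refine ⟨k * a, key _ ?_, by rw [mul_smul, h.av a ha]⟩
        calc _ = k * (a * f * a⁻¹) * k⁻¹ := by group
          _ = (k * f * k⁻¹)⁻¹ := by rw [af]; group
          _ = f := by rw [e, inv_inv]
    rcases hF g hg with rfl | rfl | rfl
    exacts [Or.inl (e.trans (one_smul _ _)), Or.inr (Or.inl e), Or.inr (Or.inr e)]
  have tf : f • (v + f • v + f⁻¹ • v) = v + f • v + f⁻¹ • v := by
    rw [smul_add, smul_add, smul_smul, ff, smul_inv_smul]; abel
  have tv : β (v + f • v + f⁻¹ • v) v = 0 := by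
    rw [h.ba', h.ba', h.bb, ← h.bi f (f⁻¹ • v), smul_inv_smul, h.bs v, zero_add, z2]
  have t0 : ∀ u, β (v + f • v + f⁻¹ • v) u = 0 :=
    h.gen (AddMonoidHom.mk' (β _) (h.ba _)).ker fun k => by
      show β _ _ = 0
      rcases orb k with e | e | e <;> rw [e]
      · exact tv
      · rw [← tf, h.bi, tv]
      · rw [← h.bi f, tf, smul_inv_smul, tv]
  have t1 : v + f • v + f⁻¹ • v = 0 := by
    obtain ⟨l, hl⟩ := sur (v + f • v + f⁻¹ • v)
    rw [← hl] at t0 ⊢
    have k1 := t0 v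
    have k2 := t0 d
    have k3 := t0 w
    have k4 := t0 x
    revert k1 k2 k3 k4
    rcases l with ⟨_ | _, _ | _, _ | _, _ | _⟩ <;>
      simp [c, h.ba', vd, vw, vx, dv', dw', dx, h.bb, h.bs w v, h.bs w d, h.bs x v, h.bs x d]
  let X : AddSubgroup W :=
    { carrier := {u | u ∈ D ∨ u + f • v ∈ D}
      zero_mem' := Or.inl (zero_mem _)
      add_mem' := by
        rintro u u' (h1 | h1) (h2 | h2)
        · exact Or.inl (add_mem h1 h2)
        · exact Or.inr (add_assoc u _ _ ▸ add_mem h1 h2)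
        · exact Or.inr (add_right_comm u _ _ ▸ add_mem h1 h2)
        · have := add_mem h1 h2
          rw [add_add_add_comm, two, add_zero] at this
          exact Or.inl this
      neg_mem' := fun {u} h1 => by rwa [neg_eq_of_add_eq_zero_left (two u)] }
  have hX := h.gen X fun k => by
    rcases orb k with e | e | e <;> rw [e]
    · exact Or.inl h.vD
    · exact Or.inr (by rw [two]; exact zero_mem _)
    · exact Or.inr (by rw [add_comm, ← h.eq_of ((add_assoc v _ _).symm.trans t1)]; exact h.vD)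
  have k1 := h.bD h.vD ((hX w).resolve_left wD)
  have k2 := h.bD h.vD ((hX x).resolve_left fun e => hx (h.bD h.vD e))
  rw [h.ba, vw, zero_add] at k1
  rw [h.ba, k1, add_zero] at k2
  exact hx k2

theorem main {d : W} (hd : d ∈ D) : d = 0 ∨ d = v := by
  by_contra hn
  obtain ⟨d0, dv⟩ := not_or.1 hn
  have two := h.two
  obtain ⟨a, ha, ad⟩ : ∃ a ∈ A, a • d ≠ d := by
    by_contra k
    push Not at k
    exact hn (h.cd d hd k)
  have a1 : a ≠ 1 := fun e => ad (by rw [e, one_smul])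
  have mv : ∀ b ∈ A, b • d ≠ d → b • d = d + v := fun b hb => (h.da d hd b hb).resolve_left
  have v0 : d + v ≠ d := fun e => ad ((mv a ha ad).trans e)
  by_cases h0 : ∀ b ∈ A, b • d = d → b = 1
  · refine h.one hd d0 dv ha a1 fun b hb => ?_
    by_cases e : b • d = d
    · exact Or.inl (h0 b hb e)
    · have := h0 (b * a) (mul_mem hb ha) (by
        rw [mul_smul, mv a ha ad, smul_add, mv b hb e, h.av b hb, add_assoc, two, add_zero])
      exact Or.inr ((eq_inv_of_mul_eq_one_left this).trans (h.inv ha))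
  push Not at h0
  obtain ⟨a0, ha0, a0d, a01⟩ := h0
  obtain ⟨B, hB, h2, aB, f, hf, f1, fB, -⟩ := h.hyp a0 ha0 a01
  have idx : ∀ x ∈ A, x ∉ B → x * a0 ∈ B := fun x hx hx' => by
    have := (mul_mem_iff_of_index_two (H := B.subgroupOf A) h2 (a := ⟨x, hx⟩) (b := ⟨a0, ha0⟩)).2
      (iff_of_false hx' aB)
    exact this
  obtain ⟨b, hb, bd⟩ : ∃ b ∈ B, b • d = d + v := by
    by_cases e : a ∈ B
    · exact ⟨a, e, mv a ha ad⟩
    · exact ⟨_, idx a ha e, by rw [mul_smul, a0d, mv a ha ad]⟩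
  have b1 : b ≠ 1 := fun e => v0 (by rw [← bd, e, one_smul])
  have hB' : ∀ c ∈ B, c = 1 ∨ c = b := fun c hc => by
    by_contra k
    obtain ⟨k1, k2⟩ := not_or.1 k
    rcases h.da d hd c (hB hc) with e | e
    · exact f1 (h.cent2 (hB (mul_mem hb hc)) (hB hb) (fun e => k1 (mul_eq_left.1 e))
        (by rw [mul_smul, e, bd]) bd hf (mem_C.1 fB _ (mul_mem hb hc)) (mem_C.1 fB _ hb))
    · exact f1 (h.cent2 (hB hc) (hB hb) k2 e bd hf (mem_C.1 fB _ hc) (mem_C.1 fB _ hb))
  have hA : ∀ c ∈ A, c = 1 ∨ c = b ∨ c = a0 ∨ c = b * a0 := fun c hc => by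
    by_cases e : c ∈ B
    · exact (hB' c e).imp_right Or.inl
    · refine Or.inr (Or.inr ((hB' _ (idx c hc e)).imp (fun k => ?_) fun k => ?_))
      · exact (eq_inv_of_mul_eq_one_left k).trans (h.inv ha0)
      · rw [← k, mul_assoc, h.sq a0 ha0, mul_one]
  have ba : b ≠ a0 := fun e => aB (e ▸ hb)
  have hb' := hB hb
  have hC : F ⊓ C[A] = ⊥ := eq_bot_iff.2 fun g hg => h.cent2 (mul_mem hb' ha0) hb'
    (fun e => a01 (mul_eq_left.1 e)) (by rw [mul_smul, a0d, bd]) bd hg.1
    (mem_C.1 hg.2 _ (mul_mem hb' ha0)) (mem_C.1 hg.2 _ hb')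
  have := h.fn
  obtain ⟨⟨g, hg⟩, g1⟩ := ne_bot_iff_exists_ne_one.1 (h.nil.center_ne_bot fun e => f1 (mem_bot.1 (e ▸ hf)))
  have g1 : g ≠ 1 := fun e => g1 (Subtype.ext e)
  have key : ∀ c ∈ A, c * g * c⁻¹ = g⁻¹ ∨ ∃ g' ∈ Z[F], g' ≠ 1 ∧ c * g' = g' * c := fun c hc => by
    have k := conj_mem (norm_Z (norm_of_normal A F) hc) hg
    refine (eq_or_ne (g * (c * g * c⁻¹)) 1).imp eq_inv_of_mul_eq_one_right fun e => ⟨_, mul_mem hg k, e, ?_⟩
    calc _ = c * g * c⁻¹ * (c * c) * g * c⁻¹ := by group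
      _ = _ := by rw [h.sq c hc, mul_one, mem_C.1 hg.2 _ k.1]; congr 1; exact h.inv hc
  have cm := h.comm hb' ha0
  rcases key b hb' with k1 | ⟨g', k1, k2, k3⟩
  · rcases key a0 ha0 with k2 | ⟨g', k2, k3, k4⟩
    · refine h.four hd d0 dv (mul_mem hb' ha0) ha0
        (fun e => ba ((eq_inv_of_mul_eq_one_left e).trans (h.inv ha0))) a01 (fun e => b1 (mul_eq_right.1 e))
        (fun c hc => ?_) hC hg g1 ?_
      · rw [mul_assoc, h.sq a0 ha0, mul_one]
        have := hA c hc
        tauto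
      · calc _ = b * (a0 * g * a0⁻¹) * b⁻¹ * (b * a0) := by group
          _ = (b * g * b⁻¹)⁻¹ * (b * a0) := by rw [k2]; group
          _ = _ := by rw [k1, inv_inv]
    · refine h.four hd d0 dv ha0 hb' a01 b1 ba.symm (fun c hc => ?_) hC k2 k3 k4
      rw [← cm]
      have := hA c hc
      tauto
  · exact h.four hd d0 dv hb' ha0 b1 a01 ba hA hC k1 k2 k3

end St

end H18.NL
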