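import Cfsg.Agent.H18.NO3

/-!
# N-groups, case II: the extraspecial configuration of order `32`, second part
-/

set_option autoImplicit false
set_option linter.unusedSectionVars false

namespace H18.NO

open Subgroup Cfsg H24 H11.ZN H12.NG

universe u

variable {G : Type u} [Group G] [Finite G] {V V₁ H M S W K : Subgroup G} {𝓦 : Set (Subgroup G)}
  {a b d f k m r s u v w x y z ζ : G}

/-- `⟨a⟩ C_V(a)` -/
def Ea (V : Subgroup G) (a : G) : Subgroup G := (V ⊓ C{a}) ⊔ zpowers a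

theorem cj_Ea (g : G) (V : Subgroup G) (a : G) : cj g (Ea V a) = Ea (cj g V) (g * a * g⁻¹) := by
  rw [Ea, Ea, cj_sup, cj_inf, cj_C1, cj_zpowers]

theorem le_Ea : V ⊓ C{a} ≤ Ea V a := le_sup_left

theorem self_Ea : a ∈ Ea V a := (le_sup_right : zpowers a ≤ _) (mem_zpowers a)

theorem Ea_aux : zpowers a ≤ C[V ⊓ C{a}] := zpowers_le.2 (mem_C_iff_le_C1.2 inf_le_right)

theorem mem_Ea (a2 : a * a = 1) (hx : x ∈ Ea V a) : x ∈ V ⊓ C{a} ∨ x * a ∈ V ⊓ C{a} := by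
  obtain ⟨u, hu, b, hb, rfl⟩ := (mem_sup_of_norm (norm_of_cent Ea_aux)).1 hx
  rcases (H3.NG.mem_zp2 a2).1 hb with rfl | rfl
  · exact Or.inl (by simpa using hu)
  · exact Or.inr (by rwa [H3.NG.mmr a2])

theorem Ea_inf (a2 : a * a = 1) (ha : a ∉ V) : Ea V a ⊓ V = V ⊓ C{a} := by
  refine le_antisymm (fun x hx => (mem_Ea a2 (mem_inf.1 hx).1).resolve_right fun e => ha ?_)
    (le_inf le_Ea inf_le_left)
  simpa using mul_mem (inv_mem (mem_inf.1 hx).2) (mem_inf.1 e).1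

theorem card_Ea (a2 : a * a = 1) (ha : a ∉ V) : ♯(Ea V a) = ♯(V ⊓ C{a}) * 2 := by
  rw [Ea, card_sup_of_inf (norm_of_cent Ea_aux), H3.NG.card_zp2 a2 (by rintro rfl; exact ha (one_mem _))]
  refine inf_eq_bot_of fun x hx e => ((H3.NG.mem_zp2 a2).1 e).resolve_right ?_
  rintro rfl
  exact ha (mem_inf.1 hx).1

theorem ea_Ea (hV : EA V) (a2 : a * a = 1) : EA (Ea V a) := by
  refine H3.NG.ea_of_sq fun x hx => ?_
  rcases mem_Ea a2 hx with e | e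
  · exact H3.NG.ea_sq hV (mem_inf.1 e).1
  · have e1 := H3.NG.ea_sq hV (mem_inf.1 e).1
    have e2 : x * a = a * x := by
      have := mem_C1.1 (mem_inf.1 e).2
      rw [← mul_assoc] at this
      exact mul_right_cancel this
    calc x * x = x * (a * a) * x := by rw [a2]; group
      _ = x * a * (a * x) := by group
      _ = 1 := by rw [← e2, e1]

namespace X3

variable (h : X3 S M V 𝓦 H V₁ v f z)
include h

theorem a2 (ha : a ∈ cj f V₁) : a * a = 1 := H3.NG.ea_sq h.ea' (h.AV ha)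
theorem aV (ha : a ∈ cj f V₁) (a1 : a ∉ zpowers z) : a ∉ V := fun e => a1 (h.mD e (h.AV ha))
theorem aC (ha : a ∈ cj f V₁) (a1 : a ∉ zpowers z) : a ∉ C[V] := fun e => a1 (h.mD' (h.AV ha) e)

theorem memY (hy : y ∈ V₁ ⊔ cj f V₁) : ∃ x ∈ V₁, ∃ a ∈ cj f V₁, y = x * a := (mem_sup_of_norm h.AN1).1 hy
theorem YQ : V₁ ⊔ cj f V₁ ≤ Q2 H := sup_le h.V1Q h.AQ
theorem QY : Q2 H ≤ N[V₁ ⊔ cj f V₁] := norm_sup (h.QS.trans h.SN1) h.QNA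
theorem YC (hy : y ∈ V₁ ⊔ cj f V₁) (hc : y ∈ C[V₁]) : y ∈ V₁ := by
  obtain ⟨x, hx, a, ha, rfl⟩ := h.memY hy
  have : a ∈ C[V₁] := by simpa using mul_mem (inv_mem (C_anti h.lc.le (h.abl.le_C (h.lc.le hx)))) hc
  exact mul_mem hx (h.DV1 (h.mD' (h.AV ha) (h.cenV1 (h.AM ha) this)))

theorem cardE (ha : a ∈ cj f V₁) (a1 : a ∉ zpowers z) : ♯(Ea V a) = 8 := by
  rw [card_Ea (h.a2 ha) (h.aV ha a1), (h.CVa ha a1).1]

theorem VNE (ha : a ∈ cj f V₁) : V ≤ N[Ea V a] := by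
  refine le_N_iff.2 fun w hw => ?_
  suffices Ea V a ≤ cj w⁻¹ (Ea V a) from fun x hx => by simpa using mem_cj.1 (this hx)
  refine sup_le (fun x hx => mem_cj.2 ?_) (zpowers_le.2 (mem_cj.2 ?_))
  · rw [inv_inv, H3.NG.cjc (h.abl.comm hw (mem_inf.1 hx).1)]
    exact le_Ea hx
  · have e : w * a * w⁻¹ * a⁻¹ ∈ Ea V a := le_Ea (comm1_le_C h.ea (h.AN ha) (by rw [h.a2 ha]; exact one_mem _)
      (H3.NG.cm_mem hw (mem_zpowers a)))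
    simpa using mul_mem e self_Ea

theorem V'NE (ha : a ∈ cj f V₁) (a1 : a ∉ zpowers z) : cj f V ≤ N[Ea V a] := by
  obtain ⟨c1, c2, c3⟩ := h.CVa ha a1
  obtain ⟨u, hu⟩ : ∃ u, u = v * a * v⁻¹ * a⁻¹ := ⟨_, rfl⟩
  have u1 : u ∉ zpowers z := hu ▸ h.phi_ne ha a1
  rw [← hu] at c3
  have b1 : f * v * u * (f * v)⁻¹ ∈ cj f V₁ := h.gV1 ▸ conj_mem_cj (f * v) (c2 c3)
  have b2 : f * v * u * (f * v)⁻¹ ∉ zpowers z := fun e => u1 (h.gD.1 e)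
  have e1 : cj (f * v) (Ea V (f * v * u * (f * v)⁻¹)) = Ea (cj f V) u := by rw [cj_Ea, h.gV, h.ggx]
  have e2 : Ea V a = Ea (cj f V) u := by
    refine eq_of_card_eq (sup_le (fun x hx => ?_) (zpowers_le.2 (le_Ea (mem_inf.2
      ⟨h.AV ha, mem_C1_comm.1 (mem_inf.1 c3).2⟩)))) (by rw [← e1, card_cj, h.cardE ha a1, h.cardE b1 b2])
    have z' : z ∈ Ea (cj f V) u := le_Ea (mem_inf.2 ⟨h.zV', C_le_C1 (mem_inf.1 c3).1 (h.abl.le_C h.zV)⟩)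
    rcases H3.NG.four_cases (ea_le h.ea inf_le_left) c1 (h.zCa ha) c3 h.z1 (fun e => u1 (e ▸ one_mem _))
      (fun e => u1 (e ▸ mem_zpowers z)) hx with rfl | rfl | rfl | rfl
    exacts [one_mem _, z', self_Ea, mul_mem z' self_Ea]
  rw [e2, ← e1, ← h.gV]
  exact norm_cj (h.VNE b1) _

theorem fNE (ha : a ∈ cj f V₁) (a1 : a ∉ zpowers z) : f ∈ N[Ea V a] :=
  sup_le (h.VNE ha) (h.V'NE ha a1) h.lc.f_mem

theorem fQ : zpowers f ≤ N[Q2 H] := zpowers_le.2 (h.HQ h.fH)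
theorem KQ : ⁅Q2 H, zpowers f⁆ ≤ Q2 H := comm_le_left h.fQ

theorem KNE (ha : a ∈ cj f V₁) (a1 : a ∉ zpowers z) : ⁅Q2 H, zpowers f⁆ ≤ N[Ea V a] := by
  refine H3.NG.cm_le fun q hq g hg => mul_mem ?_ (inv_mem (zpowers_le.2 (h.fNE ha a1) hg))
  have := mem_N_cj (zpowers_le.2 (h.fNE (conj_mem' (h.QNA hq) ha) fun e => a1
    ((conj_mem_iff' (norm_zpowers_of_cent le_rfl (h.Sz (h.QS hq)))).1 e)) hg) q
  rw [cj_Ea, cj_of_mem_N (h.SN (h.QS hq))] at this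
  convert this using 3
  group

theorem K_Stab : ⁅Q2 H, zpowers f⁆ ≤ Stab V₁ (zpowers z) := by
  intro k hk
  have kS := h.QS (h.KQ hk)
  refine ⟨h.SN1 kS, fun u hu => ?_⟩
  by_cases u1 : u ∈ zpowers z
  · exact mul_mem (conj_mem (norm_zpowers_of_cent le_rfl (h.Sz kS)) u1) (inv_mem u1)
  obtain ⟨a, ha, a1, c⟩ := h.exists_a hu u1
  refine H3.NG.four_cm (ea_le h.ea inf_le_left) (h.CVa ha a1).1 (h.zCa ha) h.z1 ?_ (h.Sz kS)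
    (mem_inf.2 ⟨h.lc.le hu, c⟩)
  rw [← Ea_inf (h.a2 ha) (h.aV ha a1)]
  exact mem_N_inf (h.KNE ha a1 hk) (h.SN kS)

theorem Ls (hs : s ∈ M) (hz : s ∈ C{z}) (hc : s ∈ Stab V₁ (zpowers z)) : ∃ a ∈ cj f V₁, s * a ∈ C[V] := by
  by_cases e : s ∈ C[V₁]
  · exact ⟨1, one_mem _, by rw [mul_one]; exact h.cenV1 hs e⟩
  have k1 := card_comm1 (h.abl.of_le h.lc.le) hc.1
  have k2 := card_le (comm_le_of_Stab (zpowers_le.2 hc))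
  have k3 := card_lt (lt_of_le_of_ne (inf_le_left : V₁ ⊓ C{s} ≤ V₁) fun e' =>
    e (mem_C_iff_le_C1.2 (e'.ge.trans inf_le_right)))
  rw [h.cardV1] at k1 k3
  rw [h.cardD] at k2
  have k4 : ♯(V₁ ⊓ C{s}) = 4 := by
    obtain ⟨n, hn⟩ : ∃ n, n = ♯⁅V₁, zpowers s⁆ := ⟨_, rfl⟩
    rw [← hn] at k1 k2
    interval_cases n <;> omega
  obtain ⟨u, hu, u0, u1⟩ := H3.NG.four_ex k4 h.z2
  have u2 : u ∉ zpowers z := fun e => ((H3.NG.mem_zp2 h.z2).1 e).elim u0 u1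
  obtain ⟨a, ha, a1, c⟩ := h.exists_a (mem_inf.1 hu).1 u2
  have e1 : V₁ ⊓ C{s} = V ⊓ C{a} := by
    refine eq_of_card_eq (fun x hx => ?_) (k4.trans (h.CVa ha a1).1.symm)
    have u' : u ∈ V ⊓ C{a} := mem_inf.2 ⟨h.lc.le (mem_inf.1 hu).1, c⟩
    rcases H3.NG.four_cases (ea_le h.ea (inf_le_left.trans h.lc.le)) k4
      (mem_inf.2 ⟨h.zV1, mem_C1_comm.1 hz⟩) hu h.z1 u0 (Ne.symm u1) hx with rfl | rfl | rfl | rfl
    exacts [one_mem _, h.zCa ha, u', mul_mem (h.zCa ha) u']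
  refine ⟨a, ha, h.cenV1 (mul_mem hs (h.AM ha)) (mem_C_iff_le_C1.2 fun x hx => ?_)⟩
  by_cases x1 : x ∈ C{s}
  · exact mem_C1_comm.1 (mul_mem (mem_C1_comm.1 x1)
      (mem_C1_comm.1 (mem_inf.1 (e1.le (mem_inf.2 ⟨hx, x1⟩))).2))
  have x2 : x ∉ C{a} := fun e => x1 (mem_inf.1 (e1.ge (mem_inf.2 ⟨h.lc.le hx, e⟩))).2
  have m : ∀ t, t * x * t⁻¹ * x⁻¹ ∈ zpowers z → x ∉ C{t} → t * x * t⁻¹ = z * x := fun t t1 t2 =>
    mul_inv_eq_iff_eq_mul.1 (((H3.NG.mem_zp2 h.z2).1 t1).resolve_left fun e =>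
      t2 (mem_C1_comm.1 (mem_C1_iff_conj.2 (mul_inv_eq_one.1 e))))
  refine mem_C1_comm.1 (mem_C1_iff_conj.2 ?_)
  rw [show s * a * x * (s * a)⁻¹ = s * (a * x * a⁻¹) * s⁻¹ by group, m a (h.cm ha hx) x2, H3.NG.cjm,
    mem_C1_iff_conj.1 hz, m s (hc.2 x hx) x1, H3.NG.mml h.z2]

theorem Ls' (hs : s ∈ N[cj f V]) (hz : s ∈ C{z}) (hc : s ∈ Stab (cj f V₁) (zpowers z)) :
    ∃ x ∈ V₁, s * x ∈ C[cj f V] := by
  obtain ⟨a, ha, e⟩ := h.Ls (s := f * v * s * (f * v)⁻¹) (h.om.nv.ge (h.gV' ▸ mem_N_cj hs (f * v)))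
    (conj_mem (norm_C1 le_rfl h.gz) hz) ⟨h.gA ▸ mem_N_cj hc.1 (f * v), fun x hx => by
      have := h.gD.2 (hc.2 _ (h.gV1 ▸ conj_mem_cj (f * v) hx))
      convert this using 1
      conv_lhs => rw [← h.ggx x]
      group⟩
  refine ⟨_, h.gA ▸ conj_mem_cj (f * v) ha, ?_⟩
  have := mem_C_cj e (f * v)
  rwa [H3.NG.cjm, h.ggx, h.gV] at this

theorem QCV (hr : r ∈ Q2 H) (hc : r ∈ C[V]) : ∃ x ∈ V₁, r * x ∈ C[V ⊔ cj f V] := by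
  obtain ⟨x, hx, e⟩ := h.Ls' (h.QN' hr) (h.Sz (h.QS hr)) ⟨h.QNA hr, fun a ha => h.mD'
    (h.AV (mul_mem (conj_mem (h.QNA hr) ha) (inv_mem ha))) (by
      have := mul_mem hc (conj_mem (N_le_NC V (h.AN ha)) (inv_mem hc))
      convert this using 1
      group)⟩
  exact ⟨x, hx, by rw [C_sup]; exact mem_inf.2 ⟨mul_mem hc (h.abl.le_C (h.lc.le hx)), e⟩⟩

theorem fY : f ∈ N[V₁ ⊔ cj f V₁] := by
  have h1 : f * v ∈ N[V₁ ⊔ cj f V₁] := by rw [mem_N_iff_cj, cj_sup, h.gV1, h.gA, sup_comm]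
  have h2 : v ∈ N[V₁ ⊔ cj f V₁] := mem_N_of_cj_le (by
    rw [cj_sup, cj_of_mem_N h.vN1]
    refine sup_le le_sup_left fun y hy => ?_
    obtain ⟨a, ha, rfl⟩ := mem_cj'.1 hy
    simpa using mul_mem (mem_sup_left (h.lc.phi_mem a ha)) (mem_sup_right ha))
  simpa using mul_mem h1 (inv_mem h2)

theorem cop (ho : Odd (orderOf ζ)) (hK : K ≤ Q2 H) : (♯K).Coprime ♯(zpowers ζ) :=
  ((pcore_pi _ _).of_le hK).coprime (piElt_odd.2 ho).isPi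

theorem solQ (hK : K ≤ Q2 H) : Sol K := h.ch.1.of_le (hK.trans (pcore_le _ _))

theorem K_eq : ⁅Q2 H, zpowers f⁆ = V₁ ⊔ cj f V₁ := by
  refine le_antisymm ?_ ?_
  · rw [← H26.coprime_commGid h.fQ (h.cop h.lc.odd le_rfl) (h.solQ le_rfl)]
    refine comm_le_of_Stab (zpowers_le.2 ⟨norm_comm_right _ _ (mem_zpowers f), fun k hk => ?_⟩)
    have kQ := h.KQ hk
    obtain ⟨a, ha, e⟩ := h.Ls (h.om.le (h.QS kQ)) (h.Sz (h.QS kQ)) (h.K_Stab hk)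
    obtain ⟨x, hx, e'⟩ := h.QCV (mul_mem kQ (h.AQ ha)) e
    have y1 : a * x ∈ V₁ ⊔ cj f V₁ := mul_mem (mem_sup_right ha) (mem_sup_left hx)
    have := conj_mem (h.QY (mul_mem (mul_mem kQ (h.AQ ha)) (h.V1Q hx)))
      (mul_mem (inv_mem (conj_mem h.fY y1)) y1)
    convert this using 1
    calc f * k * f⁻¹ * k⁻¹ = f * (k * a * x) * (a * x)⁻¹ * f⁻¹ * k⁻¹ := by group
      _ = _ := by rw [mem_C.1 e' f h.lc.f_mem]; group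
  · have hv : v ∈ N[⁅Q2 H, zpowers f⁆] := mem_N_comm1 (h.HQ h.vH) (norm_zp_of_inv h.lc.inv)
    have hK : ∀ x ∈ V₁, f * x * f⁻¹ * x⁻¹ ∈ ⁅Q2 H, zpowers f⁆ := fun x hx =>
      H3.NG.cm_symm (H3.NG.cm_mem (h.V1Q hx) (mem_zpowers f))
    have hz : z ∈ ⁅Q2 H, zpowers f⁆ := by
      obtain ⟨a, ha, a1⟩ := h.exists_A
      have p1 := h.lc.phi_mem a ha
      obtain ⟨b, hb, b1⟩ : ∃ b ∈ cj f V₁, b ∉ C{v * a * v⁻¹ * a⁻¹} := SetLike.not_le_iff_exists.1 fun e =>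
        h.phi_ne ha a1 (h.CVA (h.lc.le p1) (mem_C_iff_le_C1.2 e))
      have p2 := h.phi_mem hv hK ha
      rw [← ((H3.NG.mem_zp2 h.z2).1 (h.cm hb p1)).resolve_left fun e =>
        b1 (mem_C1_iff_conj.2 (mul_inv_eq_one.1 e))]
      exact mul_mem (conj_mem (norm_comm_left _ _ (h.AQ hb)) p2) (inv_mem p2)
    have h1 := h.V1_le hv hK hz
    exact sup_le h1 (cj_le_of_mem_N h1 (norm_comm_right _ _ (mem_zpowers f)))

theorem cenY (ho : Odd (orderOf ζ)) (hN : ζ ∈ N[V₁ ⊔ cj f V₁]) (hf : ζ ∈ C{f}) (hz : ζ ∈ C{z})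
    (hu : u ∈ V₁) (u1 : u ∉ zpowers z) (hc : ζ ∈ C{u}) : ζ ∈ C[V₁ ⊔ cj f V₁] := by
  obtain ⟨b, eb⟩ : ∃ b, b = f * u * f⁻¹ := ⟨_, rfl⟩
  have hb : b ∈ cj f V₁ := eb ▸ conj_mem_cj f hu
  have b1 : b ∉ zpowers z := fun e => u1 (h.fD.1 (eb ▸ e))
  have n1 : ∀ {x}, x ∉ zpowers z → x ≠ 1 := fun e e' => e (e' ▸ one_mem _)
  have n2 : ∀ {x}, x ∉ zpowers z → z ≠ x := fun e e' => e (e' ▸ mem_zpowers z)
  have ub : u ∈ V ⊓ C{b} := by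
    obtain ⟨a, ha, a1, c⟩ := h.exists_a hu u1
    have e1 : u ∈ Ea V a := le_Ea (mem_inf.2 ⟨h.lc.le hu, c⟩)
    exact mem_inf.2 ⟨h.lc.le hu, mem_C1.2 (H3.NG.ea_comm (ea_Ea h.ea (h.a2 ha)) e1
      (eb ▸ conj_mem (h.fNE ha a1) e1))⟩
  have c1 : ζ ∈ C[Ea V b] := by
    rw [Ea, C_sup, C_zpowers]
    refine mem_inf.2 ⟨H3.NG.four_cent (ea_le h.ea inf_le_left) (h.CVa hb b1).1 (h.zCa hb) ub h.z1 (n1 u1)
      (n2 u1) (mem_C1.1 hz) (mem_C1.1 hc), ?_⟩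
    have := mem_C1_comm.1 hf
    exact mem_C1_comm.1 (eb ▸ mul_mem (mul_mem this (mem_C1_comm.1 hc)) (inv_mem this))
  have c2 : ∀ y ∈ V₁ ⊔ cj f V₁, y ∈ C[Ea V b] → y ∈ Ea V b := fun y hy hc => by
    obtain ⟨x, hx, a, ha, rfl⟩ := h.memY hy
    have x1 : x ∈ Ea V b := le_Ea (mem_inf.2 ⟨h.lc.le hx, by
      simpa using mul_mem (C_le_C1 self_Ea hc) (inv_mem (C_le_C1 (h.AV hb) (h.abl'.le_C (h.AV ha))))⟩)
    refine mul_mem x1 ?_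
    have a1 : a ∈ cj f V ⊓ C{u} := mem_inf.2 ⟨h.AV ha, by
      simpa using mul_mem (inv_mem (C_le_C1 (h.lc.le hu) (h.abl.le_C (h.lc.le hx)))) (C_le_C1 (le_Ea ub) hc)⟩
    have z' : z ∈ Ea V b := le_Ea (h.zCa hb)
    rcases H3.NG.four_cases (ea_le h.ea' inf_le_left) (h.CVx hu u1)
      (mem_inf.2 ⟨h.zV', C_le_C1 (h.lc.le hu) (h.abl.le_C h.zV)⟩)
      (mem_inf.2 ⟨h.AV hb, mem_C1_comm.1 (mem_inf.1 ub).2⟩) h.z1 (n1 b1) (n2 b1) a1 with rfl | rfl | rfl | rfl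
    exacts [one_mem _, z', self_Ea, mul_mem z' self_Ea]
  have c3 : V₁ ⊔ cj f V₁ ≤ N[Ea V b] := sup_le (h.lc.le.trans (h.VNE hb)) (h.AV.trans (h.V'NE hb b1))
  have c4 : ζ ∈ Stab (V₁ ⊔ cj f V₁) (Ea V b) := by
    refine ⟨hN, fun y hy => c2 _ (mul_mem (conj_mem hN hy) (inv_mem hy)) (mem_C'.2 fun e he => H3.NG.ccj ?_)⟩
    calc _ = ζ * y * (ζ⁻¹ * (y⁻¹ * e * y) * ζ⁻¹⁻¹) * y⁻¹ * ζ⁻¹ := by group
      _ = ζ * e * ζ⁻¹ := by rw [conj_eq_of_mem_C (inv_mem c1) (conj_mem' (c3 hy) he)]; group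
      _ = e := conj_eq_of_mem_C c1 he
  refine zpowers_le.1 (H26.coprime_commGG1P (zpowers_le.2 hN) (h.cop ho h.YQ) (h.solQ h.YQ) (comm_eq_bot.2 ?_))
  exact (comm_le_of_Stab (zpowers_le.2 c4)).trans (cents_symm (zpowers_le.2 c1))

theorem fixu (ho : Odd (orderOf ζ)) (hN : ζ ∈ N[V₁ ⊔ cj f V₁]) (hz : ζ ∈ C{z}) (hK : ζ ∈ N[K]) (h1 : V₁ ≤ K)
    (h2 : ¬ cj f V₁ ≤ K) : ∃ u ∈ V₁, u ∉ zpowers z ∧ ζ ∈ C{u} := by
  have hI := mem_N_inf hN hK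
  have i1 : V₁ ≤ (V₁ ⊔ cj f V₁) ⊓ K := le_inf le_sup_left h1
  by_cases e : (V₁ ⊔ cj f V₁) ⊓ K ≤ V₁
  · rw [le_antisymm e i1] at hI
    obtain ⟨W, hW, -⟩ := h.om.two
    have c1 := card_le_mul_of_relIndex (h.om.W_le hW) h.lc.idx.le
    have c2 := card_lt (lt_of_le_of_ne (inf_le_left : W ⊓ V₁ ≤ W) fun e => h.noW hW (e.ge.trans inf_le_right))
    have c3 := card_dvd (inf_le_left : W ⊓ V₁ ≤ W)
    rw [h.om.card W hW] at c1 c2 c3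
    have c4 : ♯(W ⊓ V₁) = 2 := by
      obtain ⟨n, hn⟩ : ∃ n, n = ♯(W ⊓ V₁) := ⟨_, rfl⟩
      rw [← hn] at c1 c2 c3 ⊢
      interval_cases n <;> omega
    obtain ⟨w, hw, w1⟩ := exists_ne_one (ne_bot_of_prime (c4 ▸ two_prime))
    obtain ⟨W', a1, -, a2⟩ := h.om.exists_other hW
    have m1 := h.om.inter a1 (a2 (mem_inf.1 hw).1) w1 (mem_cj.2 (h.lc.le (conj_mem' hI (mem_inf.1 hw).2)))
    have m2 : ζ ∈ N[W] := by_contra fun e =>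
      e (H3.NG.mem_of_sq ho (h.om.mul_norm_pair h.two hW m1 m1 e e))
    exact ⟨w, (mem_inf.1 hw).2, fun e => w1 (eq_one_of_inf (h.DW hW) e (mem_inf.1 hw).1),
      C_le_C1 hw (mem_C_of_card_le_two (mem_N_inf m2 hI) c4.le)⟩
  obtain ⟨y, hy, y1⟩ := SetLike.not_le_iff_exists.1 e
  obtain ⟨x, hx, a, ha, rfl⟩ := h.memY (mem_inf.1 hy).1
  have a1 : a ∉ zpowers z := fun e => y1 (mul_mem hx (h.DV1 e))
  have a2 : a ∈ (V₁ ⊔ cj f V₁) ⊓ K := by simpa using mul_mem (inv_mem (i1 hx)) hy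
  obtain ⟨c1, c2, c3⟩ := h.CVa ha a1
  have aU : a ∈ C[V ⊓ C{a}] := mem_C_iff_le_C1.2 inf_le_right
  have e1 : ((V₁ ⊔ cj f V₁) ⊓ K) ⊓ C[(V₁ ⊔ cj f V₁) ⊓ K] = V ⊓ C{a} := by
    refine le_antisymm (fun y hy => mem_inf.2 ⟨h.lc.le (h.YC (mem_inf.1 (mem_inf.1 hy).1).1
      (C_anti i1 (mem_inf.1 hy).2)), C_le_C1 a2 (mem_inf.1 hy).2⟩) (le_inf (c2.trans i1) (cents_symm ?_))
    intro y hy
    obtain ⟨x, hx, b, hb, rfl⟩ := h.memY (mem_inf.1 hy).1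
    refine mul_mem (C_anti inf_le_left (h.abl.le_C (h.lc.le hx))) ?_
    have b1 : b ∈ cj f V₁ ⊓ K := mem_inf.2 ⟨hb, by simpa using mul_mem (inv_mem (h1 hx)) (mem_inf.1 hy).2⟩
    have z1 : z ∈ cj f V₁ ⊓ K := mem_inf.2 ⟨h.zA, h1 h.zV1⟩
    have a3 : a ∈ cj f V₁ ⊓ K := mem_inf.2 ⟨ha, (mem_inf.1 a2).2⟩
    have k1 := card_lt (lt_of_le_of_ne (inf_le_left : cj f V₁ ⊓ K ≤ _) fun e => h2 (e.ge.trans inf_le_right))
    have k2 := card_dvd (inf_le_left : cj f V₁ ⊓ K ≤ _)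
    have k3 := card_lt (lt_of_le_of_ne (zpowers_le.2 z1) fun e => a1 (e ▸ a3))
    rw [h.cardA] at k1 k2
    rw [h.cardD] at k3
    have k4 : ♯(cj f V₁ ⊓ K) = 4 := by
      obtain ⟨n, hn⟩ : ∃ n, n = ♯(cj f V₁ ⊓ K) := ⟨_, rfl⟩
      rw [← hn] at k1 k2 k3 ⊢
      interval_cases n <;> omega
    have zU : z ∈ C[V ⊓ C{a}] := C_anti inf_le_left (h.abl.le_C h.zV)
    rcases H3.NG.four_cases (ea_le h.ea' (inf_le_left.trans h.AV)) k4 z1 a3 h.z1 (fun e => a1 (e ▸ one_mem _))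
      (fun e => a1 (e ▸ mem_zpowers z)) b1 with rfl | rfl | rfl | rfl
    exacts [one_mem _, zU, aU, mul_mem zU aU]
  exact ⟨_, c2 c3, h.phi_ne ha a1, C_le_C1 c3 (H3.NG.four_odd (ea_le h.ea inf_le_left) c1 (h.zCa ha) h.z1
    (e1 ▸ mem_N_inf hI (N_le_NC _ hI)) hz ho)⟩

theorem normY (hs : s ∈ S) : s ∈ N[V₁ ⊔ cj f V₁] := by
  by_contra hn
  have sF : Sol (F2 H) := h.ch.1.of_le (F2_le H)
  obtain ⟨L, hL, fL⟩ := H26.Hall_superset sF (zpowers_le.2 h.lc.fF) (piElt_odd.2 h.lc.odd).isPi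
  obtain ⟨g, hg, e⟩ := H26.Hall_Jsub sF hL (zpowers_le.2 ((F2_nml H).conj_mem (h.SH hs) h.lc.fF))
    ((piElt_odd.2 h.lc.odd).conj s).isPi
  have LH : L ≤ H := hL.le.trans (F2_le H)
  obtain ⟨k, hk, q, hq, rfl⟩ := (mem_sup_of_norm' (LH.trans h.HQ)).1
    ((hL.isProd_of_idx (Q2_le_F2 H) (piNat_odd.2 (F2_odd H))).sup_eq.ge hg)
  obtain ⟨t, ht⟩ : ∃ t, t = q * s := ⟨_, rfl⟩
  have tS : t ∈ S := ht ▸ mul_mem (h.QS hq) hs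
  have tn : t ∉ N[V₁ ⊔ cj f V₁] := fun e => hn (by simpa [ht] using mul_mem (inv_mem (h.QY hq)) e)
  have f1 : t * f * t⁻¹ ∈ L := by
    have := conj_mem' (norm_self L hk) (e (conj_mem_cj _ (mem_zpowers _)))
    convert this using 1
    rw [ht]
    group
  have hP : zpowers f ⊔ zpowers (t * f * t⁻¹) ≤ L := sup_le fL (zpowers_le.2 f1)
  have nL : Nil L := nil_of_quo (LH.trans h.HQ) ((pcore_pi _ _).inf_eq_bot hL.pi)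
    ((Fitting_nil _).of_le ((quo_mono _ hL.le).trans (quo_F2 H).le))
  obtain ⟨ζ, hζ, z1⟩ := exists_ne_one ((nL.of_le hP).center_ne_bot (ne_bot_of_mem (mem_sup_left (mem_zpowers f))
    fun e => h.lc.fN (e ▸ one_mem _)))
  obtain ⟨p1, p2⟩ := mem_inf.1 hζ
  rw [C_sup, C_zpowers, C_zpowers] at p2
  obtain ⟨p2, p3⟩ := mem_inf.1 p2
  have ho : Odd (orderOf ζ) := piElt_odd.1 (hL.pi.piElt (hP p1))
  have zQ := h.HQ (LH (hP p1))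
  have tz := h.Sz tS
  have zz : ζ ∈ C{z} := sup_le (zpowers_le.2 h.fz) (zpowers_le.2 (conj_mem (norm_C1 le_rfl tz) h.fz)) p1
  have e1 : cj t (V₁ ⊔ cj f V₁) = ⁅Q2 H, zpowers (t * f * t⁻¹)⁆ := by
    rw [← h.K_eq, cj_comm, cj_zpowers, cj_of_mem_N (h.HQ (h.SH tS))]
  have n1 : ζ ∈ N[V₁ ⊔ cj f V₁] := h.K_eq ▸ mem_N_comm1 zQ (norm_zpowers_of_cent le_rfl p2)
  have n2 : ζ ∈ N[cj t (V₁ ⊔ cj f V₁)] := e1 ▸ mem_N_comm1 zQ (norm_zpowers_of_cent le_rfl p3)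
  have i1 : V₁ ≤ cj t (V₁ ⊔ cj f V₁) := (cj_of_mem_N (h.SN1 tS)).ge.trans (cj_mono t le_sup_left)
  obtain ⟨u, hu, u1, c⟩ := h.fixu ho n1 zz n2 i1 fun e => tn (mem_N_of_le_cj (sup_le i1 e))
  have c1 := h.cenY ho n1 p2 zz hu u1 c
  have cj1 : ∀ {x y}, x ∈ C{y} → t⁻¹ * x * t⁻¹⁻¹ ∈ C{t⁻¹ * y * t⁻¹⁻¹} := fun e => by
    rw [← cj_C1]; exact conj_mem_cj _ e
  have c2 := h.cenY (ζ := t⁻¹ * ζ * t⁻¹⁻¹) (by rwa [orderOf_conj]) (by simpa using mem_N_cj n2 t⁻¹)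
    (by simpa [mul_assoc] using cj1 p3) (conj_mem (norm_C1 le_rfl (inv_mem tz)) zz)
    (conj_mem (inv_mem (h.SN1 tS)) hu)
    (fun e => u1 ((conj_mem_iff (norm_zpowers_of_cent le_rfl (inv_mem tz))).1 e)) (cj1 c)
  have c3 : ζ ∈ C[cj t (V₁ ⊔ cj f V₁)] := by simpa [mul_assoc] using mem_C_cj c2 t
  have c4 : ζ ∈ Stab (Q2 H) ((V₁ ⊔ cj f V₁) ⊔ cj t (V₁ ⊔ cj f V₁)) := by
    refine sup_le (zpowers_le.2 (mem_Stab.2 ⟨h.HQ h.fH, fun x hx => mem_sup_left ?_⟩))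
      (zpowers_le.2 (mem_Stab.2 ⟨h.HQ (LH f1), fun x hx => mem_sup_right ?_⟩)) p1
    · exact H3.NG.cm_symm (h.K_eq ▸ H3.NG.cm_mem hx (mem_zpowers f))
    · exact H3.NG.cm_symm (e1 ▸ H3.NG.cm_mem hx (mem_zpowers _))
  have c5 := H26.coprime_commGG1P (zpowers_le.2 zQ) (h.cop ho le_rfl) (h.solQ le_rfl) (comm_eq_bot.2
    ((comm_le_of_Stab (zpowers_le.2 c4)).trans (cents_symm (zpowers_le.2 (by
      rw [C_sup]; exact mem_inf.2 ⟨c1, c3⟩)))))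
  exact z1 (H3.NG.one_of_odd (pcore_pi _ _) (h.ch.2 (mem_inf.2 ⟨LH (hP p1), zpowers_le.1 c5⟩)) ho)

end X3

end H18.NO
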