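import Cfsg.Agent.H18.NO1
import Cfsg.Agent.H12.NGM
import Cfsg.Agent.H12.NGY

/-!
# N-groups, case II: the components of a reduced module
-/

set_option autoImplicit false

namespace H18.NO

open Subgroup Cfsg H24 H11.ZN H12.NG

universe u

variable {G : Type u} [Group G] [Finite G] {V H A : Subgroup G}

/-- the elements of order three of `F(H)` with commutator space of order four -/
def Om3 (V H : Subgroup G) : Set G := {f | f ∈ F[H] ∧ orderOf f = 3 ∧ ♯⁅V, zpowers f⁆ = 4}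

theorem md_comp (h : Md V H) : ∃ K, K ≤ V ∧ H ≤ N[K] ∧ (∀ f ∈ Om3 V H, f ∈ C[K]) ∧
    (K = ⊥ → ∀ X, (∀ f ∈ Om3 V H, ⁅V, zpowers f⁆ ≤ X) → V ≤ X) := by
  have h1 : closure (Om3 V H) ≤ F[H] := (closure_le _).2 fun f hf => hf.1
  have h2 : closure (Om3 V H) ≤ N[V] := h1.trans ((Fitting_le H).trans h.le)
  refine ⟨V ⊓ C[closure (Om3 V H)], inf_le_left, norm_inf h.le (norm_C (norm_closure ?_)),
    fun f hf => cents_symm inf_le_right (subset_closure hf), fun e X hX => ?_⟩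
  · intro a ha f hf
    refine subset_closure ⟨(Fitting_nml H).conj_mem ha hf.1, by rw [orderOf_conj, hf.2.1], ?_⟩
    rw [← hf.2.2, ← cj_zpowers, ← card_cj a ⁅V, zpowers f⁆, cj_comm, cj_of_mem_N (h.le ha)]
  · have h3 := (odd_dp h.ea h2 (h.odd_F.of_le h1)).isProd.sup_eq
    rw [e, sup_bot_eq] at h3
    rw [← h3]
    refine comm_le_of_Stab ((closure_le _).2 fun f hf => ⟨h.nF hf.1, fun x hx => hX f hf ?_⟩)
    exact (mem_comm1 (H3.NG.ea_abl h.ea) (h.nF hf.1)).2 ⟨x, hx, rfl⟩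

theorem red_comp (h : Red V H) (hs : Sol H) :
    (∀ A ≤ H, (∀ a ∈ A, a * a ∈ C[V]) → ¬ A ≤ C[V] →
      2 * (A ⊓ C[V]).relIndex A * ♯(V ⊓ C[A]) ≤ ♯V ∧
        (4 ≤ (A ⊓ C[V]).relIndex A → 4 * (A ⊓ C[V]).relIndex A * ♯(V ⊓ C[A]) ≤ ♯V)) ∨
    ∃ (𝓦 : Set (Subgroup G)) (K : Subgroup G), 𝓦.Nonempty ∧ Cs V H 𝓦 ∧ K ≤ V ∧ H ≤ N[K] ∧
      (∀ W ∈ 𝓦, ∃ d ∈ H, d ∈ C[Cw 𝓦 W] ∧ W ⊓ C{d} = ⊥ ∧ d ∈ C[K]) ∧ (K = ⊥ → V = sSup 𝓦) := by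
  obtain ⟨Γ, _, _, ι, ρ, hS, hM⟩ := h.exists_md hs
  have hH := h.nml.2
  have hV := H3.NG.ea_abl h.ea
  have cV : ♯ι.range = ♯V := by rw [← img_dom, card_ι hS le_rfl]
  by_cases h0 : ∀ f ∈ F[ρ.range], orderOf f = 3 → ♯⁅ι.range, zpowers f⁆ ≠ 4
  · refine Or.inl fun A hA h2 h3 => ?_
    have := hM.m5 h0 (ea_ρ hS hA h2) (img_le_range ρ A) (fun e => h3 (by
      have := (img_eq_bot hA).1 e
      rw [pre_ρ hS] at this
      exact this.trans inf_le_right))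
    rwa [card_ρ hS hA, ← img_C hS hH hA, card_ι hS inf_le_left, cV] at this
  right
  obtain ⟨K, k1, k2, k3, k4⟩ := md_comp hM
  obtain ⟨𝓦, h𝓦⟩ : ∃ 𝓦 : Set (Subgroup G),
      𝓦 = {W | ∃ d ∈ H, ap ρ d ∈ Om3 ι.range ρ.range ∧ W = ⁅V, zpowers d⁆} := ⟨_, rfl⟩
  have lift : ∀ f ∈ Om3 ι.range ρ.range, ∃ d ∈ H, ap ρ d = f := fun f hf =>
    (mem_img_of_le le_rfl).1 (img_dom ρ ▸ Fitting_le _ hf.1)
  have kV : pre ι K ≤ V := fun x hx => (mem_pre.1 hx).1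
  have ki : img ι (pre ι K) = K := img_pre_of_le k1
  have le : ∀ W ∈ 𝓦, W ≤ V := by
    rw [h𝓦]; rintro _ ⟨d, d1, -, rfl⟩; exact comm1_le (hH d1)
  have cwV : ∀ W, Cw 𝓦 W ≤ V := fun W => Cw_le fun W' h1 _ => le W' h1
  have three : ∀ W ∈ 𝓦, ∃ d ∈ H, d ∈ C[Cw 𝓦 W] ∧ W ⊓ C{d} = ⊥ ∧ d ∈ C[pre ι K] := by
    intro W hW
    rw [h𝓦] at hW
    obtain ⟨d, d1, d2, rfl⟩ := hW
    refine ⟨d, d1, C_Cw fun W' hW' hne => ?_, inf_eq_bot_of fun x hx hc => ?_,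
      (ρ_mem_C hS hH d1 kV).1 (ki.symm ▸ k3 _ d2)⟩
    · rw [h𝓦] at hW'
      obtain ⟨e, e1, e2, rfl⟩ := hW'
      rw [← ρ_mem_C hS hH d1 (comm1_le (hH e1)), img_comm1 hS hH hV e1]
      rcases hM.m4 e2.1 d2.1 e2.2.1 d2.2.1 e2.2.2 d2.2.2 with e' | e'
      · refine absurd (le_antisymm ?_ ?_) hne <;>
          refine ι_le hS (comm1_le (hH ‹_›)) (comm1_le (hH ‹_›)) ?_ <;>
          rw [img_comm1 hS hH hV e1, img_comm1 hS hH hV d1, e']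
      · exact e'.2.2
    · have hxV := comm1_le (hH d1) hx
      refine mem_bot.1 ((hS.ker x hxV).1 (eq_one_of_inf (hM.TI d2.1) ?_ ((comm_iff hS hH d1 hxV).2 hc)))
      rw [← img_comm1 hS hH hV d1]
      exact ap_mem_img ι hx hxV
  refine ⟨𝓦, pre ι K, ?_, ⟨h.ea, le, ?_, ?_, ?_, fun W hW => ?_⟩, kV, fun m hm => ?_, three, fun e => ?_⟩
  · push Not at h0
    obtain ⟨f, f1, f2, f3⟩ := h0
    obtain ⟨d, d1, rfl⟩ := lift f ⟨f1, f2, f3⟩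
    exact ⟨⁅V, zpowers d⁆, by rw [h𝓦]; exact ⟨d, d1, ⟨f1, f2, f3⟩, rfl⟩⟩
  · rw [h𝓦]
    rintro _ ⟨d, d1, d2, rfl⟩
    rw [← card_ι hS (comm1_le (hH d1)), img_comm1 hS hH hV d1, d2.2.2]
  · intro W hW
    have hWV := le W hW
    rw [h𝓦] at hW
    obtain ⟨d, d1, d2, rfl⟩ := hW
    refine inf_eq_bot_of fun x hx hc => mem_bot.1 ((hS.ker x (hWV hx)).1
      (eq_one_of_inf (hM.m4' d2.1 d2.2.1 d2.2.2) ?_ ?_))
    · rw [← img_comm1 hS hH hV d1]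
      exact ap_mem_img ι hx (hWV hx)
    · refine (mem_pre.1 (Cw_le (X := pre ι _) (fun W' hW' hne => ?_) hc)).2
      have hW'V := le W' hW'
      rw [h𝓦] at hW'
      obtain ⟨e, e1, e2, rfl⟩ := hW'
      rw [← img_le_iff hW'V, img_comm1 hS hH hV e1]
      refine le_iSup₂_of_le (f := fun g (_ : g ∈ {g | g ∈ F[ρ.range] ∧ orderOf g = 3 ∧
        ♯⁅ι.range, zpowers g⁆ = 4 ∧ zpowers g ≠ zpowers (ap ρ d)}) => ⁅ι.range, zpowers g⁆) (ap ρ e)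
        ⟨e2.1, e2.2.1, e2.2.2, fun e' => hne (le_antisymm ?_ ?_)⟩ le_rfl <;>
          refine ι_le hS (comm1_le (hH ‹_›)) (comm1_le (hH ‹_›)) ?_ <;>
          rw [img_comm1 hS hH hV e1, img_comm1 hS hH hV d1, e']
  · rw [h𝓦]
    rintro m hm _ ⟨d, d1, d2, rfl⟩
    have m1 : ap ρ m ∈ ρ.range := img_dom ρ ▸ ap_mem_img ρ hm hm
    refine ⟨m * d * m⁻¹, mul_mem (mul_mem hm d1) (inv_mem hm), ?_, by
      rw [cj_comm, cj_of_mem_N (hH hm), cj_zpowers]⟩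
    rw [ap_conj _ hm d1]
    refine ⟨(Fitting_nml _).conj_mem m1 d2.1, by rw [orderOf_conj, d2.2.1], ?_⟩
    rw [← d2.2.2, ← cj_zpowers, ← card_cj (ap ρ m) ⁅ι.range, zpowers (ap ρ d)⁆, cj_comm,
      cj_of_mem_N (hM.le m1)]
  · obtain ⟨d, d1, d2, d3, -⟩ := three W hW
    exact ⟨d, d1, d2, d3⟩
  · refine mem_N_of_cj_le (ι_le hS (cj_le_of_mem_N kV (hH hm)) kV ?_)
    rw [img_cj' hS hH hm kV, ki, cj_of_mem_N (k2 (img_dom ρ ▸ ap_mem_img ρ hm hm))]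
  · refine le_antisymm (ι_le hS le_rfl (sSup_le le) ?_) (sSup_le le)
    rw [img_dom]
    refine k4 (by rw [← ki, e, img_bot]) _ fun f hf => ?_
    obtain ⟨d, d1, rfl⟩ := lift f hf
    rw [← img_comm1 hS hH hV d1]
    exact img_mono ι (le_sSup (h𝓦 ▸ ⟨d, d1, hf, rfl⟩))

theorem red_m6 (h : Red V H) (hs : Sol H) (hA : A ≤ H) (h2 : ∀ a ∈ A, a * a ∈ C[V])
    (h4 : 4 ≤ (A ⊓ C[V]).relIndex A) : ∃ a ∈ A, a ∉ C[V] ∧ ¬ V ⊓ C{a} ≤ C[A] := by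
  obtain ⟨Γ, _, _, ι, ρ, hS, hM⟩ := h.exists_md hs
  have hH := h.nml.2
  obtain ⟨z, hz, z1, e⟩ := hM.m6 (ea_ρ hS hA h2) (img_le_range ρ A) (by rwa [card_ρ hS hA])
  obtain ⟨a, ha, rfl⟩ := (mem_img_of_le hA).1 hz
  refine ⟨a, ha, fun c => z1 ((ρ_eq_one hS (hA ha)).2 c), fun c => e ?_⟩
  rw [← img_C1 hS hH (hA ha)]
  refine (img_mono ι (le_inf inf_le_left c)).trans ?_
  rw [img_C hS hH hA]
  exact inf_le_right

end H18.NO
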