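import Cfsg.Agent.H6.XDefs

/-! Large extraspecial subgroups, unitary case: small tools -/

set_option autoImplicit false

namespace H18.XU

open Subgroup H24 H6.XS

variable {G : Type*} [Group G] {K X Y : Subgroup G} {a b g x y z : G}

theorem cjne (g : G) (h : x ≠ 1) : g * x * g⁻¹ ≠ 1 := fun e => h (conj_eq_one_iff'.1 e)

theorem cjm (g x y : G) : g * (x * y) * g⁻¹ = g * x * g⁻¹ * (g * y * g⁻¹) := by group

theorem cjc (h : g * x = x * g) : g * x * g⁻¹ = x := by rw [h, mul_inv_cancel_right]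

theorem ccj (h : g * x * g⁻¹ = x) : g * x = x * g := mul_inv_eq_iff_eq_mul.1 h

theorem cjinj (h : g * x * g⁻¹ = g * y * g⁻¹) : x = y := mul_left_cancel (mul_right_cancel h)

theorem cjcomm (g : G) (h : x * y = y * x) : g * x * g⁻¹ * (g * y * g⁻¹) = g * y * g⁻¹ * (g * x * g⁻¹) := by
  rw [← cjm, ← cjm, h]

theorem inv_sq (h : x * x = 1) : x⁻¹ = x := inv_eq_of_mul_eq_one_right h

theorem mml (h : x * x = 1) (y : G) : x * (x * y) = y := by rw [← mul_assoc, h, one_mul]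

theorem mmr (h : x * x = 1) (y : G) : y * x * x = y := by rw [mul_assoc, h, mul_one]

theorem mem_zp2 (h : z * z = 1) : x ∈ zpowers z ↔ x = 1 ∨ x = z := by
  refine ⟨?_, by rintro (rfl | rfl); exacts [one_mem _, mem_zpowers _]⟩
  rintro ⟨n, rfl⟩
  obtain ⟨k, rfl | rfl⟩ := Int.even_or_odd' n
  · left; show z ^ (2 * k) = 1; rw [zpow_mul, zpow_two, h, one_zpow]
  · right; show z ^ (2 * k + 1) = z; rw [zpow_add, zpow_mul, zpow_two, h, one_zpow, one_mul, zpow_one]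

theorem card_zp2 (h : z * z = 1) (h1 : z ≠ 1) : Nat.card (zpowers z) = 2 := by
  rw [card_zpowers', orderOf_eq_prime (by rwa [pow_two]) h1]

theorem eq_one_of_inf (h : X ⊓ Y = ⊥) (h1 : x ∈ X) (h2 : x ∈ Y) : x = 1 :=
  mem_bot.1 (h ▸ mem_inf.2 ⟨h1, h2⟩)

theorem inf_eq_bot_of (h : ∀ x ∈ X, x ∈ Y → x = 1) : X ⊓ Y = ⊥ :=
  eq_bot_iff.2 fun x hx => mem_bot.2 (h x (mem_inf.1 hx).1 (mem_inf.1 hx).2)

theorem mem_N_inf (h1 : g ∈ N[X]) (h2 : g ∈ N[Y]) : g ∈ N[X ⊓ Y] :=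
  zpowers_le.1 (norm_inf (zpowers_le.2 h1) (zpowers_le.2 h2))

theorem mem_sup_zp (h : z * z = 1) (hn : z ∈ N[X]) : x ∈ X ⊔ zpowers z ↔ x ∈ X ∨ x * z ∈ X := by
  constructor
  · intro hx
    obtain ⟨u, hu, v, hv, rfl⟩ := (mem_sup_of_norm (zpowers_le.2 hn)).1 hx
    rcases (mem_zp2 h).1 hv with rfl | rfl
    · exact Or.inl (by simpa using hu)
    · exact Or.inr (by rwa [mmr h])
  · rintro (e | e)
    · exact mem_sup_left e
    · simpa using mul_mem (mem_sup_left e) (inv_mem (mem_sup_right (mem_zpowers z)))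

theorem card_sup_zp (h : z * z = 1) (hn : z ∈ N[X]) (hz : z ∉ X) :
    Nat.card ↥(X ⊔ zpowers z) = Nat.card X * 2 := by
  rw [card_sup_of_inf (zpowers_le.2 hn), card_zp2 h (by rintro rfl; exact hz (one_mem _))]
  refine inf_eq_bot_of fun x hx e => ((mem_zp2 h).1 e).resolve_right ?_
  rintro rfl
  exact hz hx

variable [Finite G]

theorem four (h4 : Nat.card K ≤ 4) (ha : a ∈ K) (hb : b ∈ K) (a2 : a * a = 1) (a1 : a ≠ 1) (b1 : b ≠ 1)
    (hab : a ≠ b) (hx : x ∈ K) : x = 1 ∨ x = a ∨ x = b ∨ x = a * b := by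
  have h1 : ({1, a, b, a * b} : Set G) = K := by
    refine Set.eq_of_subset_of_ncard_le (by
      rintro _ (rfl | rfl | rfl | rfl); exacts [one_mem _, ha, hb, mul_mem ha hb]) ?_ (Set.toFinite _)
    have n1 : (1 : G) ≠ a * b := fun e => hab (by rw [← mml a2 b, ← e, mul_one])
    have n2 : a ≠ a * b := fun e => b1 (by simpa using e)
    have n3 : b ≠ a * b := fun e => a1 (by simpa using e)
    rw [Set.ncard_insert_of_notMem (by simp [a1.symm, b1.symm, n1]),
      Set.ncard_insert_of_notMem (by simp [hab, b1]), Set.ncard_pair n3]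
    exact h4
  exact h1.ge hx

theorem four_ex (h4 : 2 < Nat.card K) (h : z * z = 1) : ∃ y ∈ K, y ≠ 1 ∧ y ≠ z := by
  by_contra e
  push Not at e
  have h1 : K ≤ zpowers z := fun y hy => (mem_zp2 h).2 (or_iff_not_imp_left.2 (e y hy))
  have h2 := card_le h1
  have h3 : orderOf z ≤ 2 := Nat.le_of_dvd two_pos (orderOf_dvd_of_pow_eq_one (by rwa [pow_two]))
  rw [card_zpowers'] at h2
  omega

theorem card_le_half (h : X < Y) : 2 * Nat.card X ≤ Nat.card Y := by
  obtain ⟨k, hk⟩ := card_dvd h.le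
  have h1 := card_lt h
  have h2 := card_pos X
  rw [hk] at h1 ⊢
  rcases k with _ | _ | k
  · omega
  · omega
  · nlinarith

end H18.XU
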