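import Mathlib
import Cfsg.Agent.H18.G2520b
import Cfsg.Agent.H7.SL
import Cfsg.Agent.H13.DihMC

/-! Simple groups with a Sylow 2-subgroup of order 8: reductions. -/

set_option autoImplicit false

open Cfsg H24 Subgroup

namespace H18

variable {G : Type*} [Group G] [Finite G]

theorem dihedral_of_card_eight [IsSimpleGroup G] (hG : ¬ IsMulCommutative G) (T : Sylow 2 G)
    (hT : ♯T.1 = 8) (hab : ¬ Abl T.1) : Nonempty (T.1 ≃* DihedralGroup 4) := by
  obtain ⟨u, huT, hu⟩ : ∃ u ∈ T.1, u * u ≠ 1 := by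
    by_contra! h
    refine hab (abl_iff.2 (le_C_iff.2 fun a ha b hb => ?_))
    calc a * b = (a * b)⁻¹ := eq_inv_of_mul_eq_one_left (h _ (mul_mem ha hb))
      _ = b * a := by
        rw [mul_inv_rev, inv_eq_of_mul_eq_one_left (h a ha), inv_eq_of_mul_eq_one_left (h b hb)]
  have hU := zpowers_le.2 huT
  have h4 : orderOf u = 4 := by
    have h1 := orderOf_dvd_card' huT
    have h2 : ¬ orderOf u ∣ 2 := by rwa [orderOf_dvd_iff_pow_eq_one, sq]
    have h3 : orderOf u ≠ 8 := fun e =>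
      hab (eq_of_card_eq hU (by rw [card_zpowers', e, hT]) ▸ abl_zpowers u)
    rw [hT] at h1
    have := Nat.le_of_dvd (by norm_num) h1
    interval_cases orderOf u <;> omega
  have hi : (zpowers u).relIndex T.1 = 2 := by
    have := card_mul_relIndex hU
    rw [card_zpowers', h4, hT] at this
    omega
  have h5 : ∀ w ∈ T.1, w ∉ zpowers u → w * w = 1 := fun w hw h => by
    obtain ⟨c, rfl⟩ := isConj_iff.1 ((dih8 hG T hT huT h4).1 w hw h)
    exact H13.Dih.sq_of (by rw [orderOf_conj, orderOf_sq_four h4])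
  obtain ⟨x, hx, hxu⟩ : ∃ x ∈ T.1, x ∉ zpowers u := by
    by_contra! h
    exact hab ((abl_zpowers u).of_le h)
  refine H13.Dih.ddata_equiv (a := u) (x := x) ⟨h4, ?_, h5 x hx hxu, hxu, fun g => ⟨fun hg => ?_,
    fun hg => hg.elim (@hU g) fun hg => (mul_mem_cancel_left (inv_mem hx)).1 (hU hg)⟩⟩
  · rw [inv_eq_of_mul_eq_one_left (h5 x hx hxu), eq_inv_iff_mul_eq_one, mul_assoc]
    exact h5 _ (mul_mem hx huT) fun h => hxu ((mul_mem_cancel_right (mem_zpowers u)).1 h)
  · refine or_iff_not_imp_left.2 fun h => ?_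
    exact (mul_mem_iff_of_index_two hi (a := ⟨_, inv_mem hx⟩) (b := ⟨g, hg⟩)).2
      (iff_of_false (fun h' => hxu (inv_mem_iff.1 h')) h)

theorem psl_card_eight (T : Sylow 2 G) (hT : ♯T.1 = 8) {F : Type*} [Field F] [Fintype F]
    (e : G ≃* Matrix.ProjectiveSpecialLinearGroup (Fin 2) F) :
    (∀ a, 2 ≤ a → Fintype.card F = 2 ^ a → Fintype.card F = 8) ∧
      (Odd (Fintype.card F) → Fintype.card F % 16 = 7 ∨ Fintype.card F % 16 = 9) := by
  have h1 := H7.card_psl_two (F := F) rfl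
  have h2 := T.not_dvd_index
  have h3 := Fintype.card_pos (α := F)
  rw [← Nat.card_congr e.toEquiv, ← T.1.card_mul_index, hT] at h1
  generalize Fintype.card F = q at *
  generalize T.1.index = m at *
  have h4 : q * (q ^ 2 - 1) + q = q ^ 3 := by
    have : 1 ≤ q ^ 2 := Nat.one_le_pow _ _ h3
    zify [this]; ring
  refine ⟨fun a ha hq => ?_, fun hq => ?_⟩
  · obtain ⟨b, rfl⟩ := Nat.exists_eq_add_of_le ha
    have h5 : q % 2 = 0 := by rw [hq, pow_add]; omega
    have h6 : (q ^ 2 - 1) % 2 = 1 := by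
      have : q ^ 2 % 2 = 0 := by rw [Nat.pow_mod, h5]
      have : 1 ≤ q ^ 2 := Nat.one_le_pow _ _ h3
      omega
    rw [(Nat.coprime_two_left.2 (Nat.odd_iff.2 (by omega)) : Nat.gcd 2 (q - 1) = 1), one_mul] at h1
    generalize q ^ 2 - 1 = r at *
    rcases b with _ | _ | b
    · rw [hq] at h1
      omega
    · rw [hq]; rfl
    · rw [hq, show 2 ^ (2 + (b + 1 + 1)) * r = 16 * (2 ^ b * r) by ring] at h1
      omega
  · have h5 := Nat.odd_iff.1 hq
    rw [Nat.gcd_eq_left (by omega : 2 ∣ q - 1)] at h1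
    have h6 := Nat.pow_mod q 3 32
    have h7 := Nat.mod_lt q (by norm_num : 0 < 32)
    have h8 : q % 16 = q % 32 % 16 := by omega
    have h9 : q % 32 % 2 = 1 := by omega
    have h10 : q ^ 3 % 32 = (16 + q % 32) % 32 := by omega
    rw [h8]
    rw [h6] at h10
    generalize q % 32 = r at *
    interval_cases r <;> omega

end H18
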