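import Mathlib
import Cfsg.Agent.H5.Brauer
import Cfsg.Agent.H24.Base5

/-! Generalized characters built from `p`-parts (applications of Brauer's characterisation). -/

set_option autoImplicit false

namespace H18.WS

open H24 H4 H5 Cfsg Subgroup

universe u

variable {G : Type u} [Group G]

theorem nil_top {E : Type*} [Group E] (h : Group.IsNilpotent E) : Nil (⊤ : Subgroup E) :=
  inferInstance

/-- in a nilpotent group the `π`-part is multiplicative -/
theorem constt_mul_nil {E : Type*} [Group E] [Finite E] (hE : Group.IsNilpotent E) (π : Set ℕ)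
    (x y : E) : constt π (x * y) = constt π x * constt π y := by
  have h := nil_top hE
  have m : ∀ (ρ : Set ℕ) (z : E), constt ρ z ∈ O[ρ, (⊤ : Subgroup E)] := fun ρ z =>
    h.mem_pcore (piElt_constt ρ z) (mem_top _)
  have hc : ∀ {a b : E}, PiElt π a → PiElt πᶜ b → a * b = b * a := fun ha hb =>
    h.comm_of_coprime (mem_top _) (mem_top _) (ha.coprime hb)
  have e : x * y = (constt π x * constt π y) * (constt πᶜ x * constt πᶜ y) := by
    conv_lhs => rw [← constt_mul_constt π x, ← constt_mul_constt π y]
    rw [mul_assoc, mul_assoc, ← mul_assoc (constt πᶜ x),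
      ← hc (piElt_constt π y) (piElt_constt πᶜ x), mul_assoc]
  have h1 := (pcore_pi π (⊤ : Subgroup E)).piElt (mul_mem (m π x) (m π y))
  have h2 := (pcore_pi πᶜ (⊤ : Subgroup E)).piElt (mul_mem (m πᶜ x) (m πᶜ y))
  rw [e]
  exact constt_mul_of h1 h2 (hc h1 h2)

/-- the `π`-part as an endomorphism of a nilpotent group -/
noncomputable def cst {E : Type*} [Group E] [Finite E] (hE : Group.IsNilpotent E) (π : Set ℕ) :
    E →* E := MonoidHom.mk' (constt π) (constt_mul_nil hE π)

@[simp] theorem cst_apply {E : Type*} [Group E] [Finite E] (hE : Group.IsNilpotent E) (π : Set ℕ)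
    (x : E) : cst hE π x = constt π x := rfl

theorem isGen_of_nil [Finite G] {θ : G → ℂ} (hθ : IsClassFunction G θ)
    (h : ∀ E : Subgroup G, Group.IsNilpotent E → IsGeneralizedCharacter E (fun x : E => θ x)) :
    IsGeneralizedCharacter G θ :=
  isGen_of_elem hθ fun E ⟨_, hp, hE⟩ => h E (isNilpotent_of_isElementary hp hE)

/-- a stable generalized character of a Sylow subgroup extends along `p`-parts -/
theorem exists_ext [Finite G] {p : ℕ} (hp : p.Prime) {P : Subgroup G} (hP : Syl p ⊤ P)
    {F : P → ℂ} (hF : IsGeneralizedCharacter P F)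
    (hs : ∀ a b : P, IsConj (a : G) b → F a = F b) :
    ∃ Φ : G → ℂ, IsGeneralizedCharacter G Φ ∧
      ∀ (g : G) (a : P), IsConj (constt {p} g) a → Φ g = F a := by
  have hr : ∀ g : G, ∃ a : P, IsConj (constt {p} g) a := by
    intro g
    obtain ⟨y, -, hy⟩ := Sylow_Jsub hp hP (piElt_constt {p} g).isPi le_top
    exact ⟨⟨_, hy (conj_mem_cj y (mem_zpowers _))⟩, isConj_iff.2 ⟨y, rfl⟩⟩
  choose r hr using hr
  have key : ∀ (g : G) (a : P), IsConj (constt {p} g) a → F (r g) = F a := fun g a h =>
    hs _ _ ((hr g).symm.trans h)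
  refine ⟨fun g => F (r g), isGen_of_nil (fun g h => ?_) fun E hE => ?_, key⟩
  · refine key _ _ ?_
    rw [constt_conj]
    exact (isConj_iff.2 ⟨h, rfl⟩ : IsConj (constt {p} g) _).symm.trans (hr g)
  · obtain ⟨y, -, hy⟩ := Sylow_Jsub hp hP (pcore_pi {p} E) le_top
    have hm : ∀ x : E, y * constt {p} (x : G) * y⁻¹ ∈ P := fun x =>
      hy (conj_mem_cj y (Nil.mem_pcore hE (piElt_constt _ _) (constt_mem _ x.2)))
    have hc : ∀ x : E, constt {p} (x : G) = (constt {p} x : E) := fun x =>
      (constt_map E.subtype {p} x).symm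
    let f : E →* P := MonoidHom.mk' (fun x => ⟨_, hm x⟩) (by
      intro x x'
      apply Subtype.ext
      show y * constt {p} ((x * x' : E) : G) * y⁻¹ =
        y * constt {p} (x : G) * y⁻¹ * (y * constt {p} (x' : G) * y⁻¹)
      rw [hc, hc, hc, constt_mul_nil hE, coe_mul]
      group)
    have h9 : (fun x : E => F (r x)) = fun x => F (f x) :=
      funext fun x => key _ _ (isConj_iff.2 ⟨y, rfl⟩)
    rw [h9]
    exact hF.comp f

/-- a class function supported on a normal subgroup which contains all point stabilisers -/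
theorem isGen_mul_fix {E : Type*} [Group E] [Finite E] (X : Type*) [MulAction E X] [Finite X]
    (A : Subgroup E) [A.Normal] (hA : ∀ x : X, MulAction.stabilizer E x ≤ A) {μ : E → ℂ}
    (hμ : IsClassFunction E μ) (h0 : ∀ e, e ∉ A → μ e = 0)
    (hg : IsGeneralizedCharacter A fun a => μ a) :
    IsGeneralizedCharacter E
      fun e => μ e * ((Nat.card (MulAction.fixedBy X e) : ℂ) - Nat.card X) := by
  classical
  have := Fintype.ofFinite E
  have := Fintype.ofFinite (MulAction.orbitRel.Quotient E X)
  have h1 : ∀ B : Subgroup E, B ≤ A → IsGeneralizedCharacter E (indFun B (fun _ => 1) * μ) := by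
    intro B hB
    rw [← indFun_restrict B hμ]
    exact (hg.comp (inclusion hB)).indFun
  have h2 : ∀ B : Subgroup E, B ≤ A → IsGeneralizedCharacter E fun e => (B.index : ℂ) * μ e := by
    intro B hB
    have := (h1 A le_rfl).natCast_smul (B.relIndex A)
    convert this using 1
    funext e
    by_cases he : e ∈ A
    · have h3 : indFun A (fun _ => 1) e = A.index := by
        have := indFun_apply_of_normal A (fun _ => 1) ⟨e, he⟩
        simp only [Finset.sum_const, Finset.card_univ, nsmul_eq_mul, mul_one] at this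
        rw [this, ← Nat.card_eq_fintype_card, card_eq_card_mul_index A, ← mul_assoc,
          inv_mul_cancel₀ (by exact_mod_cast Nat.card_pos.ne'), one_mul]
      simp only [Pi.smul_apply, Pi.mul_apply, h3, smul_eq_mul]
      rw [← relIndex_mul_index hB]; push_cast; ring
    · simp [h0 e he]
  have h3 := isGen_sum Finset.univ (fun ω : MulAction.orbitRel.Quotient E X =>
    indFun (MulAction.stabilizer E (Quotient.out ω)) (fun _ => 1) * μ -
      fun e => ((MulAction.stabilizer E (Quotient.out ω)).index : ℂ) * μ e)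
    fun ω _ => (h1 _ (hA _)).sub (h2 _ (hA _))
  convert h3 using 1
  funext e
  have h4 := card_fixedBy_eq_sum_orbits X (1 : E)
  simp only [MulAction.fixedBy_one_eq_univ, Nat.card_univ, indFun_apply_one, mul_one] at h4
  rw [card_fixedBy_eq_sum_orbits, h4, ← Finset.sum_sub_distrib, Finset.mul_sum, Finset.sum_apply]
  refine Finset.sum_congr rfl fun ω _ => ?_
  simp only [Pi.sub_apply, Pi.mul_apply]
  ring

/-- an element of odd order commuting with an element with at most two fixed points -/
theorem smul_eq_of_fix_le_two {Γ : Type*} [Group Γ] [Finite Γ] {X : Type*} [MulAction Γ X]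
    [Finite X] {a y : Γ} (h : a * y = y * a) (hy : Odd (orderOf y))
    (h2 : Nat.card (MulAction.fixedBy X a) ≤ 2) {ω : X} (hω : a • ω = ω) : y • ω = ω := by
  by_contra hne
  have m : ∀ {x : X}, a • x = x → a • y • x = y • x := fun hx => by
    rw [← mul_smul, h, mul_smul, hx]
  have h3 : y • y • ω ≠ ω := by
    intro e
    obtain ⟨k, hk⟩ := hy
    have h4 : ∀ j : ℕ, (y * y) ^ j • ω = ω := fun j => by
      induction j with
      | zero => simp
      | succ j ih => rw [pow_succ, mul_smul, mul_smul, e, ih]
    have h5 := h4 (k + 1)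
    rw [← sq, ← pow_mul, show 2 * (k + 1) = orderOf y + 1 by omega, pow_succ, pow_orderOf_eq_one,
      one_mul] at h5
    exact hne h5
  have h6 : ({ω, y • ω, y • y • ω} : Set X) ⊆ MulAction.fixedBy X a := by
    rintro x (rfl | rfl | rfl)
    exacts [hω, m hω, m (m hω)]
  have h7 := Set.ncard_le_ncard h6
  rw [Set.ncard_eq_three.2 ⟨_, _, _, (Ne.symm hne), h3.symm,
    fun e => hne (smul_left_cancel y e).symm, rfl⟩] at h7
  rw [Nat.card_coe_set_eq] at h2
  omega

theorem card_fix_conj {Γ : Type*} [Group Γ] (X : Type*) [MulAction Γ X] [Finite X] (a g : Γ) :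
    Nat.card (MulAction.fixedBy X (g * a * g⁻¹)) = Nat.card (MulAction.fixedBy X a) := by
  exact_mod_cast (isCharacter_fixedBy (G := Γ) X).classFun a g

end H18.WS
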