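import Mathlib
import Cfsg.Agent.H18.WS1
import Cfsg.Agent.H13.WBasic
import Cfsg.Agent.H3.Fusion

/-! Wreathed Sylow 2-subgroups: fusion in `E0`, and the generalized characters of `H = C(t)` which
are supported on the elements with 2-part in `O Z`. -/

set_option autoImplicit false
set_option linter.unusedSectionVars false

namespace H18.WS

open H24 H4 H5 Cfsg Subgroup H13.W H13.Dih
open H22 (WR WA Bj hh sw)
open scoped Pointwise

universe u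

variable {G : Type u} [Group G] [Finite G] {c : WC G}

/-- `N(E0)` controls fusion in `E0` -/
theorem fus_N {a b : G} (ha : a ∈ c.E0) (hb : b ∈ c.E0) (h : IsConj a b) :
    ∃ g ∈ N[c.E0], g * a * g⁻¹ = b := by
  obtain ⟨g, rfl⟩ := isConj_iff.1 h
  have hW : IsWeaklyClosed c.E0 c.P := ⟨c.E0_le_S, fun g hg =>
    c.eq_E0 hg (abl_cj.2 c.abl_E0) (card_cj g _)⟩
  have hp : IsPGroup 2 c.E0 := c.P.2.to_le c.E0_le_S
  have h1 : c.E0 ≤ C{g * a * g⁻¹} := fun z hz => mem_C1.2 (c.abl_E0.comm hz hb)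
  have h2 : MulAut.conj g • c.E0 ≤ C{g * a * g⁻¹} := H3.conj_smul_le_iff.mpr fun z hz =>
    mem_C1.2 (by
      have := c.abl_E0.comm hz ha
      calc g * z * g⁻¹ * (g * a * g⁻¹) = g * (z * a) * g⁻¹ := by group
        _ = _ := by rw [this]; group)
  obtain ⟨Q, d, hd, h3, h4⟩ := H3.exists_sylow_conj_le hp (H3.isPGroup_conj_smul hp g) h1 h2
  rw [H3.conj_smul_conj_smul] at h4
  refine ⟨d * g, H3.conj_smul_eq_iff.mp (H3.IsWeaklyClosed.conj_eq_of_le_sylow hW h3 h4), ?_⟩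
  calc d * g * a * (d * g)⁻¹ = d * (g * a * g⁻¹) * d⁻¹ := by group
    _ = _ := mem_C1_iff_conj.1 hd

/-- fusion in `E0` is generated by the swap and the rotation -/
theorem fus_ind {P : WA c.n → Prop} (hsw : ∀ a, P a → P (a.2, a.1))
    (hrot : ∀ a, P a → P (a.2, -a.1 - a.2)) {x y : WA c.n} (h : IsConj (c.E.r x) (c.E.r y))
    (hx : P x) : P y := by
  obtain ⟨g, hg, e⟩ := fus_N (c.r_mem x) (c.r_mem y) h
  have A : ∀ g ∈ N[c.E0], g ∈ c.H → ∃ z, P z ∧ g * c.E.r x * g⁻¹ = c.E.r z := by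
    intro g hg hH
    rcases c.NE0_cases hg hH with h1 | h1
    · exact ⟨x, hx, by rw [← mem_centralizer_iff.1 h1 _ (c.r_mem x)]; group⟩
    · refine ⟨_, hsw x hx, ?_⟩
      have h2 := mem_centralizer_iff.1 h1 _ (c.r_mem (x.2, x.1))
      calc g * c.E.r x * g⁻¹ = g * c.σ⁻¹ * (c.σ * c.E.r x * c.σ⁻¹) * (g * c.σ⁻¹)⁻¹ := by group
        _ = _ := by rw [c.σ_r, c.σ_inv, ← h2]; group
  have B : ∀ g ∈ N[c.E0], (∃ z, P z ∧ c.w⁻¹ * g * c.E.r x * (c.w⁻¹ * g)⁻¹ = c.E.r z) →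
      ∃ z, P z ∧ g * c.E.r x * g⁻¹ = c.E.r z := by
    rintro g - ⟨z, hz, e⟩
    exact ⟨_, hrot z hz, by rw [← c.hw, ← e]; group⟩
  have hw := inv_mem c.w_mem_NE0
  suffices ∃ z, P z ∧ g * c.E.r x * g⁻¹ = c.E.r z by
    obtain ⟨z, hz, e'⟩ := this
    rwa [← c.E.r_inj.1 (e'.symm.trans e)]
  obtain ⟨h1, h2⟩ := c.conj_V (c.NE0_le_NV hg) c.t_mem_V (ne_one_of c.ht)
  rcases c.mem_V.1 h1 with h3 | h3 | h3 | h3
  · exact absurd h3 h2
  · exact A g hg (mem_C1_iff_conj.2 h3)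
  · refine B g hg (A _ (mul_mem hw hg) (mem_C1_iff_conj.2 ?_))
    calc c.w⁻¹ * g * c.t * (c.w⁻¹ * g)⁻¹ = c.w⁻¹ * (g * c.t * g⁻¹) * c.w := by group
      _ = c.t := by rw [h3, ← c.w_t]; group
  · refine B g hg (B _ (mul_mem hw hg) (A _ (mul_mem hw (mul_mem hw hg)) (mem_C1_iff_conj.2 ?_)))
    calc c.w⁻¹ * (c.w⁻¹ * g) * c.t * (c.w⁻¹ * (c.w⁻¹ * g))⁻¹
        = c.w⁻¹ * c.w⁻¹ * (g * c.t * g⁻¹) * c.w * c.w := by
          simp only [mul_inv_rev, inv_inv, mul_assoc]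
      _ = c.t := by rw [h3, ← c.w_u, ← c.w_t]; group

theorem three_unit {n : ℕ} {a : ZMod (2 ^ n)} (h : a = -a - a) : a = 0 :=
  (H22.isUnit_odd (1 : ZMod (2 ^ n))).mul_right_eq_zero.1 (by linear_combination h)

theorem sing_of_conj {x : WA c.n} {j : ZMod (2 ^ c.n)} (h : IsConj (c.E.r (j, j)) (c.E.r x)) :
    Sing x := by
  refine fus_ind (P := Sing) ?_ ?_ h (Or.inl rfl)
  · rintro a (h | h | h)
    · exact Or.inl h.symm
    · exact Or.inr (Or.inr (by simp only; linear_combination h))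
    · exact Or.inr (Or.inl (by simp only; linear_combination h))
  · rintro a (h | h | h)
    · exact Or.inr (Or.inr (by simp only; linear_combination -h))
    · exact Or.inl h
    · exact Or.inr (Or.inl (by simp only; linear_combination -h))

theorem diag_of_conj {i j : ZMod (2 ^ c.n)} (h : IsConj (c.E.r (i, i)) (c.E.r (j, j))) : i = j := by
  have := fus_ind (P := fun a => a = (i, i) ∨ a = (i, -i - i) ∨ a = (-i - i, i)) ?_ ?_ h
    (Or.inl rfl)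
  · simp only [Prod.mk.injEq] at this
    rcases this with h | h | h
    · exact h.1.symm
    · exact h.1.symm
    · exact h.2.symm
  · rintro a (rfl | rfl | rfl) <;> simp
  · rintro a (rfl | rfl | rfl) <;> simp

theorem sum_of_conj {x y : WA c.n} (h : IsConj (c.E.s x) (c.E.s y)) : x.1 + x.2 = y.1 + y.2 := by
  have := h.pow 2
  rw [sq, sq, H22.WR.s_mul_self, H22.WR.s_mul_self] at this
  exact diag_of_conj this

theorem conj_even {x : WA c.n} {d : ZMod (2 ^ c.n)} (h : x.1 + x.2 = 2 * d) :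
    IsConj (c.E.s x) (c.E.r (d + hh c.n, d)) := by
  obtain ⟨g, h1, h2⟩ := c.fus
  refine (c.E.isConj_s (b := (d, d)) (by rw [h]; ring)).trans (isConj_iff.2 ⟨g, ?_⟩)
  calc g * c.E.s (d, d) * g⁻¹ = g * c.E.r (d, d) * (c.E.s 0 * g⁻¹) := by
        rw [mul_assoc g (c.E.r _), ← mul_assoc (c.E.r _), c.E.r_mul_s, add_zero, mul_assoc]
    _ = c.E.r (d, d) * (g * c.E.s 0 * g⁻¹) := by rw [h1]; group
    _ = _ := by rw [h2, c.E.r_mul_r]; simp

theorem r_pow_N (y : WA c.n) : c.E.r y ^ 2 ^ c.n = 1 := by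
  rw [c.E.r_pow, c.E.r_eq_one]
  ext <;> simp [H22.two_pow_eq_zero]

theorem not_conj_odd {x y : WA c.n} {d : ZMod (2 ^ c.n)} (h : x.1 + x.2 = 2 * d + 1) :
    ¬ IsConj (c.E.s x) (c.E.r y) := by
  intro hc
  have h1 := hc.pow (2 ^ c.n)
  have h0 : c.E.s x ^ 2 ^ c.n = c.E.s x ^ (2 * 2 ^ (c.n - 1)) := by
    rw [← pow_succ']; congr 2; have := c.n1; omega
  rw [r_pow_N, isConj_one_left, h0, pow_mul, sq, H22.WR.s_mul_self, c.E.r_pow,
    c.E.r_eq_one, h] at h1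
  have h2 := congrArg Prod.fst h1
  simp only [Prod.smul_mk, nsmul_eq_mul, Nat.cast_pow, Nat.cast_ofNat, Prod.fst_zero] at h2
  exact c.hh0 ((H22.hh_mul_odd c.n1 d).symm.trans h2)

theorem om_pow (k : ℕ) : c.E.s (1, 0) ^ (2 * k + 1) = c.E.s (k + 1, k) := by
  rw [pow_succ, pow_mul, sq, H22.WR.s_mul_self, c.E.r_pow, c.E.r_mul_s]
  simp

/-! ### The `Z`-coordinate on `O Z` -/

variable (c) in
/-- `h ∈ O r (j, j)` -/
def Zc (h : G) (j : ZMod (2 ^ c.n)) : Prop := h * (c.E.r (j, j))⁻¹ ∈ c.O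

theorem eq_one_of_O {a : G} (ha : a ∈ c.S) (ho : a ∈ c.O) : a = 1 :=
  (c.S_pi.piElt ha).eq_one ((isPi_odd.2 c.odd_O).piElt ho)

theorem z_mem (j : ZMod (2 ^ c.n)) : c.E.r (j, j) ∈ c.Z := c.mem_Z.2 ⟨j, rfl⟩
theorem z_mem_H (j : ZMod (2 ^ c.n)) : c.E.r (j, j) ∈ c.H := c.Z_le_H (z_mem j)

theorem Zc.eq_of_mem {h : G} {j : ZMod (2 ^ c.n)} (hj : Zc c h j) (hh : h ∈ c.S) :
    h = c.E.r (j, j) :=
  mul_inv_eq_one.1 (eq_one_of_O (mul_mem hh (inv_mem (c.E.r_mem _))) hj)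

theorem Zc.unique {h : G} {i j : ZMod (2 ^ c.n)} (hi : Zc c h i) (hj : Zc c h j) : i = j := by
  have h1 : Zc c (c.E.r (i, i)) j := by
    have := mul_mem (inv_mem hi) hj
    unfold Zc
    convert this using 1
    group
  exact congrArg Prod.fst (c.E.r_inj.1 (h1.eq_of_mem (c.E.r_mem _)))

theorem zc_self (j : ZMod (2 ^ c.n)) : Zc c (c.E.r (j, j)) j := by
  unfold Zc; rw [mul_inv_cancel]; exact one_mem _

theorem zc_one : Zc c 1 0 := by
  have := zc_self (c := c) 0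
  rwa [show ((0, 0) : WA c.n) = 0 from rfl, c.E.r_zero] at this

theorem Zc.mul {g h : G} {i j : ZMod (2 ^ c.n)} (hi : Zc c g i) (hj : Zc c h j) :
    Zc c (g * h) (i + j) := by
  have := mul_mem hi (conj_mem (c.H_le_NO (z_mem_H i)) hj)
  unfold Zc
  convert this using 1
  rw [← Prod.mk_add_mk, ← c.E.r_mul_r]
  group

theorem Zc.conj (M : Mod c) {x h : G} {j : ZMod (2 ^ c.n)} (hj : Zc c h j) (hx : x ∈ c.H) :
    Zc c (x * h * x⁻¹) j := by
  have := mul_mem (conj_mem (c.H_le_NO hx) hj) (M.centZ (commutator_mem_commutator hx (z_mem j)))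
  unfold Zc
  convert this using 1
  rw [commutatorElement_def]
  group

theorem zc_conj_iff (M : Mod c) {x h : G} {j : ZMod (2 ^ c.n)} (hx : x ∈ c.H) :
    Zc c (x * h * x⁻¹) j ↔ Zc c h j :=
  ⟨fun hj => by simpa [mul_assoc] using hj.conj M (inv_mem hx), fun hj => hj.conj M hx⟩

theorem ker_iff (M : Mod c) {x : G} (hx : x ∈ c.H) : ap M.κ x = 1 ↔ ∃ j, Zc c x j := by
  rw [ap_of_mem _ hx, M.ker]
  constructor
  · intro h
    obtain ⟨o, ho, z, hz, e⟩ := (mem_sup_of_norm (c.Z_le_H.trans c.H_le_NO)).1 h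
    obtain ⟨j, rfl⟩ := c.mem_Z.1 hz
    exact ⟨j, by unfold Zc; simp only at e; rw [e]; simpa using ho⟩
  · rintro ⟨j, hj⟩
    simpa using mul_mem_sup hj (z_mem j)

theorem Zc.exists_conj (M : Mod c) {h : G} {j : ZMod (2 ^ c.n)} (hj : Zc c h j) (hh : h ∈ c.H)
    (h2 : PiElt {2} h) : ∃ x ∈ c.H, x * h * x⁻¹ = c.E.r (j, j) := by
  obtain ⟨x, hx, e⟩ := Sylow_Jsub Nat.prime_two (c.S_syl_of c.S_le_H) h2.isPi (zpowers_le.2 hh)
  exact ⟨x, hx, (hj.conj M hx).eq_of_mem (e (conj_mem_cj x (mem_zpowers h)))⟩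

theorem t_mem_zpowers {j : ZMod (2 ^ c.n)} (hj : j ≠ 0) : c.t ∈ zpowers (c.E.r (j, j)) := by
  have h1 := H22.K_le_of_mem (AddSubgroup.mem_zmultiples j) (j := 0) (by rwa [H22.mem_K_zero])
    (H22.hh_mem_K le_rfl)
  obtain ⟨k, hk⟩ := h1
  exact c.E.mem_zpowers_r.2 ⟨k, by rw [WC.t, ← hk]; rfl⟩

theorem Zc.t_mem (M : Mod c) {h : G} {j : ZMod (2 ^ c.n)} (hj : Zc c h j) (hh : h ∈ c.H)
    (h2 : PiElt {2} h) (h0 : j ≠ 0) : c.t ∈ zpowers h := by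
  obtain ⟨x, hx, e⟩ := hj.exists_conj M hh h2
  obtain ⟨k, hk⟩ := t_mem_zpowers h0
  refine ⟨k, ?_⟩
  simp only [← e, conj_zpow] at hk
  rw [← mem_C1_iff_conj.1 (inv_mem hx), ← hk]
  group

/-- a nontrivial 2-element of `Γ` has at most two fixed points -/
theorem fix_le_two (M : Mod c) {x : G} (hx : x ∈ c.H) (h2 : PiElt {2} x) (h1 : ap M.κ x ≠ 1) :
    Nat.card (MulAction.fixedBy M.d.Ω (ap M.κ x)) ≤ 2 := by
  obtain ⟨y, hy, e⟩ := Sylow_Jsub Nat.prime_two (c.S_syl_of c.S_le_H) h2.isPi (zpowers_le.2 hx)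
  have ha := e (conj_mem_cj y (mem_zpowers x))
  have hA : ∀ a ∈ zpowers M.d.e, a ≠ 1 → Nat.card (MulAction.fixedBy M.d.Ω a) ≤ 2 := by
    intro a ha h
    have := M.d.fix_e a ha h
    rcases M.d.N.hε with h | h <;> omega
  have hs : Nat.card (MulAction.fixedBy M.d.Ω M.d.s) ≤ 2 := by
    have h3 : M.d.s ≠ 1 := fun h => M.d.s_not (h ▸ one_mem _)
    obtain ⟨g, -, hg⟩ := M.d.inv_conj _ M.d.s_mem (two_of M.d.s_sq h3)
    rw [← hg, card_fix_conj]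
    refine hA _ (npow_mem_zpowers _ _) fun h => h3 ?_
    rw [← hg, h]; group
  have hes : Nat.card (MulAction.fixedBy M.d.Ω (M.d.e * M.d.s)) ≤ 2 := by
    have := M.d.fix_es
    rcases M.d.N.hε with h | h <;> omega
  rw [← card_fix_conj _ _ (ap M.κ y), ← ap_conj _ hy hx]
  have h3 : ap M.κ (y * x * y⁻¹) ≠ 1 := by
    rw [ap_conj _ hy hx]; simpa using h1
  rcases c.E.cases ha with ⟨b, hb⟩ | ⟨b, hb⟩ <;> rw [hb] at h3 ⊢
  · rw [M.κ_r] at h3 ⊢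
    exact hA _ (npow_mem_zpowers _ _) h3
  · have h4 : c.E.s b = c.E.r b * c.σ := by rw [WC.σ, c.E.r_mul_s, add_zero]
    rw [h4, ap_mul _ (c.E0_le_H (c.r_mem b)) c.σ_mem_H, M.κ_r, M.κ_σ]
    have h5 : ∀ l : ℕ, M.d.e ^ l * M.d.s * (M.d.e ^ l)⁻¹ = M.d.e ^ (2 * l) * M.d.s := by
      intro l
      have := M.d.s_inv _ (inv_mem (pow_mem M.d.e_mem l))
      rw [inv_inv] at this
      rw [two_mul, pow_add, mul_assoc, mul_assoc]
      congr 1
      exact mul_inv_eq_iff_eq_mul.1 this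
    obtain ⟨l, hl | hl⟩ := Nat.even_or_odd' (b.1 - b.2).val <;> rw [hl]
    · rw [← h5, card_fix_conj]; exact hs
    · rw [show M.d.e ^ (2 * l + 1) * M.d.s = M.d.e ^ l * (M.d.e * M.d.s) * (M.d.e ^ l)⁻¹ by
        rw [pow_succ', mul_assoc M.d.e, ← h5]; group, card_fix_conj]
      exact hes

end H18.WS
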