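import Mathlib
import Cfsg.Agent.H18.WS2

/-! The generalized characters `h ↦ [h₂ ∈ O Z] κ(h₂) (π(h) - q - 1)` of `H = C(t)` and the
characters of `G` induced from them. -/

set_option autoImplicit false
set_option linter.unusedSectionVars false

namespace H18.WS

open H24 H4 H5 Cfsg Subgroup H13.W H13.Dih
open H22 (WR WA Bj hh sw)

universe u

variable {G : Type u} [Group G] [Finite G] {c : WC G}

open Classical in
variable (c) in
/-- `κ` of the `Z`-coordinate of the 2-part -/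
noncomputable def mu (κ : ZMod (2 ^ c.n) → ℂ) (h : G) : ℂ :=
  ∑ j, if Zc c (constt {2} h) j then κ j else 0

theorem mu_of {κ : ZMod (2 ^ c.n) → ℂ} {h : G} {j : ZMod (2 ^ c.n)} (hj : Zc c (constt {2} h) j) :
    mu c κ h = κ j := by
  unfold mu
  rw [Finset.sum_eq_single j (fun i _ hi => if_neg fun h => hi (h.unique hj)) (by simp), if_pos hj]

theorem mu_zero {κ : ZMod (2 ^ c.n) → ℂ} {h : G} (hj : ∀ j, ¬ Zc c (constt {2} h) j) :
    mu c κ h = 0 := Finset.sum_eq_zero fun j _ => if_neg (hj j)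

theorem mu_conj (M : Mod c) (κ : ZMod (2 ^ c.n) → ℂ) (h : G) {x : G} (hx : x ∈ c.H) :
    mu c κ (x * h * x⁻¹) = mu c κ h := by
  unfold mu
  rw [constt_conj]
  exact Finset.sum_congr rfl fun j _ => by rw [propext (zc_conj_iff M hx)]

theorem mu_add (κ κ' : ZMod (2 ^ c.n) → ℂ) (h : G) : mu c (κ + κ') h = mu c κ h + mu c κ' h := by
  unfold mu
  rw [← Finset.sum_add_distrib]
  refine Finset.sum_congr rfl fun j _ => ?_
  split_ifs <;> simp

theorem mu_neg (κ : ZMod (2 ^ c.n) → ℂ) (h : G) : mu c (-κ) h = -mu c κ h := by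
  unfold mu
  rw [← Finset.sum_neg_distrib]
  refine Finset.sum_congr rfl fun j _ => ?_
  split_ifs <;> simp

/-- number of fixed points on the projective line -/
noncomputable def pi (M : Mod c) (h : G) : ℕ := Nat.card (MulAction.fixedBy M.d.Ω (ap M.κ h))

/-- the function `[h₂ ∈ O Z] κ(h₂) (π(h) - q - 1)` -/
noncomputable def psi (M : Mod c) (κ : ZMod (2 ^ c.n) → ℂ) (h : c.H) : ℂ :=
  mu c κ h * ((pi M h : ℂ) - (M.d.N.q + 1))

theorem psi_cf (M : Mod c) (κ : ZMod (2 ^ c.n) → ℂ) : IsClassFunction c.H (psi M κ) := by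
  intro g h
  unfold psi pi
  rw [coe_mul, coe_mul, coe_inv, mu_conj M κ _ h.2, ap_conj _ h.2 g.2, card_fix_conj]

theorem ch_add {n : ℕ} (a b : ZMod (2 ^ n)) : ch (a + b) = ch a * ch b :=
  AddChar.map_add_eq_mul _ a b

@[simp] theorem ch_zero {n : ℕ} : ch (0 : ZMod (2 ^ n)) = 1 := AddChar.map_zero_eq_one _

theorem isGen_psi_ch (M : Mod c) (ν : ZMod (2 ^ c.n)) :
    IsGeneralizedCharacter c.H (psi M fun j => ch (ν * j)) := by
  refine isGen_of_nil (psi_cf M _) fun E hE => ?_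
  let g : E →* M.Γ := M.κ.comp E.subtype
  let _ : MulAction E M.d.Ω := MulAction.compHom M.d.Ω g
  have hs : ∀ (e : E) (ω : M.d.Ω), e • ω = g e • ω := fun _ _ => rfl
  let A : Subgroup E := (g.comp (cst hE {2})).ker
  have hc : ∀ (π : Set ℕ) (e : E), constt π ((e : c.H) : G) = ((constt π e : E) : c.H) :=
    fun π e => (constt_map (c.H.subtype.comp E.subtype) π e).symm
  have hg : ∀ e : E, g e = ap M.κ ((e : c.H) : G) := fun e => (ap_coe M.κ (e : c.H)).symm
  have hA : ∀ e : E, e ∈ A ↔ ∃ j, Zc c (constt {2} ((e : c.H) : G)) j := fun e => by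
    rw [hc, ← ker_iff M (SetLike.coe_mem _), ← hg]; rfl
  let X : SubMulAction E M.d.Ω := ⟨{ω | MulAction.stabilizer E ω ≤ A}, by
    intro e ω hω a ha
    have h1 : e⁻¹ * a * e ∈ A := hω (by
      rw [MulAction.mem_stabilizer_iff] at ha ⊢
      rw [mul_smul, mul_smul, ha, inv_smul_smul])
    have h2 : e * (e⁻¹ * a * e) * e⁻¹ ∈ A := (MonoidHom.normal_ker _).conj_mem _ h1 e
    rwa [show e * (e⁻¹ * a * e) * e⁻¹ = a by group] at h2⟩
  have hX : ∀ ω, ω ∉ X → ∀ e ∈ A, e • ω = ω := by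
    intro ω hω e he
    obtain ⟨a, ha, ha'⟩ := SetLike.not_le_iff_exists.1
      (show ¬ MulAction.stabilizer E ω ≤ A from hω)
    have h1 : constt {2} a • ω = ω := constt_mem {2} ha
    have h2 : g (constt {2} e) = 1 := he
    have h3 := fix_le_two M (SetLike.coe_mem ((constt {2} a : E) : c.H))
      ((piElt_constt {2} a).map (c.H.subtype.comp E.subtype)) (by rw [← hg]; exact ha')
    rw [← hg] at h3
    have h4 := (nil_top hE).comm_of_coprime (mem_top _) (mem_top _)
      ((piElt_constt {2} a).coprime (piElt_constt {2}ᶜ e))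
    rw [hs, ← constt_mul_constt {2} e, map_mul, h2, one_mul]
    exact smul_eq_of_fix_le_two (by rw [← map_mul, h4, map_mul])
      (piElt_odd.1 ((piElt_constt {2}ᶜ e).map g)) h3 h1
  let μ : E → ℂ := fun e => mu c (fun j => ch (ν * j)) ((e : c.H) : G)
  have h0 : ∀ e, e ∉ A → μ e = 0 := fun e he => mu_zero fun j hj => he ((hA e).2 ⟨j, hj⟩)
  let lam : A →* ℂ :=
    { toFun := fun a => μ a
      map_one' := by
        have : Zc c (constt {2} (1 : G)) 0 := by
          rw [constt_eq_self (piElt_one _)]; exact zc_one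
        exact (mu_of (κ := fun j => ch (ν * j)) this).trans (by simp)
      map_mul' := fun a b => by
        obtain ⟨i, hi⟩ := (hA a).1 a.2
        obtain ⟨j, hj⟩ := (hA b).1 b.2
        have hij : Zc c (constt {2} ((((a * b : A) : E) : c.H) : G)) (i + j) := by
          rw [hc, coe_mul, constt_mul_nil hE, coe_mul, coe_mul, ← hc, ← hc]
          exact hi.mul hj
        simp only [μ]
        rw [mu_of hi, mu_of hj, mu_of hij, mul_add, ch_add] }
  have key := isGen_mul_fix X A (fun x a ha => x.2 (congrArg Subtype.val ha)) (μ := μ)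
    (fun a b => mu_conj M _ _ (SetLike.coe_mem _)) h0
    (isIrrCharacter_linear lam.toHomUnits).isGen
  convert key using 2 with e
  by_cases he : e ∈ A
  · unfold psi pi
    congr 1
    have h1 : MulAction.fixedBy M.d.Ω (g e) ∪ X = Set.univ := by
      refine Set.eq_univ_of_forall fun ω => ?_
      by_cases hω : ω ∈ X
      · exact Or.inr hω
      · exact Or.inl (hX ω hω e he)
    have h2 : MulAction.fixedBy M.d.Ω (g e) ∩ X = Subtype.val '' MulAction.fixedBy X e := by
      ext ω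
      constructor
      · rintro ⟨h, h'⟩
        exact ⟨⟨ω, h'⟩, Subtype.ext h, rfl⟩
      · rintro ⟨x, hx, rfl⟩
        exact ⟨congrArg Subtype.val hx, x.2⟩
    have h3 := Set.ncard_union_add_ncard_inter (MulAction.fixedBy M.d.Ω (g e)) X
    rw [h1, h2, Set.ncard_image_of_injective _ Subtype.val_injective, Set.ncard_univ,
      Nat.card_eq_fintype_card, M.d.cardΩ] at h3
    rw [← hg, Nat.card_coe_set_eq, Nat.card_coe_set_eq,
      show Nat.card X = (X : Set M.d.Ω).ncard from Nat.card_coe_set_eq _]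
    have h4 := congrArg (Nat.cast : ℕ → ℂ) h3
    push_cast at h4
    linear_combination -h4
  · have := h0 e he
    simp only [μ] at this
    simp [psi, μ, this]

/-- integral combinations of characters of `Z_N` -/
def Sp (n : ℕ) : AddSubgroup (ZMod (2 ^ n) → ℂ) :=
  AddSubgroup.closure {f | ∃ ν, f = fun j => ch (ν * j)}

theorem ch_mem {n : ℕ} (ν : ZMod (2 ^ n)) : (fun j => ch (ν * j)) ∈ Sp n :=
  AddSubgroup.subset_closure ⟨ν, rfl⟩

theorem isGen_psi (M : Mod c) {κ : ZMod (2 ^ c.n) → ℂ} (h : κ ∈ Sp c.n) :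
    IsGeneralizedCharacter c.H (psi M κ) := by
  induction h using AddSubgroup.closure_induction with
  | mem f hf => obtain ⟨ν, rfl⟩ := hf; exact isGen_psi_ch M ν
  | zero => convert isGen_zero; funext h; simp [psi, mu]
  | add f g _ _ hf hg => convert hf.add hg using 1; funext h; simp [psi, mu_add, add_mul]
  | neg f _ hf => convert hf.neg using 1; funext h; simp [psi, mu_neg]

end H18.WS

namespace H18.WS

open H24 H4 H5 Cfsg Subgroup H13.W H13.Dih
open H22 (WR WA Bj hh sw)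

variable {G : Type*} [Group G] [Fintype G] {c : WC G}

theorem ind_psi_zero (M : Mod c) {κ : ZMod (2 ^ c.n) → ℂ} (h0 : κ 0 = 0) {g : G}
    (h : ∀ j, j ≠ 0 → ¬ IsConj (constt {2} g) (c.E.r (j, j))) : indFun c.H (psi M κ) g = 0 := by
  refine indFun_eq_zero _ _ fun x hx => ?_
  by_cases hj : ∃ j, Zc c (constt {2} (x : G)) j
  · obtain ⟨j, hj⟩ := hj
    by_cases hj0 : j = 0
    · rw [psi, mu_of hj, hj0, h0, zero_mul]
    · obtain ⟨y, -, hy⟩ := hj.exists_conj M (constt_mem _ x.2) (piElt_constt _ _)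
      obtain ⟨z, hz⟩ := isConj_iff.1 hx
      refine absurd (isConj_iff.2 ⟨y * z, ?_⟩) (h j hj0)
      rw [← hy, ← hz, constt_conj]; group
  · rw [psi, mu_zero (not_exists.1 hj), zero_mul]

theorem ind_psi_cen (M : Mod c) {κ : ZMod (2 ^ c.n) → ℂ} (hκ : κ 0 = 0) {j : ZMod (2 ^ c.n)}
    (hj : j ≠ 0) {y : G} (hy : y ∈ C{c.E.r (j, j)}) (ho : Odd (orderOf y)) :
    indFun c.H (psi M κ) (c.E.r (j, j) * y) = κ j * ((pi M y : ℂ) - (M.d.N.q + 1)) := by
  have hyH : y ∈ c.H := C1_le_C1_of_mem_zpowers (t_mem_zpowers hj) hy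
  have h2 : PiElt {2} (c.E.r (j, j)) := c.S_pi.piElt (c.E.r_mem _)
  have h3 : constt {2} (c.E.r (j, j) * y) = c.E.r (j, j) :=
    constt_mul_of h2 (piElt_odd.2 ho) (mem_C1.1 hy).symm
  have h4 : c.t ∈ zpowers (c.E.r (j, j) * y) :=
    zpowers_le.2 (by simpa only [h3] using constt_mem_zpowers {2} (c.E.r (j, j) * y))
      (t_mem_zpowers hj)
  have := indFun_apply_of_TI c.H {g | c.t ∈ zpowers g} (ψ := psi M κ) ?_ (psi_cf M κ) ?_
    ⟨_, mul_mem (z_mem_H j) hyH⟩ h4 ?_
  · rw [this, psi, mu_of (h3.symm ▸ zc_self j), pi, pi, ap_mul _ (z_mem_H j) hyH, M.κ_r]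
    simp
  · intro g hg x hx ⟨k, hk⟩
    refine absurd (mem_C1_iff_conj.2 ?_) hg
    have h5 : g⁻¹ * c.t * g⁻¹⁻¹ ∈ zpowers x := ⟨k, by
      simp only [conj_zpow] at hk ⊢
      rw [← hk]; group⟩
    have := eq_of_mem_cyc (inferInstance : Cyc (zpowers x)) c.ht (two_conj c.ht g⁻¹) hx h5
    conv_lhs => rw [← this]
    group
  · intro x hx
    by_cases hi : ∃ i, Zc c (constt {2} (x : G)) i
    · obtain ⟨i, hi⟩ := hi
      by_cases hi0 : i = 0
      · rw [psi, mu_of hi, hi0, hκ, zero_mul]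
      · exact absurd (zpowers_le.2 (constt_mem_zpowers {2} (x : G))
          (hi.t_mem M (constt_mem _ x.2) (piElt_constt _ _) hi0)) hx
    · rw [psi, mu_zero (not_exists.1 hi), zero_mul]
  · intro e
    rw [show c.E.r (j, j) * y = 1 from congrArg Subtype.val e, zpowers_one_eq_bot] at h4
    exact ne_one_of c.ht (mem_bot.1 h4)

end H18.WS
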