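import Mathlib
import Cfsg.Agent.H18.WS3

/-! Virtual characters of `Z_N ≀ Z_2` as pairs of functions, and the basic data. -/

set_option autoImplicit false

namespace H18.WS

open H13.W
open H22 (WA hh)

variable {n : ℕ}

/-- induced characters -/
noncomputable def II (k l : ZMod (2 ^ n)) (x : WA n) : ℂ :=
  ch (k * x.1 + l * x.2) + ch (k * x.2 + l * x.1)

/-- values of virtual characters on `r x` and on `s x` (a function of `x.1 + x.2`) -/
def GS (n : ℕ) : AddSubgroup ((WA n → ℂ) × (ZMod (2 ^ n) → ℂ)) :=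
  AddSubgroup.closure ({p | ∃ k l, p = (II k l, 0)} ∪
    {p | ∃ k, p = (fun x => ch (k * (x.1 + x.2)), fun a => ch (k * a))})

theorem gs_I (k l : ZMod (2 ^ n)) : (II k l, 0) ∈ GS n :=
  AddSubgroup.subset_closure (Or.inl ⟨k, l, rfl⟩)

theorem gs_L (k : ZMod (2 ^ n)) : (fun x => ch (k * (x.1 + x.2)), fun a => ch (k * a)) ∈ GS n :=
  AddSubgroup.subset_closure (Or.inr ⟨k, rfl⟩)

theorem gs_congr {p q : (WA n → ℂ) × (ZMod (2 ^ n) → ℂ)} (h : p ∈ GS n) (h1 : ∀ x, q.1 x = p.1 x)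
    (h2 : ∀ a, q.2 a = p.2 a) : q ∈ GS n := by
  rwa [show q = p from Prod.ext (funext h1) (funext h2)]

theorem gs_two (k : ZMod (2 ^ n)) : (0, fun a => 2 * ch (k * a)) ∈ GS n := by
  refine gs_congr (sub_mem (add_mem (gs_L k) (gs_L k)) (gs_I k k)) (fun x => ?_) fun a => ?_
  · simp [II, mul_add, add_comm]
  · simp [two_mul]

theorem sum_ch (a : ZMod (2 ^ n)) : ∑ l, ch (l * a) = if a = 0 then (2 ^ n : ℂ) else 0 := by
  have := AddChar.sum_mulShift a (ZMod.isPrimitive_stdAddChar (2 ^ n))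
  simp only [ZMod.card] at this
  unfold ch
  rw [this]
  split_ifs <;> simp

theorem ch_hh (hn : 1 ≤ n) : ch (hh n) = -1 := by
  have h1 : ch (hh n) * ch (hh n) = 1 := by rw [← ch_add, H22.hh_add_hh hn, ch_zero]
  refine (mul_self_eq_one_iff.1 h1).resolve_left fun h => H22.hh_ne_zero hn ?_
  exact ZMod.injective_stdAddChar (h.trans ch_zero.symm)

theorem ch_add_hh (hn : 1 ≤ n) (a : ZMod (2 ^ n)) : ch (a + hh n) = -ch a := by
  rw [ch_add, ch_hh hn]; ring

/-- `N κ` on the diagonal -/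
noncomputable def DD (κ : ZMod (2 ^ n) → ℂ) (x : WA n) : ℂ :=
  if x.1 = x.2 then 2 ^ n * κ x.1 else 0

/-- `N κ` on the other two lines -/
noncomputable def DD' (κ : ZMod (2 ^ n) → ℂ) (x : WA n) : ℂ :=
  (if x.1 = -x.1 - x.2 then 2 ^ n * κ x.1 else 0) + if x.2 = -x.1 - x.2 then 2 ^ n * κ x.2 else 0

theorem DD_add (κ κ' : ZMod (2 ^ n) → ℂ) (x : WA n) : DD (κ + κ') x = DD κ x + DD κ' x := by
  unfold DD; split_ifs <;> simp [mul_add]

theorem DD_neg (κ : ZMod (2 ^ n) → ℂ) (x : WA n) : DD (-κ) x = -DD κ x := by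
  unfold DD; split_ifs <;> simp

theorem sum_mem_of_invol {ι A : Type*} [Fintype ι] [AddCommGroup A] (B : AddSubgroup A) (f : ι → A)
    (τ : ι → ι) (hτ : ∀ i, τ (τ i) = i) (h1 : ∀ i, f i + f (τ i) ∈ B)
    (h2 : ∀ i, τ i = i → f i ∈ B) : ∑ i, f i ∈ B := by
  rw [← QuotientAddGroup.eq_zero_iff, ← QuotientAddGroup.mk'_apply, map_sum]
  refine Finset.sum_involution (fun i _ => τ i) (fun i _ => ?_) (fun i _ h e => h ?_)
    (fun _ _ => Finset.mem_univ _) fun i _ => hτ i
  · rw [← map_add]; exact (QuotientAddGroup.eq_zero_iff _).2 (h1 i)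
  · exact (QuotientAddGroup.eq_zero_iff _).2 (h2 i e)

theorem gs_DD (ν : ZMod (2 ^ n)) :
    (DD fun j => ch (ν * j), fun a => ∑ k, if ν - k = k then ch (k * a) else 0) ∈ GS n := by
  have hL : ∀ k, ν - k = k → ((fun x : WA n => ch (k * x.1 + (ν - k) * x.2),
      fun a => if ν - k = k then ch (k * a) else 0) : _ × _) ∈ GS n := fun k e =>
    gs_congr (gs_L k) (fun x => by simp [e, mul_add]) fun a => by simp [e]
  refine gs_congr (sum_mem_of_invol (GS n) (fun k => (fun x => ch (k * x.1 + (ν - k) * x.2),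
    fun a => if ν - k = k then ch (k * a) else 0)) (fun k => ν - k) (fun k => by ring)
    (fun k => ?_) hL) (fun x => ?_) fun a => ?_
  · by_cases e : ν - k = k
    · exact add_mem (hL k e) (hL _ (by rw [e, e]))
    · refine gs_congr (gs_I k (ν - k)) (fun x => ?_) fun a => ?_
      · simp [II, add_comm]
      · simp [e, Ne.symm e]
  · simp only [Prod.fst_sum, Finset.sum_apply, DD]
    rw [Finset.sum_congr rfl fun k _ => (show ch (k * x.1 + (ν - k) * x.2) =
      ch (k * (x.1 - x.2)) * ch (ν * x.2) by rw [← ch_add]; congr 1; ring), ← Finset.sum_mul,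
      sum_ch]
    simp only [sub_eq_zero]
    split_ifs with h
    · rw [h]
    · simp
  · simp only [Prod.snd_sum, Finset.sum_apply]

theorem gs_DD_odd (hn : 1 ≤ n) (b : ZMod (2 ^ n)) :
    (DD fun j => ch ((2 * b + 1) * j), 0) ∈ GS n := by
  refine gs_congr (gs_DD _) (fun _ => rfl) fun a => (Finset.sum_eq_zero fun k _ => if_neg ?_).symm
  intro h
  refine H22.odd_not_mem_K_pred hn b ?_
  rw [show 2 * b + 1 = 2 * k by linear_combination h]
  exact H22.two_mul_mem_K_pred k

theorem gs_DD_even (hn : 1 ≤ n) (b : ZMod (2 ^ n)) :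
    (DD fun j => ch (2 * b * j), fun a => ch (b * a) + ch ((b + hh n) * a)) ∈ GS n := by
  refine gs_congr (gs_DD _) (fun _ => rfl) fun a => ?_
  have h2 := H22.hh_add_hh hn
  simp only
  rw [Finset.sum_eq_add b (b + hh n) (by simpa using H22.hh_ne_zero hn) (fun k _ hk => if_neg ?_)
    (by simp) (by simp), if_pos (by ring), if_pos (by linear_combination -h2)]
  intro h
  rcases (H22.add_self_eq_zero_iff hn).1 (show (k - b) + (k - b) = 0 by linear_combination -h) with
    e | e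
  · exact hk.1 (by linear_combination e)
  · exact hk.2 (by linear_combination e)

theorem gs_two_DD (hn : 1 ≤ n) {κ : ZMod (2 ^ n) → ℂ} (h : κ ∈ Sp n) :
    (fun x => 2 * DD κ x, 0) ∈ GS n := by
  induction h using AddSubgroup.closure_induction with
  | mem f hf =>
    obtain ⟨ν, rfl⟩ := hf
    rcases H22.even_or_odd ν with ⟨b, rfl⟩ | ⟨b, rfl⟩
    · refine gs_congr (sub_mem (sub_mem (add_mem (gs_DD_even hn b) (gs_DD_even hn b)) (gs_two b))
        (gs_two (b + hh n))) (fun x => by simp [two_mul]) fun a => by simp; ring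
    · exact gs_congr (add_mem (gs_DD_odd hn b) (gs_DD_odd hn b)) (fun x => by simp [two_mul])
        fun a => by simp
  | zero => exact gs_congr (zero_mem _) (fun x => by simp [DD]) fun a => rfl
  | add f g _ _ hf hg =>
    exact gs_congr (add_mem hf hg) (fun x => by simp [DD_add, mul_add]) fun a => by simp
  | neg f _ hf => exact gs_congr (neg_mem hf) (fun x => by simp [DD_neg]) fun a => by simp

theorem gs_DD' {κ : ZMod (2 ^ n) → ℂ} (h : κ ∈ Sp n) : (DD' κ, 0) ∈ GS n := by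
  induction h using AddSubgroup.closure_induction with
  | mem f hf =>
    obtain ⟨ν, rfl⟩ := hf
    refine gs_congr (sum_mem fun l (_ : l ∈ Finset.univ) => gs_I (ν + 2 * l) l) (fun x => ?_)
      fun a => by simp [Prod.snd_sum]
    simp only [Prod.fst_sum, Finset.sum_apply, DD', II, Finset.sum_add_distrib]
    have e : ∀ a b : ZMod (2 ^ n), ∑ l, ch ((ν + 2 * l) * a + l * b) =
        if a = -a - b then 2 ^ n * ch (ν * a) else 0 := by
      intro a b
      rw [Finset.sum_congr rfl fun l _ => (show ch ((ν + 2 * l) * a + l * b) =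
        ch (l * (a - (-a - b))) * ch (ν * a) by rw [← ch_add]; congr 1; ring), ← Finset.sum_mul,
        sum_ch]
      simp only [sub_eq_zero]
      split_ifs <;> simp
    rw [e, e, show -x.2 - x.1 = -x.1 - x.2 by ring]
  | zero => exact gs_congr (zero_mem _) (fun x => by simp [DD']) fun a => rfl
  | add f g _ _ hf hg =>
    refine gs_congr (add_mem hf hg) (fun x => ?_) fun a => by simp
    simp only [DD', Prod.fst_add, Pi.add_apply]
    split_ifs <;> ring
  | neg f _ hf =>
    refine gs_congr (neg_mem hf) (fun x => ?_) fun a => by simp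
    simp only [DD', Prod.fst_neg, Pi.neg_apply]
    split_ifs <;> ring

theorem gs_delta : (0, fun a => if a = 0 then (2 * 2 ^ n : ℂ) else 0) ∈ GS n := by
  refine gs_congr (sum_mem fun l (_ : l ∈ Finset.univ) => gs_two l) (fun x => by
    simp [Prod.fst_sum]) fun a => ?_
  simp only [Prod.snd_sum, Finset.sum_apply, ← Finset.mul_sum, sum_ch]
  split_ifs <;> simp

theorem exists_half (hn : 1 ≤ n) {κ : ZMod (2 ^ n) → ℂ} (h : κ ∈ Sp n) :
    ∃ z : ℤ, κ (hh n) = κ 0 + 2 * z := by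
  induction h using AddSubgroup.closure_induction with
  | mem f hf =>
    obtain ⟨ν, rfl⟩ := hf
    rcases H22.even_or_odd ν with ⟨b, rfl⟩ | ⟨b, rfl⟩
    · exact ⟨0, by simp [mul_comm _ (hh n), H22.hh_mul_two_mul hn]⟩
    · exact ⟨-1, by simp [mul_comm _ (hh n), H22.hh_mul_odd hn, ch_hh hn]; ring⟩
  | zero => exact ⟨0, by simp⟩
  | add f g _ _ hf hg =>
    obtain ⟨a, ha⟩ := hf
    obtain ⟨b, hb⟩ := hg
    exact ⟨a + b, by simp [ha, hb]; ring⟩
  | neg f _ hf =>
    obtain ⟨a, ha⟩ := hf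
    exact ⟨-a, by simp [ha]; ring⟩

/-- the data come from virtual characters -/
structure Good (Λ : WA n → ℂ) (ϑ : ℕ → ℂ) (κ γ : ZMod (2 ^ n) → ℂ) : Prop where
  sp : κ ∈ Sp n
  sw : ∀ a : WA n, Λ (a.2, a.1) = Λ a
  rot : ∀ a : WA n, Λ (a.2, -a.1 - a.2) = Λ a
  dif : ∀ j : ℕ, Λ (j, j) - ϑ (2 * j) = 2 * κ j
  ev : ∀ d, γ (2 * d) = Λ (d + hh n, d)
  od : ∀ i : ℕ, γ (2 * i + 1) = ϑ (2 * i + 1)
  gs : (fun x => Λ x + DD κ x, γ) ∈ GS n

def Gd (Λ : WA n → ℂ) (ϑ : ℕ → ℂ) : Prop := ∃ κ γ, Good Λ ϑ κ γ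

theorem Gd.add {Λ Λ' : WA n → ℂ} {ϑ ϑ' : ℕ → ℂ} (h : Gd Λ ϑ) (h' : Gd Λ' ϑ') :
    Gd (Λ + Λ') (ϑ + ϑ') := by
  obtain ⟨κ, γ, h⟩ := h
  obtain ⟨κ', γ', h'⟩ := h'
  refine ⟨κ + κ', γ + γ', add_mem h.sp h'.sp, fun a => by simp [h.sw, h'.sw],
    fun a => by simp [h.rot, h'.rot], fun j => ?_, fun d => by simp [h.ev, h'.ev],
    fun i => by simp [h.od, h'.od], gs_congr (add_mem h.gs h'.gs) (fun x => ?_) fun _ => rfl⟩
  · simp only [Pi.add_apply]; linear_combination h.dif j + h'.dif j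
  · simp only [Pi.add_apply, Prod.fst_add, DD_add]; ring

theorem Gd.neg {Λ : WA n → ℂ} {ϑ : ℕ → ℂ} (h : Gd Λ ϑ) : Gd (-Λ) (-ϑ) := by
  obtain ⟨κ, γ, h⟩ := h
  refine ⟨-κ, -γ, neg_mem h.sp, fun a => by simp [h.sw], fun a => by simp [h.rot], fun j => ?_,
    fun d => by simp [h.ev], fun i => by simp [h.od],
    gs_congr (neg_mem h.gs) (fun x => ?_) fun _ => rfl⟩
  · simp only [Pi.neg_apply]; linear_combination -h.dif j
  · simp only [Pi.neg_apply, Prod.fst_neg, DD_neg]; ring

theorem Gd.sub {Λ Λ' : WA n → ℂ} {ϑ ϑ' : ℕ → ℂ} (h : Gd Λ ϑ) (h' : Gd Λ' ϑ') :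
    Gd (Λ - Λ') (ϑ - ϑ') := by
  simpa only [sub_eq_add_neg] using h.add h'.neg

theorem Gd.congr {Λ Λ' : WA n → ℂ} {ϑ ϑ' : ℕ → ℂ} (h : Gd Λ ϑ) (h1 : ∀ x, Λ' x = Λ x)
    (h2 : ∀ i, ϑ' i = ϑ i) : Gd Λ' ϑ' := by
  rwa [funext h1, funext h2]

theorem pw_sw (j : ZMod (2 ^ n)) (a : WA n) : pw j (a.2, a.1) = pw j a := by
  simp only [pw]; rw [show -a.2 - a.1 = -a.1 - a.2 by ring]; ring

theorem pw_rot (j : ZMod (2 ^ n)) (a : WA n) : pw j (a.2, -a.1 - a.2) = pw j a := by
  simp only [pw]; rw [show -a.2 - (-a.1 - a.2) = a.1 by ring]; ring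

theorem th_even (hn : 1 ≤ n) (j : ZMod (2 ^ n)) (i : ℕ) :
    th j (2 * i) = ch (-j * (2 * (i : ZMod (2 ^ n)))) := by
  have h2 := H22.hh_add_hh hn
  unfold th; congr 1; push_cast; linear_combination (-j * i) * h2

theorem th_odd (hn : 1 ≤ n) (j : ZMod (2 ^ n)) (i : ℕ) :
    th j (2 * i + 1) = ch (-j * (2 * (i : ZMod (2 ^ n)) + 1) + j * hh n) := by
  have h2 := H22.hh_add_hh hn
  unfold th; congr 1; push_cast; linear_combination (-j * i - j) * h2

theorem gs_pw (j : ZMod (2 ^ n)) : (pw j, fun a => ch (-j * a)) ∈ GS n := by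
  refine gs_congr (add_mem (gs_I j 0) (gs_L (-j))) (fun x => ?_) fun a => by simp
  simp only [pw, II, Prod.fst_add, Pi.add_apply, zero_mul, add_zero]
  congr 2; ring

theorem gd_a (hn : 1 ≤ n) (j : ZMod (2 ^ n)) : Gd (pw j) (th j) := by
  have h2 := H22.hh_add_hh hn
  have hd : ∀ i : ℕ, pw j (i, i) - th j (2 * i) = 2 * ch (j * (i : ZMod (2 ^ n))) := fun i => by
    rw [th_even hn, pw, show j * (-(i : ZMod (2 ^ n)) - i) = -j * (2 * i) by ring]; ring
  rcases H22.even_or_odd j with ⟨b, rfl⟩ | ⟨b, rfl⟩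
  · refine ⟨_, fun a => ch (-(2 * b) * a) + (ch (b * a) + ch ((b + hh n) * a)), ch_mem _, pw_sw _,
      pw_rot _, hd, fun d => ?_, fun i => ?_, add_mem (gs_pw _) (gs_DD_even hn b)⟩
    · simp only [pw]
      rw [show 2 * b * (d + hh n) = b * (2 * d) by linear_combination b * h2,
        show (b + hh n) * (2 * d) = 2 * b * d by linear_combination d * h2,
        show 2 * b * (-(d + hh n) - d) = -(2 * b) * (2 * d) by linear_combination -b * h2]
      ring
    · rw [th_odd hn, show (b + hh n) * (2 * i + 1) = b * (2 * i + 1) + hh n by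
        linear_combination i * h2, ch_add_hh hn, show 2 * b * hh n = 0 by linear_combination b * h2]
      simp
  · refine ⟨_, fun a => -ch (-(2 * b + 1) * a), ch_mem _, pw_sw _, pw_rot _, hd, fun d => ?_,
      fun i => ?_, gs_congr (add_mem (sub_mem (gs_pw (2 * b + 1)) (gs_two (-(2 * b + 1))))
        (gs_DD_odd hn b))
        (fun x => by simp) fun a => by simp; ring⟩
    · simp only [pw]
      rw [show (2 * b + 1) * (d + hh n) = (2 * b + 1) * d + hh n by linear_combination b * h2,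
        show (2 * b + 1) * (-(d + hh n) - d) = -(2 * b + 1) * (2 * d) + hh n by
          linear_combination (-b - 1) * h2, ch_add_hh hn, ch_add_hh hn]
      ring
    · rw [th_odd hn, show (2 * b + 1) * hh n = hh n by linear_combination b * h2, ch_add_hh hn]

theorem gd_t (hn : 1 ≤ n) (j : ZMod (2 ^ n)) : Gd (0 : WA n → ℂ) fun i => 2 * th j i := by
  have h2 := H22.hh_add_hh hn
  rcases H22.even_or_odd j with ⟨b, hb⟩ | ⟨b, hb⟩
  · refine ⟨-fun i => ch (2 * -j * i), fun a => ch (-j * a) - ch ((-j + hh n) * a),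
      neg_mem (ch_mem _), fun _ => rfl, fun _ => rfl, fun i => ?_, fun d => ?_, fun i => ?_,
      gs_congr (sub_mem (gs_two (-j)) (gs_DD_even hn (-j))) (fun x => by simp [DD_neg])
        fun a => by simp; ring⟩
    · rw [th_even hn, show -j * (2 * (i : ZMod (2 ^ n))) = 2 * -j * i by ring]; simp
    · rw [show (-j + hh n) * (2 * d) = -j * (2 * d) by linear_combination d * h2]; simp
    · rw [th_odd hn, show (-j + hh n) * (2 * i + 1) = -j * (2 * i + 1) + hh n by
        linear_combination i * h2, ch_add_hh hn,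
        show j * hh n = 0 by rw [hb]; linear_combination b * h2, add_zero]
      ring
  · refine ⟨-fun i => ch (2 * -j * i), fun a => ch ((-j + hh n) * a) - ch (-j * a),
      neg_mem (ch_mem _), fun _ => rfl, fun _ => rfl, fun i => ?_, fun d => ?_, fun i => ?_,
      gs_congr (sub_mem (gs_two (-j + hh n)) (gs_DD_even hn (-j))) (fun x => by simp [DD_neg])
        fun a => by simp; ring⟩
    · rw [th_even hn, show -j * (2 * (i : ZMod (2 ^ n))) = 2 * -j * i by ring]; simp
    · rw [show (-j + hh n) * (2 * d) = -j * (2 * d) by linear_combination d * h2]; simp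
    · rw [th_odd hn, show (-j + hh n) * (2 * i + 1) = -j * (2 * i + 1) + hh n by
        linear_combination i * h2, show j * hh n = hh n by rw [hb]; linear_combination b * h2,
        ch_add_hh hn]
      ring

theorem gd_x (hn : 1 ≤ n) : Gd (0 : WA n → ℂ) (xi n) := by
  refine ⟨-fun i => ch ((2 * 0 + 1) * i), 0, neg_mem (ch_mem _), fun _ => rfl, fun _ => rfl,
    fun i => ?_, fun d => rfl, fun i => ?_,
    gs_congr (neg_mem (gs_DD_odd hn 0)) (fun x => by simp [DD_neg]) fun a => by simp⟩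
  · simp [xi]
  · simp [xi]

theorem gd_o (hn : 1 ≤ n) : Gd (orb : WA n → ℂ) 0 := by
  have h2 := H22.hh_add_hh hn
  refine ⟨(fun i => ch (2 * 0 * i)) + (fun i => ch ((2 * 1 + 1) * i)) +
      fun i => ch ((2 * -2 + 1) * i), fun a => -(ch (0 * a) + ch ((0 + hh n) * a)),
    add_mem (add_mem (ch_mem _) (ch_mem _)) (ch_mem _), fun a => ?_, fun a => ?_, fun i => ?_,
    fun d => ?_, fun i => ?_,
    gs_congr (sub_mem (sub_mem (add_mem (add_mem (add_mem (gs_I 1 (-1)) (gs_I 2 1)) (gs_I (-2) (-1)))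
      (add_mem (add_mem (gs_DD_even hn 0) (gs_DD_odd hn 1)) (gs_DD_odd hn (-2)))) (gs_two 0))
      (gs_two (0 + hh n))) (fun x => ?_) fun a => by simp; ring⟩
  · simp only [orb]; rw [show -a.2 - a.1 = -a.1 - a.2 by ring]; ring
  · simp only [orb]; rw [show -a.2 - (-a.1 - a.2) = a.1 by ring]; ring
  · simp only [orb, sub_self, Pi.add_apply, Pi.zero_apply]
    rw [show (i : ZMod (2 ^ n)) - (-i - i) = (2 * 1 + 1) * i by ring,
      show -(i : ZMod (2 ^ n)) - i - i = (2 * -2 + 1) * i by ring, show 2 * 0 * (i : ZMod (2 ^ n)) = 0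
        by ring]
    ring
  · simp only [orb]
    rw [show d + hh n - d = 0 + hh n by ring,
      show d - (d + hh n) = 0 + hh n by linear_combination -h2,
      show d + hh n - (-(d + hh n) - d) = 3 * d by linear_combination h2,
      show -(d + hh n) - d - (d + hh n) = -3 * d by linear_combination -h2,
      show d - (-(d + hh n) - d) = 3 * d + hh n by ring,
      show -(d + hh n) - d - d = -3 * d + hh n by linear_combination -h2,
      show (0 + hh n) * (2 * d) = 0 by linear_combination d * h2, zero_mul]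
    simp only [ch_add_hh hn]
    ring
  · rw [show (0 + hh n) * (2 * i + 1) = 0 + hh n by linear_combination i * h2, zero_mul,
      ch_add_hh hn]
    simp
  · simp only [orb, II, DD_add, Prod.fst_add, Prod.fst_sub, Pi.add_apply, Pi.sub_apply,
      Pi.zero_apply]
    rw [show 1 * x.1 + -1 * x.2 = x.1 - x.2 by ring, show 1 * x.2 + -1 * x.1 = x.2 - x.1 by ring,
      show 2 * x.1 + 1 * x.2 = x.1 - (-x.1 - x.2) by ring,
      show 2 * x.2 + 1 * x.1 = x.2 - (-x.1 - x.2) by ring,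
      show -2 * x.1 + -1 * x.2 = -x.1 - x.2 - x.1 by ring,
      show -2 * x.2 + -1 * x.1 = -x.1 - x.2 - x.2 by ring]
    ring

theorem gd8 (hn : 1 ≤ n) (i : Fin 8) : Gd (Lam n i) (The n i) := by
  have p0 : ∀ x : WA n, pw 0 x = 3 := fun x => by simp [pw]; norm_num
  have t0 : ∀ i, th (0 : ZMod (2 ^ n)) i = 1 := fun i => by simp [th]
  have a := gd_a hn
  have t := gd_t hn
  fin_cases i
  · exact (a _).sub (a _)
  · exact (a _).sub (a _)
  · exact (((a (hh n)).sub (t (hh n))).sub ((a 1).sub (t 1))).congr (fun x => by simp [Lam])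
      fun i => by simp [The]; ring
  · exact (((a (hh n)).sub (t (hh n))).sub ((a (-1)).sub (t (-1)))).congr (fun x => by simp [Lam])
      fun i => by simp [The]; ring
  · exact ((t 0).sub (gd_x hn)).congr (fun x => by simp [Lam]) fun i => by simp [The, t0]
  · exact ((gd_x hn).sub (t (hh n))).congr (fun x => by simp [Lam]) fun i => by simp [The]
  · exact ((((gd_o hn).sub (a (hh n))).sub (a (hh n))).add (t (hh n))).congr
      (fun x => by simp [Lam]; ring) fun i => by simp [The]; ring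
  · exact ((a 0).sub (a (hh n))).congr (fun x => by simp [Lam, p0]) fun i => by simp [The, t0]

theorem zero8 (i : Fin 8) : Lam n i 0 = 0 ∧ The n i 0 = 0 := by
  fin_cases i <;> simp [Lam, The, pw, th, xi, orb] <;> norm_num

end H18.WS
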