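import Mathlib
import Cfsg.Agent.H6.XZA0
import Cfsg.Agent.H6.XZB
import Cfsg.Agent.H6.XV0

/-! The model of `Q = 2^(1+8)`. -/

set_option autoImplicit false
set_option linter.unusedSectionVars false

namespace H6
namespace XS
namespace ZA

open Subgroup H24 H15 H15.XP Module

theorem qm_lt (n m : ℕ) : qm n m < 512 := by unfold qm; omega

theorem bt_lt (n i : ℕ) : bt n i < 2 := Nat.mod_lt _ two_pos

theorem bt_xor' (a b i : ℕ) : bt (a ^^^ b) i = (bt a i + bt b i) % 2 := by
  unfold bt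
  rw [Nat.xor_div_two_pow, Nat.xor_mod_two_eq]
  omega

theorem bt_qm (n m : ℕ) {i : ℕ} (hi : i < 8) : bt (qm n m) i = (bt n i + bt m i) % 2 := by
  rw [← bt_xor']
  unfold qm
  generalize n ^^^ m = x
  generalize n / 256 + m / 256 + beN n m = y
  unfold bt
  interval_cases i <;> omega

theorem bt_qm8 {n m : ℕ} (hn : n < 512) (hm : m < 512) :
    bt (qm n m) 8 = (bt n 8 + bt m 8 + beN n m) % 2 := by
  unfold qm
  generalize n ^^^ m = x
  generalize beN n m = y
  unfold bt
  omega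

theorem au_lt : ∀ (M : List ℕ) (n : ℕ), au M n < 512
  | [], n => by unfold au; omega
  | m :: M, n => by
    unfold au
    split_ifs
    exacts [qm_lt _ _, au_lt M _]

theorem au_idM : ∀ n < 512, au idM n = n := by decide +kernel

theorem qm_zero : ∀ n < 512, qm n 0 = n := by decide +kernel

theorem qm_z : ∀ n < 256, qm 256 n = n + 256 := by decide +kernel

theorem au_pow {M : List ℕ} (hM : AOK M) {i : ℕ} (hi : i < 8) : au M (2 ^ i) = M.getD i 0 := by
  obtain ⟨m0, m1, m2, m3, m4, m5, m6, m7, rfl⟩ := len8 hM.1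
  have := fun m hm => qm_zero m (hM.2 m hm)
  interval_cases i <;> simp [au] <;> exact this _ (by simp)

theorem au_z {M : List ℕ} (hM : AOK M) : au M 256 = 256 := by
  obtain ⟨m0, m1, m2, m3, m4, m5, m6, m7, rfl⟩ := len8 hM.1
  simp [au]

theorem getD_lt {M : List ℕ} (hM : AOK M) (i : ℕ) : M.getD i 0 < 512 := by
  rw [List.getD_eq_getElem?_getD]
  cases e : M[i]? with
  | none => simp
  | some m => exact hM.2 m (List.mem_of_getElem? e)

theorem pow_lt {i : ℕ} (hi : i < 8) : 2 ^ i < 256 := Nat.pow_lt_pow_right (by norm_num) hi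

variable {G : Type*} [Group G]

/-- ordered product of the selected entries -/
def pw : List G → ℕ → G
  | [], _ => 1
  | g :: l, n => if n % 2 = 1 then g * pw l (n / 2) else pw l (n / 2)

theorem pw_mem {K : Subgroup G} : ∀ (l : List G), (∀ g ∈ l, g ∈ K) → ∀ n, pw l n ∈ K
  | [], _, _ => one_mem _
  | g :: l, h, n => by
    have := pw_mem l (fun x hx => h x (List.mem_cons_of_mem _ hx)) (n / 2)
    unfold pw
    split_ifs
    exacts [mul_mem (h g List.mem_cons_self) this, this]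

theorem pw_map {H : Type*} [Group H] (f : G →* H) : ∀ (l : List G) (n : ℕ), f (pw l n) = pw (l.map f) n
  | [], _ => map_one f
  | g :: l, n => by
    simp only [pw, List.map_cons]
    split_ifs
    · rw [map_mul, pw_map f l]
    · exact pw_map f l _

theorem pw_append : ∀ (l l' : List G) (n : ℕ), pw (l ++ l') n = pw l n * pw l' (n / 2 ^ l.length)
  | [], l', n => by simp [pw]
  | g :: l, l', n => by
    simp only [pw, List.cons_append, pw_append l l', List.length_cons, Nat.div_div_eq_div_mul, pow_succ']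
    split_ifs
    · rw [mul_assoc]
    · rfl

theorem pw_mod : ∀ (l : List G) (n : ℕ), pw l (n % 2 ^ l.length) = pw l n
  | [], _ => rfl
  | g :: l, n => by
    simp only [pw, List.length_cons, pow_succ', Nat.mod_mul_right_mod, Nat.mod_mul_right_div_self,
      pw_mod l]

theorem pw_congr : ∀ (l l' : List G) (n : ℕ), l.length = l'.length →
    (∀ i < l.length, bt n i = 1 → l.getD i 1 = l'.getD i 1) → pw l n = pw l' n
  | [], [], _, _, _ => rfl
  | [], _ :: _, _, h, _ => by simp at h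
  | _ :: _, [], _, h, _ => by simp at h
  | g :: l, g' :: l', n, h, k => by
    have := pw_congr l l' (n / 2) (by simpa using h) fun i hi e => k (i + 1) (by simpa using hi) (by
      rw [bt, Nat.div_div_eq_div_mul, ← pow_succ'] at e; exact e)
    simp only [pw, this]
    split_ifs with e
    · rw [show g = g' from k 0 (by simp) (by simpa [bt] using e)]
    · rfl

theorem d8 {u w z : G} (h1 : u * u = 1) (h2 : w * w = 1) (h3 : w * u = z * (u * w)) (h4 : Commute z u)
    {a b a' b' : ℕ} (ha : a < 2) (hb : b < 2) (ha' : a' < 2) (hb' : b' < 2) :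
    u ^ a * w ^ b * (u ^ a' * w ^ b') = z ^ (b * a') * (u ^ ((a + a') % 2) * w ^ ((b + b') % 2)) := by
  have k1 : ∀ x, u * (u * x) = x := fun x => by rw [← mul_assoc, h1, one_mul]
  have k2 : ∀ x, w * (u * x) = z * (u * (w * x)) := fun x => by
    rw [← mul_assoc, h3]; simp only [mul_assoc]
  have k3 : ∀ x, u * (z * x) = z * (u * x) := fun x => h4.symm.left_comm x
  interval_cases a <;> interval_cases b <;> interval_cases a' <;> interval_cases b' <;>
    simp [mul_assoc, h1, h2, h3, k1, k2, k3]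

variable [Finite G] {D : Set G} {Q : G → Subgroup G} {z : G}
variable {V : Type*} [AddCommGroup V] [Module (ZMod 2) V] [Finite V]
variable {F : Fr z (Q z) V} {c : ℕ → V} {φ : ℕ → G} {g g' : G} {M N : List ℕ}

theorem π_pow {x : G} (hx : x ∈ Q z) (k : ℕ) : F.π (x ^ k) = k • F.π x := by
  induction k with
  | zero => simp [F.π_one]
  | succ k ih => rw [pow_succ, F.π_mul _ (pow_mem hx k) _ hx, ih, succ_nsmul]

theorem c_bits (hc : Cd F.q c) (n : ℕ) : c (n % 256) = bt n 0 • c 1 + bt n 7 • c 128 +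
    (bt n 1 • c 2 + bt n 4 • c 16) + (bt n 2 • c 4 + bt n 5 • c 32) + (bt n 3 • c 8 + bt n 6 • c 64) := by
  have k : ∀ i, ∀ m, bt n i • c m = c (bt n i * m) := fun i m => by
    have := bt_lt n i
    interval_cases bt n i <;> simp [hc.zero]
  have l : ∀ i m, m < 256 → bt n i * m < 256 := fun i m hm => by
    have := bt_lt n i
    interval_cases bt n i <;> omega
  have e : ∀ n < 256, n = (((bt n 0 * 1 ^^^ bt n 7 * 128) ^^^ (bt n 1 * 2 ^^^ bt n 4 * 16)) ^^^
      (bt n 2 * 4 ^^^ bt n 5 * 32)) ^^^ (bt n 3 * 8 ^^^ bt n 6 * 64) := by decide +kernel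
  have b : ∀ i < 8, bt (n % 256) i = bt n i := fun i hi => by
    unfold bt; interval_cases i <;> omega
  rw [e _ (Nat.mod_lt n (by norm_num))]
  simp (disch := norm_num) only [b]
  simp (disch := (repeat' apply xor_lt) <;> exact l _ _ (by norm_num)) only [k, hc.add]

theorem exists_lf (h : Sit D Q 4) (hz : z ∈ D) (hc : Cd F.q c) : ∃ φ, Lf F c φ := by
  choose q hq e using fun i : ℕ => F.π_surj (c i)
  have sq : ∀ i < 256, qN i = 0 → q i * q i = 1 := fun i hi k =>
    (F.q_π _ (hq i)).1 (by rw [e, hc.q0 hi, k])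
  have cm : ∀ i < 256, ∀ j < 256, polN i j = 0 → Commute (q i) (q j) := fun i hi j hj k =>
    (F.pol_π _ (hq i) _ (hq j)).1 (by rw [e, e, hc.pol0 hi hj, k])
  have ac : ∀ i < 256, ∀ j < 256, polN i j = 1 → q i * q j = z * (q j * q i) := fun i hi j hj k => by
    have := (F.pol_one h hz (hq i) (hq j)).1 (by rw [e, e, hc.pol1 hi hj, k])
    rw [← mul_assoc, ← this, inv_mul_cancel_right]
  have zc : ∀ x ∈ Q z, Commute z x := fun x hx => (mem_C1.1 (h.le hz hx)).symm
  have zm := h.mem hz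
  let p : ℕ → ℕ → ℕ → G := fun i j n => q (2 ^ i) ^ bt n i * q (2 ^ j) ^ bt n j
  have pm : ∀ i j n, p i j n ∈ Q z := fun i j n => mul_mem (pow_mem (hq _) _) (pow_mem (hq _) _)
  have pc : ∀ i < 8, ∀ j < 8, ∀ i' < 8, ∀ j' < 8, polN (2 ^ i) (2 ^ i') = 0 → polN (2 ^ i) (2 ^ j') = 0 →
      polN (2 ^ j) (2 ^ i') = 0 → polN (2 ^ j) (2 ^ j') = 0 → ∀ n m, Commute (p i j n) (p i' j' m) :=
    fun i hi j hj i' hi' j' hj' h1 h2 h3 h4 n m =>
      (((cm _ (pow_lt hi) _ (pow_lt hi') h1).pow_pow _ _).mul_right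
        ((cm _ (pow_lt hi) _ (pow_lt hj') h2).pow_pow _ _)).mul_left
      (((cm _ (pow_lt hj) _ (pow_lt hi') h3).pow_pow _ _).mul_right
        ((cm _ (pow_lt hj) _ (pow_lt hj') h4).pow_pow _ _))
  have pp : ∀ i < 8, ∀ j < 8, polN (2 ^ j) (2 ^ i) = 1 → qN (2 ^ i) = 0 → qN (2 ^ j) = 0 → ∀ n m,
      p i j n * p i j m = z ^ (bt n j * bt m i) * p i j (qm n m) := fun i hi j hj h1 h2 h3 n m => by
    simp only [p, bt_qm n m hi, bt_qm n m hj]
    exact d8 (sq _ (pow_lt hi) h2) (sq _ (pow_lt hj) h3) (ac _ (pow_lt hj) _ (pow_lt hi) h1) (zc _ (hq _))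
      (bt_lt _ _) (bt_lt _ _) (bt_lt _ _) (bt_lt _ _)
  have zp : ∀ k, ∀ x ∈ Q z, Commute (z ^ k) x := fun k x hx => (zc x hx).pow_left k
  refine ⟨fun n => z ^ bt n 8 * p 0 7 n * p 1 4 n * p 2 5 n * p 3 6 n, fun n _ =>
    mul_mem (mul_mem (mul_mem (mul_mem (pow_mem zm _) (pm _ _ _)) (pm _ _ _)) (pm _ _ _)) (pm _ _ _),
    fun n _ => ?_, fun n hn m hm => ?_, by simp [p, bt]⟩
  · simp (disch := (repeat' first | exact pm _ _ _ | exact hq _ | exact zm | apply mul_mem | apply pow_mem)) only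
      [p, F.π_mul, π_pow, e, F.π_z h hz, smul_zero, zero_add]
    rw [c_bits hc]; norm_num
  · have c1 : ∀ k, Commute (p 3 6 n) (z ^ k * p 0 7 m * p 1 4 m * p 2 5 m) := fun k =>
      (((zp k _ (pm _ _ _)).symm.mul_right (by apply pc <;> decide)).mul_right
        (by apply pc <;> decide)).mul_right (by apply pc <;> decide)
    have c2 : ∀ k, Commute (p 2 5 n) (z ^ k * p 0 7 m * p 1 4 m) := fun k =>
      ((zp k _ (pm _ _ _)).symm.mul_right (by apply pc <;> decide)).mul_right (by apply pc <;> decide)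
    have c3 : ∀ k, Commute (p 1 4 n) (z ^ k * p 0 7 m) := fun k =>
      (zp k _ (pm _ _ _)).symm.mul_right (by apply pc <;> decide)
    have l : ∀ k, ∀ x ∈ Q z, ∀ y, x * (z ^ k * y) = z ^ k * (x * y) := fun k x hx y =>
      (zp k x hx).symm.left_comm y
    show _ = _
    rw [(c1 _).mul_mul_mul_comm, (c2 _).mul_mul_mul_comm, (c3 _).mul_mul_mul_comm,
      (zp _ _ (pm _ _ _)).symm.mul_mul_mul_comm, pp 0 (by decide) 7 (by decide) rfl rfl rfl,
      pp 1 (by decide) 4 (by decide) rfl rfl rfl, pp 2 (by decide) 5 (by decide) rfl rfl rfl,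
      pp 3 (by decide) 6 (by decide) rfl rfl rfl, bt_qm8 hn hm, ← pow_eq_pow_mod _ (pow_two z ▸ h.sq hz),
      beN, pow_add, ← pow_eq_pow_mod _ (pow_two z ▸ h.sq hz)]
    simp only [mul_assoc, pow_add, l _ _ (pm _ _ _)]

theorem lf_one (l : Lf F c φ) : φ 0 = 1 := by
  have := l.mul 0 (by norm_num) 0 (by norm_num)
  exact left_eq_mul.1 this

theorem lf_au (l : Lf F c φ) : ∀ (M : List ℕ), (∀ m ∈ M, m < 512) → ∀ n,
    φ (au M n) = pw (M.map φ ++ [z]) n
  | [], _, n => by
    rcases Nat.mod_two_eq_zero_or_one n with e | e <;> simp [au, pw, e, lf_one l, l.zz]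
  | m :: M, h, n => by
    have := lf_au l M (fun x hx => h x (List.mem_cons_of_mem _ hx)) (n / 2)
    simp only [au, pw, List.map_cons, List.cons_append]
    split_ifs
    · rw [l.mul _ (h m List.mem_cons_self) _ (au_lt _ _), this]
    · exact this

theorem lf_pw (l : Lf F c φ) {n : ℕ} (hn : n < 512) : φ n = pw (idM.map φ ++ [z]) n := by
  rw [← lf_au l idM (by decide), au_idM n hn]

theorem lf_z (l : Lf F c φ) {n : ℕ} (hn : n < 512) : φ (qm 256 n) = z * φ n := by
  rw [l.mul _ (by norm_num) _ hn, l.zz]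

theorem lf_cm (l : Lf F c φ) {n m : ℕ} (hn : n < 512) (hm : m < 512) (e : qm n m = qm m n) :
    φ n * φ m = φ m * φ n := by rw [← l.mul _ hn _ hm, e, l.mul _ hm _ hn]

end ZA
end XS
end H6
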