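import Mathlib
import Cfsg.Agent.H6.XZA0
import Cfsg.Agent.H6.XZB
import Cfsg.Agent.H6.XV0
import Cfsg.Agent.H18.XZa

/-! First half of the block XZA (the API of `Lf` and `Ac`). -/

set_option autoImplicit false
set_option linter.unusedSectionVars false
set_option linter.unusedVariables false

namespace H6
namespace XS

open Subgroup H24 H15 H15.XP Module

variable {G : Type*} [Group G] [Finite G] {D : Set G} {Q : G → Subgroup G} {z : G}
variable {V : Type*} [AddCommGroup V] [Module (ZMod 2) V] [Finite V]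
variable {F : Fr z (Q z) V} {E : V → Submodule (ZMod 2) V} {R : V → Subgroup (ofQuad F.q).Isom}
variable {c : ℕ → V}

variable {φ : ℕ → G} {g g' : G} {M N : List ℕ}

open ZA

theorem Sit.exists_lf (h : Sit D Q 4) (hz : z ∈ D) (hc : Cd F.q c) : ∃ φ, Lf F c φ :=
  ZA.exists_lf h hz hc

theorem Lf.surj (h : Sit D Q 4) (hz : z ∈ D) (hc : Cd F.q c) (l : Lf F c φ) {x : G} (hx : x ∈ Q z) :
    ∃ n < 512, φ n = x := by
  obtain ⟨a, ha, e⟩ := hc.surj (F.π x)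
  have a5 : a < 512 := by omega
  rcases F.π_eq₀ hx (l.mem a a5) (by rw [l.pi a a5, Nat.mod_eq_of_lt ha, e]) with k | k
  · exact ⟨a, a5, k.symm⟩
  · exact ⟨_, qm_lt _ _, (lf_z l a5).trans k.symm⟩

theorem Lf.inj (h : Sit D Q 4) (hz : z ∈ D) (hc : Cd F.q c) (l : Lf F c φ) {n m : ℕ} (hn : n < 512)
    (hm : m < 512) (e : φ n = φ m) : n = m := by
  have e1 : n % 256 = m % 256 := (hc.eq_iff (Nat.mod_lt _ (by norm_num)) (Nat.mod_lt _ (by norm_num))).1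
    (by rw [← l.pi n hn, ← l.pi m hm, e])
  have k : ∀ a < 256, φ a ≠ φ (a + 256) := fun a ha e => h.ne_one hz (by
    rw [← qm_z a ha, lf_z l (by omega)] at e; simpa using e)
  by_contra ne
  rcases (by omega : (n < 256 ∧ m = n + 256) ∨ (m < 256 ∧ n = m + 256)) with ⟨h1, rfl⟩ | ⟨h1, rfl⟩
  exacts [k n h1 e, k m h1 e.symm]

theorem Lf.ac (l : Lf F c φ) (hg : g ∈ C{z}) (hM : AOK M)
    (e : ∀ i < 8, g * φ (2 ^ i) * g⁻¹ = φ (M.getD i 0)) : Ac φ g M := by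
  refine ⟨hM, fun n hn => ?_⟩
  rw [lf_au l M hM.2, lf_pw l hn]
  refine (pw_map (MulAut.conj g).toMonoidHom _ n).trans ?_
  obtain ⟨m0, m1, m2, m3, m4, m5, m6, m7, rfl⟩ := len8 hM.1
  have := e 0 (by norm_num); have := e 1 (by norm_num); have := e 2 (by norm_num)
  have := e 3 (by norm_num); have := e 4 (by norm_num); have := e 5 (by norm_num)
  have := e 6 (by norm_num); have := e 7 (by norm_num)
  have := mem_C1_iff_conj.1 hg
  simp_all [idM]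

theorem Ac.pow2 (h1 : Ac φ g M) {i : ℕ} (hi : i < 8) : g * φ (2 ^ i) * g⁻¹ = φ (M.getD i 0) := by
  rw [h1.2 _ ((pow_lt hi).trans (by norm_num)), au_pow h1.1 hi]

theorem AOK.map_au (hN : AOK N) (M : List ℕ) : AOK (N.map (au M)) :=
  ⟨by simp [hN.1], fun m hm => by obtain ⟨x, -, rfl⟩ := List.mem_map.1 hm; exact au_lt _ _⟩

theorem AOK.getD_map (hN : AOK N) (f : ℕ → ℕ) {i : ℕ} (hi : i < 8) :
    (N.map f).getD i 0 = f (N.getD i 0) := by
  rw [List.getD_eq_getElem _ _ (by simpa [hN.1] using hi), List.getD_eq_getElem _ _ (hN.1 ▸ hi),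
    List.getElem_map]

theorem Ac.mul (h1 : Ac φ g M) (h2 : Ac φ g' N) (l : Lf F c φ) (hg : g ∈ C{z}) (hg' : g' ∈ C{z}) :
    Ac φ (g * g') (N.map (au M)) :=
  l.ac (mul_mem hg hg') (h2.1.map_au M) fun i hi => by
    rw [h2.1.getD_map _ hi, ← h1.2 _ (getD_lt h2.1 i), ← h2.pow2 hi]; group

theorem Ac.inv (h1 : Ac φ g M) (l : Lf F c φ) (hg : g ∈ C{z}) (hN : AOK N)
    (e : N.map (au M) = idM) : Ac φ g⁻¹ N :=
  l.ac (inv_mem hg) hN fun i hi => by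
    have := h1.2 _ (getD_lt hN i)
    rw [← hN.getD_map (au M) hi, e, show idM.getD i 0 = 2 ^ i by interval_cases i <;> rfl] at this
    rw [← this]; group

theorem Ac.rp (h1 : Ac φ g M) (hc : Cd F.q c) (l : Lf F c φ) (hg : g ∈ C{z}) :
    Rp c (F.ρ ⟨g, hg⟩) (M.map (· % 256)) := by
  refine hc.rp ⟨by simp [h1.1.1], fun m hm => ?_⟩ fun i hi => ?_
  · obtain ⟨x, -, rfl⟩ := List.mem_map.1 hm
    exact Nat.mod_lt _ (by norm_num)
  · have i5 : 2 ^ i < 512 := (pow_lt hi).trans (by norm_num)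
    rw [app_pow (by simp [h1.1.1]) hi, h1.1.getD_map _ hi, ← l.pi _ (getD_lt h1.1 i), ← h1.pow2 hi,
      ← Nat.mod_eq_of_lt (pow_lt hi), ← l.pi _ i5, Nat.mod_eq_of_lt (pow_lt hi), F.ρ_π _ _ (l.mem _ i5)]

theorem Lf.exists_ac (h : Sit D Q 4) (hz : z ∈ D) (hc : Cd F.q c) (l : Lf F c φ) (k : C{z})
    (hM : AOK M) (e : Rp c (F.ρ k) (M.map (· % 256))) :
    ∃ x ∈ Q z, Ac φ (x * k) M := by
  have dual : ∀ n < 8, ∃ d < 512, (∀ i < n, qm d (2 ^ i) = qm (2 ^ i) d) ∧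
      qm d (2 ^ n) = qm 256 (qm (2 ^ n) d) := by decide +kernel
  have i5 : ∀ i < 8, 2 ^ i < 512 := fun i hi => (pow_lt hi).trans (by norm_num)
  have key : ∀ n ≤ 8, ∃ y ∈ Q z, ∀ i < n, (k * y) * φ (2 ^ i) * (k * y)⁻¹ = φ (M.getD i 0) := fun n hn => by
    induction n with
    | zero => exact ⟨1, one_mem _, by simp⟩
    | succ n ih =>
      obtain ⟨y, hy, e1⟩ := ih (by omega)
      have n8 : n < 8 := by omega
      have m := mul_mem k.2 (h.le hz hy)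
      rcases F.π_eq₀ (conj_mem (h.norm hz m) (l.mem _ (i5 n n8))) (l.mem _ (getD_lt hM n)) (by
        rw [← F.ρ_π ⟨_, m⟩ _ (l.mem _ (i5 n n8)), show (⟨_, m⟩ : C{z}) = k * ⟨y, h.le hz hy⟩ from rfl,
          map_mul, (F.ker ⟨y, _⟩).2 hy, mul_one, l.pi _ (i5 n n8), Nat.mod_eq_of_lt (pow_lt n8),
          e.2 _ (pow_lt n8), app_pow e.1.1 n8, hM.getD_map _ n8, l.pi _ (getD_lt hM n)]) with e2 | e2
      · exact ⟨y, hy, fun i hi => (Nat.lt_succ_iff_lt_or_eq.1 hi).elim (e1 i) fun e => e ▸ e2⟩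
      obtain ⟨d, hd, d1, d2⟩ := dual n n8
      refine ⟨y * φ d, mul_mem hy (l.mem d hd), fun i hi => ?_⟩
      rw [show k * (y * φ d) * φ (2 ^ i) * (k * (y * φ d))⁻¹ =
        k * y * (φ d * φ (2 ^ i) * (φ d)⁻¹) * (k * y)⁻¹ by group]
      rcases Nat.lt_succ_iff_lt_or_eq.1 hi with hi | rfl
      · rw [lf_cm l hd (i5 i (by omega)) (d1 i hi), mul_inv_cancel_right, e1 i hi]
      · rw [← l.mul _ hd _ (i5 i n8), d2, lf_z l (qm_lt _ _), l.mul _ (i5 i n8) _ hd, mul_assoc z,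
          mul_inv_cancel_right, ← conj_mul, e2, mem_C1_iff_conj.1 m, ← mul_assoc, h.sq hz, one_mul]
  obtain ⟨y, hy, e1⟩ := key 8 le_rfl
  refine ⟨_, conj_mem (h.norm hz k.2) hy, ?_⟩
  rw [inv_mul_cancel_right]
  exact l.ac (mul_mem k.2 (h.le hz hy)) hM e1

theorem Ac.eq_or (h1 : Ac φ g M) (h2 : Ac φ g' M) (h : Sit D Q 4) (hz : z ∈ D) (hc : Cd F.q c)
    (l : Lf F c φ) : g = g' ∨ g = z * g' := by
  have k := h2.2 256 (by norm_num)
  rw [au_z h2.1, l.zz, mul_inv_eq_iff_eq_mul] at k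
  refine (h.eq_or hz (x := g'⁻¹ * g) (mem_C.2 fun x hx => ?_)).imp (fun e => (inv_mul_eq_one.1 e).symm)
    fun e => by rw [← k, ← e, mul_inv_cancel_left]
  obtain ⟨n, hn, rfl⟩ := l.surj h hz hc hx
  calc _ = g'⁻¹ * (g' * φ n * g'⁻¹) * g := by group
    _ = _ := by rw [h2.2 n hn, ← h1.2 n hn]; group

theorem Ac.one (φ : ℕ → G) : Ac φ 1 idM := ⟨by decide, fun n hn => by rw [au_idM n hn]; simp⟩

theorem Ac.zmul (h1 : Ac φ g M) (h : Sit D Q 4) (hz : z ∈ D) (l : Lf F c φ) : Ac φ (z * g) M :=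
  ⟨h1.1, fun n hn => by
    rw [show z * g * φ n * (z * g)⁻¹ = z * (g * φ n * g⁻¹) * z⁻¹ by group, h1.2 n hn,
      mem_C1_iff_conj.1 (mem_C1_comm.1 (h.le hz (l.mem _ (au_lt _ _))))]⟩

theorem Ac.pow (h1 : Ac φ g M) (l : Lf F c φ) (hg : g ∈ C{z}) (k : ℕ) :
    Ac φ (g ^ k) ((List.map (au M))^[k] idM) := by
  induction k with
  | zero => simpa using Ac.one φ
  | succ k ih => rw [pow_succ', Function.iterate_succ_apply']; exact h1.mul ih l hg (pow_mem hg k)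

theorem z_pow_odd (h : Sit D Q 4) (hz : z ∈ D) {k : ℕ} (hk : Odd k) : z ^ k = z := by
  obtain ⟨m, rfl⟩ := hk
  rw [pow_succ, pow_mul, pow_two, h.sq hz, one_pow, one_mul]

theorem Ac.exists_odd (h1 : Ac φ g M) (h : Sit D Q 4) (hz : z ∈ D) (hc : Cd F.q c) (l : Lf F c φ)
    (hg : g ∈ C{z}) {k : ℕ} (hk : Odd k) (e : (List.map (au M))^[k] idM = idM) :
    ∃ a, (a = g ∨ a = z * g) ∧ Ac φ a M ∧ a ^ k = 1 := by
  rcases (e ▸ h1.pow l hg k).eq_or (Ac.one φ) h hz hc l with e1 | e1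
  · exact ⟨g, Or.inl rfl, h1, e1⟩
  · exact ⟨_, Or.inr rfl, h1.zmul h hz l, by
      rw [(show Commute z g from (mem_C1.1 hg).symm).mul_pow, e1, z_pow_odd h hz hk, mul_one, h.sq hz]⟩

theorem Ac.eq_odd (h1 : Ac φ g M) (h2 : Ac φ g' M) (h : Sit D Q 4) (hz : z ∈ D) (hc : Cd F.q c)
    (l : Lf F c φ) (hg : g ∈ C{z}) {k k' : ℕ} (hk : Odd k) (hk' : Odd k') (e : g ^ k = 1)
    (e' : g' ^ k' = 1) : g = g' := by
  refine (h1.eq_or h2 h hz hc l).resolve_right fun e1 => h.ne_one hz ?_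
  have e2 : g' = z * g := by rw [e1, ← mul_assoc, h.sq hz, one_mul]
  have cm : Commute z g := (mem_C1.1 hg).symm
  have := congrArg (· ^ k) e'
  simp only [one_pow] at this
  rwa [← pow_mul, mul_comm, pow_mul, e2, cm.mul_pow, e, mul_one, z_pow_odd h hz hk,
    z_pow_odd h hz hk'] at this

end XS
end H6
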