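import Mathlib
import Cfsg.Agent.H18.XZb

/-! The model of the Sylow subgroup `S`. -/

set_option autoImplicit false
set_option linter.unusedSectionVars false
set_option linter.unusedVariables false

namespace H6
namespace XS
namespace ZA

open Subgroup H24 H15 H15.XP Module

/-- conjugation by `x t` -/
def sg (T : SD) (a : ℕ) : ℕ := T.sm (T.sm 128 (T.tm a)) 128

/-- the facts about the model which are checked by computation -/
structure OK (T : SD) : Prop where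
  y : ∀ i < 3, MOK (T.Y.getD i []) ∧ T.Y.getD i [] ∈ T.R
  cc : ∀ w < 8, ∀ w' < 8, ∀ b < 2,
    qm (T.aw w (T.aw w' 128)) b = qm b (T.aw (w ^^^ w') 128) → b = bt T.cc (8 * w + w')
  rp : ∀ w < 8, (idM.map (T.aw w)).map (· % 256) = T.R.getD w []
  rl : ∀ M ∈ T.R, ∃ w < 8, M = T.R.getD w []
  ri : ∀ w < 8, ∀ w' < 8, T.R.getD w [] = T.R.getD w' [] → w = w'
  cl : ∀ g ∈ [1, 2, 4, 8, 512, 1024, 2048], ∀ a < 16, ∀ w < 8, T.sm g (a + 512 * w) % 512 < 16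
  ti : T.ti = [1, 2, 4, 8, T.ti.getD 4 0, T.ti.getD 5 0, T.ti.getD 6 0, 0, 257, 512, 1024, 2048]
  tl : ∀ m ∈ T.ti, m < 4096
  tw : ∀ j < 3, T.ti.getD (4 + j) 0 / 512 = 2 ^ j
  cb : ∀ j < 3, ∀ b ∈ [2, 4, 8, 512, 1024, 2048], T.sm (T.sm (2 ^ (4 + j)) b) (2 ^ (4 + j)) % 256 < 16
  cand : ∀ j < 3, ∀ a < 16, ∀ e < 2, ∀ w < 8,
    (∀ b ∈ [2, 4, 8, 512, 1024, 2048], T.sm (T.sm (2 ^ (4 + j)) (a + 256 * e + 512 * w)) (T.tm b) =
      T.sm (T.tm (T.sm (T.sm (2 ^ (4 + j)) b) (2 ^ (4 + j)))) (T.sm (2 ^ (4 + j)) (a + 256 * e + 512 * w))) →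
    T.sm (a + 256 * e + 512 * w) (T.tm (a + 256 * e + 512 * w)) = 0 →
    ∃ μ < 2, T.sm (2 ^ (4 + j)) (a + 256 * e + 512 * w) = T.sm (T.ti.getD (4 + j) 0) μ
  ye : ∀ j < 3, ∀ k < 8, au (T.Y.getD j []) (2 * k) = qm (bt k j) (2 * k)
  p0 : T.p0 < 4096 ∧ T.p0 % 256 < 128 ∧ sg T T.p0 = T.p0
  cu : ∀ a ∈ [1, 2, 4, 8, 16, 32, 64, 256], sg T a % 256 < 128 ∧ sg T (sg T a) % 256 < 128 ∧
    T.sm T.p0 a = T.sm (sg T (sg T (sg T a))) T.p0
  fx : ∀ n ∈ [1, 256, 257], sg T n ≠ n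

set_option synthInstance.maxSize 4000 in
theorem ok1 : OK s1 := by
  constructor <;> decide +kernel

set_option synthInstance.maxSize 4000 in
theorem ok3 : OK s3 := by
  constructor <;> decide +kernel

set_option synthInstance.maxSize 4000 in
theorem ok7 : OK s7 := by
  constructor <;> decide +kernel

theorem aw_lt (T : SD) (w : ℕ) {n : ℕ} (hn : n < 512) : T.aw w n < 512 := by
  have : ∀ i n, n < 512 → T.a1 i w n < 512 := fun i n hn => by
    unfold SD.a1; split_ifs; exacts [au_lt _ _, hn]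
  exact this _ _ (this _ _ (this _ _ hn))

theorem sm_mod (T : SD) (a b : ℕ) : T.sm a b % 512 =
    qm (qm (a % 512) (T.aw (a / 512) (b % 512))) (bt T.cc (8 * (a / 512) + b / 512)) := by
  have := qm_lt (qm (a % 512) (T.aw (a / 512) (b % 512))) (bt T.cc (8 * (a / 512) + b / 512))
  unfold SD.sm; omega

theorem sm_div (T : SD) (a b : ℕ) : T.sm a b / 512 = a / 512 ^^^ b / 512 := by
  have := qm_lt (qm (a % 512) (T.aw (a / 512) (b % 512))) (bt T.cc (8 * (a / 512) + b / 512))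
  unfold SD.sm; omega

theorem sm_lt (T : SD) {a b : ℕ} (ha : a < 4096) (hb : b < 4096) : T.sm a b < 4096 := by
  have := sm_div T a b
  have : a / 512 ^^^ b / 512 < 2 ^ 3 := Nat.xor_lt_two_pow (by omega) (by omega)
  omega

theorem pr_lt (T : SD) : ∀ (l : List ℕ), (∀ m ∈ l, m < 4096) → ∀ n, T.pr l n < 4096
  | [], _, _ => by simp [SD.pr]
  | m :: l, h, n => by
    have := pr_lt T l (fun x hx => h x (List.mem_cons_of_mem _ hx)) (n / 2)
    unfold SD.pr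
    split_ifs
    exacts [sm_lt T (h m List.mem_cons_self) this, this]

variable {G : Type*} [Group G]

/-- `y^w` -/
def yw (y : ℕ → G) (w : ℕ) : G := y 0 ^ bt w 0 * (y 1 ^ bt w 1 * y 2 ^ bt w 2)

/-- the model of `S` -/
def ps (φ y : ℕ → G) (a : ℕ) : G := φ (a % 512) * yw y (a / 512)

theorem yw_pw (y : ℕ → G) (w : ℕ) : yw y w = pw [y 0, y 1, y 2] w := by
  have e1 : bt w 1 = w / 2 % 2 := by simp [bt]
  have e2 : bt w 2 = w / 2 / 2 % 2 := by unfold bt; omega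
  have e0 : bt w 0 = w % 2 := by simp [bt]
  rw [yw, e0, e1, e2]
  rcases Nat.mod_two_eq_zero_or_one w with a | a <;>
    rcases Nat.mod_two_eq_zero_or_one (w / 2) with b | b <;>
    rcases Nat.mod_two_eq_zero_or_one (w / 2 / 2) with d | d <;> simp [pw, a, b, d]

theorem yw_pow (y : ℕ → G) {j : ℕ} (hj : j < 3) : yw y (2 ^ j) = y j := by
  interval_cases j <;> simp [yw, bt]

theorem yw_mem {K : Subgroup G} {y : ℕ → G} (h : ∀ i < 3, y i ∈ K) (w : ℕ) : yw y w ∈ K :=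
  mul_mem (pow_mem (h 0 (by norm_num)) _)
    (mul_mem (pow_mem (h 1 (by norm_num)) _) (pow_mem (h 2 (by norm_num)) _))

theorem ps_lo {φ y : ℕ → G} {a : ℕ} (ha : a < 512) : ps φ y a = φ a := by
  rw [ps, Nat.mod_eq_of_lt ha, Nat.div_eq_of_lt ha]; simp [yw, bt]

variable [Finite G] {D : Set G} {Q : G → Subgroup G} {z : G}
variable {V : Type*} [AddCommGroup V] [Module (ZMod 2) V] [Finite V]
variable {F : Fr z (Q z) V} {c : ℕ → V} {φ y : ℕ → G} {g t : G} {T : SD} {a b : ℕ}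

variable (D Q F c φ T) in
/-- the basic data -/
structure Bs : Prop where
  h : Sit D Q 4
  hz : z ∈ D
  hc : Cd F.q c
  l : Lf F c φ
  ok : OK T
  vD : φ 1 ∈ D
  mE : ∀ n < 512, φ n ∈ Q (φ 1) ↔ n % 256 < 16
  ofR : ∀ g : C{z}, (g : G) ∈ Q (φ 1) → ∃ M ∈ T.R, Rp c (F.ρ g) M
  toR : ∀ M ∈ T.R, ∃ g : C{z}, (g : G) ∈ Q (φ 1) ∧ Rp c (F.ρ g) M

variable (Q z φ T y) in
/-- the letters `y` -/
structure YB : Prop where
  mem : ∀ i < 3, y i ∈ Q (φ 1)
  cz : ∀ i < 3, y i ∈ C{z}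
  ac : ∀ i < 3, Ac φ (y i) (T.Y.getD i [])

namespace Bs

variable (B : Bs D Q F c φ T)
include B

theorem inj {n m : ℕ} (hn : n < 512) (hm : m < 512) (e : φ n = φ m) : n = m :=
  B.l.inj B.h B.hz B.hc hn hm e

theorem zQ : z ∈ Q (φ 1) := B.l.zz ▸ (B.mE 256 (by norm_num)).2 (by norm_num)

theorem cz {n : ℕ} (hn : n < 512) : φ n ∈ C{z} := B.h.le B.hz (B.l.mem n hn)

theorem zv : z * φ 1 = φ 1 * z := (mem_C1.1 (B.cz (by norm_num))).symm

theorem exists_y {i : ℕ} (hi : i < 3) : ∃ y ∈ Q (φ 1), y ∈ C{z} ∧ Ac φ y (T.Y.getD i []) := by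
  obtain ⟨m1, m2⟩ := B.ok.y i hi
  obtain ⟨g, hg, e⟩ := B.toR _ m2
  generalize T.Y.getD i [] = M at *
  have hM : AOK M := ⟨m1.1, fun m hm => (m1.2 m hm).trans (by norm_num)⟩
  obtain ⟨x, hx, ac⟩ := B.l.exists_ac B.h B.hz B.hc g hM (by
    rwa [List.map_congr_left (f := (· % 256)) (g := id) fun m hm => Nat.mod_eq_of_lt (m1.2 m hm),
      List.map_id])
  refine ⟨_, mul_mem ?_ hg, mul_mem (B.h.le B.hz hx) g.2, ac⟩
  have k : ∀ j < 8, ∀ a < 256, g * φ (2 ^ j) * (g : G)⁻¹ = φ a → x ∈ C{φ a} := fun j hj a ha e => by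
    have e1 := ac.pow2 hj
    rw [show x * g * φ (2 ^ j) * (x * g)⁻¹ = x * (g * φ (2 ^ j) * (g : G)⁻¹) * x⁻¹ by group, e] at e1
    refine mem_C1_iff_conj.2 ((B.h.cj_or B.hz hx (B.l.mem a (by omega))).resolve_right fun e2 => ?_)
    rw [e1, ← lf_z B.l (by omega), qm_z a ha] at e2
    have := B.inj (getD_lt hM j) (by omega) e2
    have := m1.2 _ (List.getD_eq_getElem M 0 (m1.1 ▸ hj) ▸ List.getElem_mem _)
    omega
  have k1 : x ∈ C{φ 1} := k 0 (by norm_num) 1 (by norm_num) (mem_C1_iff_conj.1 (B.h.le B.vD hg))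
  have k2 : ∀ j < 4, x ∈ C{φ (2 ^ j)} := fun j hj => by
    have j1 : 2 ^ j < 16 ∧ qm 1 (2 ^ j) < 256 := by interval_cases j <;> decide
    rcases B.h.cj_or B.vD hg ((B.mE (2 ^ j) (by omega)).2 ((Nat.mod_le _ _).trans_lt j1.1)) with e | e
    · exact k j (by omega) _ (by omega) e
    · rw [← B.l.mul _ (by norm_num) _ (by omega)] at e
      have := k j (by omega) _ j1.2 e
      rw [B.l.mul _ (by norm_num) _ (by omega), mem_C1_comm] at this
      exact mem_C1_comm.1 ((mul_mem_cancel_left (mem_C1_comm.1 k1)).1 this)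
  obtain ⟨n, hn, rfl⟩ := B.l.surj B.h B.hz B.hc hx
  have c4 : ∀ n < 512, (∀ j < 4, qm n (2 ^ j) = qm (2 ^ j) n) → n % 256 < 16 := by decide +kernel
  refine (B.mE n hn).2 (c4 n hn fun j hj => B.inj (qm_lt _ _) (qm_lt _ _) ?_)
  have : 2 ^ j < 512 := by interval_cases j <;> norm_num
  rw [B.l.mul _ hn _ this, B.l.mul _ this _ hn, mem_C1.1 (k2 j hj)]

theorem exists_yb : ∃ y, YB Q z φ y T := by
  choose! y h1 h2 h3 using fun i (hi : i < 3) => B.exists_y hi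
  exact ⟨y, h1, h2, h3⟩

variable (Y : YB Q z φ y T)
include Y

theorem yw_cj (w : ℕ) {n : ℕ} (hn : n < 512) : yw y w * φ n * (yw y w)⁻¹ = φ (T.aw w n) := by
  have k : ∀ i < 3, ∀ n < 512, y i ^ bt w i * φ n * (y i ^ bt w i)⁻¹ = φ (T.a1 i w n) ∧ T.a1 i w n < 512 :=
    fun i hi n hn => by
      have := bt_lt w i
      unfold SD.a1
      interval_cases bt w i
      · simpa using hn
      · simpa using ⟨(Y.ac i hi).2 n hn, au_lt _ _⟩
  obtain ⟨a2, b2⟩ := k 2 (by norm_num) n hn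
  obtain ⟨a1, b1⟩ := k 1 (by norm_num) _ b2
  rw [SD.aw, ← (k 0 (by norm_num) _ b1).1, ← a1, ← a2, yw]; group

theorem yw_mul {w w' : ℕ} (hw : w < 8) (hw' : w' < 8) :
    yw y w * yw y w' = φ (bt T.cc (8 * w + w')) * yw y (w ^^^ w') := by
  obtain ⟨V', _, _, _, -, ⟨F'⟩⟩ := B.h.exists_fr B.vD
  have m := yw_mem Y.mem
  have p : ∀ w, F'.π (yw y w) = bt w 0 • F'.π (y 0) + (bt w 1 • F'.π (y 1) + bt w 2 • F'.π (y 2)) := fun w => by
    have m0 := Y.mem 0 (by norm_num)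
    have m1 := Y.mem 1 (by norm_num)
    have m2 := Y.mem 2 (by norm_num)
    rw [yw, F'.π_mul _ (pow_mem m0 _) _ (mul_mem (pow_mem m1 _) (pow_mem m2 _)),
      F'.π_mul _ (pow_mem m1 _) _ (pow_mem m2 _), π_pow m0, π_pow m1, π_pow m2]
  have s : ∀ i (v : V'), bt (w ^^^ w') i • v = bt w i • v + bt w' i • v := fun i v => by
    have := bt_lt w i
    have := bt_lt w' i
    rw [bt_xor']
    interval_cases bt w i <;> interval_cases bt w' i <;> simp [add_self₂]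
  obtain ⟨b, hb, e⟩ : ∃ b < 2, yw y w * yw y w' = φ b * yw y (w ^^^ w') := by
    rcases F'.π_eq₀ (mul_mem (m w) (m w')) (m (w ^^^ w')) (by
      rw [F'.π_mul _ (m w) _ (m w'), p, p, p, s, s, s]; abel) with e | e
    · exact ⟨0, by norm_num, by rw [lf_one B.l, one_mul, e]⟩
    · exact ⟨1, by norm_num, e⟩
  have l := fun w => aw_lt T w (n := 128) (by norm_num)
  rw [← B.ok.cc w hw w' hw' b hb (B.inj (qm_lt _ _) (qm_lt _ _) ?_), e]
  rw [B.l.mul _ (aw_lt T _ (l _)) _ (by omega), B.l.mul _ (by omega) _ (l _), ← B.yw_cj Y _ (l _),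
    ← B.yw_cj Y _ (by norm_num), ← B.yw_cj Y _ (by norm_num), eq_mul_inv_iff_mul_eq.2 e.symm]
  group

theorem mul (ha : a < 4096) (hb : b < 4096) : ps φ y (T.sm a b) = ps φ y a * ps φ y b := by
  have a5 : a % 512 < 512 := Nat.mod_lt _ (by norm_num)
  have b5 : b % 512 < 512 := Nat.mod_lt _ (by norm_num)
  rw [ps, sm_mod, sm_div, B.l.mul _ (qm_lt _ _) _ ((bt_lt _ _).trans (by norm_num)),
    B.l.mul _ a5 _ (aw_lt T _ b5), mul_assoc, ← B.yw_mul Y (by omega) (by omega), ← B.yw_cj Y _ b5, ps, ps]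
  group

theorem pcz (a : ℕ) : ps φ y a ∈ C{z} :=
  mul_mem (B.cz (Nat.mod_lt _ (by norm_num))) (yw_mem Y.cz _)

theorem rp_yw {w : ℕ} (hw : w < 8) : Rp c (F.ρ ⟨yw y w, yw_mem Y.cz w⟩) (T.R.getD w []) := by
  rw [← B.ok.rp w hw]
  refine (B.l.ac (yw_mem Y.cz w) ⟨by simp [idM], fun m hm => ?_⟩ fun i hi => ?_).rp B.hc B.l _
  · obtain ⟨x, hx, rfl⟩ := List.mem_map.1 hm
    exact aw_lt T _ ((idM_ok.2 x hx).trans (by norm_num))
  · rw [B.yw_cj Y _ ((pow_lt hi).trans (by norm_num)), (Ac.one φ).1.getD_map _ hi]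
    interval_cases i <;> rfl

theorem rho (a : ℕ) : F.ρ ⟨ps φ y a, B.pcz Y a⟩ = F.ρ ⟨yw y (a / 512), yw_mem Y.cz _⟩ := by
  have a5 : a % 512 < 512 := Nat.mod_lt _ (by norm_num)
  rw [show (⟨ps φ y a, B.pcz Y a⟩ : C{z}) = ⟨_, B.cz a5⟩ * ⟨yw y (a / 512), yw_mem Y.cz _⟩ from rfl,
    map_mul, (F.ker ⟨_, B.cz a5⟩).2 (B.l.mem _ a5), one_mul]

theorem pinj (ha : a < 4096) (hb : b < 4096) (e : ps φ y a = ps φ y b) : a = b := by
  have e1 : a / 512 = b / 512 := B.ok.ri _ (by omega) _ (by omega) (B.hc.uniq (B.rp_yw Y (by omega)) (by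
    rw [← B.rho Y a, show (⟨ps φ y a, B.pcz Y a⟩ : C{z}) = ⟨ps φ y b, B.pcz Y b⟩ from Subtype.ext e, B.rho Y b]
    exact B.rp_yw Y (by omega)))
  rw [ps, ps, e1, mul_left_inj] at e
  have := B.inj (Nat.mod_lt _ (by norm_num)) (Nat.mod_lt _ (by norm_num)) e
  omega

theorem memv (h : a % 256 < 16) : ps φ y a ∈ Q (φ 1) :=
  mul_mem ((B.mE _ (Nat.mod_lt _ (by norm_num))).2 (by omega)) (yw_mem Y.mem _)

theorem surjR (h1 : g ∈ Q (φ 1)) (h2 : g ∈ C{z}) : ∃ a < 4096, a % 256 < 16 ∧ ps φ y a = g := by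
  obtain ⟨M, hM, e⟩ := B.ofR ⟨g, h2⟩ h1
  obtain ⟨w, hw, rfl⟩ := B.ok.rl M hM
  have e1 := B.hc.ext e (B.rp_yw Y hw)
  rw [← mul_inv_eq_one, ← map_inv, ← map_mul, F.ker] at e1
  obtain ⟨n, hn, e2⟩ := B.l.surj B.h B.hz B.hc e1
  have e3 : φ n = g * (yw y w)⁻¹ := e2
  have := (B.mE n hn).1 (e3 ▸ mul_mem h1 (inv_mem (yw_mem Y.mem w)))
  refine ⟨n + 512 * w, by omega, by omega, ?_⟩
  rw [ps, show (n + 512 * w) % 512 = n by omega, show (n + 512 * w) / 512 = w by omega, e3,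
    inv_mul_cancel_right]

theorem ps_pr : ∀ (l : List ℕ), (∀ m ∈ l, m < 4096) → ∀ n, ps φ y (T.pr l n) = pw (l.map (ps φ y)) n
  | [], _, n => by simp [SD.pr, pw, ps_lo, lf_one B.l]
  | m :: l, h, n => by
    have h' := fun x hx => h x (List.mem_cons_of_mem _ hx)
    have := ps_pr l h' (n / 2)
    simp only [SD.pr, pw, List.map_cons]
    split_ifs
    · rw [B.mul Y (h m List.mem_cons_self) (pr_lt T l h' _), this]
    · exact this

theorem ps_pw (a : ℕ) : ps φ y a = pw (idM.map φ ++ [z] ++ [y 0, y 1, y 2]) a := by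
  have e : 2 ^ (idM.map φ ++ [z]).length = 512 := by simp [idM]
  rw [pw_append, ← pw_mod _ a, e, ps, lf_pw B.l (Nat.mod_lt _ (by norm_num)), yw_pw]

theorem ps_y {j : ℕ} (hj : j < 3) : ps φ y (512 * 2 ^ j) = y j := by
  rw [ps, Nat.mul_mod_right, Nat.mul_div_cancel_left _ (by norm_num), lf_one B.l, one_mul, yw_pow y hj]

end Bs

end ZA
end XS
end H6
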