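import Mathlib
import Cfsg.Agent.H18.K3Ch
import Cfsg.Agent.H27.PF14
import Cfsg.Agent.S1296

/-!
# Simple groups of order `p 3^a 2^b`: reduction to characteristic two type, induction shell
-/

set_option autoImplicit false
set_option linter.unusedSectionVars false

open Cfsg H24 H26 Subgroup

namespace H18.K3

universe u

variable {G : Type u} [Group G] [Finite G] {p a b : ℕ}

theorem not_solvable [IsSimpleGroup G] (hG : ¬ IsMulCommutative G) : ¬ Group.IsSolvable G :=
  fun hs => hG ⟨⟨IsSimpleGroup.comm_iff_isSolvable.2 hs⟩⟩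

theorem five_le [IsSimpleGroup G] (hG : ¬ IsMulCommutative G) (hp : p.Prime)
    (hcard : Nat.card G = p * 3 ^ a * 2 ^ b) : 5 ≤ p := by
  by_contra h
  have h2 := hp.two_le
  have h4 : p ≠ 4 := by rintro rfl; exact absurd hp (by decide)
  refine not_solvable hG ?_
  obtain rfl | rfl : p = 2 ∨ p = 3 := by omega
  · exact Cfsg.Agent.S0144.result 3 2 a (b + 1) Nat.prime_three Nat.prime_two (by rw [hcard]; ring)
  · exact Cfsg.Agent.S0144.result 3 2 (a + 1) b Nat.prime_three Nat.prime_two (by rw [hcard]; ring)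

theorem not_hasComponent {H : Type*} [Group H] (hs : Group.IsSolvable H) : ¬ HasComponent H := by
  rintro ⟨K, -, h1, h2⟩
  have : Nontrivial (K ⧸ center K) := h2.toNontrivial
  have : Nontrivial K := (QuotientGroup.mk'_surjective (center K)).nontrivial
  exact (Group.IsSolvable.commutator_lt_top_of_nontrivial K).ne h1.commutator_eq_top

theorem even_card [IsSimpleGroup G] (hG : ¬ IsMulCommutative G) : Even (Nat.card G) := by
  by_contra h
  exact not_solvable hG (H27.Feit_Thompson G (Nat.not_even_iff_odd.1 h))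

/-- reduction to characteristic two type -/
theorem red [IsSimpleGroup G] (hG : ¬ IsMulCommutative G) (hp : p.Prime)
    (hcard : Nat.card G = p * 3 ^ a * 2 ^ b) : PRankLE 2 2 G ∨ KT G p a b := by
  have h5 := five_le hG hp hcard
  have hev := even_card hG
  have h2 : ∀ N : Subgroup G, N.Normal → N.index ≠ 2 := by
    intro N hN hi
    rcases hN.eq_bot_or_eq_top with rfl | rfl
    · rw [index_bot] at hi
      have : p ∣ 2 := hi ▸ hcard ▸ (dvd_mul_right _ _).mul_right _
      have := Nat.le_of_dvd two_pos this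
      omega
    · rw [index_top] at hi; omega
  have hO : oddCore G = ⊥ := by
    rcases (inferInstance : (oddCore G).Normal).eq_bot_or_eq_top with h | h
    · exact h
    · have := H2.pPrimeCore_coprime 2 G
      rw [show pPrimeCore 2 G = ⊤ from h, card_top] at this
      exact absurd (Nat.Coprime.eq_one_of_dvd this.symm hev.two_dvd) (by decide)
  rcases Cfsg.Agent.S1296.result hev h2 hO with h | ⟨t, ht, h⟩ | h
  · exact Or.inl h
  · have hs : Sol C{t} := sol_C (a := b) (b := a) hG Nat.prime_two Nat.prime_three hp (by omega)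
      (by omega) (by rw [hcard]; ring) (fun e => by rw [e, orderOf_one] at ht; omega)
      (by rw [ht]; exact fun h => by have := Nat.le_of_dvd two_pos h; omega)
    exact absurd h (not_hasComponent inferInstance)
  · exact Or.inr ⟨inferInstance, hG, hp, h5, hcard, h⟩

/-- a simple group of order `p 3^a 2^b` -/
def IsK3 (G : Type u) [Group G] : Prop :=
  IsSimpleGroup G ∧ ¬ IsMulCommutative G ∧ ∃ p a b : ℕ, p.Prime ∧ Nat.card G = p * 3 ^ a * 2 ^ b

/-- a non-solvable group whose order divides `p 3^a 2^b` has order `p 3^i 2^j` -/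
theorem card_of_dvd {H : Type*} [Group H] [Finite H] (hH : ¬ Group.IsSolvable H) (hp : p.Prime)
    (hd : Nat.card H ∣ p * 3 ^ a * 2 ^ b) :
    ∃ i ≤ a, ∃ j ≤ b, Nat.card H = p * 3 ^ i * 2 ^ j := by
  obtain ⟨m, n, hm, hn, e⟩ := exists_dvd_and_dvd_of_dvd_mul hd
  obtain ⟨k, l, hk, hl, rfl⟩ := exists_dvd_and_dvd_of_dvd_mul hm
  obtain ⟨i, hi, rfl⟩ := (Nat.dvd_prime_pow Nat.prime_three).1 hl
  obtain ⟨j, hj, rfl⟩ := (Nat.dvd_prime_pow Nat.prime_two).1 hn
  rcases (Nat.dvd_prime hp).1 hk with rfl | rfl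
  · exact absurd (Cfsg.Agent.S0144.result 3 2 i j Nat.prime_three Nat.prime_two
      (by rw [e, one_mul])) hH
  · exact ⟨i, hi, j, hj, e⟩

theorem KT.section {H : Type u} [Group H] [Finite H] (h : KT G p a b) [IsSimpleGroup H]
    (hH : ¬ IsMulCommutative H) (hd : Nat.card H ∣ Nat.card G) :
    IsK3 H ∧ ∃ i ≤ a, ∃ j ≤ b, Nat.card H = p * 3 ^ i * 2 ^ j := by
  obtain ⟨i, hi, j, hj, e⟩ := card_of_dvd (not_solvable hH) h.prime (h.card ▸ hd)
  exact ⟨⟨inferInstance, hH, p, i, j, h.prime, e⟩, i, hi, j, hj, e⟩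

/-- the induction shell -/
theorem induct {P : (G : Type u) → [Group G] → Prop}
    (rk : ∀ (G : Type u) [Group G] [Finite G], IsK3 G → PRankLE 2 2 G → P G)
    (step : ∀ (G : Type u) [Group G] [Finite G] (p a b : ℕ), KT G p a b → ¬ PRankLE 2 2 G →
      (∀ (H : Type u) [Group H] [Finite H], Nat.card H < Nat.card G → IsK3 H → P H) → P G)
    (G : Type u) [Group G] [Finite G] (h : IsK3 G) : P G := by
  induction hn : Nat.card G using Nat.strong_induction_on generalizing G with
  | _ n ih =>
    obtain ⟨h1, h2, p, a, b, hp, hc⟩ := id h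
    by_cases hr : PRankLE 2 2 G
    · exact rk G h hr
    · exact step G p a b ((red h2 hp hc).resolve_left hr) hr
        fun H _ _ hlt hH => ih _ (hn ▸ hlt) H hH rfl

end H18.K3
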