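import Mathlib
import Cfsg.Agent.H18.K3Red
import Cfsg.Agent.H18.D1h

/-!
# Simple groups of order `p 3^a 2^b` of characteristic two type: arithmetic
-/

set_option autoImplicit false
set_option linter.unusedSectionVars false
set_option linter.unusedVariables false

open Cfsg H4 H17 Subgroup

namespace H18.K3

universe u

variable {G : Type u} [Group G] [Finite G] {p a b e : ℕ} {x y : G}

theorem ger1 {i j : ℕ} (h : 3 ^ j + 1 = 2 ^ i) : i ≤ 2 := by
  by_contra hi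
  obtain ⟨k, rfl⟩ : ∃ k, i = k + 3 := ⟨i - 3, by omega⟩
  have h1 : 3 ^ j % 8 = 1 ∨ 3 ^ j % 8 = 3 := by
    clear h
    induction j with
    | zero => simp
    | succ n ih => rw [pow_succ]; omega
  rw [pow_add] at h
  omega

theorem ger2 {i j : ℕ} (h : 2 ^ i + 1 = 3 ^ j) : i ≤ 3 := by
  by_contra hi
  obtain ⟨k, rfl⟩ : ∃ k, i = k + 4 := ⟨i - 4, by omega⟩
  have h1 : ∀ n, 3 ^ (4 * n) % 80 = 1 := fun n => by
    induction n with
    | zero => simp
    | succ n ih => rw [Nat.mul_succ, pow_add]; omega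
  have h2 := h1 (j / 4)
  have h3 : 3 ^ j = 3 ^ (4 * (j / 4)) * 3 ^ (j % 4) := by rw [← pow_add, Nat.div_add_mod]
  have h4 : ¬ 5 ∣ 2 ^ (k + 4) := fun hd =>
    absurd ((by norm_num : Nat.Prime 5).dvd_of_dvd_pow hd) (by norm_num)
  have h5 : 2 ^ (k + 4) = 2 ^ k * 16 := by rw [pow_add]; norm_num
  have h6 : j % 4 < 4 := Nat.mod_lt _ (by norm_num)
  generalize 3 ^ (4 * (j / 4)) = m at *
  generalize j % 4 = r at *
  interval_cases r <;> omega

namespace KT

theorem a_pos (h : KT G p a b) : 0 < a := by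
  have := h.simple
  by_contra h0
  obtain rfl : a = 0 := by omega
  exact not_solvable h.na (Cfsg.Agent.S0144.result p 2 1 b h.prime Nat.prime_two
    (by rw [h.card]; ring))

theorem b_pos (h : KT G p a b) : 0 < b := by
  have := h.simple
  by_contra h0
  obtain rfl : b = 0 := by omega
  exact not_solvable h.na (Cfsg.Agent.S0144.result p 3 1 a h.prime Nat.prime_three
    (by rw [h.card]; ring))

theorem exists_x (h : KT G p a b) : ∃ x : G, orderOf x = p :=
  have := Fact.mk h.prime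
  exists_prime_orderOf_dvd_card' p (h.card ▸ (dvd_mul_right _ _).mul_right _)

/-- the two Steinberg-like characters -/
theorem exists_chars (h : KT G p a b) (hx : orderOf x = p) :
    ∃ χ ψ : Irr G, deg χ = 2 ^ b ∧ deg ψ = 3 ^ a ∧ χ.1 x ≠ 0 ∧ ψ.1 x ≠ 0 := by
  have := h.simple
  obtain ⟨M2, _⟩ := H18.exists_PM Nat.prime_two
  obtain ⟨M3, _⟩ := H18.exists_PM Nat.prime_three
  obtain ⟨χ, -, c2, c3, -⟩ := exists_st h.na Nat.prime_two Nat.prime_three h.prime h.ne2 h.ne3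
    (by omega) h.card' (h.card ▸ ((dvd_pow_self 3 h.a_pos.ne').mul_left _).mul_right _) h.char2 M3 hx
  obtain ⟨ψ, -, d2, d3, -⟩ := exists_st (a := a) (b := b) h.na Nat.prime_three Nat.prime_two
    h.prime h.ne3 h.ne2 (by omega) (by rw [h.card]; ring)
    (h.card ▸ (dvd_pow_self 2 h.b_pos.ne').mul_left _) h.char3 M2 hx
  exact ⟨χ, ψ, c2, d2, c3, d3⟩

theorem bounds (h : KT G p a b) : 2 ^ b < p * 3 ^ a ∧ 3 ^ a < p * 2 ^ b := by
  obtain ⟨x, hx⟩ := h.exists_x
  obtain ⟨χ, ψ, c1, c2, -⟩ := h.exists_chars hx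
  have h2 : 1 < 2 ^ b := Nat.one_lt_two_pow h.b_pos.ne'
  have h3 : 1 < 3 ^ a := Nat.one_lt_pow h.a_pos.ne' (by norm_num)
  have k1 := deg_sq_lt (χ := χ) fun e => by rw [e, H18.deg_irrOne] at c1; omega
  have k2 := deg_sq_lt (χ := ψ) fun e => by rw [e, H18.deg_irrOne] at c2; omega
  rw [c1, h.card, sq] at k1
  rw [c2, h.card, sq, mul_right_comm] at k2
  exact ⟨lt_of_mul_lt_mul_right k1 (Nat.zero_le _), lt_of_mul_lt_mul_right k2 (Nat.zero_le _)⟩

/-- all the arithmetic information; `e = |N(P) : P|` -/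
theorem arith (h : KT G p a b) (hx : orderOf x = p) :
    ∃ e : ℕ, Nat.card (normalizer (zpowers x : Set G)) = p * e ∧ e ∣ p - 1 ∧ e ≠ 1 ∧
      3 ^ a * 2 ^ b ≡ e [MOD p] ∧
      (((2 ^ b : ℕ) : ℤ) ≡ 1 [ZMOD p] ∨ ((2 ^ b : ℕ) : ℤ) ≡ -1 [ZMOD p] ∨
        ((2 ^ b : ℕ) : ℤ) ≡ e [ZMOD p] ∨ ((2 ^ b : ℕ) : ℤ) ≡ -e [ZMOD p]) ∧
      (((3 ^ a : ℕ) : ℤ) ≡ 1 [ZMOD p] ∨ ((3 ^ a : ℕ) : ℤ) ≡ -1 [ZMOD p] ∨
        ((3 ^ a : ℕ) : ℤ) ≡ e [ZMOD p] ∨ ((3 ^ a : ℕ) : ℤ) ≡ -e [ZMOD p]) ∧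
      (e = 2 → b ≤ 3) := by
  classical
  have := h.simple
  have := Fact.mk h.prime
  have sc : SC p x := ⟨hx, h.cent_p hx⟩
  have d := sc.d1
  obtain ⟨D⟩ := d.nonempty_bData
  obtain ⟨χ, ψ, c1, c2, c3, c4⟩ := h.exists_chars hx
  have m1 : χ ∈ B0 p G := by_contra fun hn => c3 (sc.apply_eq_zero hn (hx ▸ dvd_rfl))
  have m2 : ψ ∈ B0 p G := by_contra fun hn => c4 (sc.apply_eq_zero hn (hx ▸ dvd_rfl))
  have h2 : 1 < 2 ^ b := Nat.one_lt_two_pow h.b_pos.ne'
  have h3 : 1 < 3 ^ a := Nat.one_lt_pow h.a_pos.ne' (by norm_num)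
  have h4 : 2 ∣ 2 ^ b := dvd_pow_self 2 h.b_pos.ne'
  have h5 : ¬ 2 ∣ 3 ^ a := fun hd => absurd (Nat.prime_two.dvd_of_dvd_pow hd) (by norm_num)
  refine ⟨Nat.card (Aut d.ord), by rw [d.card_normalizer, sc.cent, Nat.card_zpowers, hx],
    card_Aut_dvd d.ord, d.card_Aut_ne_one (commutator_eq_top_of_simple h.na), ?_,
    c1 ▸ D.deg_cases m1, c2 ▸ D.deg_cases m2, fun he => ?_⟩
  · have k1 := d.card_eq_of_centralizer sc.cent
    rw [h.card, mul_assoc] at k1
    rw [Nat.eq_of_mul_eq_mul_left h.prime.pos k1]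
    simpa using (card_sylow_modEq_one p G).mul_left (Nat.card (Aut d.ord))
  · have n1 : χ ≠ irrOne G := fun e => by rw [e, H18.deg_irrOne] at c1; omega
    have n2 : ψ ≠ irrOne G := fun e => by rw [e, H18.deg_irrOne] at c2; omega
    have key : ∀ ξ ∈ D.Nx, ξ ≠ irrOne G → D.Nx = {irrOne G, ξ} := fun ξ hξ hne =>
      (Finset.eq_of_subset_of_card_le (by
        intro z hz
        rcases Finset.mem_insert.1 hz with rfl | hz
        · exact D.one_mem
        · rw [Finset.mem_singleton.1 hz]; exact hξ)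
        (by rw [D.card_Nx, he, Finset.card_pair hne.symm])).symm
    have rel : ∀ ξ ∈ D.Nx, ξ ≠ irrOne G → ∀ j, deg ξ + 1 = deg (D.μ j) ∨ deg (D.μ j) + 1 = deg ξ := by
      intro ξ hξ hne j
      have r := D.deg_rel j
      rw [key ξ hξ hne, Finset.sum_pair hne.symm, D.a_one, H18.deg_irrOne] at r
      have p1 := Nat.pos_of_ne_zero (deg_ne_zero ξ)
      have p2 := Nat.pos_of_ne_zero (deg_ne_zero (D.μ j))
      have p3 : deg ξ ≠ 1 := fun e1 =>
        hne ((deg_eq_one_iff_of_perfect (commutator_eq_top_of_simple h.na)).1 e1)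
      rcases D.a_sq ξ hξ with e1 | e1 <;> rcases D.δ_sq with e2 | e2 <;> rw [e1, e2] at r <;> omega
    rcases (D.mem_iff χ).1 m1 with k1 | ⟨j, rfl⟩ <;> rcases (D.mem_iff ψ).1 m2 with k2 | ⟨l, rfl⟩
    · have := k2
      rw [key χ k1 n1, Finset.mem_insert, Finset.mem_singleton] at this
      rcases this with e1 | e1
      · exact absurd e1 n2
      · rw [e1] at c2; omega
    · rcases rel χ k1 n1 l with r | r <;> rw [c1, c2] at r
      · exact ger2 r
      · have := ger1 r; omega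
    · rcases rel ψ k2 n2 j with r | r <;> rw [c1, c2] at r
      · have := ger1 r; omega
      · exact ger2 r
    · have := D.deg_μ_congr j l
      omega

theorem pow_mod (c n m k : ℕ) (h : c ^ n % m = 1) : c ^ k % m = c ^ (k % n) % m := by
  conv_lhs => rw [← Nat.div_add_mod k n, pow_add, pow_mul, Nat.mul_mod, Nat.pow_mod, h, one_pow]
  simp

/-- `p = 5` -/
theorem kill5 (h : KT G 5 a b) : b ≤ 3 ∨ (b % 4 = 0 ∧ a % 4 = 2) ∨ (b % 4 = 2 ∧ a % 4 = 0) := by
  obtain ⟨x, hx⟩ := h.exists_x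
  obtain ⟨e, -, h1, h2, h3, h4, -, h6⟩ := h.arith hx
  have he : e = 2 ∨ e = 4 := by
    have := Nat.le_of_dvd (by norm_num) h1
    interval_cases e <;> simp_all
  rcases he with rfl | rfl
  · exact Or.inl (h6 rfl)
  right
  have k2 := pow_mod 2 4 5 b (by norm_num)
  have k3 := pow_mod 3 4 5 a (by norm_num)
  have l2 : b % 4 < 4 := Nat.mod_lt _ (by norm_num)
  have l3 : a % 4 < 4 := Nat.mod_lt _ (by norm_num)
  unfold Nat.ModEq at h3
  unfold Int.ModEq at h4
  rw [Nat.mul_mod, k2, k3] at h3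
  generalize 2 ^ b = m at *
  generalize b % 4 = r at *
  generalize a % 4 = s at *
  interval_cases r <;> interval_cases s <;> simp_all <;> omega

theorem dvd_e (h : KT G p a b) (he : Nat.card (normalizer (zpowers x : Set G)) = p * e)
    (hy : y ∈ normalizer (zpowers x : Set G)) {k : ℕ} (ho : orderOf y = k) (hk : k.Coprime p) :
    k ∣ e := by
  have h1 := orderOf_dvd_natCard (⟨y, hy⟩ : normalizer (zpowers x : Set G))
  rw [← orderOf_coe, he] at h1
  exact hk.dvd_of_dvd_mul_left (ho ▸ h1)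

/-- `p = 7` with `7 : 3` -/
theorem kill7 (h : KT G 7 a b) (hx : orderOf x = 7) (hy : y ∈ normalizer (zpowers x : Set G))
    (ho : orderOf y = 3) : b % 3 ≠ 1 := by
  obtain ⟨e, h0, h1, h2, h3, h4, -, h6⟩ := h.arith hx
  have h7 := h.dvd_e h0 hy ho (by norm_num)
  have he : e = 3 ∨ e = 6 := by
    have := Nat.le_of_dvd (by norm_num) h1
    interval_cases e <;> simp_all
  have k2 := pow_mod 2 3 7 b (by norm_num)
  intro hb
  rw [hb] at k2
  unfold Int.ModEq at h4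
  generalize 2 ^ b = m at *
  rcases he with rfl | rfl <;> omega

/-- `p = 7` with `7 : 2` -/
theorem kill7' (h : KT G 7 a b) (hx : orderOf x = 7) (hy : y ∈ normalizer (zpowers x : Set G))
    (ho : orderOf y = 2) : b ≤ 3 ∨ (b % 3 = 0 ∧ a % 6 = 3) := by
  obtain ⟨e, h0, h1, h2, h3, h4, -, h6⟩ := h.arith hx
  have h7 := h.dvd_e h0 hy ho (by norm_num)
  have he : e = 2 ∨ e = 6 := by
    have := Nat.le_of_dvd (by norm_num) h1
    interval_cases e <;> simp_all
  rcases he with rfl | rfl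
  · exact Or.inl (h6 rfl)
  right
  have k2 := pow_mod 2 3 7 b (by norm_num)
  have k3 := pow_mod 3 6 7 a (by norm_num)
  have l2 : b % 3 < 3 := Nat.mod_lt _ (by norm_num)
  have l3 : a % 6 < 6 := Nat.mod_lt _ (by norm_num)
  unfold Nat.ModEq at h3
  unfold Int.ModEq at h4
  rw [Nat.mul_mod, k2, k3] at h3
  generalize 2 ^ b = m at *
  generalize b % 3 = r at *
  generalize a % 6 = s at *
  interval_cases r <;> interval_cases s <;> simp_all <;> omega

end KT

end H18.K3
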