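import Mathlib
import Cfsg.Agent.H14.RuAm
import Cfsg.Agent.H18.RRT

/-! Conjugation action on codes of the model of `2^{3+8} · L₃(2)`. -/

set_option autoImplicit false

namespace H18.RR

open H14.Ru H29 H7.Cay

/-- ordered product of the members of a list selected by the bits of a number. -/
noncomputable def evb (t : Bool) (L : List ℕ) : ℕ → ℕ :=
  List.rec (motive := fun _ => ℕ → ℕ) (fun _ => 0)
    (fun x _ ih m => lit (ih (Nat.shiftRight m 1)) fun y =>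
      Bool.rec y (mu t x y) (Nat.beq (Nat.land m 1) 1)) L

/-- index of a member of `W`. -/
noncomputable def ixW (x : ℕ) : ℕ := Nat.add (Nat.land x 7) (Nat.mul 8 (Nat.shiftRight x 9))

/-- the action on `W`. -/
noncomputable def rw (u x : ℕ) : ℕ := pk (pk RWT 352 (ixW u)) 11 (ixW x)

/-- the image of `x`, read off from a word modulo `W`. -/
noncomputable def rh (t : Bool) (A B : List ℕ) (u m x : ℕ) : ℕ :=
  lit m fun m => lit (mu t (iv t (evb t A m)) x) fun d =>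
    Bool.rec NM (mu t (evb t B m) (rw u d)) (inW d)

/-- guarded composition. -/
noncomputable def cp (f g : ℕ → ℕ) (x : ℕ) : ℕ :=
  lit (g x) fun y => Bool.rec NM (f y) (lt y NM)

/-- guarded iteration. -/
noncomputable def pw (f : ℕ → ℕ) (n : ℕ) : ℕ → ℕ :=
  Nat.rec (motive := fun _ => ℕ → ℕ) (fun x => x) (fun _ ih => cp f ih) n

/-- normalising `Zp` and centralising `z`. -/
noncomputable def dz (t : Bool) (x : ℕ) : Bool :=
  and2 (memL (hi x) Sa) (allL Zp fun c => memL (cn t x c) Zp)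

/-- the quaternion group centralising `σ`. -/
def Q8 : List ℕ := [0, 1, 32, 33, 256, 257, 288, 289]
/-- `Zp` without `⟨z⟩`. -/
def U6 : List ℕ := [594, 595, 1180, 1181, 1740, 1741]
/-- the codes of `Z`. -/
def Zl : List ℕ := [0, 1, 2, 3, 4, 5, 6, 7]

theorem mem_Zl {b : ℕ} : b ∈ Zl ↔ b < 8 := by
  simp only [Zl, List.mem_cons, List.not_mem_nil, or_false]; omega
theorem Q8_lt {b : ℕ} (h : b ∈ Q8) : b < 2048 := by
  simp only [Q8, List.mem_cons, List.not_mem_nil, or_false] at h; omega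
theorem Zp_lt {b : ℕ} (h : b ∈ Zp) : b < 2048 := by
  simp only [Zp, List.mem_cons, List.not_mem_nil, or_false] at h; omega
theorem inW_lt {b : ℕ} (h : inW b = true) : b < 2048 := by
  simp only [inW, rd, List.mem_cons, List.not_mem_nil, or_false] at h; omega

variable {G : Type*} [Group G]

/-- `g` conjugates the code `x` to the code `y`. -/
def P (ψ : ℕ → G) (g : G) (x y : ℕ) : Prop := x < NM ∧ y < NM ∧ g * ψ x * g⁻¹ = ψ y

namespace P
variable {t : Bool} {ψ : ℕ → G} {g g' : G} {x y x' y' : ℕ}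

theorem zero (h : Mo t ψ) (g : G) : P ψ g 0 0 := ⟨by norm_num, by norm_num, by simp [h.zero]⟩

theorem mu (h : Mo t ψ) (a : P ψ g x y) (b : P ψ g x' y') : P ψ g (mu t x x') (mu t y y') :=
  ⟨mu_lt t a.1 b.1, mu_lt t a.2.1 b.2.1, by
    rw [h.mul _ a.1 _ b.1, h.mul _ a.2.1 _ b.2.1, ← a.2.2, ← b.2.2]; group⟩

theorem cn (h : Mo t ψ) (a : P ψ g x y) (b : P ψ g x' y') : P ψ g (cn t x x') (cn t y y') :=
  ⟨Mo.cn_lt a.1 b.1, Mo.cn_lt a.2.1 b.2.1, by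
    rw [h.cn a.1 b.1, h.cn a.2.1 b.2.1, ← a.2.2, ← b.2.2]; group⟩

theorem cm (h : Mo t ψ) (a : P ψ g x y) (b : P ψ g x' y') : P ψ g (cm t x x') (cm t y y') :=
  ⟨Mo.cm_lt a.1 b.1, Mo.cm_lt a.2.1 b.2.1, by
    rw [h.cm a.1 b.1, h.cm a.2.1 b.2.1, ← a.2.2, ← b.2.2]; group⟩

theorem fn (h : Mi t ψ) (a : P ψ g x y) (b : P ψ g x y') : y = y' :=
  h.inj _ a.2.1 _ b.2.1 (a.2.2.symm.trans b.2.2)

theorem inv (a : P ψ g x y) : P ψ g⁻¹ y x := ⟨a.2.1, a.1, by rw [← a.2.2]; group⟩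

theorem inj (h : Mi t ψ) (a : P ψ g x y) (b : P ψ g x' y) : x = x' := a.inv.fn h b.inv

theorem comp (b : P ψ g' y y') (a : P ψ g x y) : P ψ (g' * g) x y' :=
  ⟨a.1, b.2.1, by rw [← b.2.2, ← a.2.2]; group⟩

theorem inner (h : Mo t ψ) {m : ℕ} (hm : m < NM) (hx : x < NM) : P ψ (ψ m) x (H14.Ru.cn t m x) :=
  ⟨hx, Mo.cn_lt hm hx, (h.cn hm hx).symm⟩

theorem sq (a : P ψ g x y) (b : P ψ (g * g) x y') : P ψ g y y' :=
  ⟨a.2.1, b.2.1, by rw [← a.2.2, ← b.2.2]; group⟩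

theorem one (hx : x < NM) : P ψ 1 x x := ⟨hx, hx, by simp⟩

theorem mu_eq (h : Mi t ψ) {c : ℕ} (hc : c < NM) (a : P ψ (ψ c) x y) :
    H14.Ru.mu t c x = H14.Ru.mu t y c :=
  h.inj _ (mu_lt t hc a.1) _ (mu_lt t a.2.1 hc) (by
    rw [h.mul _ hc _ a.1, h.mul _ a.2.1 _ hc, ← a.2.2]; group)

theorem evb (h : Mo t ψ) {A B : List ℕ} (a : List.Forall₂ (P ψ g) A B) (m : ℕ) :
    P ψ g (evb t A m) (evb t B m) := by
  induction a generalizing m with
  | nil => exact zero h g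
  | cons a _ ih =>
    change P ψ g (Bool.rec _ _ (Nat.beq (Nat.land m 1) 1)) (Bool.rec _ _ (Nat.beq (Nat.land m 1) 1))
    cases Nat.beq (Nat.land m 1) 1
    · exact ih _
    · exact a.mu h (ih _)

theorem za (h : Mo t ψ) {c b : ℕ} (hc : c < NM) (hb : b < 8) : P ψ (ψ c) b (za (hi c) b) :=
  ⟨by omega, by have := za_lt (hi c) b; omega, h.cj_z hc hb⟩

theorem qz (h : Mo t ψ) {c b : ℕ} (hc : c < 2048) (hb : b < 8) : P ψ (ψ c) b b :=
  ⟨by omega, by omega, by rw [h.zc hc hb]; group⟩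

end P

/-- `f` describes the action of `g` wherever it is defined. -/
def Val (ψ : ℕ → G) (g : G) (f : ℕ → ℕ) : Prop := ∀ x < NM, f x < NM → P ψ g x (f x)

namespace Val
variable {t : Bool} {ψ : ℕ → G} {g g' : G} {f f' : ℕ → ℕ}

theorem cp (b : Val ψ g' f') (a : Val ψ g f) : Val ψ (g' * g) (cp f' f) := by
  intro x hx h
  change (Bool.rec NM (f' (f x)) (lt (f x) NM) : ℕ) < NM at h
  change P ψ _ x (Bool.rec NM (f' (f x)) (lt (f x) NM))
  cases e : lt (f x) NM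
  · rw [e] at h; exact absurd h (lt_irrefl _)
  · rw [e] at h; exact (b _ (lt_true.1 e) h).comp (a _ hx (lt_true.1 e))

theorem pw (a : Val ψ g f) : ∀ n, Val ψ (g ^ n) (pw f n)
  | 0 => fun x hx _ => by rw [pow_zero]; exact P.one hx
  | n + 1 => by rw [pow_succ']; exact a.cp (pw a n)

theorem cn (h : Mo t ψ) {m : ℕ} (hm : m < NM) : Val ψ (ψ m) (cn t m) :=
  fun _ hx _ => P.inner h hm hx

theorem rh (h : Mo t ψ) {A B : List ℕ} (a : List.Forall₂ (P ψ g) A B) {u : ℕ}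
    (hw : ∀ x, inW x = true → P ψ g x (rw u x)) (m : ℕ → ℕ) :
    Val ψ g fun x => rh t A B u (m x) x := by
  intro x hx hv
  have e := P.evb h a (m x)
  change (Bool.rec NM _ (inW (mu t (iv t (evb t A (m x))) x)) : ℕ) < NM at hv
  change P ψ _ x (Bool.rec NM _ (inW (mu t (iv t (evb t A (m x))) x)))
  cases e1 : inW (mu t (iv t (evb t A (m x))) x)
  · rw [e1] at hv; exact absurd hv (lt_irrefl _)
  · have e2 := e.mu h (hw _ e1)
    refine ⟨hx, e2.2.1, ?_⟩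
    have e3 := e2.2.2
    rw [h.mul _ e.1 _ (hw _ e1).1, h.mul _ (Mo.iv_lt e.1) _ hx, h.iv e.1, mul_inv_cancel_left] at e3
    exact e3

/-- reading a list of values. -/
theorem vals (a : Val ψ g f) {L : List (ℕ × ℕ)}
    (h : (allL L fun p => and2 (and2 (lt p.1 NM) (lt p.2 NM)) (Nat.beq (f p.1) p.2)) = true) :
    ∀ p ∈ L, P ψ g p.1 p.2 := by
  intro p hp
  have := allL_true.1 h p hp
  simp only [rd] at this
  exact this.2 ▸ a _ this.1.1 (this.2 ▸ this.1.2)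

end Val

/-- `g` maps the codes in `A` to codes in `B`. -/
def Mp (ψ : ℕ → G) (g : G) (A B : List ℕ) : Prop := ∀ x ∈ A, ∃ y ∈ B, P ψ g x y

namespace Mp
variable {t : Bool} {ψ : ℕ → G} {g g' : G} {A B C : List ℕ}

theorem comp (b : Mp ψ g' B C) (a : Mp ψ g A B) : Mp ψ (g' * g) A C := fun x hx =>
  let ⟨y, hy, e⟩ := a x hx
  let ⟨z, hz, e'⟩ := b y hy
  ⟨z, hz, e'.comp e⟩

theorem inv (h : Mi t ψ) (a : Mp ψ g A B) (hc : B.toFinset.card ≤ A.toFinset.card) :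
    Mp ψ g⁻¹ B A := by
  choose! f hf using a
  have := Finset.surjOn_of_injOn_of_card_le (s := A.toFinset) (t := B.toFinset) f
    (fun x hx => by simpa using (hf x (by simpa using hx)).1)
    (fun x hx y hy e => (hf x (by simpa using hx)).2.inj h (e ▸ (hf y (by simpa using hy)).2)) hc
  intro y hy
  obtain ⟨x, hx, rfl⟩ := this (show y ∈ (B.toFinset : Set ℕ) by simpa using hy)
  exact ⟨x, by simpa using hx, (hf x (by simpa using hx)).2.inv⟩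

theorem z (h : Mo t ψ) {c : ℕ} (hc : c < NM) : Mp ψ (ψ c) Zl Zl := fun _ hb =>
  ⟨_, mem_Zl.2 (za_lt _ _), P.za h hc (mem_Zl.1 hb)⟩

end Mp

theorem card_Zl : Zl.toFinset.card = 8 := by decide
theorem card_Zp : Zp.toFinset.card = 8 := by decide

/-- `g` centralises `z` and normalises `Z` and `Zp`. -/
structure Nm (ψ : ℕ → G) (g : G) : Prop where
  c : P ψ g 1 1
  z : Mp ψ g Zl Zl
  p : Mp ψ g Zp Zp

/-- `g` centralises `z` and swaps `Z` and `Zp`. -/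
structure SW (ψ : ℕ → G) (g : G) : Prop where
  c : P ψ g 1 1
  z : Mp ψ g Zl Zp
  p : Mp ψ g Zp Zl

section
variable {t : Bool} {ψ : ℕ → G} {g r r' : G}

theorem SW.inv (h : Mi t ψ) (a : SW ψ r) : SW ψ r⁻¹ :=
  ⟨a.c.inv, a.p.inv h (by rw [card_Zl, card_Zp]), a.z.inv h (by rw [card_Zl, card_Zp])⟩

theorem SW.mul (a : SW ψ r) (b : SW ψ r') : Nm ψ (r * r') :=
  ⟨a.c.comp b.c, a.p.comp b.z, a.z.comp b.p⟩

theorem SW.mul_N (a : SW ψ r) (b : Nm ψ g) : SW ψ (r * g) :=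
  ⟨a.c.comp b.c, a.z.comp b.z, a.p.comp b.p⟩

theorem SW.N_mul (a : SW ψ r) (b : Nm ψ g) : SW ψ (g * r) :=
  ⟨b.c.comp a.c, b.p.comp a.z, b.z.comp a.p⟩

theorem SW.conj (h : Mi t ψ) (a : SW ψ r) (b : Nm ψ g) : Nm ψ (r * g * r⁻¹) :=
  (a.mul_N b).mul (a.inv h)

theorem sa_iff {k : ℕ} (hk : k < 168) : k ∈ Sa ↔ za k 1 = 1 := by
  have := allF_true.1 k_za k hk
  simp only [rd] at this
  exact ⟨this.1.2.2, this.1.2.1⟩

theorem P.sa (h : Mi t ψ) {c : ℕ} (hc : c < NM) : P ψ (ψ c) 1 1 ↔ hi c ∈ Sa := by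
  rw [sa_iff (hi_lt hc)]
  exact ⟨fun e => (P.za h.toMo hc (by norm_num)).fn h e,
    fun e => by have := P.za h.toMo hc (b := 1) (by norm_num); rwa [e] at this⟩

theorem dz_iff (h : Mi t ψ) {c : ℕ} (hc : c < NM) : dz t c = true ↔ Nm ψ (ψ c) := by
  simp only [dz, rd]
  constructor
  · rintro ⟨h1, h2⟩
    exact ⟨(P.sa h hc).2 h1, Mp.z h.toMo hc, fun y hy =>
      ⟨_, h2 y hy, P.inner h.toMo hc (by have := Zp_lt hy; omega)⟩⟩
  · intro a
    refine ⟨(P.sa h hc).1 a.c, fun y hy => ?_⟩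
    obtain ⟨y', hy', e⟩ := a.p y hy
    rwa [(P.inner h.toMo hc e.1).fn h e]

theorem Nm.code (h : HD t ψ) (a : Nm ψ g) : ∃ c < NM, g = ψ c ∧ dz t c = true := by
  obtain ⟨c, hc, rfl⟩ := h.nz g fun b hb =>
    let ⟨b', hb', e⟩ := a.z b (mem_Zl.2 hb)
    ⟨b', mem_Zl.1 hb', e.2.2⟩
  exact ⟨c, hc, rfl, (dz_iff h.mi hc).2 a⟩

/-- an element centralising a plane of `Z`. -/
theorem code_Vb (h : HD t ψ) (a : P ψ g 1 1) (b : P ψ g 2 2) :
    ∃ c < NM, g = ψ c ∧ hi c ∈ Vb ∧ (P ψ g 4 4 → c < 2048) := by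
  obtain ⟨c, hc, rfl⟩ := h.c0 g a.2.2 b.2.2
  have := allF_true.1 k_za _ (hi_lt hc)
  simp only [rd] at this
  have := this.1.1.2 ⟨(P.za h.mi.toMo hc (by norm_num)).fn h.mi a,
    (P.za h.mi.toMo hc (by norm_num)).fn h.mi b⟩
  refine ⟨c, hc, rfl, this.1, fun e => ?_⟩
  have := this.2 ((P.za h.mi.toMo hc (by norm_num)).fn h.mi e)
  rw [hi_eq] at this
  omega

/-- search for an element of `Q` with a given action. -/
noncomputable def srch (t : Bool) (L : List (ℕ × ℕ)) (R : List ℕ) : Bool :=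
  allF 2048 fun c => imp2 (allL L fun p => Nat.beq (mu t c p.1) (mu t p.2 c)) (memL c R)

theorem code_Q (h : HD t ψ) (a : P ψ g 1 1) (b : P ψ g 2 2) (c : P ψ g 4 4) {L : List (ℕ × ℕ)}
    (hL : ∀ p ∈ L, P ψ g p.1 p.2) {R : List ℕ} (k : srch t L R = true) : ∃ c ∈ R, g = ψ c := by
  obtain ⟨e, he, rfl, -, h2⟩ := code_Vb h a b
  have := allF_true.1 k e (h2 c)
  simp only [allL_true, rd] at this
  exact ⟨e, this fun p hp => (hL p hp).mu_eq h.mi he, rfl⟩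

/-- Step 1. -/
theorem exists_SW (h : HD t ψ) : ∃ r, SW ψ r := by
  have key : ∀ g, g * ψ 1 * g⁻¹ = ψ 1 → (¬ ∃ c < NM, g = ψ c) →
      ∃ m < NM, P ψ (ψ m * g) 1 1 ∧ Mp ψ (ψ m * g) Zl Zp := by
    intro g h1 h2
    obtain ⟨m, hm, hs, e⟩ := (h.sp g h1).resolve_left h2
    refine ⟨m, hm, ((P.sa h.mi hm).2 hs).comp ⟨by norm_num, by norm_num, h1⟩, fun b hb => ?_⟩
    obtain ⟨c, hc, e⟩ := e b (mem_Zl.1 hb)
    exact ⟨c, hc, by have := mem_Zl.1 hb; omega, by have := Zp_lt hc; omega, e⟩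
  obtain ⟨g, h1, h2⟩ := h.ex
  obtain ⟨m, hm, a, b⟩ := key g h1 h2
  obtain ⟨m', hm', a', b'⟩ := key (ψ m * g)⁻¹ a.inv.2.2 (by
    rintro ⟨c, hc, e⟩
    refine h2 ⟨mu t (iv t m) (iv t c), mu_lt t (Mo.iv_lt hm) (Mo.iv_lt hc), ?_⟩
    rw [h.mi.mul _ (Mo.iv_lt hm) _ (Mo.iv_lt hc), h.mi.toMo.iv hm, h.mi.toMo.iv hc, ← e]
    group)
  exact ⟨_, a', b', (Mp.z h.mi.toMo hm').comp (b.inv h.mi (by rw [card_Zl, card_Zp]))⟩

end

end H18.RR
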