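import Mathlib
import Cfsg.Agent.H18.RR0

/-! Kernel checks for the normalisation of the element swapping `Z` and `Zp`. -/

set_option autoImplicit false

namespace H18.RR

open H14.Ru H29 H7.Cay

/-- the elements of `C(z)` inverting `σ`. -/
def I24 : List ℕ := [43008, 43009, 43040, 43041, 43264, 43265, 43296, 43297, 57344, 57345, 57376,
  57377, 57600, 57601, 57632, 57633, 71680, 71681, 71712, 71713, 71936, 71937, 71968, 71969]

theorem k_hi : (allL Sa fun k => and2
    (and2 (imp2 (Nat.beq (mk (mk k k) k) 0) (memL k [0, 7, 14, 92, 100, 127, 144, 149, 158]))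
      (imp2 (Nat.beq (mk k k) 0) (or2 (memL k [0, 21, 28, 35, 55, 68, 122]) (memL k [88, 135, 162]))))
    (and2 (imp2 (Nat.beq (mk k 7) (mk 7 k)) (memL k [0, 7, 14]))
      (imp2 (Nat.beq (mk k 7) (mk 14 k)) (memL k [21, 28, 35])))) = true := by decide +kernel

theorem k_o3 (t : Bool) : (allK [0, 7, 14, 92, 100, 127, 144, 149, 158] fun c =>
    imp2 (Nat.beq (mu t (mu t c c) c) 0) (or2 (Nat.beq c 0) (imp2 (dz t c)
      (lit (pk (H14.Ru.tb t O3T0 O3T1) 19
          (Nat.add (Nat.mul 256 (pk IX3 3 (hi c))) (Nat.shiftRight (lo c) 3))) fun m0 =>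
        anyF 8 fun e => lit (Nat.xor m0 e) fun m =>
          and2 (Nat.beq (cn t m c) 14336) (and2 (lt m NM) (dz t m)))))) = true := by
  cases t <;> decide +kernel

theorem k_c24 (t : Bool) : (allK [0, 7, 14] fun e => imp2 (Nat.beq (mu t e 14336) (mu t 14336 e))
    (lit (mu t e e) fun s => and2 (memL (mu t s e) Q8)
      (imp2 (Nat.beq (mu t s s) 0) (memL e Q8)))) = true := by
  cases t <;> decide +kernel

theorem k_i24 (t : Bool) : (allK [21, 28, 35] fun e =>
    imp2 (Nat.beq (mu t e 14336) (mu t 28672 e)) (memL e I24)) = true := by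
  cases t <;> decide +kernel

theorem k_one (t : Bool) : and2 (and2 (allL [88, 43008, 14336] (dz t))
      (allL Q8 fun q => and2 (and2 (dz t q) (Nat.beq (cn t q 14336) 14336))
        (and2 (Nat.beq (mu t (mu t q q) (mu t q q)) 0) (allL Q8 fun p => memL (mu t q p) Q8))))
    (and2 (and2 (Nat.beq (mu t 14336 14336) 28672) (Nat.beq (mu t 28672 14336) 0))
      (and2 (and2 (Nat.beq (cn t 43008 14336) 28672) (Nat.beq (mu t 88 88) 7))
        (and2 (Nat.beq (cn t 14336 7) 3) (Nat.beq (cn t 14336 88) 136)))) = true := by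
  cases t <;> decide +kernel

theorem k_rw (t : Bool) : (allL U6 fun u => lit (cn t 14336 u) fun v => allF 2048 fun x =>
    imp2 (inW x) (anyF 32 fun m => and2 (Nat.beq (evb t [1, 7, 3, u, v] m) x)
      (Nat.beq (evb t [1, u, v, 7, 3] m) (rw u x)))) = true := by
  cases t <;> decide +kernel

end H18.RR
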