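import Mathlib
import Cfsg.Agent.H18.RR1

/-! The search for the action of the swapping element on `K`. -/

set_option autoImplicit false

namespace H18.RR

open H14.Ru H29 H7.Cay

/-- a commutator is compatible with the action on `W`. -/
noncomputable def ok (t : Bool) (u x h h' : ℕ) : Bool :=
  imp2 (inW x) (Nat.beq (cm t h h') (rw u x))

/-- compatibility of a further generator. -/
noncomputable def ok4 (t : Bool) (u a v a' v' y b : ℕ) : Bool :=
  and2 (and2 (lit (cm t 88 y) fun x => ok t u x a b) (lit (cm t 136 y) fun x => ok t u x v b))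
    (and2 (lit (cm t a y) fun x => ok t u x a' b) (lit (cm t v y) fun x => ok t u x v' b))

/-- compatibility with `w`. -/
noncomputable def okw (t : Bool) (e h y : ℕ) : Bool := imp2 (lt y NM) (Nat.beq y (cn t e h))

/-- the surviving images of the first generator. -/
def A8 : List ℕ := [331865, 331870, 332298, 332301, 332995, 332996, 333458, 333461]

/-- the result of the search. -/
noncomputable def fin (t : Bool) (a q b c : ℕ) : Bool :=
  Bool.rec (and2 (memL a A8) (imp2 (Nat.beq a 333458) (and2 (lt q 2)
    (or2 (and2 (Nat.beq b 256) (Nat.beq c 32)) (and2 (Nat.beq b 257) (Nat.beq c 33)))))) false t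

/-- last stage of the search. -/
noncomputable def st3 (t : Bool) (u a v a' v' b c : ℕ) (f : Bool) : Bool :=
  lit (rh t [88, 136, a, v, 32, 256] [a, v, a', v', b, c] u 3 (cn t 43008 88)) fun y1 =>
  lit (rh t [88, 136, a, v, 32, 256] [a, v, a', v', b, c] u 2 (cn t 43008 136)) fun y2 =>
  lit (rh t [88, 136, a, v, 32, 256] [a, v, a', v', b, c] u 12 (cn t 43008 a)) fun y3 =>
  lit (rh t [88, 136, a, v, 32, 256] [a, v, a', v', b, c] u 8 (cn t 43008 v)) fun y4 =>
  lit (rh t [88, 136, a, v, 32, 256] [a, v, a', v', b, c] u 32 (cn t 43008 32)) fun y5 =>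
  lit (rh t [88, 136, a, v, 32, 256] [a, v, a', v', b, c] u 16 (cn t 43008 256)) fun y6 =>
  allL I24 fun e => imp2 (and2 (and2 (okw t e a y1) (and2 (okw t e v y2) (okw t e a' y3)))
    (and2 (okw t e v' y4) (and2 (okw t e b y5) (okw t e c y6)))) f

/-- the search. -/
noncomputable def body (t : Bool) (a : ℕ) : Bool :=
  lit (mu t a a) fun u => imp2 (memL u U6) (lit (cn t 14336 a) fun v =>
    lit (cm t 88 136) fun x1 => lit (cm t 88 a) fun x2 => lit (cm t 88 v) fun x3 =>
    lit (cm t 136 a) fun x4 => lit (cm t 136 v) fun x5 => lit (cm t a v) fun x6 =>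
    allL Q8 fun q => lit (cn t q 88) fun a' => lit (cn t q 136) fun v' =>
      imp2 (and2 (and2 (ok t u x1 a v) (and2 (ok t u x2 a a') (ok t u x3 a v')))
          (and2 (ok t u x4 v a') (and2 (ok t u x5 v v') (ok t u x6 a' v'))))
        (allL Q8 fun b => imp2 (ok4 t u a v a' v' 32 b) (allL Q8 fun c =>
          imp2 (ok4 t u a v a' v' 256 c) (st3 t u a v a' v' b c (fin t a q b c)))))

theorem k_body1 (t : Bool) : allK [0, 21, 28, 35, 55, 68, 122] (body t) = true := by
  cases t <;> decide +kernel

theorem k_body2 (t : Bool) : allK [88, 135, 162] (body t) = true := by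
  cases t <;> decide +kernel

theorem k_tw : (allL A8 fun a => anyL Q8 fun q =>
    memL (rh false [88] [a] (mu false a a) 1 (cn false q 88)) [333458, 333461]) = true := by
  decide +kernel

end H18.RR
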