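import Mathlib
import Cfsg.Agent.H18.RR2

/-! Normalisation of the element swapping `Z` and `Zp`. -/

set_option autoImplicit false

namespace H18.RR

open H14.Ru H29 H7.Cay

variable {G : Type*} [Group G] {t : Bool} {ψ : ℕ → G} {g r : G}

theorem hi_spec {k : ℕ} (hk : k ∈ Sa) :
    ((mk (mk k k) k = 0 → k ∈ [0, 7, 14, 92, 100, 127, 144, 149, 158]) ∧
      (mk k k = 0 → k ∈ [0, 21, 28, 35, 55, 68, 122] ∨ k ∈ [88, 135, 162])) ∧
    (mk k 7 = mk 7 k → k ∈ [0, 7, 14]) ∧ (mk k 7 = mk 14 k → k ∈ [21, 28, 35]) := by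
  simpa only [rd] using allL_true.1 k_hi k hk

theorem one_spec (t : Bool) : ((∀ a ∈ [88, 43008, 14336], dz t a = true) ∧
      ∀ q ∈ Q8, (dz t q = true ∧ cn t q 14336 = 14336) ∧ mu t (mu t q q) (mu t q q) = 0 ∧
        ∀ p ∈ Q8, mu t q p ∈ Q8) ∧
    (mu t 14336 14336 = 28672 ∧ mu t 28672 14336 = 0) ∧
      (cn t 43008 14336 = 28672 ∧ mu t 88 88 = 7) ∧ cn t 14336 7 = 3 ∧ cn t 14336 88 = 136 := by
  simpa only [rd] using k_one t

theorem dz_sa {c : ℕ} (h : dz t c = true) : hi c ∈ Sa := memL_true.1 (and2_true.1 h).1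

theorem Nm.c24 (h : HD t ψ) (a : Nm ψ g) (b : P ψ g 14336 14336) : ∃ e < NM, g = ψ e ∧
    mu t (mu t e e) e ∈ Q8 ∧ (mu t (mu t e e) (mu t e e) = 0 → e ∈ Q8) := by
  obtain ⟨e, he, rfl, hd⟩ := a.code h
  have e1 := b.mu_eq h.mi he
  have e2 := congrArg hi e1
  rw [hi_mu t he (by norm_num), hi_mu t (by norm_num) he] at e2
  have := allK_true (k_c24 t) ((hi_spec (dz_sa hd)).2.1 e2)
  simp only [rd] at this
  exact ⟨e, he, rfl, this e1⟩

theorem Nm.i24 (h : HD t ψ) (a : Nm ψ g) (b : P ψ g 14336 28672) :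
    ∃ e < NM, g = ψ e ∧ e ∈ I24 := by
  obtain ⟨e, he, rfl, hd⟩ := a.code h
  have e1 := b.mu_eq h.mi he
  have e2 := congrArg hi e1
  rw [hi_mu t he (by norm_num), hi_mu t (by norm_num) he] at e2
  have := allK_true (k_i24 t) ((hi_spec (dz_sa hd)).2.2 e2)
  simp only [rd] at this
  exact ⟨e, he, rfl, this e1⟩

/-- the state after step 2. -/
structure S2 (ψ : ℕ → G) (r : G) (q : ℕ) : Prop where
  sw : SW ψ r
  s : P ψ r 14336 14336
  q8 : q ∈ Q8
  rr : r * r = ψ q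

theorem SW.rho (h : HD t ψ) (a : SW ψ r) {x : ℕ} (hx : x < NM) (hd : dz t x = true) :
    ∃ y, P ψ r x y ∧ dz t y = true := by
  obtain ⟨c, hc, e, hd'⟩ := (a.conj h.mi ((dz_iff h.mi hx).1 hd)).code h
  exact ⟨c, ⟨hx, hc, e⟩, hd'⟩

/-- Step 2. -/
theorem exists_S2 (h : HD t ψ) : ∃ r q, S2 ψ r q := by
  have o := one_spec t
  have m := h.mi.toMo
  obtain ⟨r, a⟩ := exists_SW h
  obtain ⟨c, hc, hd⟩ := a.rho h (x := 14336) (by norm_num) (o.1.1 _ (by simp))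
  have e3 : mu t (mu t c c) c = 0 := by
    have := (hc.mu m hc).mu m hc
    rw [o.2.1.1, o.2.1.2] at this
    exact this.fn h.mi (P.zero m r)
  have e4 := congrArg hi e3
  rw [hi_mu t (mu_lt t hc.2.1 hc.2.1) hc.2.1, hi_mu t hc.2.1 hc.2.1] at e4
  have k := allK_true (k_o3 t) ((hi_spec (dz_sa hd)).1.1 e4)
  simp only [rd] at k
  obtain ⟨e, -, k1, k2, k3⟩ := (k e3).resolve_left (fun e => by
    have := hc.inj h.mi (e ▸ P.zero m r)
    omega) hd
  have b := a.N_mul ((dz_iff h.mi k2).1 k3)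
  have s := (P.inner m k2 hc.2.1).comp hc
  rw [k1] at s
  generalize ψ _ * r = r at b s
  obtain ⟨e, he, e1, e2, -⟩ := (b.mul b).c24 h (s.comp s)
  refine ⟨r * r * r, _, b.N_mul (b.mul b), (s.comp s).comp s, e2, ?_⟩
  rw [m.mul _ (mu_lt t he he) _ he, m.mul _ he _ he, ← e1]
  group

namespace S2
variable {q : ℕ}

theorem rho_Q8 (h : HD t ψ) (a : S2 ψ r q) {x : ℕ} (hx : x ∈ Q8) : ∃ y ∈ Q8, P ψ r x y := by
  have o := (one_spec t).1.2 x hx
  have m := h.mi.toMo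
  have hx' : x < NM := by have := Q8_lt hx; omega
  have s := P.inner m hx' (x := 14336) (by norm_num)
  rw [o.1.2] at s
  obtain ⟨e, he, e1, -, e2⟩ := (a.sw.conj h.mi ((dz_iff h.mi hx').1 o.1.1)).c24 h
    ((a.s.comp s).comp a.s.inv)
  have p : P ψ r x e := ⟨hx', he, e1⟩
  refine ⟨e, e2 ?_, p⟩
  have := (p.mu m p).mu m (p.mu m p)
  rw [o.2.1] at this
  exact this.fn h.mi (P.zero m r)

theorem rho_w (h : HD t ψ) (a : S2 ψ r q) : ∃ y ∈ I24, P ψ r 43008 y := by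
  have o := one_spec t
  have m := h.mi.toMo
  have s := P.inner m (m := 43008) (by norm_num) (x := 14336) (by norm_num)
  rw [o.2.2.1.1] at s
  have s2 := a.s.mu m a.s
  rw [o.2.1.1] at s2
  obtain ⟨e, he, e1, e2⟩ := (a.sw.conj h.mi ((dz_iff h.mi (by norm_num)).1
    (o.1.1 43008 (by simp)))).i24 h ((s2.comp s).comp a.s.inv)
  exact ⟨e, e2, by norm_num, he, e1⟩

theorem twist (h : HD t ψ) (a : S2 ψ r q) {x : ℕ} (hx : x ∈ Q8) : ∃ q', S2 ψ (r * ψ x) q' := by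
  have o := (one_spec t).1.2
  have m := h.mi.toMo
  have lt : ∀ {x}, x ∈ Q8 → x < NM := fun hx => by have := Q8_lt hx; omega
  obtain ⟨y, hy, p⟩ := a.rho_Q8 h hx
  have s := P.inner m (lt hx) (x := 14336) (by norm_num)
  rw [(o x hx).1.2] at s
  have h1 := (o y hy).2.2 q a.q8
  refine ⟨_, a.sw.mul_N ((dz_iff h.mi (lt hx)).1 (o x hx).1.1), a.s.comp s,
    (o _ h1).2.2 x hx, ?_⟩
  rw [m.mul _ (lt h1) _ (lt hx), m.mul _ (lt hy) _ (lt a.q8), ← p.2.2, ← a.rr]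
  group

end S2

/-- the action on `W`. -/
theorem rw_spec (h : Mo t ψ) {u : ℕ} (hu : u ∈ U6) (z : P ψ r 1 1) (s : P ψ r 14336 14336)
    (a : P ψ r 7 u) (b : P ψ r u 7) (x : ℕ) (hx : inW x = true) : P ψ r x (rw u x) := by
  have k := allL_true.1 (k_rw t) u hu
  simp only [rd] at k
  obtain ⟨m, -, e1, e2⟩ := k x (inW_lt hx) hx
  have a' := s.cn h a
  have b' := s.cn h b
  rw [(one_spec t).2.2.2.1] at a' b'
  rw [← e2]
  have := P.evb h (.cons z (.cons a (.cons a' (.cons b (.cons b' .nil))))) m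
  rwa [e1] at this

theorem ok_spec (h : Mi t ψ) {u : ℕ} (hw : ∀ x, inW x = true → P ψ r x (rw u x)) {a b a' b' : ℕ}
    (p : P ψ r a a') (p' : P ψ r b b') : ok t u (cm t a b) a' b' = true := by
  simp only [ok, rd]
  exact fun e => (p.cm h.toMo p').fn h (hw _ e)

theorem S2.sq (h : HD t ψ) {q a : ℕ} (s : S2 ψ r q) (p : P ψ r 88 a) :
    mu t a a ∈ U6 ∧ ∀ x, inW x = true → P ψ r x (rw (mu t a a) x) := by
  have m := h.mi.toMo
  have p2 := p.mu m p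
  rw [(one_spec t).2.2.1.2] at p2
  have hu : mu t a a ∈ U6 := by
    obtain ⟨y, hy, e⟩ := s.sw.z 7 (by decide)
    have e0 : y ≠ 0 := by rintro rfl; exact absurd (e.inj h.mi (P.zero m r)) (by norm_num)
    have e1 : y ≠ 1 := by rintro rfl; exact absurd (e.inj h.mi s.sw.c) (by norm_num)
    rw [p2.fn h.mi e]
    simp only [Zp, U6, List.mem_cons, List.not_mem_nil, or_false] at hy ⊢
    omega
  exact ⟨hu, rw_spec m hu s.sw.c s.s p2
    (p2.sq (s.rr ▸ P.qz m (Q8_lt s.q8) (by norm_num)))⟩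

/-- Step 3. -/
theorem S2.cls (h : HD t ψ) {q a b c : ℕ} (s : S2 ψ r q) (p : P ψ r 88 a) (hb : b ∈ Q8)
    (pb : P ψ r 32 b) (hc : c ∈ Q8) (pc : P ψ r 256 c) : fin t a q b c = true := by
  have m := h.mi.toMo
  have o := one_spec t
  obtain ⟨hu, hw⟩ := s.sq h p
  obtain ⟨a0, p0, hd⟩ := s.sw.rho h (x := 88) (by norm_num) (o.1.1 _ (by simp))
  obtain rfl := p.fn h.mi p0
  have e : H14.Ru.mk (hi a) (hi a) = 0 := by
    rw [← hi_mu t p.2.1 p.2.1, hi_eq]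
    simp only [U6, List.mem_cons, List.not_mem_nil, or_false] at hu
    omega
  have k : body t a = true := by
    rcases (hi_spec (dz_sa hd)).1.2 e with e | e
    · exact allK_true (k_body1 t) e
    · exact allK_true (k_body2 t) e
  have hq : q < NM := by have := Q8_lt s.q8; omega
  have p2 := s.s.cn m p
  rw [o.2.2.2.2] at p2
  have p3 := p.sq (s.rr ▸ P.inner m hq p.1)
  have p4 := p2.sq (s.rr ▸ P.inner m hq p2.1)
  obtain ⟨e, he, pw⟩ := s.rho_w h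
  have v := Val.rh m (.cons p (.cons p2 (.cons p3 (.cons p4 (.cons pb (.cons pc .nil)))))) hw
  have w : ∀ {x y} (n : ℕ), P ψ r x y → okw t e y (rh t [88, 136, a, cn t 14336 a, 32, 256]
      [a, cn t 14336 a, cn t q 88, cn t q 136, b, c] (mu t a a) n (cn t 43008 x)) = true := by
    intro x y n p
    simp only [okw, rd]
    exact fun l => (v (fun _ => n) _ (pw.cn m p).1 l).fn h.mi (pw.cn m p)
  have O := @ok_spec G _ t ψ r h.mi _ hw
  simp only [body, st3, ok4, rd] at k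
  exact k hu q s.q8 ⟨⟨O p p2, O p p3, O p p4⟩, O p2 p3, O p2 p4, O p3 p4⟩ b hb
    ⟨⟨O p pb, O p2 pb⟩, O p3 pb, O p4 pb⟩ c hc ⟨⟨O p pc, O p2 pc⟩, O p3 pc, O p4 pc⟩ e he
    ⟨⟨w _ p, w _ p2, w _ p3⟩, w _ p4, w _ pb, w _ pc⟩

/-- Steps 3 and 4. -/
theorem exists_S4 (h : HD t ψ) :
    t = false ∧ ∃ r q, S2 ψ r q ∧ (P ψ r 88 333458 ∨ P ψ r 88 333461) := by
  obtain ⟨r, q, s⟩ := exists_S2 h
  obtain ⟨a, p, -⟩ := s.sw.rho h (x := 88) (by norm_num) ((one_spec t).1.1 _ (by simp))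
  obtain ⟨b, hb, pb⟩ := s.rho_Q8 h (x := 32) (by decide)
  obtain ⟨c, hc, pc⟩ := s.rho_Q8 h (x := 256) (by decide)
  have k := s.cls h p hb pb hc pc
  cases t
  · refine ⟨rfl, ?_⟩
    have k2 := allL_true.1 k_tw a (memL_true.1 (and2_true.1 k).1)
    simp only [rd] at k2
    obtain ⟨x, hx, k2⟩ := k2
    obtain ⟨q', s'⟩ := s.twist h hx
    have hx' : x < NM := by have := Q8_lt hx; omega
    have v := ((Val.rh h.mi.toMo (.cons p .nil) (s.sq h p).2 fun _ => 1) _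
      (Mo.cn_lt hx' p.1) (by
        simp only [List.mem_cons, List.not_mem_nil, or_false] at k2 ⊢; omega)).comp
      (P.inner h.mi.toMo hx' p.1)
    refine ⟨_, q', s', ?_⟩
    simp only [List.mem_cons, List.not_mem_nil, or_false] at k2 v
    rcases k2 with k2 | k2
    · exact Or.inl (k2 ▸ v)
    · exact Or.inr (k2 ▸ v)
  · exact absurd k (by simp [fin])

end H18.RR
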