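import Mathlib
import Cfsg.Agent.H18.RR3

/-! The outer automorphism of the model given by the first cohomology. -/

set_option autoImplicit false

namespace H18.RR

open H14.Ru H29 H7.Cay

variable {G : Type*} [Group G] {t : Bool} {ψ : ℕ → G} {g r : G}

/-- a derivation of `L₃(2)` with values in `Z`. -/
noncomputable def de (k : ℕ) : ℕ :=
  Bool.rec (pk 0o4652371 3 (Nat.mod k 7)) 0 (lt k 21)

theorem de_lt (k : ℕ) : de k < 8 := by
  unfold de
  cases lt k 21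
  · exact pk_lt _ 3 _
  · norm_num

theorem k_de : (allF 168 fun k => and2 (Nat.beq (mk 0 k) k) (allF 168 fun l =>
    Nat.beq (de (mk k l)) (Nat.xor (de k) (za k (de l))))) = true := by decide +kernel

/-- the twisted code. -/
noncomputable def th (t : Bool) (a : ℕ) : ℕ := mu t (de (hi a)) a

/-- the twisted parametrisation. -/
noncomputable def tw (ψ : ℕ → G) (a : ℕ) : G := ψ (de (hi a)) * ψ a

theorem de_NM (k : ℕ) : de k < NM := by have := de_lt k; omega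

theorem th_lt {a : ℕ} (ha : a < NM) : th t a < NM := mu_lt t (de_NM _) ha

theorem hi_th {a : ℕ} (ha : a < NM) : hi (th t a) = hi a := by
  have := allF_true.1 k_de _ (hi_lt ha)
  simp only [rd] at this
  rw [th, hi_mu t (de_NM _) ha, hi_of_lt (by have := de_lt (hi a); omega), this.1]

theorem tw_eq (h : Mo t ψ) {a : ℕ} (ha : a < NM) : tw ψ a = ψ (th t a) :=
  (h.mul _ (de_NM _) _ ha).symm

theorem tw_th (h : Mo t ψ) {a : ℕ} (ha : a < NM) : ψ a = tw ψ (th t a) := by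
  have := de_lt (hi a)
  rw [tw, hi_th ha, ← tw_eq h ha, tw, ← mul_assoc, ← h.zx (by omega) this, Nat.xor_self, h.zero,
    one_mul]

theorem tw_small (h : Mo t ψ) {a : ℕ} (ha : a < 43008) : tw ψ a = ψ a := by
  have : de (hi a) = 0 := by
    rw [de, lt_true.2 (show hi a < 21 by rw [hi_eq]; omega)]
  rw [tw, this, h.zero, one_mul]

theorem tw_Mi (h : Mi t ψ) : Mi t (tw ψ) := by
  have m := h.toMo
  refine ⟨⟨fun a ha b hb => ?_⟩, fun a ha b hb e => ?_⟩
  · have k := allF_true.1 k_de _ (hi_lt ha)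
    simp only [rd] at k
    have := de_lt (hi a)
    rw [tw, tw, tw, hi_mu t ha hb, k.2 _ (hi_lt hb), m.zx (by omega) (za_lt _ _),
      ← m.cj_z ha (de_lt _), m.mul _ ha _ hb]
    group
  · have e1 := e
    rw [tw_eq m ha, tw_eq m hb] at e1
    have e2 := congrArg hi (h.inj _ (th_lt ha) _ (th_lt hb) e1)
    rw [hi_th ha, hi_th hb] at e2
    rw [tw, tw, e2] at e
    exact h.inj _ ha _ hb (mul_left_cancel e)

theorem tw_HD (h : HD t ψ) : HD t (tw ψ) := by
  have m := h.mi.toMo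
  have s : ∀ {a}, a < 2048 → tw ψ a = ψ a := fun ha => tw_small m (by omega)
  have c : ∀ {g}, (∃ c < NM, g = ψ c) ↔ ∃ c < NM, g = tw ψ c :=
    ⟨fun ⟨c, hc, e⟩ => ⟨_, th_lt hc, e.trans (tw_th m hc)⟩,
      fun ⟨c, hc, e⟩ => ⟨_, th_lt hc, e.trans (tw_eq m hc)⟩⟩
  refine ⟨tw_Mi h.mi, fun g h1 h2 => ?_, fun g h1 => ?_, fun g h1 x hx => ?_, fun g h1 => ?_, ?_⟩
  · rw [s (by norm_num)] at h1 h2
    exact c.1 (h.c0 g h1 h2)
  · refine c.1 (h.nz g fun b hb => ?_)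
    obtain ⟨b', hb', e⟩ := h1 b hb
    rw [s (by omega), s (by omega)] at e
    exact ⟨b', hb', e⟩
  · rw [s (by norm_num)] at h1
    obtain ⟨y, hy, e⟩ := h.w g h1 x hx
    exact ⟨y, hy, by rwa [s (inW_lt hx), s (inW_lt hy)]⟩
  · rw [s (by norm_num)] at h1
    refine (h.sp g h1).imp c.1 fun ⟨x, hx, h2, h3⟩ => ⟨_, th_lt hx, (hi_th (t := t) hx).symm ▸ h2, ?_⟩
    intro b hb
    obtain ⟨y, hy, e⟩ := h3 b hb
    exact ⟨y, hy, by rwa [← tw_th m hx, s (by omega), s (Zp_lt hy)]⟩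
  · obtain ⟨g, h1, h2⟩ := h.ex
    exact ⟨g, by rwa [s (by norm_num)], fun e => h2 (c.2 e)⟩

theorem tw_P (h : Mo t ψ) {x y : ℕ} (p : P ψ g x y) (hx : x < 43008) (hy : y < 43008) :
    P (tw ψ) g x y := ⟨p.1, p.2.1, by rw [tw_small h hx, tw_small h hy, p.2.2]⟩

theorem tw_S2 (h : Mo t ψ) {q : ℕ} (s : S2 ψ r q) : S2 (tw ψ) r q := by
  refine ⟨⟨tw_P h s.sw.c (by norm_num) (by norm_num), fun x hx => ?_, fun x hx => ?_⟩,
    tw_P h s.s (by norm_num) (by norm_num), s.q8, ?_⟩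
  · obtain ⟨y, hy, p⟩ := s.sw.z x hx
    exact ⟨y, hy, tw_P h p (by have := mem_Zl.1 hx; omega) (by have := Zp_lt hy; omega)⟩
  · obtain ⟨y, hy, p⟩ := s.sw.p x hx
    exact ⟨y, hy, tw_P h p (by have := Zp_lt hx; omega) (by have := mem_Zl.1 hy; omega)⟩
  · rw [tw_small h (by have := Q8_lt s.q8; omega), s.rr]

theorem k_th : th false 333461 = 333458 := by decide +kernel

theorem tw_88 (h : Mo false ψ) (p : P ψ r 88 333461) : P (tw ψ) r 88 333458 :=
  ⟨p.1, by norm_num, by rw [tw_small h (by norm_num), p.2.2, tw_th h p.2.1, k_th]⟩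

end H18.RR
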