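import Mathlib
import Cfsg.Agent.H18.RR4

/-! The relations between the model and the swapping involution. -/

set_option autoImplicit false

namespace H18.RR

open H14.Ru H29 H7.Cay

/-- the action on `K`. -/
noncomputable def R (b c x : ℕ) : ℕ :=
  rh false [88, 136, 333458, 277210, 32, 256] [333458, 277210, 88, 136, b, c] 1741
    (pk MKT 6 (Nat.add (Nat.mul 256 (pk IX2 2 (hi x))) (Nat.shiftRight (lo x) 3))) x

/-- the action on `K ⟨w⟩`. -/
noncomputable def R2 (x : ℕ) : ℕ :=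
  lit (R 256 32 x) fun y => Bool.rec
    (lit (R 256 32 (mu false x 43008)) fun y' => Bool.rec NM (mu false y' 43009) (lt y' NM))
    y (lt y NM)

/-- test of a list of values. -/
noncomputable def vl (f : ℕ → ℕ) (L : List (ℕ × ℕ)) : Bool :=
  allL L fun p => and2 (and2 (lt p.1 NM) (lt p.2 NM)) (Nat.beq (f p.1) p.2)

/-- values of the cube in the bad case. -/
def L4 : List (ℕ × ℕ) := [(88, 89), (136, 136), (333458, 333459), (277210, 277210), (32, 33),
  (256, 257), (1, 1), (2, 2), (4, 4)]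
/-- values of the cube in the good case. -/
def L6 : List (ℕ × ℕ) := [(88, 88), (136, 136), (333458, 333458), (277210, 277210), (32, 32),
  (256, 256), (1, 1), (2, 2), (4, 4)]
/-- values of a conjugate of `r w`. -/
def L7 : List (ℕ × ℕ) := [(88, 90), (136, 140), (333458, 332539), (277210, 276775), (32, 39),
  (256, 256), (1, 1), (2, 2), (4, 4)]
/-- values of the seventh power. -/
def L8 : List (ℕ × ℕ) := [(428, 428), (592, 592), (43008, 43008), (249856, 249856), (1, 1), (2, 2)]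

theorem k_4 : and2 (vl (pw (cp (R 257 33) (cn false 44121)) 3) L4) (srch false L4 []) = true := by
  decide +kernel

theorem k_6 : and2 (vl (pw (cp (R 256 32) (cn false 44121)) 3) L6) (srch false L6 [0, 1]) = true := by
  decide +kernel

theorem k_7 : and2 (vl (cp (R 256 32) (cp (cn false 16) (cp (R 256 32) (cp (cn false 43008)
    (cp (cn false 16) (R 256 32)))))) L7) (srch false L7 [972, 973]) = true := by
  decide +kernel

theorem k_8 : and2 (vl (pw (cp R2 (cn false 98304)) 7) L8)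
    (allK Vb fun c => imp2 (allL L8 fun p => Nat.beq (mu false c p.1) (mu false p.2 c))
      (or2 (Nat.beq c 0) (lit (cp R2 (cn false 98304) c) fun y => and2 (lt y NM) (nq y c)))) = true := by
  decide +kernel

theorem k_fin : and2 (and2 (vl (cn false 1) [(1, 1), (14336, 14336), (88, 88), (333458, 333458),
      (32, 32), (256, 256), (44121, 44121), (16, 16)])
      (and2 (allF 8 fun b => memL (R 256 32 b) Zp) (allF 2 fun q => Nat.beq (cn false q 88) 88)))
    (and2 (and2 (and2 (Nat.beq (mu false 333458 333458) 1741) (Nat.beq (cn false 14336 333458) 277210))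
      (and2 (Nat.beq (mu false 44121 44121) 0) (Nat.beq (mu false 43008 43008) 0)))
      (and2 (and2 (Nat.beq (mu false 16 16) 0) (Nat.beq (mu false 1 43008) 43009))
        (and2 (Nat.beq (mu false 1 1) 0) (allL [972, 973] fun c => Nat.beq (mu false c c) 1)))) =
    true := by decide +kernel

variable {G : Type*} [Group G] {ψ : ℕ → G} {g r : G}

theorem fin_spec : ((∀ p ∈ [(1, 1), (14336, 14336), (88, 88), (333458, 333458),
      (32, 32), (256, 256), (44121, 44121), (16, 16)],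
        (p.1 < NM ∧ p.2 < NM) ∧ cn false 1 p.1 = p.2) ∧
      (∀ b < 8, R 256 32 b ∈ Zp) ∧ ∀ q < 2, cn false q 88 = 88) ∧
    ((mu false 333458 333458 = 1741 ∧ cn false 14336 333458 = 277210) ∧
      mu false 44121 44121 = 0 ∧ mu false 43008 43008 = 0) ∧
      (mu false 16 16 = 0 ∧ mu false 1 43008 = 43009) ∧ mu false 1 1 = 0 ∧
        ∀ c ∈ [972, 973], mu false c c = 1 := by
  simpa only [vl, allL_true, rd] using k_fin

/-- the state after step 5. -/
structure S5 (ψ : ℕ → G) (r : G) (b c : ℕ) : Prop where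
  z : P ψ r 1 1
  s : P ψ r 14336 14336
  a : P ψ r 88 333458
  a' : P ψ r 333458 88
  b : P ψ r 32 b
  c : P ψ r 256 c
  rr : r * r = 1 ∨ r * r = ψ 1

theorem S2.s5 (h : HD false ψ) {q : ℕ} (s : S2 ψ r q) (p : P ψ r 88 333458) :
    S5 ψ r 256 32 ∨ S5 ψ r 257 33 := by
  obtain ⟨b, hb, pb⟩ := s.rho_Q8 h (x := 32) (by decide)
  obtain ⟨c, hc, pc⟩ := s.rho_Q8 h (x := 256) (by decide)
  have k := s.cls h p hb pb hc pc
  simp only [fin, rd] at k
  obtain ⟨hq, k⟩ := k.2 trivial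
  have p3 := p.sq (s.rr ▸ P.inner h.mi.toMo (m := q) (by omega) p.1)
  rw [fin_spec.1.2.2 q hq] at p3
  have rr : r * r = 1 ∨ r * r = ψ 1 := by
    rw [s.rr]
    interval_cases q
    · exact Or.inl h.mi.toMo.zero
    · exact Or.inr rfl
  rcases k with ⟨rfl, rfl⟩ | ⟨rfl, rfl⟩
  · exact Or.inl ⟨s.sw.c, s.s, p, p3, pb, pc, rr⟩
  · exact Or.inr ⟨s.sw.c, s.s, p, p3, pb, pc, rr⟩

theorem z_fix (h : Mo false ψ) : ∀ p ∈ [(1, 1), (14336, 14336), (88, 88), (333458, 333458),
    (32, 32), (256, 256), (44121, 44121), (16, 16)], P ψ (ψ 1) p.1 p.2 := fun p hp =>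
  (fin_spec.1.1 p hp).2 ▸ P.inner h (by norm_num) (fin_spec.1.1 p hp).1.1

theorem sq_one (h : Mo false ψ) {c : ℕ} (hc : c < NM) (e : mu false c c = 0) : ψ c * ψ c = 1 := by
  rw [← h.mul _ hc _ hc, e, h.zero]

namespace S5
variable {b c : ℕ}

theorem val (h : Mo false ψ) (s : S5 ψ r b c) : Val ψ r (R b c) := by
  have o := one_spec false
  have p2 := s.s.cn h s.a
  have p4 := s.s.cn h s.a'
  have q1 := s.a.mu h s.a
  have q2 := s.a'.mu h s.a'
  rw [o.2.2.2.2, fin_spec.2.1.1.2] at p2 p4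
  rw [o.2.2.1.2, fin_spec.2.1.1.1] at q1 q2
  exact Val.rh h (.cons s.a (.cons p2 (.cons s.a' (.cons p4 (.cons s.b (.cons s.c .nil))))))
    (rw_spec h (by decide) s.z s.s q1 q2) _

theorem comm (s : S5 ψ r b c) : Commute r (ψ 1) := by
  have := s.z.2.2
  rwa [mul_inv_eq_iff_eq_mul] at this

theorem mul_z (h : Mo false ψ) (s : S5 ψ r b c) : S5 ψ (r * ψ 1) b c := by
  have z := z_fix h
  refine ⟨s.z.comp (z (1, 1) (by simp)), s.s.comp (z (14336, 14336) (by simp)),
    s.a.comp (z (88, 88) (by simp)), s.a'.comp (z (333458, 333458) (by simp)),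
    s.b.comp (z (32, 32) (by simp)), s.c.comp (z (256, 256) (by simp)), ?_⟩
  have e : r * ψ 1 * (r * ψ 1) = r * r := by
    rw [mul_assoc, ← mul_assoc (ψ 1), ← s.comm.eq, mul_assoc r (ψ 1),
      sq_one h (by norm_num) fin_spec.2.2.2.1, mul_one]
  exact e ▸ s.rr

theorem not_bad (h : HD false ψ) (s : S5 ψ r 257 33) : False := by
  have k := and2_true.1 k_4
  have v := (((s.val h.mi.toMo).cp (Val.cn h.mi.toMo (m := 44121) (by norm_num))).pw 3).vals k.1
  obtain ⟨c, hc, -⟩ := code_Q h (v (1, 1) (by decide)) (v (2, 2) (by decide)) (v (4, 4) (by decide))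
    v k.2
  simp at hc

theorem cube (h : HD false ψ) (s : S5 ψ r 256 32) :
    ∃ r, S5 ψ r 256 32 ∧ (r * ψ 44121) ^ 3 = 1 := by
  have m := h.mi.toMo
  have k := and2_true.1 k_6
  have v := (((s.val m).cp (Val.cn m (m := 44121) (by norm_num))).pw 3).vals k.1
  obtain ⟨c, hc, e⟩ := code_Q h (v (1, 1) (by decide)) (v (2, 2) (by decide)) (v (4, 4) (by decide))
    v k.2
  simp only [List.mem_cons, List.not_mem_nil, or_false] at hc
  rcases hc with rfl | rfl
  · exact ⟨r, s, e.trans m.zero⟩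
  · refine ⟨_, s.mul_z m, ?_⟩
    have c1 : Commute (ψ 1) (ψ 44121) := by
      have := (z_fix m (44121, 44121) (by simp)).2.2
      rwa [mul_inv_eq_iff_eq_mul] at this
    have c2 : Commute (r * ψ 44121) (ψ 1) := s.comm.mul_left c1.symm
    rw [mul_assoc, c1.eq, ← mul_assoc, c2.mul_pow, e, ← pow_succ', show 3 + 1 = 2 * 2 from rfl,
      pow_mul, pow_two (ψ 1), sq_one m (by norm_num) fin_spec.2.2.2.1, one_pow]

omit [Group G] in
theorem aux {G : Type*} [Group G] {r s : G} (s2 : s * s = 1) (z2 : r * r * (r * r) = 1)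
    (c : r * r * s * (r * r)⁻¹ = s) (e : (r * s) ^ 3 = 1) : r * r = 1 := by
  have e1 : r * s * r = s⁻¹ * r⁻¹ * s⁻¹ := by
    rw [← one_mul (s⁻¹ * r⁻¹ * s⁻¹), ← e, pow_succ, pow_two]; group
  have e2 : r * s * r * (r * s * r) = 1 := by
    calc r * s * r * (r * s * r) = r * s * (r * r * s * (r * r)⁻¹) * r⁻¹ * (r * r * (r * r)) := by
          group
      _ = r * (s * s) * r⁻¹ := by rw [c, z2]; group
      _ = 1 := by rw [s2]; group
  rw [e1] at e2
  have e3 : s⁻¹ * r⁻¹ * s⁻¹ * (s⁻¹ * r⁻¹ * s⁻¹) = s⁻¹ * (r⁻¹ * (s * s)⁻¹ * r⁻¹) * s⁻¹ := by group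
  rw [e2, s2] at e3
  calc r * r = s⁻¹ * (s⁻¹ * (r⁻¹ * 1⁻¹ * r⁻¹) * s⁻¹)⁻¹ * s⁻¹ := by simp [mul_assoc]
    _ = (s * s)⁻¹ := by rw [← e3]; group
    _ = 1 := by rw [s2, inv_one]

theorem invol (h : HD false ψ) (s : S5 ψ r 256 32) (e : (r * ψ 44121) ^ 3 = 1) : r * r = 1 := by
  have m := h.mi.toMo
  refine s.rr.elim id fun rr => aux (sq_one m (c := 44121) (by norm_num) fin_spec.2.1.2.1) ?_ ?_ e
  · rw [rr, sq_one m (c := 1) (by norm_num) fin_spec.2.2.2.1]
  · rw [rr]; exact (z_fix m (44121, 44121) (by simp)).2.2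

theorem rho_w (h : HD false ψ) (s : S5 ψ r 256 32) (rr : r * r = 1) : P ψ r 43008 43009 := by
  have m := h.mi.toMo
  have k := and2_true.1 k_7
  have r1 := s.val m
  have c1 := Val.cn m (m := 16) (by norm_num)
  have v := (r1.cp (c1.cp (r1.cp ((Val.cn m (m := 43008) (by norm_num)).cp (c1.cp r1))))).vals k.1
  obtain ⟨c, hc, e⟩ := code_Q h (v (1, 1) (by decide)) (v (2, 2) (by decide)) (v (4, 4) (by decide))
    v k.2
  have hc' : c < NM := by
    simp only [List.mem_cons, List.not_mem_nil, or_false] at hc; omega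
  have e2 := m.mul _ hc' _ hc'
  rw [fin_spec.2.2.2.2 c hc, ← e] at e2
  have s2 := sq_one m (c := 16) (by norm_num) fin_spec.2.2.1.1
  have w2 := sq_one m (c := 43008) (by norm_num) fin_spec.2.1.2.2
  have c1 := (z_fix m (16, 16) (by simp)).2.2
  have c2 := s.z.2.2
  refine ⟨by norm_num, by norm_num, ?_⟩
  rw [← fin_spec.2.2.1.2, m.mul _ (by norm_num) _ (by norm_num)]
  simp only at c1
  generalize ψ 16 = a at *
  generalize ψ 43008 = w at *
  generalize ψ 1 = z at *
  have e3 : z = (r * a) * (r * w * (a * (r * r) * a) * r * w * (a * a)) * a⁻¹ * (r * r) * r⁻¹ := by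
    rw [e2]; group
  rw [rr, mul_one a, s2] at e3
  have e4 : r * w * r * w = a⁻¹ * (r⁻¹ * z * r) * a := by rw [e3]; group
  have e5 : r⁻¹ * z * r = z := by (conv_lhs => rw [← c2]); group
  have e6 : a⁻¹ * z * a = z := by
    calc _ = a⁻¹ * (z * a * z⁻¹) * z := by group
      _ = z := by rw [c1]; group
  rw [e5, e6] at e4
  calc r * w * r⁻¹ = r * w * r⁻¹ * (r * r) * (w * w) := by rw [rr, w2]; group
    _ = (r * w * r * w) * w := by group
    _ = z * w := by rw [e4]

theorem val2 (h : Mo false ψ) (s : S5 ψ r 256 32) (w : P ψ r 43008 43009) : Val ψ r R2 := by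
  intro x hx
  change (Bool.rec (Bool.rec NM _ (lt (R 256 32 (mu false x 43008)) NM)) _ (lt (R 256 32 x) NM) : ℕ) <
    NM → P ψ r x (Bool.rec (Bool.rec NM _ (lt (R 256 32 (mu false x 43008)) NM)) _ (lt (R 256 32 x) NM))
  cases e : lt (R 256 32 x) NM
  · cases e' : lt (R 256 32 (mu false x 43008)) NM
    · exact fun l => absurd l (lt_irrefl _)
    · intro _
      have p := (s.val h _ (mu_lt false hx w.1) (lt_true.1 e')).mu h w
      refine ⟨hx, p.2.1, ?_⟩
      have e3 := p.2.2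
      rwa [h.mul _ (mu_lt false hx w.1) _ w.1, h.mul _ hx _ w.1, mul_assoc (ψ x),
        sq_one h w.1 fin_spec.2.1.2.2, mul_one] at e3
  · exact fun l => s.val h _ hx l

theorem seven (h : HD false ψ) (s : S5 ψ r 256 32) (w : P ψ r 43008 43009) :
    (r * ψ 98304) ^ 7 = 1 := by
  have m := h.mi.toMo
  have k := and2_true.1 k_8
  have f := (s.val2 m w).cp (Val.cn m (m := 98304) (by norm_num))
  have v := (f.pw 7).vals k.1
  obtain ⟨c, hc, e, h1, -⟩ := code_Vb h (v (1, 1) (by decide)) (v (2, 2) (by decide))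
  have k2 := allK_true k.2 h1
  simp only [allL_true, rd] at k2
  rcases k2 fun p hp => (e ▸ v p hp).mu_eq h.mi hc with rfl | k2
  · exact e.trans m.zero
  · refine absurd ((f c hc k2.1).fn h.mi ⟨hc, hc, ?_⟩) k2.2
    rw [← e]
    generalize r * ψ 98304 = x
    group

end S5

/-- Steps 6 to 8. -/
theorem S2.am (h : HD false ψ) {q : ℕ} (s : S2 ψ r q) (p : P ψ r 88 333458) :
    ∃ r, Am ψ r ∧ r * ψ 1 * r⁻¹ = ψ 1 ∧ ∀ b < 8, ∃ c ∈ Zp, r * ψ b * r⁻¹ = ψ c := by
  obtain ⟨r, s, e⟩ := ((s.s5 h p).resolve_right (S5.not_bad h)).cube h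
  have rr := s.invol h e
  have w := s.rho_w h rr
  refine ⟨r, ⟨h.mi, rr, s.a.2.2, s.b.2.2, s.s.2.2, w.2.2, e, s.seven h w⟩, s.z.2.2, fun b hb => ?_⟩
  have := fin_spec.1.2.1 b hb
  exact ⟨_, this, (s.val h.mi.toMo b (by omega) (by have := Zp_lt this; omega)).2.2⟩

end H18.RR
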