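import Mathlib
import Cfsg.Agent.H12.K3D
import Cfsg.Agent.H25.Rank2

/-!
# The thin case: no four-group centralises an element of order three
-/

set_option autoImplicit false
set_option linter.unusedSectionVars false

open Cfsg H24 H25 H26 Subgroup

namespace H18.K3

universe u

variable {G : Type u} [Group G] [Finite G] {p a b : ℕ} {T A : Subgroup G} {x y u v : G}

/-- centralisers of involutions have `3`-rank at most one -/
def Thin (G : Type*) [Group G] : Prop :=
  ∀ t : G, orderOf t = 2 → ∀ B : Subgroup G, IsElementaryAbelian 3 B → B ≤ C{t} → ♯B < 9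

theorem KT.no4 (h : KT G p a b) (thin : Thin G) (hy : orderOf y = 3) (hu : orderOf u = 2)
    (hv : orderOf v = 2) (huy : u ∈ C{y}) (hvy : v ∈ C{y}) (huv : u * v = v * u) : u = v := by
  classical
  by_contra hne
  have h1 : PnElem 2 1 C{y} (zpowers u) := pnElem_zpowers huy hu
  have h2 : PnElem 2 1 C{y} (zpowers v) := pnElem_zpowers hvy hv
  have h3 : ¬ zpowers v ≤ zpowers u := fun hle => by
    have h4 := hle (mem_zpowers v)
    rw [mem_zpowers_iff_mem_range_orderOf, hu] at h4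
    simp only [Finset.mem_image, Finset.mem_range] at h4
    obtain ⟨n, hn, e⟩ := h4
    interval_cases n
    · rw [← e, pow_zero, orderOf_one] at hv; omega
    · exact hne (by rw [← e, pow_one])
  have h4 := h1.sup_one h2 Nat.prime_two (by
    rw [C_zpowers, zpowers_le]; exact mem_C1.2 huv.symm) h3
  have hD : PnElem 3 1 ⊤ (zpowers y) := pnElem_zpowers (mem_top y) hy
  obtain ⟨e, -, he, B, hB, -, hBe, -, hc⟩ := H12.K3.rank_cor h hD.elem
    (hD.ne_bot Nat.prime_three one_pos) h4.elem (by rw [C_zpowers]; exact h4.le) h4.card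
  have := thin e he B hB hBe
  rw [hc, hD.card] at this
  omega

theorem KT.cyc3 (h : KT G p a b) (thin : Thin G) (hT : IsPi {2} T) (h1 : T ≠ ⊥)
    (hA : A ≤ N[T]) (h3 : IsPi {3} A) : Cyc A := by
  by_contra hc
  obtain ⟨n, hn⟩ := isPi_single_card Nat.prime_three h3
  obtain ⟨E, hE⟩ := (prank_geP Nat.prime_three).1 (odd_pgroup_two_le_prank Nat.prime_three h3
    (hn ▸ Odd.pow (by decide)) hc)
  have : Fact (Nat.Prime 2) := ⟨Nat.prime_two⟩
  obtain ⟨z, hz, z1, zc⟩ := H17.exists_center_ne_one (hT.isPGroup Nat.prime_two) h1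
  have hV : IsPi {2} (T ⊓ C[T]) := hT.of_le inf_le_left
  have hEN : E ≤ N[T ⊓ C[T]] :=
    (le_inf (hE.le.trans hA) (norm_C (hE.le.trans hA))).trans inf_normalizer_le_normalizer_inf
  obtain ⟨m, hm⟩ := isPi_single_card Nat.prime_two hV
  have h4 : ¬ ∀ e ∈ E, e ≠ 1 → (T ⊓ C[T]) ⊓ C{e} ≤ ⊥ := fun h4 =>
    z1 (mem_bot.1 (coprime_abelian_gen_cent1 hE.abl (hE.not_cyc Nat.prime_three le_rfl) hEN
      (by rw [hm, hE.card]; exact Nat.Coprime.pow _ _ (by decide)) h4 (mem_inf.2 ⟨hz, zc⟩)))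
  push Not at h4
  obtain ⟨y, hy, y1, h5⟩ := h4
  obtain ⟨t, ht, ho⟩ := exists_orderOf_eq Nat.prime_two
    ((hV.of_le (inf_le_left (b := C{y}))).dvd_card fun e => h5 e.le)
  have hy3 : orderOf y = 3 := hE.elem.orderOf_eq Nat.prime_three hy y1
  have h6 : E ≤ C{t} := fun e he => by
    have h7 : e * t * e⁻¹ ∈ T ⊓ C[T] := conj_mem (hEN he) ht.1
    have h8 : e ∈ C{y} := mem_C1.2 (mem_C.1 (hE.le_cent hy) e he)
    have h9 := h.no4 thin hy3 (by rw [← ho]; exact (MulAut.conj e).orderOf_eq t) ho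
      (mul_mem (mul_mem h8 ht.2) (inv_mem h8)) ht.2 (mem_C.1 ht.1.2 _ h7.1)
    rw [mem_C1]
    exact mul_inv_eq_iff_eq_mul.1 h9
  have := thin t ho E hE.elem h6
  rw [hE.card] at this
  omega

end H18.K3
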