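import Mathlib
import Cfsg.Agent.H6.XU3

/-!
S1763, case 9: the centraliser `K` of an element `σ` of order seven. `C_K(z)` is `D₈ × 7`; counting
involutions in the cosets of `S₄ × 7` bounds the index of that subgroup.
-/

set_option autoImplicit false
set_option linter.unusedSectionVars false
set_option linter.unusedVariables false

namespace H18
namespace X9

open Subgroup H24

variable {G : Type*} [Group G] [Finite G] {σ z v w t n g j x : G}

/-- the amalgam in `N(σ)` -/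
structure Am (σ z v w t n : G) : Prop where
  zz : z * z = 1
  vv : v * v = 1
  ww : w * w = 1
  tt : t * t = 1
  nn : n * n = 1
  s7 : σ ^ 7 = 1
  z1 : z ≠ 1
  sz : z ∈ C{σ}
  sv : v ∈ C{σ}
  sw : w ∈ C{σ}
  st : t ∈ C{σ}
  ns : n * σ * n⁻¹ = σ⁻¹
  vz : v * z = z * v
  wz : w * z = z * w
  wv : w * v = z * (v * w)
  tv : t * v = v * t
  tz : t * z = z * (v * t)
  twt : t * (w * t) = w * (t * w)
  nz : n * z * n⁻¹ = z
  nv : n * v * n⁻¹ = w
  cen : ∀ g ∈ C{σ}, g ∈ C{z} → ∃ e ∈ [1, z, v, z * v], ∃ i : ℕ, g = e * σ ^ i ∨ g = e * w * σ ^ i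

/-- the line through `z` and `v` -/
def Ln (z v : G) : Set G := {z, v, z * v}

/-- its stabiliser in `K` -/
def PP (σ z v : G) : Subgroup G := C{σ} ⊓ normalizer (Ln z v)

/-- `x` acts on the line as `w t` -/
def Cy (z v x : G) : Prop := x * z * x⁻¹ = v ∧ x * v * x⁻¹ = z * v

/-- the involutions near the line -/
def Bd (z v w t n : G) : Set G := {j | ∃ a : ℕ, ∃ b ∈ [z, w, z * w, n * (w * t) * w * (n * (w * t))⁻¹,
  n * (w * t) * (z * w) * (n * (w * t))⁻¹, v * (n * (w * t) * w * (n * (w * t))⁻¹) * v⁻¹,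
  v * (n * (w * t) * (z * w) * (n * (w * t))⁻¹) * v⁻¹], j = (w * t) ^ a * b * ((w * t) ^ a)⁻¹}

theorem rm {y u : G} (cy : u ∈ C{y}) (hy : y ^ 12 = 1) (hu : u ^ 7 = 1) (cj : j ∈ C{u})
    (e : j * (y * u) * j⁻¹ = (y * u)⁻¹) : u = 1 := by
  have c : Commute y u := (mem_C1.1 cy).symm
  have e1 := congrArg (· ^ 12) e
  simp only [conj_pow, inv_pow, c.mul_pow, hy, one_mul] at e1
  rw [← conj_pow, mem_C1_iff_conj.1 cj, eq_inv_iff_mul_eq_one, ← pow_add] at e1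
  calc u = (u ^ 7) ^ 7 * ((u ^ (12 + 12)) ^ 2)⁻¹ := by group
    _ = 1 := by rw [hu, e1]; simp

theorem cC {a b y : G} (e : a * b * a⁻¹ = y) (h : g ∈ C{y}) : a⁻¹ * g * a ∈ C{b} :=
  mem_C1_iff_conj.2 (by
    calc _ = a⁻¹ * (g * (a * b * a⁻¹) * g⁻¹) * a := by group
      _ = b := by rw [e, mem_C1_iff_conj.1 h, ← e]; group)

theorem pC {a : G} (h : a ∈ C{σ}) (i : ℕ) : a ∈ C{σ ^ i} := mem_C1_comm.1 (pow_mem (mem_C1_comm.1 h) i)

namespace Am

variable (h : Am σ z v w t n)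
include h

theorem nf : z⁻¹ = z ∧ v⁻¹ = v ∧ w⁻¹ = w ∧ t⁻¹ = t ∧ z * z = 1 ∧ v * v = 1 ∧ w * w = 1 ∧ t * t = 1 ∧
    (∀ x, z * (z * x) = x) ∧ (∀ x, v * (v * x) = x) ∧ (∀ x, w * (w * x) = x) ∧ (∀ x, t * (t * x) = x) ∧
    v * z = z * v ∧ w * z = z * w ∧ w * v = z * (v * w) ∧ t * v = v * t ∧ t * z = z * (v * t) ∧
    t * (w * t) = w * (t * w) ∧ (∀ x, v * (z * x) = z * (v * x)) ∧ (∀ x, w * (z * x) = z * (w * x)) ∧
    (∀ x, w * (v * x) = z * (v * (w * x))) ∧ (∀ x, t * (v * x) = v * (t * x)) ∧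
    (∀ x, t * (z * x) = z * (v * (t * x))) ∧ (∀ x, t * (w * (t * x)) = w * (t * (w * x))) ∧
    (∀ a b c : G, a * b * c = a * (b * c)) ∧ (∀ a b : G, (a * b)⁻¹ = b⁻¹ * a⁻¹) ∧ (∀ a : G, a * 1 = a) ∧
    (∀ a : G, 1 * a = a) ∧ (1 : G)⁻¹ = 1 ∧ (∀ (a : G) (k : ℕ), a ^ (k + 1) = a ^ k * a) ∧ ∀ a : G, a ^ 0 = 1 :=
  ⟨inv_eq_of_mul_eq_one_right h.zz, inv_eq_of_mul_eq_one_right h.vv, inv_eq_of_mul_eq_one_right h.ww,
    inv_eq_of_mul_eq_one_right h.tt, h.zz, h.vv, h.ww, h.tt, fun x => by rw [← mul_assoc, h.zz, one_mul],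
    fun x => by rw [← mul_assoc, h.vv, one_mul], fun x => by rw [← mul_assoc, h.ww, one_mul],
    fun x => by rw [← mul_assoc, h.tt, one_mul], h.vz, h.wz, h.wv, h.tv, h.tz, h.twt,
    fun x => by rw [← mul_assoc, h.vz, mul_assoc], fun x => by rw [← mul_assoc, h.wz, mul_assoc],
    fun x => by rw [← mul_assoc, h.wv, mul_assoc, mul_assoc], fun x => by rw [← mul_assoc, h.tv, mul_assoc],
    fun x => by rw [← mul_assoc, h.tz, mul_assoc, mul_assoc],
    fun x => by rw [← mul_assoc w, ← mul_assoc t, h.twt, mul_assoc, mul_assoc], mul_assoc, mul_inv_rev, mul_one,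
    one_mul, inv_one, pow_succ, pow_zero⟩

theorem v1 : v ≠ 1 := fun e => h.z1 (by simpa [e] using h.wv)
theorem vz' : v ≠ z := fun e => h.z1 (by have := h.wv; rw [e] at this; simpa [h.nf] using this)
theorem oz : w * t * z * (w * t)⁻¹ = v := by simp only [h.nf]
theorem ov : w * t * v * (w * t)⁻¹ = z * v := by simp only [h.nf]
theorem ozv : w * t * (z * v) * (w * t)⁻¹ = z := by simp only [h.nf]
theorem o3 : (w * t) ^ 3 = 1 := by simp only [h.nf]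
theorem oK : w * t ∈ C{σ} := mul_mem h.sw h.st
theorem ni : n⁻¹ = n := inv_eq_of_mul_eq_one_right h.nn

theorem nK (hg : g ∈ C{σ}) : n⁻¹ * g * n ∈ C{σ} := cC h.ns (mem_C1_comm.1 (inv_mem (mem_C1_comm.1 hg)))

theorem genP : ∀ a ∈ [z, v, w, t, σ], a ∈ PP σ z v := by
  have k : ∀ a ∈ [z, v, w, t], ∀ b ∈ Ln z v, a * b * a⁻¹ ∈ Ln z v := by
    simp only [Ln, List.forall_mem_cons, List.not_mem_nil, false_imp_iff, implies_true,
      Set.mem_insert_iff, Set.mem_singleton_iff, forall_eq_or_imp, forall_eq, h.nf, true_or,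
      or_true, and_self]
  have k' : ∀ a ∈ [z, v, w, t], a ∈ normalizer (Ln z v) := fun a ha => mem_normalizer_fintype (k a ha)
  simp only [List.forall_mem_cons, List.not_mem_nil, false_imp_iff, implies_true, and_true] at k' ⊢
  refine ⟨⟨h.sz, k'.1⟩, ⟨h.sv, k'.2.1⟩, ⟨h.sw, k'.2.2.1⟩, ⟨h.st, k'.2.2.2⟩, self_mem_C1 σ,
    mem_normalizer_fintype fun b hb => ?_⟩
  have : b ∈ C{σ} := by
    rcases hb with rfl | rfl | rfl
    exacts [h.sz, h.sv, mul_mem h.sz h.sv]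
  rwa [mem_C1_iff_conj.1 (mem_C1_comm.1 this)]

/-- a subgroup containing `z, v, w` contains the dihedral part -/
theorem cen' {X : Subgroup G} (h1 : z ∈ X) (h2 : v ∈ X) (h3 : w ∈ X) (hg : g ∈ C{σ}) (hz : g ∈ C{z}) :
    ∃ d ∈ X, ∃ i : ℕ, g = d * σ ^ i := by
  obtain ⟨e, he, i, k⟩ := h.cen g hg hz
  have : e ∈ X := by
    simp only [List.mem_cons, List.not_mem_nil, or_false] at he
    rcases he with rfl | rfl | rfl | rfl
    exacts [one_mem _, h1, h2, mul_mem h1 h2]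
  rcases k with k | k
  exacts [⟨_, this, i, k⟩, ⟨_, mul_mem this h3, i, k⟩]

theorem red {X : Subgroup G} (h1 : z ∈ X) (h2 : v ∈ X) (h3 : w ∈ X) (h4 : t ∈ X) (hg : g ∈ C{σ})
    (k : g * z * g⁻¹ ∈ Ln z v) : ∃ d ∈ X, ∃ i : ℕ, g = d * σ ^ i := by
  have : ∃ a ∈ X, a ∈ C{σ} ∧ a * z * a⁻¹ = g * z * g⁻¹ := by
    rcases k with k | k | k <;> rw [k]
    · exact ⟨1, one_mem _, one_mem _, by simp⟩
    · exact ⟨_, mul_mem h3 h4, h.oK, h.oz⟩
    · exact ⟨t, h4, h.st, by simp only [h.nf]⟩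
  obtain ⟨a, a1, a2, a3⟩ := this
  obtain ⟨d, d1, i, e⟩ := h.cen' h1 h2 h3 (mul_mem (inv_mem a2) hg) (mem_C1_iff_conj.2 (by
    calc _ = a⁻¹ * (g * z * g⁻¹) * a := by group
      _ = z := by rw [← a3]; group))
  exact ⟨a * d, mul_mem a1 d1, i, by rw [mul_assoc, ← e, mul_inv_cancel_left]⟩

theorem memP (hg : g ∈ C{σ}) (k : g * z * g⁻¹ ∈ Ln z v) : g ∈ PP σ z v := by
  obtain ⟨d, d1, i, rfl⟩ := h.red (h.genP z (by simp)) (h.genP v (by simp)) (h.genP w (by simp))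
    (h.genP t (by simp)) hg k
  exact mul_mem d1 (pow_mem (h.genP σ (by simp)) i)

theorem d8 (hx : x ∈ C{σ}) (hz : x ∈ C{z}) (hj : j ∈ C{σ}) (e : j * x * j⁻¹ = x⁻¹) :
    x ∈ [1, z, v, z * v, w, z * w, v * w, z * v * w] := by
  obtain ⟨d, hd, i, k⟩ := h.cen x hx hz
  have k1 : ∀ y, y ∈ C{σ} → y ^ 12 = 1 → x = y * σ ^ i → x = y := fun y a b c => by
    rw [c, rm (mem_C1_comm.1 (pC a i)) b (by rw [← pow_mul, mul_comm, pow_mul, h.s7, one_pow]) (pC hj i) (c ▸ e),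
      mul_one]
  simp only [List.mem_cons, List.not_mem_nil, or_false] at hd ⊢
  have m := mul_mem h.sz h.sv
  rcases hd with rfl | rfl | rfl | rfl <;> rcases k with k | k
  · simp [k1 _ (one_mem _) (by simp) k]
  · simp [k1 _ (mul_mem (one_mem _) h.sw) (by simp only [h.nf]) k]
  · simp [k1 _ h.sz (by simp only [h.nf]) k]
  · simp [k1 _ (mul_mem h.sz h.sw) (by simp only [h.nf]) k]
  · simp [k1 _ h.sv (by simp only [h.nf]) k]
  · simp [k1 _ (mul_mem h.sv h.sw) (by simp only [h.nf]) k]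
  · simp [k1 _ m (by simp only [h.nf]) k]
  · simp [k1 _ (mul_mem m h.sw) (by simp only [h.nf]) k]

theorem inv5 (hj : j ∈ C{σ}) (hz : j ∈ C{z}) (j2 : j * j = 1) (j1 : j ≠ 1) : j ∈ [z, v, z * v, w, z * w] := by
  have := h.d8 hj hz hj (by rw [j2, one_mul])
  simp only [List.mem_cons, List.not_mem_nil, or_false] at this ⊢
  rcases this with e | e | e | e | e | e | e | e
  · exact absurd e j1
  any_goals simp [e]
  all_goals exact absurd (by rw [e] at j2; simpa only [h.nf] using j2) h.z1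

theorem tau (hx : x ∈ C{σ}) (hz : x ∈ C{z}) (x1 : x ≠ 1) (hj : j ∈ C{σ}) (e : j * x * j⁻¹ = x⁻¹) :
    ∃ τ ∈ [z, v, z * v, w, z * w], j ∈ C{τ} := by
  by_cases x2 : x * x = 1
  · exact ⟨x, h.inv5 hx hz x2 x1, mem_C1_iff_conj.2 (by rw [e, inv_eq_of_mul_eq_one_right x2])⟩
  have k : x * x = z := by
    have := h.d8 hx hz hj e
    simp only [List.mem_cons, List.not_mem_nil, or_false] at this
    rcases this with e | e | e | e | e | e | e | e <;> rw [e] at x2 ⊢ <;> simp only [h.nf] at x2 ⊢ <;>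
      exact absurd trivial x2
  refine ⟨z, by simp, mem_C1_iff_conj.2 ?_⟩
  calc _ = j * x * j⁻¹ * (j * x * j⁻¹) := by rw [← k]; group
    _ = z := by rw [e, ← mul_inv_rev, k, h.nf.1]

omit h in
theorem bd_cj (hj : j ∈ Bd z v w t n) : w * t * j * (w * t)⁻¹ ∈ Bd z v w t n := by
  obtain ⟨a, b, hb, rfl⟩ := hj
  exact ⟨a + 1, b, hb, by generalize w * t = o; group⟩

theorem bd_cj' (hj : w * t * j * (w * t)⁻¹ ∈ Bd z v w t n) : j ∈ Bd z v w t n := by
  have := bd_cj (bd_cj hj)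
  rwa [show w * t * (w * t * (w * t * j * (w * t)⁻¹) * (w * t)⁻¹) * (w * t)⁻¹ =
    (w * t) ^ 3 * j * ((w * t) ^ 3)⁻¹ by simp only [pow_succ, pow_zero]; group, h.o3, inv_one, one_mul,
    mul_one] at this

theorem hz : n * (w * t) * z * (n * (w * t))⁻¹ = w := by
  rw [← h.nv]; nth_rewrite 3 [← h.oz]; rw [h.nv]; group

theorem bw (hj : j ∈ C{σ}) (hw : j ∈ C{w}) (j2 : j * j = 1) (j1 : j ≠ 1) : j ∈ [z, w, z * w,
    n * (w * t) * w * (n * (w * t))⁻¹, n * (w * t) * (z * w) * (n * (w * t))⁻¹] := by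
  have k := h.inv5 (j := (n * (w * t))⁻¹ * j * (n * (w * t))) (by
      have := mul_mem (mul_mem (inv_mem h.oK) (h.nK hj)) h.oK
      rwa [show (w * t)⁻¹ * (n⁻¹ * j * n) * (w * t) = (n * (w * t))⁻¹ * j * (n * (w * t)) by group] at this)
    (cC h.hz hw) (by
      calc _ = (n * (w * t))⁻¹ * (j * j) * (n * (w * t)) := by group
        _ = 1 := by rw [j2]; group) (fun e => j1 (by
      calc j = n * (w * t) * ((n * (w * t))⁻¹ * j * (n * (w * t))) * (n * (w * t))⁻¹ := by group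
        _ = 1 := by rw [e]; group))
  have e : j = n * (w * t) * ((n * (w * t))⁻¹ * j * (n * (w * t))) * (n * (w * t))⁻¹ := by group
  simp only [List.mem_cons, List.not_mem_nil, or_false] at k ⊢
  rcases k with k | k | k | k | k <;> rw [k] at e
  · rw [h.hz] at e; simp [e]
  · refine Or.inr (Or.inr (Or.inl (e.trans ?_)))
    calc _ = n * (w * t * v * (w * t)⁻¹) * n⁻¹ := by group
      _ = n * z * n⁻¹ * (n * v * n⁻¹) := by rw [h.ov]; group
      _ = _ := by rw [h.nz, h.nv]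
  · refine Or.inl (e.trans ?_)
    calc _ = n * (w * t * (z * v) * (w * t)⁻¹) * n⁻¹ := by group
      _ = _ := by rw [h.ozv, h.nz]
  · exact Or.inr (Or.inr (Or.inr (Or.inl e)))
  · exact Or.inr (Or.inr (Or.inr (Or.inr e)))

theorem bz (hj : j ∈ C{σ}) (hz : j ∈ C{z}) (j2 : j * j = 1) (j1 : j ≠ 1) : j ∈ Bd z v w t n := by
  have k := h.inv5 hj hz j2 j1
  simp only [List.mem_cons, List.not_mem_nil, or_false] at k
  rcases k with k | k | k | k | k <;> rw [k]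
  · exact ⟨0, z, by simp, by simp⟩
  · exact ⟨1, z, by simp, by simp only [h.nf]⟩
  · exact ⟨2, z, by simp, by simp only [h.nf]⟩
  · exact ⟨0, w, by simp, by simp⟩
  · exact ⟨0, z * w, by simp, by simp⟩

omit h in
theorem cj2 (a : G) (j2 : j * j = 1) : a⁻¹ * j * a * (a⁻¹ * j * a) = 1 := by
  calc _ = a⁻¹ * (j * j) * a := by group
    _ = 1 := by rw [j2]; group

omit h in
theorem cj1 (a : G) (j1 : j ≠ 1) : a⁻¹ * j * a ≠ 1 := fun e => j1 (by
  calc j = a * (a⁻¹ * j * a) * a⁻¹ := by group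
    _ = 1 := by rw [e]; group)

theorem ball (hj : j ∈ C{σ}) (j2 : j * j = 1) (j1 : j ≠ 1) {τ : G} (hτ : τ ∈ [z, v, z * v, w, z * w])
    (c : j ∈ C{τ}) : j ∈ Bd z v w t n := by
  simp only [List.mem_cons, List.not_mem_nil, or_false] at hτ
  rcases hτ with e | e | e | e | e <;> rw [e] at c
  · exact h.bz hj c j2 j1
  · simpa [mul_assoc] using bd_cj (h.bz (mul_mem (mul_mem (inv_mem h.oK) hj) h.oK) (cC h.oz c) (cj2 _ j2) (cj1 _ j1))
  · exact h.bd_cj' (by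
      simpa only [inv_inv] using h.bz (mul_mem (mul_mem (inv_mem (inv_mem h.oK)) hj) (inv_mem h.oK))
        (cC (by simp only [h.nf]) c) (cj2 _ j2) (cj1 _ j1))
  · refine ⟨0, j, ?_, by simp⟩
    have := h.bw hj c j2 j1
    simp only [List.mem_cons, List.not_mem_nil, or_false] at this ⊢
    tauto
  · refine ⟨0, j, ?_, by simp⟩
    have := h.bw (mul_mem (mul_mem (inv_mem h.sv) hj) h.sv) (cC (by simp only [h.nf]) c) (cj2 _ j2) (cj1 _ j1)
    have e1 : j = v * (v⁻¹ * j * v) * v⁻¹ := by group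
    simp only [List.mem_cons, List.not_mem_nil, or_false] at this ⊢
    rcases this with k | k | k | k | k <;> rw [k] at e1
    · exact Or.inl (e1.trans (by simp only [h.nf]))
    · exact Or.inr (Or.inr (Or.inl (e1.trans (by simp only [h.nf]))))
    · exact Or.inr (Or.inl (e1.trans (by simp only [h.nf])))
    · simp only [e1, true_or, or_true]
    · simp only [e1, or_true]

theorem bd_conj (hj : j ∈ Bd z v w t n) : IsConj z j := by
  obtain ⟨a, b, hb, rfl⟩ := hj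
  have c : ∀ {y : G} (g : G), IsConj z y → IsConj z (g * y * g⁻¹) := fun g k => k.trans (isConj_iff.2 ⟨g, rfl⟩)
  have c1 : IsConj z w := isConj_iff.2 ⟨_, h.hz⟩
  have c2 : IsConj z (z * w) := c1.trans (isConj_iff.2 ⟨v, by simp only [h.nf]⟩)
  refine c _ ?_
  simp only [List.mem_cons, List.not_mem_nil, or_false] at hb
  rcases hb with rfl | rfl | rfl | rfl | rfl | rfl | rfl
  exacts [IsConj.refl _, c1, c2, c _ c1, c _ c2, c _ (c _ c1), c _ (c _ c2)]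

/-- all involutions of `K` are conjugate to `z` -/
theorem inv_conj (hj : j ∈ C{σ}) (j2 : j * j = 1) (j1 : j ≠ 1) : IsConj z j := by
  rcases H6.XS.dih₃ h.zz j2 (mem_top z) (mem_top j) with ⟨g, -, e⟩ | ⟨τ, t1, t2, t3, t4, t5, -⟩
  · exact isConj_iff.2 ⟨g, e⟩
  · exact h.bd_conj (h.ball hj j2 j1 (h.inv5 (mem_C1.2 (t5 σ (mem_C1.1 h.sz).symm (mem_C1.1 hj).symm).symm)
      (mem_C1.2 t3) t2 t1) (mem_C1.2 t4.symm))

theorem bd_card : (Bd z v w t n).ncard ≤ 21 := by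
  classical
  set l := [z, w, z * w, n * (w * t) * w * (n * (w * t))⁻¹,
    n * (w * t) * (z * w) * (n * (w * t))⁻¹, v * (n * (w * t) * w * (n * (w * t))⁻¹) * v⁻¹,
    v * (n * (w * t) * (z * w) * (n * (w * t))⁻¹) * v⁻¹] with hl
  have : Bd z v w t n ⊆ ((Finset.range 3 ×ˢ l.toFinset).image
      fun p => (w * t) ^ p.1 * p.2 * ((w * t) ^ p.1)⁻¹ : Finset G) := by
    rintro _ ⟨a, b, hb, rfl⟩
    refine Finset.mem_coe.2 (Finset.mem_image.2 ⟨(a % 3, b), Finset.mem_product.2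
      ⟨Finset.mem_range.2 (Nat.mod_lt _ (by norm_num)), List.mem_toFinset.2 hb⟩, ?_⟩)
    rw [← pow_eq_pow_mod a h.o3]
  refine (Set.ncard_le_ncard this).trans ?_
  rw [Set.ncard_coe_finset]
  refine Finset.card_image_le.trans ?_
  rw [Finset.card_product, Finset.card_range]
  have := l.toFinset_card_le
  have e : l.length = 7 := rfl
  omega

theorem tri (hx : x ∈ normalizer (Ln z v)) : x ∈ C{z} ∨ x ∈ C{v} ∨ x ∈ C{z * v} ∨ Cy z v x ∨ Cy z v x⁻¹ := by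
  have a : x * z * x⁻¹ ∈ Ln z v := (hx z).1 (by simp [Ln])
  have b : x * v * x⁻¹ ∈ Ln z v := (hx v).1 (by simp [Ln])
  have c : x * (z * v) * x⁻¹ = x * z * x⁻¹ * (x * v * x⁻¹) := by group
  have d : x * z * x⁻¹ ≠ x * v * x⁻¹ := fun e => h.vz' (by simpa using e.symm)
  simp only [mem_C1_iff_conj, Cy]
  rcases a with a | a | a
  · exact Or.inl a
  · rcases b with b | b | b
    · exact Or.inr (Or.inr (Or.inl (by rw [c, a, b, h.vz])))
    · exact Or.inr (Or.inl b)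
    · exact Or.inr (Or.inr (Or.inr (Or.inl ⟨a, b⟩)))
  · rcases b with b | b | b
    · rw [a, b, show z * v * z = v by simp only [h.nf]] at c
      refine Or.inr (Or.inr (Or.inr (Or.inr ⟨?_, ?_⟩)))
      · rw [← b]; group
      · nth_rewrite 1 [← c]; group
    · exact Or.inr (Or.inl b)
    · exact absurd (a.trans b.symm) d

/-- the members of `C_K(z, v)` -/
theorem cen2 (hg : g ∈ C{σ}) (hz : g ∈ C{z}) (hv : g ∈ C{v}) : ∃ e ∈ [1, z, v, z * v], ∃ i : ℕ, g = e * σ ^ i := by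
  obtain ⟨e, he, i, k | k⟩ := h.cen g hg hz
  · exact ⟨e, he, i, k⟩
  have e1 : e ∈ C{v} := by
    simp only [List.mem_cons, List.not_mem_nil, or_false] at he
    rcases he with rfl | rfl | rfl | rfl <;> exact mem_C1.2 (by simp only [h.nf])
  have e2 := mul_mem (mul_mem (inv_mem e1) hv) (inv_mem (pow_mem (mem_C1_comm.1 h.sv) i))
  rw [k, show e⁻¹ * (e * w * σ ^ i) * (σ ^ i)⁻¹ = w by group, mem_C1] at e2
  exact absurd (by simpa [h.nf] using e2) h.z1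

theorem cyc (hx : x ∈ C{σ}) (c : Cy z v x) (hj : j ∈ C{σ}) (e : j * x * j⁻¹ = x⁻¹) :
    ∃ a ∈ PP σ z v, x = a * (w * t) * a⁻¹ := by
  have c3 : x * (z * v) * x⁻¹ = z := by
    calc _ = x * z * x⁻¹ * (x * v * x⁻¹) := by group
      _ = z := by rw [c.1, c.2]; simp only [h.nf]
  obtain ⟨d, hd, i, k⟩ := h.cen2 (mul_mem hx (inv_mem h.oK)) (mem_C1_iff_conj.2 (by
      calc _ = x * ((w * t)⁻¹ * z * (w * t)) * x⁻¹ := by group
        _ = z := by rw [show (w * t)⁻¹ * z * (w * t) = z * v by simp only [h.nf], c3])) (mem_C1_iff_conj.2 (by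
      calc _ = x * ((w * t)⁻¹ * v * (w * t)) * x⁻¹ := by group
        _ = v := by rw [show (w * t)⁻¹ * v * (w * t) = z by simp only [h.nf], c.1]))
  obtain ⟨a, a1, a2⟩ : ∃ a ∈ PP σ z v, d * (w * t) = a * (w * t) * a⁻¹ := by
    simp only [List.mem_cons, List.not_mem_nil, or_false] at hd
    rcases hd with k | k | k | k <;> rw [k]
    · exact ⟨1, one_mem _, by simp⟩
    · exact ⟨v, h.genP v (by simp), by simp only [h.nf]⟩
    · exact ⟨z * v, mul_mem (h.genP z (by simp)) (h.genP v (by simp)), by simp only [h.nf]⟩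
    · exact ⟨z, h.genP z (by simp), by simp only [h.nf]⟩
  have k1 : x = a * (w * t) * a⁻¹ * σ ^ i := by
    rw [← a2, mul_assoc, mem_C1.1 (pC h.oK i), ← mul_assoc, ← k, inv_mul_cancel_right]
  refine ⟨a, a1, ?_⟩
  rw [k1, rm (mem_C1_comm.1 (pC (mul_mem (mul_mem a1.1 h.oK) (inv_mem a1.1)) i))
    (by rw [conj_pow, show 12 = 3 * 4 from rfl, pow_mul, h.o3]; simp)
    (by rw [← pow_mul, mul_comm, pow_mul, h.s7, one_pow]) (pC hj i) (k1 ▸ e), mul_one]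

theorem bad1 (hx : x ∈ C{σ}) (x1 : x ≠ 1) (hj : j ∈ C{σ}) (j2 : j * j = 1) (j1 : j ≠ 1) (e : j * x * j⁻¹ = x⁻¹)
    (c : x ∈ C{z} ∨ x ∈ C{v} ∨ x ∈ C{z * v}) : j ∈ Bd z v w t n := by
  have k : ∀ a ∈ C{σ}, a⁻¹ * x * a ∈ C{z} → a⁻¹ * j * a ∈ Bd z v w t n := fun a ha c => by
    have m := mul_mem (mul_mem (inv_mem ha) hj) ha
    obtain ⟨τ, t1, t2⟩ := h.tau (mul_mem (mul_mem (inv_mem ha) hx) ha) c (cj1 a x1) m (by
      calc _ = a⁻¹ * (j * x * j⁻¹) * a := by group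
        _ = _ := by rw [e]; group)
    exact h.ball m (cj2 a j2) (cj1 a j1) t1 t2
  rcases c with c | c | c
  · simpa using k 1 (one_mem _) (by simpa using c)
  · simpa [mul_assoc] using bd_cj (k _ h.oK (cC h.oz c))
  · exact h.bd_cj' (by simpa only [inv_inv] using k _ (inv_mem h.oK) (cC (by simp only [h.nf]) c))

theorem c1 {e e' : G} (he : e ∈ [1, z, v, z * v]) (he' : e' ∈ [1, z, v, z * v]) :
    (e⁻¹ * (w * t) * e') ^ 3 = 1 ∧ Cy z v (e⁻¹ * (w * t) * e') := by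
  simp only [List.mem_cons, List.not_mem_nil, or_false] at he he'
  rcases he with k | k | k | k <;> rcases he' with k' | k' | k' | k' <;> rw [k, k'] <;>
    simp only [Cy, h.nf, and_self]

theorem cs (p q : Fin 3 × Fin 4) (ne : p ≠ q) :
    (((w * t) ^ p.1.1 * ![1, z, v, z * v] p.2)⁻¹ * ((w * t) ^ q.1.1 * ![1, z, v, z * v] q.2)) ^ 7 =
      ((w * t) ^ p.1.1 * ![1, z, v, z * v] p.2)⁻¹ * ((w * t) ^ q.1.1 * ![1, z, v, z * v] q.2) ∧
    (((w * t) ^ p.1.1 * ![1, z, v, z * v] p.2)⁻¹ * ((w * t) ^ q.1.1 * ![1, z, v, z * v] q.2) ∈ Ln z v ∨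
      Cy z v (((w * t) ^ p.1.1 * ![1, z, v, z * v] p.2)⁻¹ * ((w * t) ^ q.1.1 * ![1, z, v, z * v] q.2)) ∨
      Cy z v (((w * t) ^ p.1.1 * ![1, z, v, z * v] p.2)⁻¹ * ((w * t) ^ q.1.1 * ![1, z, v, z * v] q.2))⁻¹) := by
  obtain ⟨a, b⟩ := p
  obtain ⟨a', b'⟩ := q
  have m : ∀ b : Fin 4, ![1, z, v, z * v] b ∈ [1, z, v, z * v] := fun b => by fin_cases b <;> simp
  have p7 : ∀ {u : G} {k : ℕ}, k ∣ 6 → u ^ k = 1 → u ^ 7 = u := fun ⟨m, e⟩ e' => by
    rw [pow_succ, e, pow_mul, e', one_pow, one_mul]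
  dsimp only
  rw [mul_inv_rev, mul_assoc, ← mul_assoc _⁻¹ (_ ^ _), ← mul_assoc]
  have : a = a' ∨ ((w * t) ^ a.1)⁻¹ * (w * t) ^ a'.1 = w * t ∨ ((w * t) ^ a.1)⁻¹ * (w * t) ^ a'.1 = (w * t)⁻¹ := by
    fin_cases a <;> fin_cases a' <;> simp [h.nf]
  rcases this with rfl | e | e
  · have k : (![1, z, v, z * v] b)⁻¹ * ![1, z, v, z * v] b' ∈ Ln z v := by
      have : b ≠ b' := fun e => ne (by rw [e])
      fin_cases b <;> fin_cases b' <;> first | exact absurd rfl this | simp [Ln, h.nf]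
    rw [inv_mul_cancel, mul_one]
    refine ⟨p7 (k := 2) (by norm_num) ?_, Or.inl k⟩
    rcases k with k | k | k <;> rw [k] <;> simp only [h.nf]
  · rw [e]
    exact ⟨p7 (by norm_num) (h.c1 (m b) (m b')).1, Or.inr (Or.inl (h.c1 (m b) (m b')).2)⟩
  · have := h.c1 (m b') (m b)
    rw [e, show (![1, z, v, z * v] b)⁻¹ * (w * t)⁻¹ * ![1, z, v, z * v] b' =
      ((![1, z, v, z * v] b')⁻¹ * (w * t) * ![1, z, v, z * v] b)⁻¹ by group]
    exact ⟨p7 (k := 3) (by norm_num) (by rw [inv_pow, this.1, inv_one]), Or.inr (Or.inr (by rw [inv_inv]; exact this.2))⟩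

/-- members of `N(line) ∩ C(w t)` act on the line as powers of `w t` -/
theorem rot (hx : x ∈ normalizer (Ln z v)) (c : x ∈ C{w * t}) :
    ∃ k < 3, x * z * x⁻¹ = (w * t) ^ k * z * ((w * t) ^ k)⁻¹ := by
  rcases (hx z).1 (by simp [Ln]) with a | a | a <;> rw [a]
  · exact ⟨0, by norm_num, by simp⟩
  · exact ⟨1, by norm_num, by simp only [h.nf]⟩
  · exact ⟨2, by norm_num, by simp only [h.nf]⟩

theorem zv_of (c : x ∈ C{w * t}) (hz : x ∈ C{z}) : x ∈ C{v} := by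
  rw [mem_C1_comm] at c hz ⊢
  exact h.oz ▸ mul_mem (mul_mem c hz) (inv_mem c)

/-- the centraliser of `w t` in `K` fixes the line -/
theorem om_of {A : Subgroup G} {s : G} (sn : ¬ IsConj z s) (sA : s ∈ A) (s1 : s ≠ 1) (ss : s * s = 1)
    (Ao : A ≤ C{w * t}) (N1 : ∀ y, ∀ a ∈ A, a ≠ 1 → y * a * y⁻¹ ∈ A → y ∈ normalizer (Ln z v))
    (c' : ∀ u ∈ C{z}, u ∈ C{v} → u ∈ C{w * t} → u * u = 1 → u ∈ A)
    (d1 : ∀ y ∈ C{z}, y ∈ C{v} → y ^ 7 = 1 → ∃ k < 7, (y * (σ ^ k)⁻¹) ^ 2 ^ 3 = 1)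
    (d2 : ∀ y ∈ C{z}, y ∈ C{v} → y * σ * y⁻¹ ≠ σ⁻¹) :
    ∀ g ∈ C{σ}, g ∈ C{w * t} → g * z * g⁻¹ ∈ Ln z v := fun g gK go => by
  by_contra hn
  let M : Subgroup G := C{w * t} ⊓ normalizer (Ln z v)
  have N2 : ∀ u ∈ M, u * u = 1 → u ∈ A := fun u hu u2 => by
    obtain ⟨k, k3, e⟩ := h.rot hu.2 hu.1
    have cu : u ∈ C{(w * t) ^ k} := pC hu.1 k
    have e1 : z = (w * t) ^ k * ((w * t) ^ k * z * ((w * t) ^ k)⁻¹) * ((w * t) ^ k)⁻¹ := by
      calc z = u * (u * z * u⁻¹) * u⁻¹ := by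
            rw [show u * (u * z * u⁻¹) * u⁻¹ = u * u * z * (u * u)⁻¹ by group, u2]; simp
        _ = u * (w * t) ^ k * u⁻¹ * (u * z * u⁻¹) * (u * (w * t) ^ k * u⁻¹)⁻¹ := by
            nth_rewrite 1 [e]; generalize (w * t) ^ k = o; group
        _ = _ := by rw [mem_C1_iff_conj.1 cu, e]
    have uz : u ∈ C{z} := mem_C1_iff_conj.2 (by
      interval_cases k
      · simpa using e
      · exact absurd (by simpa [h.nf] using e1) h.v1
      · exact absurd (by simpa only [h.nf] using e1.symm) h.vz')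
    exact c' u uz (h.zv_of hu.1 uz) hu.1 u2
  have N3 : ∀ u ∈ M ⊓ cj g M, u * u = 1 → u = 1 := fun u hu u2 => by_contra fun u1 =>
    hn ((N1 g _ (N2 _ (mem_cj.1 hu.2) (cj2 g u2)) (cj1 g u1) (by simpa [mul_assoc] using N2 u hu.1 u2) z).1
      (by simp [Ln]))
  have N4 : ∀ m : ℕ, ∀ u ∈ M ⊓ cj g M, u ^ 2 ^ m = 1 → u = 1 := fun m => by
    induction m with
    | zero => exact fun u _ e => by simpa using e
    | succ m ih => exact fun u hu e => N3 u hu (ih _ (mul_mem hu hu) (by rw [← pow_two, ← pow_mul, ← pow_succ', e]))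
  have cM : ∀ y ∈ C{w * t}, y ∈ C{s} → y ∈ M := fun y a b =>
    ⟨a, N1 y s sA s1 (by rw [mem_C1_iff_conj.1 b]; exact sA)⟩
  have so := Ao sA
  have s'2 : g * s * g⁻¹ * (g * s * g⁻¹) = 1 := by simpa only [inv_inv] using cj2 g⁻¹ ss
  have s'o : g * s * g⁻¹ ∈ C{w * t} := mul_mem (mul_mem go so) (inv_mem go)
  rcases Nat.even_or_odd (orderOf (s * (g * s * g⁻¹))) with ev | od
  · obtain ⟨e1, e2, e3⟩ := H6.central_involution ss s'2 ev
    have m := pow_mem (mul_mem so s'o) (orderOf (s * (g * s * g⁻¹)) / 2)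
    exact H6.ne_one_of_orderOf_two e1 (N3 _ ⟨cM _ m (mem_C1.2 e2.eq), mem_cj.2 (cM _
      (mul_mem (mul_mem (inv_mem go) m) go) (cC rfl (mem_C1.2 e3.eq)))⟩ (H6.mul_self_of_orderOf_two e1))
  obtain ⟨k, e⟩ := H6.exists_zpow_conj_of_odd ss s'2 od
  have i2 := H6.refl_mul_self ss s'2 (-k)
  have ic : IsConj s (s * (s * (g * s * g⁻¹)) ^ (-k)) := H6.isConj_of_odd ss i2 (by
    rw [← mul_assoc, ss, one_mul]
    exact od.of_dvd_nat (orderOf_dvd_of_mem_zpowers (zpow_mem_zpowers _ _)))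
  have io : s * (s * (g * s * g⁻¹)) ^ (-k) ∈ C{w * t} := mul_mem so (zpow_mem (mul_mem so s'o) _)
  have is : s * (s * (g * s * g⁻¹)) ^ (-k) * s * (s * (s * (g * s * g⁻¹)) ^ (-k))⁻¹ = g * s * g⁻¹ := by
    rw [← H6.zpow_mul_left ss s'2]; nth_rewrite 3 [← e]; group
  generalize s * (s * (g * s * g⁻¹)) ^ (-k) = i at i2 ic io is
  have ii := inv_eq_of_mul_eq_one_right i2
  have hM : g⁻¹ * i ∈ M := cM _ (mul_mem (inv_mem go) io) (mem_C1_iff_conj.2 (by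
    calc _ = g⁻¹ * (i * s * i⁻¹) * g := by group
      _ = s := by rw [is]; group))
  have gs := mem_C1_iff_conj.1 (C{σ}.inv_mem gK)
  have σM : σ ∈ M := ⟨mem_C1_comm.1 h.oK, (h.genP σ (by simp)).2⟩
  have e1 : i * σ * i⁻¹ = (g⁻¹ * i)⁻¹ * σ * (g⁻¹ * i) := by
    nth_rewrite 2 [← gs]; rw [mul_inv_rev, ii]; group
  have σT : σ ∈ M ⊓ cj g M := ⟨σM, mem_cj.2 (by have := σM; rwa [← gs, inv_inv] at this)⟩
  have σT' : i * σ * i⁻¹ ∈ M ⊓ cj g M := ⟨e1 ▸ M.mul_mem (M.mul_mem (M.inv_mem hM) σM) hM, mem_cj.2 (by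
    convert mul_mem (mul_mem hM σM) (inv_mem hM) using 1; group)⟩
  have cL : ∀ a ∈ Ln z v, i * σ * i⁻¹ ∈ C{a} := fun a ha => by
    refine e1 ▸ cC rfl (mem_C1_comm.1 ?_)
    rcases (hM.2 a).1 ha with e | e | e <;> rw [e]
    exacts [h.sz, h.sv, mul_mem h.sz h.sv]
  obtain ⟨m, m7, e2⟩ := d1 _ (cL z (by simp [Ln])) (cL v (by simp [Ln])) (by rw [conj_pow, h.s7]; simp)
  have e3 := mul_inv_eq_one.1 (N4 3 _ (mul_mem σT' (inv_mem (pow_mem σT m))) e2)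
  have e4 : σ ^ (m * m) = σ ^ 1 := by
    calc _ = i * (i * σ * i⁻¹) * i⁻¹ := by rw [e3, ← conj_pow, e3, pow_mul]
      _ = (i * i) * σ * (i * i)⁻¹ := by group
      _ = _ := by rw [i2]; simp
  have o7 : orderOf σ = 7 := by
    have := Fact.mk (by norm_num : Nat.Prime 7)
    exact orderOf_eq_prime h.s7 fun e => d2 1 (one_mem _) (one_mem _) (by simp [e])
  rw [pow_eq_pow_iff_modEq, o7] at e4
  have : m = 1 ∨ m = 6 := (by decide : ∀ m < 7, m * m ≡ 1 [MOD 7] → m = 1 ∨ m = 6) m m7 e4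
  rcases this with rfl | rfl
  · exact sn ((h.inv_conj (mem_C1_iff_conj.2 (by rw [e3, pow_one])) i2
      fun e => s1 (by simpa [e] using ic)).trans ic.symm)
  obtain ⟨l, -, e5⟩ := h.rot hM.2 hM.1
  have c1 : ((w * t) ^ l)⁻¹ * (g⁻¹ * i) ∈ C{z} := mem_C1_iff_conj.2 (by
    calc _ = ((w * t) ^ l)⁻¹ * (g⁻¹ * i * z * (g⁻¹ * i)⁻¹) * (w * t) ^ l := by generalize (w * t) ^ l = o; group
      _ = z := by rw [e5]; generalize (w * t) ^ l = o; group)
  refine d2 _ c1 (h.zv_of (mul_mem (inv_mem (pow_mem (self_mem_C1 _) l)) hM.1) c1) ?_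
  have e6 : σ ^ 6 = σ⁻¹ := eq_inv_of_mul_eq_one_left (by rw [← pow_succ, h.s7])
  have c2 : ((w * t) ^ l)⁻¹ * g⁻¹ ∈ C{σ⁻¹} :=
    mem_C1_comm.1 (inv_mem (mem_C1_comm.1 (mul_mem (inv_mem (pow_mem h.oK l)) (inv_mem gK))))
  calc _ = ((w * t) ^ l)⁻¹ * g⁻¹ * (i * σ * i⁻¹) * (((w * t) ^ l)⁻¹ * g⁻¹)⁻¹ := by
        generalize (w * t) ^ l = o; group
    _ = _ := by rw [e3, e6, mem_C1_iff_conj.1 c2]

variable (om : ∀ g ∈ C{σ}, g ∈ C{w * t} → g * z * g⁻¹ ∈ Ln z v)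
include om

theorem bad (hx : x ∈ PP σ z v) (x1 : x ≠ 1) (hj : j ∈ C{σ}) (j2 : j * j = 1) (j1 : j ≠ 1)
    (e : j * x * j⁻¹ = x⁻¹) : j ∈ Bd z v w t n := by
  have ji := inv_eq_of_mul_eq_one_right j2
  have k : ∀ x ∈ C{σ}, Cy z v x → j * x * j⁻¹ = x⁻¹ → j ∈ Bd z v w t n := fun x hx c e => by
    obtain ⟨a, a1, rfl⟩ := h.cyc hx c hj e
    have aK : a ∈ C{σ} := a1.1
    have m := mul_mem (mul_mem (mul_mem (inv_mem aK) hj) aK) h.st
    have m1 := h.memP m (om _ m (mem_C1_iff_conj.2 (by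
      calc _ = a⁻¹ * j * a * (t * (w * t) * t⁻¹) * (a⁻¹ * j * a)⁻¹ := by group
        _ = a⁻¹ * (j * (a * (w * t) * a⁻¹) * j⁻¹)⁻¹ * a := by
          rw [show t * (w * t) * t⁻¹ = (w * t)⁻¹ by simp only [h.nf]]; group
        _ = _ := by rw [e]; group)))
    have m2 := mul_mem (mul_mem (mul_mem a1 m1) (inv_mem (h.genP t (by simp)))) (inv_mem a1)
    rw [show a * (a⁻¹ * j * a * t) * t⁻¹ * a⁻¹ = j by group] at m2
    have e2 : j * j * j⁻¹ = j⁻¹ := by rw [j2, one_mul]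
    have m3 : ¬ Cy z v j := fun c => by
      obtain ⟨b, -, e3⟩ := h.cyc hj c hj e2
      have : j ^ 3 = 1 := by rw [e3, conj_pow, h.o3]; simp
      exact j1 (by rwa [pow_succ, pow_two, j2, one_mul] at this)
    refine h.bad1 hj j1 hj j2 j1 e2 ?_
    have := h.tri m2.2
    rw [ji] at this
    tauto
  rcases h.tri hx.2 with c | c | c | c | c
  · exact h.bad1 hx.1 x1 hj j2 j1 e (Or.inl c)
  · exact h.bad1 hx.1 x1 hj j2 j1 e (Or.inr (Or.inl c))
  · exact h.bad1 hx.1 x1 hj j2 j1 e (Or.inr (Or.inr c))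
  · exact k x hx.1 c e
  · exact k x⁻¹ (inv_mem hx.1) c (by rw [← conj_inv, e])

/-- the index of the stabiliser of the line in `K` is at most ten -/
theorem count : ((fun g : G => (g : G ⧸ PP σ z v)) '' C{σ}).ncard ≤ 10 := by
  set Ω := (fun g : G => (g : G ⧸ PP σ z v)) '' C{σ} with hΩ
  have out : ∀ q ∈ Ω, q.out ∈ C{σ} := by
    rintro _ ⟨g, hg, rfl⟩
    obtain ⟨p, e⟩ := QuotientGroup.mk_out_eq_mul (PP σ z v) g
    exact e ▸ mul_mem hg p.2.1
  let I : Set G := {j | j ∈ C{σ} ∧ j * j = 1 ∧ j ≠ 1}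
  have oP : w * t ∈ PP σ z v := mul_mem (h.genP w (by simp)) (h.genP t (by simp))
  have h1 : ((Set.univ : Set (Fin 3)) ×ˢ Ω).ncard ≤ I.ncard := by
    refine Set.ncard_le_ncard_of_injOn
      (fun p => p.2.out * (w * t) ^ p.1.1 * z * (p.2.out * (w * t) ^ p.1.1)⁻¹) (fun p hp => ?_) ?_
    · have m := mul_mem (out _ hp.2) (pow_mem h.oK p.1.1)
      refine ⟨mul_mem (mul_mem m h.sz) (inv_mem m), ?_, ?_⟩
      · simpa only [inv_inv] using cj2 (p.2.out * (w * t) ^ p.1.1)⁻¹ h.zz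
      · simpa only [inv_inv] using cj1 (p.2.out * (w * t) ^ p.1.1)⁻¹ h.z1
    rintro ⟨a, q⟩ hp ⟨b, r⟩ hq e
    have m := mul_mem (inv_mem (mul_mem (out _ hp.2) (pow_mem h.oK a.1))) (mul_mem (out _ hq.2) (pow_mem h.oK b.1))
    have e1 : (q.out * (w * t) ^ a.1)⁻¹ * (r.out * (w * t) ^ b.1) ∈ C{z} := mem_C1_iff_conj.2 (by
      dsimp only at e
      generalize q.out * (w * t) ^ a.1 = y, r.out * (w * t) ^ b.1 = y' at e ⊢
      calc _ = y⁻¹ * (y' * z * y'⁻¹) * y := by group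
        _ = z := by rw [← e]; group)
    have m1 := mul_mem (mul_mem (pow_mem oP a.1) (h.memP m (by rw [mem_C1_iff_conj.1 e1]; simp [Ln])))
      (inv_mem (pow_mem oP b.1))
    dsimp only at m1
    rw [show (w * t) ^ a.1 * ((q.out * (w * t) ^ a.1)⁻¹ * (r.out * (w * t) ^ b.1)) * ((w * t) ^ b.1)⁻¹ =
      q.out⁻¹ * r.out by generalize (w * t) ^ a.1 = y, (w * t) ^ b.1 = y'; group, ← QuotientGroup.eq,
      QuotientGroup.out_eq', QuotientGroup.out_eq'] at m1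
    subst m1
    rw [mul_inv_rev, mul_assoc, inv_mul_cancel_left, mem_C1] at e1
    have := h.vz'
    have := h.v1
    have := h.z1
    congr 1
    fin_cases a <;> fin_cases b <;> simp_all [h.nf]
  have h2 : (I \ Bd z v w t n).ncard ≤ Ω.ncard := by
    refine Set.ncard_le_ncard_of_injOn (fun g : G => (g : G ⧸ PP σ z v)) (fun j hj => ⟨j, hj.1.1, rfl⟩)
      fun j hj j' hj' e => by_contra fun ne => hj.2 ?_
    refine h.bad om (QuotientGroup.eq.1 e) (fun k => ne (inv_mul_eq_one.1 k)) hj.1.1 hj.1.2.1 hj.1.2.2 ?_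
    rw [mul_inv_cancel_left, mul_inv_rev, inv_inv, inv_eq_of_mul_eq_one_right hj.1.2.1,
      inv_eq_of_mul_eq_one_right hj'.1.2.1]
  have h3 : I.ncard ≤ (I \ Bd z v w t n).ncard + (Bd z v w t n).ncard :=
    (Set.ncard_le_ncard (by intro j hj; by_cases k : j ∈ Bd z v w t n; exacts [Or.inr k, Or.inl ⟨hj, k⟩])).trans
      (Set.ncard_union_le _ _)
  have h4 := h.bd_card
  rw [Set.ncard_prod, Set.ncard_univ, Nat.card_fin] at h1
  omega

/-- the hexagon closes -/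
theorem last {s a : G} (h1 : z ∈ C{s}) (h2 : v ∈ C{s}) (h3 : w ∈ C{s}) (h4 : t ∈ C{s})
    (ha : w * t * n * s * (w * t * n)⁻¹ = a) (e3 : n = a * (n * a * n⁻¹) * a) :
    (t * v * (n * t * n⁻¹)) ^ 3 = 1 := by
  let El : Fin 4 → G := ![1, z, v, z * v]
  have nK : ∀ {g : G}, g ∈ C{σ} → n * g * n⁻¹ ∈ C{σ} := fun hg => by simpa only [h.ni] using h.nK hg
  have EK : ∀ b, El b ∈ C{σ} ⊓ C{s} := fun b => by
    fin_cases b
    exacts [one_mem _, ⟨h.sz, h1⟩, ⟨h.sv, h2⟩, mul_mem ⟨h.sz, h1⟩ ⟨h.sv, h2⟩]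
  have xK : ∀ p : Fin 3 × Fin 4, (w * t) ^ p.1.1 * El p.2 ∈ C{σ} ⊓ C{s} := fun p =>
    mul_mem (pow_mem (mem_inf.2 ⟨h.oK, mul_mem h3 h4⟩) _) (EK _)
  have gK : ∀ {g : G}, g ∈ C{σ} → ((w * t * n)⁻¹ * n * (w * t * n)) * g * ((w * t * n)⁻¹ * n * (w * t * n))⁻¹ ∈ C{σ} :=
    fun {g} hg => by
      have := h.nK (mul_mem (mul_mem (inv_mem h.oK) (nK (mul_mem (mul_mem h.oK (nK hg)) (inv_mem h.oK)))) h.oK)
      generalize w * t = o at this ⊢
      convert this using 1; group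
  obtain ⟨p, -, q, -, ne, e⟩ := Set.exists_ne_map_eq_of_ncard_lt_of_maps_to (s := Set.univ)
    (f := fun p : Fin 3 × Fin 4 => ((((w * t * n)⁻¹ * n * (w * t * n)) * ((w * t) ^ p.1.1 * El p.2) *
      ((w * t * n)⁻¹ * n * (w * t * n))⁻¹ : G) : G ⧸ PP σ z v))
    ((h.count om).trans_lt (by simp)) fun p _ => ⟨_, gK (xK p).1, rfl⟩
  have key : ∀ u ∈ C{σ} ⊓ C{s}, u ^ 7 = u →
      ((w * t * n)⁻¹ * n * (w * t * n)) * u * ((w * t * n)⁻¹ * n * (w * t * n))⁻¹ ∈ PP σ z v →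
      w * t * n * u * (w * t * n)⁻¹ ∈ C{n} := fun u hu u7 k => by
    obtain ⟨d, d1, i, e⟩ := h.red h1 h2 h3 h4 k.1 ((k.2 z).1 (by simp [Ln]))
    have dK : d ∈ C{σ} := by
      have := C{σ}.mul_mem k.1 (inv_mem (pow_mem (self_mem_C1 σ) i))
      rwa [e, mul_inv_cancel_right] at this
    have e1 := congrArg (· ^ 7) e
    simp only [conj_pow, u7, (show Commute d (σ ^ i) from mem_C1.1 (pC dK i)).mul_pow] at e1
    rw [← pow_mul, mul_comm i, pow_mul, h.s7, one_pow, mul_one] at e1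
    have c1 := pow_mem d1 7
    rw [← e1] at c1
    generalize w * t * n = g at *
    have c2 : g * u * g⁻¹ ∈ C{a} := by
      simpa only [inv_inv] using cC (a := g⁻¹) (b := a) (by rw [← ha]; group) hu.2
    have c3 : g * u * g⁻¹ ∈ C{n * a * n⁻¹} := by
      have := cC (a := g⁻¹ * n) (b := n * a * n⁻¹) (y := s) (by
        calc _ = g⁻¹ * (n * n) * a * (n * n)⁻¹ * g := by group
          _ = s := by rw [h.nn, ← ha]; group) c1
      convert this using 1; group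
    rw [mem_C1_comm] at c2 c3 ⊢
    rw [e3]
    exact mul_mem (mul_mem c2 c3) c2
  have e1 := QuotientGroup.eq.1 e
  have m := mul_mem (inv_mem (xK p)) (xK q)
  have gz : w * t * n * z * (w * t * n)⁻¹ = v := by
    calc _ = w * t * (n * z * n⁻¹) * (w * t)⁻¹ := by group
      _ = v := by rw [h.nz, h.oz]
  have gv : w * t * n * v * (w * t * n)⁻¹ = t := by
    calc _ = w * t * (n * v * n⁻¹) * (w * t)⁻¹ := by group
      _ = t := by rw [h.nv]; simp only [h.nf]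
  have gzv : w * t * n * (z * v) * (w * t * n)⁻¹ = v * t := by
    calc _ = w * t * n * z * (w * t * n)⁻¹ * (w * t * n * v * (w * t * n)⁻¹) := by group
      _ = _ := by rw [gz, gv]
  have fin : ∀ u, w * t * n * u * (w * t * n)⁻¹ ∈ C{n} → Cy z v u → (t * v * (n * t * n⁻¹)) ^ 3 = 1 := fun u c k => by
    have a1 : w * t * n * u * (w * t * n)⁻¹ * v * (w * t * n * u * (w * t * n)⁻¹)⁻¹ = t := by
      calc _ = w * t * n * (u * ((w * t * n)⁻¹ * v * (w * t * n)) * u⁻¹) * (w * t * n)⁻¹ := by group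
        _ = t := by
          rw [show (w * t * n)⁻¹ * v * (w * t * n) = z by nth_rewrite 1 [← gz]; group, k.1, gv]
    have a2 : w * t * n * u * (w * t * n)⁻¹ * t * (w * t * n * u * (w * t * n)⁻¹)⁻¹ = v * t := by
      calc _ = w * t * n * (u * ((w * t * n)⁻¹ * t * (w * t * n)) * u⁻¹) * (w * t * n)⁻¹ := by group
        _ = v * t := by
          rw [show (w * t * n)⁻¹ * t * (w * t * n) = v by nth_rewrite 2 [← gv]; group, k.2, gzv]
    generalize w * t * n * u * (w * t * n)⁻¹ = y at a1 a2 c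
    have a3 : t * v * (n * t * n⁻¹) = y * (t * w) * y⁻¹ := by
      have c' := mem_C1_iff_conj.1 c
      calc _ = y * t * y⁻¹ * (y * n * y⁻¹ * (y * v * y⁻¹) * (y * n * y⁻¹)⁻¹) := by rw [a1, a2, c', h.tv]
        _ = y * (t * (n * v * n⁻¹)) * y⁻¹ := by group
        _ = _ := by rw [h.nv]
    rw [a3, conj_pow, show (t * w) ^ 3 = 1 by simp only [h.nf]]; simp
  generalize hu : ((w * t) ^ p.1.1 * El p.2)⁻¹ * ((w * t) ^ q.1.1 * El q.2) = u at m
  have e2 : ((w * t * n)⁻¹ * n * (w * t * n)) * u * ((w * t * n)⁻¹ * n * (w * t * n))⁻¹ ∈ PP σ z v := by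
    rw [← hu]
    generalize (w * t) ^ p.1.1 * El p.2 = y, (w * t) ^ q.1.1 * El q.2 = y', (w * t * n)⁻¹ * n * (w * t * n) = y'' at e1 ⊢
    convert e1 using 1; group
  have cs : u ^ 7 = u ∧ (u ∈ Ln z v ∨ Cy z v u ∨ Cy z v u⁻¹) := by
    rw [← hu]
    exact h.cs p q ne
  have c := key u m cs.1 e2
  have nw : ∀ y ∈ C{n}, y ∈ C{v} → y ∈ C{w} := fun y c1 c2 => by
    rw [mem_C1_comm] at c1 c2 ⊢
    exact h.nv ▸ mul_mem (mul_mem c1 c2) (inv_mem c1)
  have tw : t ∉ C{w} := fun k => by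
    have k1 := h.twt
    rw [← mem_C1.1 k, ← mul_assoc, h.tt, one_mul, mem_C1.1 k, ← mul_assoc, h.ww, one_mul] at k1
    have k2 := h.tz
    rw [← k1, h.wz] at k2
    exact h.v1 (by simpa using k2)
  rcases cs.2 with (k | k | k) | k | k
  · rw [k, gz] at c
    exact absurd (by simpa [h.nf] using mem_C1.1 (nw v c (self_mem_C1 v))) h.z1
  · rw [k, gv] at c
    exact absurd (nw t c (mem_C1.2 h.tv)) tw
  · rw [k, gzv] at c
    have := cC (a := z) (b := w) (by simp only [h.nf]) (nw _ c (mem_C1.2 (by simp only [h.nf])))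
    exact absurd (by simpa only [h.nf] using this) tw
  · exact fin u c k
  · exact fin u⁻¹ (by convert inv_mem c using 1; group) k

end Am

end X9
end H18
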