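import Mathlib
import Cfsg.Agent.H18.X9a
import Cfsg.Agent.H18.XZt
import Cfsg.Agent.H6.XZO

/-!
S1763, case 9: commuting members of `D` are collinear; an involution of `(Q_z ∩ Q_v) − D` determines the
line through `z` and `v`; the stabiliser of `v` in `C(z)`.
-/

set_option autoImplicit false
set_option linter.unusedSectionVars false
set_option linter.unusedVariables false

namespace H18
namespace X9

open Subgroup H24 H15 H15.XP Module H6.XS H6.XS.ZA H6.XS.ZO H13.ZR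

variable {G : Type*} [Group G] [Finite G] {D : Set G} {Q : G → Subgroup G} {z : G}
variable {V : Type*} [AddCommGroup V] [Module (ZMod 2) V] [Finite V]
variable {F : Fr z (Q z) V} {E : V → Submodule (ZMod 2) V} {R : V → Subgroup (ofQuad F.q).Isom}
variable {c : ℕ → V} {ψ : ℕ → G} {t a b d e s x y g : G}

/-- powers of a matrix -/
def mp (M : List ℕ) (k : ℕ) : List ℕ := (H6.XS.cmp M)^[k] idM

theorem rp_pow {q : QuadraticForm (ZMod 2) V} (hc : Cd q c) {h : (ofQuad q).Isom} {M : List ℕ} (r : Rp c h M) :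
    ∀ k, Rp c (h ^ k) (mp M k)
  | 0 => hc.rp_one
  | k + 1 => by rw [pow_succ', mp, Function.iterate_succ_apply']; exact r.mul (rp_pow hc r k)

/-- the action of `σ` -/
def sb : List ℕ := [1, 11, 15, 6, 48, 119, 95, 207]

theorem k1 : ∀ M ∈ t9.L, mp M 7 = idM → ∃ k < 7, ∃ Y ∈ t9.p0.R, M = H6.XS.cmp Y (mp sb k) := by decide +kernel
theorem k2 : ∀ M ∈ t9.L, H6.XS.cmp M sb ≠ H6.XS.cmp (mp sb 6) M := by decide +kernel
theorem k3 : ∀ M ∈ t9.L, H6.XS.cmp M sb = H6.XS.cmp sb M → ∃ k < 7, M = mp sb k := by decide +kernel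
theorem k4 : ∀ m < 512, au sb m = m → ∃ e ∈ [0, 256, 1, 257], m = e ∨ m = s7.sm e 235 := by decide +kernel
theorem k5 : ∀ p ∈ t9.T, p.u = 1 ∨ ∀ k ∈ p.E, k ∈ t9.p0.E → k = 0 := by decide +kernel
theorem k6 : ((List.range 4096).all fun a => s7.sm a 1 != s7.sm 1 a || frc (s7.sm (s7.sm 14 a) 14) fun b =>
    decide (b % 256 < 128) && (s7.tm b != s7.sm (s7.sm 235 a) 235 ||
      (decide (a < 16) && s7.sm a 235 == s7.sm 235 a))) = true := by decide +kernel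

variable (h : FC D Q z F E R c d9)
include h

theorem np {u r : V} (hu : u ∈ F.VV D) (hr : r ∈ F.VV D) (e : pol F.q u r = 0) : r = u := by
  obtain ⟨a, ha, rfl⟩ := h.cs.cd.surj u
  obtain ⟨b, hb, rfl⟩ := h.cs.cd.surj r
  have : ∀ a ∈ d9.S, ∀ b ∈ d9.S, polN a b = 0 → b = a := by decide
  rw [this a ((h.cs.memS a ha).1 hu) b ((h.cs.memS b hb).1 hr) ((h.cs.cd.pol0 ha hb).1 e)]

theorem f1z (hd : d ∈ D) (hz : d ∈ C{z}) : d ∈ Q z := by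
  by_contra hn
  have n1 : F.ρ ⟨d, hz⟩ ≠ 1 := fun e => hn ((F.ker _).1 e)
  obtain ⟨u, hu, e⟩ := (h.inner9 ⟨d, hz⟩ hd).resolve_left n1
  obtain ⟨v, v1, v2, v3, rfl, v5⟩ := h.sit.inner_mem h.mem h.lift hu ⟨d, hz⟩ (h.sit.sq hd) e
    (ck9.h1 h.cs h.vd hu e n1)
  obtain ⟨r, r1, x, p0, p1, k⟩ := h.sit.gd h.mem h.lift v1 v2 v3 ⟨d, hz⟩ hd v5 hn
  rw [np h hu r1 p0] at k
  exact n1 (h.vd.inj _ hu _ e x p1 (by simpa using sub_mem k (h.vd.memE _ hu)))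

theorem f1 (ha : a ∈ D) (hd : d ∈ D) (hz : d ∈ C{a}) : d ∈ Q a := by
  obtain ⟨g, rfl⟩ := h.sit.trans z h.mem a ha
  rw [h.sit.eqv z h.mem, mem_cj]
  exact f1z h (by simpa using h.sit.conj d hd g⁻¹) (cC rfl hz)

theorem f2 (hx : x ∈ D) (h1 : y ≠ 1) (hc : y * x = x * y) (k : x * y ∈ D) : y ∈ D := by
  have := (h.sit.mul_mem_D hx (f1 h hx k (mem_C1.2 (by rw [mul_assoc, hc]))) (h.sit.ne_one k)
    (by simpa using h1)).2 k
  rwa [← mul_assoc, h.sit.sq hx, one_mul] at this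

theorem l1z (hb : b ∈ D) (b1 : b ∈ Q z) (b2 : b ≠ z) (s1 : s ∈ Q b) (s2 : s ∈ C{z}) (s3 : s ∉ Q z) (he : e ∈ D)
    (e1 : e ∈ C{z}) (e2 : e ∈ C{s}) : e = z ∨ e = b ∨ e = z * b := by
  refine or_iff_not_imp_left.2 fun ne => ?_
  have eQ := f1z h he e1
  have m1 := (F.mem_VV h.sit h.mem b1).2 ⟨hb, b2⟩
  have m2 := (F.mem_VV h.sit h.mem eQ).2 ⟨he, ne⟩
  refine F.π_eq₀ eQ b1 (np h m1 m2 (by_contra fun p => s3 ((F.ker ⟨s, s2⟩).1 (h.vd.inj _ m1 _ ?_ (F.π e)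
    ((by decide : ∀ x : ZMod 2, ¬ x = 0 → x = 1) _ p) ?_))))
  · rw [h.lift.eqR b hb b1 b2]; exact ⟨⟨s, s2⟩, s1, rfl⟩
  · rw [F.ρ_π _ _ eQ, mem_C1_iff_conj.1 (mem_C1_comm.1 e2), add_self']; exact zero_mem _

theorem l1 (ha : a ∈ D) (hb : b ∈ D) (b1 : b ∈ Q a) (b2 : b ≠ a) (s1 : s ∈ Q b) (s2 : s ∈ C{a}) (s3 : s ∉ Q a)
    (he : e ∈ D) (e1 : e ∈ C{a}) (e2 : e ∈ C{s}) : e = a ∨ e = b ∨ e = a * b := by
  obtain ⟨g, rfl⟩ := h.sit.trans z h.mem a ha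
  rw [h.sit.eqv z h.mem, mem_cj] at b1 s3
  have := l1z h (by simpa using h.sit.conj b hb g⁻¹) b1 (fun k => b2 (by rw [← k]; group))
    (by have := h.sit.eqv b hb g⁻¹; rw [inv_inv] at this; rw [this, mem_cj]; simpa [mul_assoc] using s1)
    (cC rfl s2) s3 (by simpa using h.sit.conj e he g⁻¹) (cC rfl e1) (cC (by group) e2)
  refine this.imp (fun k => ?_) (Or.imp (fun k => by simpa using k) fun k => ?_)
  · rw [← k]; group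
  · calc e = g * (g⁻¹ * e * g) * g⁻¹ := by group
      _ = _ := by rw [k]; group

variable (B : Bs D Q F c s7 ψ t)
include B

theorem l2 (a1 : a ∈ Q z) (a2 : a ∈ Q (ψ 1)) (a3 : a ≠ 1) (a4 : a ≠ z) (he : e ∈ D) (e1 : e ∈ Q z) (k : a ∈ Q e) :
    e ∈ Ln z (ψ 1) := by
  refine or_iff_not_imp_left.2 fun ne => ?_
  have p1 : F.π (ψ 1) = c 1 := B.sb.lf.pi 1 (by norm_num)
  obtain ⟨p, hp, ep⟩ := ck9.exT h.cs ((F.mem_VV h.sit h.mem e1).2 ⟨he, ne⟩)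
  refine F.π_eq₀ e1 B.vQ ?_
  rcases k5 p hp with q | q
  · rw [← ep, q, p1]
  obtain ⟨m, hm, em⟩ := h.cs.cd.surj (F.π a)
  have := q m (((ck9.atT h.cs h.vd hp).memE m hm).1 (by
    rw [ep, h.lift.eqE e he e1 ne, em]; exact ⟨a, k, a1, rfl⟩)) ((ck9.memE0 h.cs hm).1 (by
    rw [← p1, h.lift.eqE _ B.sb.vD B.vQ B.v_ne, em]; exact ⟨a, a2, a1, rfl⟩))
  rw [this, h.cs.cd.zero, eq_comm, F.π_eq_zero a a1] at em
  exact (em.elim a3 a4).elim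

theorem wD : ψ 235 ∈ D ∧ ψ 235 ≠ z := (F.mem_VV h.sit h.mem (B.sb.lf.mem 235 (by norm_num))).1 (by
  rw [B.sb.lf.pi 235 (by norm_num)]; exact (h.cs.memS _ (by norm_num)).2 (by decide))

theorem zm {n : ℕ} (hn : n < 4096) : z * ψ n = ψ (s7.sm 256 n) := by
  rw [B.sb.mul _ (by norm_num) _ hn, B.sb.lf.zz]

theorem nL {n : ℕ} (hn : n < 4096) (k : n ∉ [256, 1, 257]) : ψ n ∉ Ln z (ψ 1) := fun m => k (by
  rw [Ln, zm h B (by norm_num), ← B.sb.lf.zz] at m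
  rcases m with m | m | m <;> rw [B.inj hn (by decide) m] <;> decide)

/-- the involution `a` determines the line -/
theorem f3 (a1 : a ∈ Q z) (a2 : a ∈ Q (ψ 1)) (a3 : a ≠ 1) (a4 : a ≠ z) (a5 : a ∈ C{ψ 235}) (hd : d ∈ D)
    (k : a ∈ Q d) : d ∈ Ln z (ψ 1) := by
  obtain ⟨w1, w2⟩ := wD h B
  have wQ := B.sb.lf.mem 235 (by norm_num)
  have wz := mem_C1.1 (h.sit.le h.mem wQ)
  have w3 : z * ψ 235 ∈ D := (h.sit.mul_mem_D h.mem wQ (h.sit.ne_one w1) w2).2 w1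
  have n1 : a ∉ Q (ψ 235) := fun m => nL h B (by norm_num) (by decide) (l2 h B a1 a2 a3 a4 w1 wQ m)
  have n2 : a ∉ Q (z * ψ 235) := fun m => nL h B (n := s7.sm 256 235) (by decide) (by decide)
    (zm h B (n := 235) (by norm_num) ▸ l2 h B a1 a2 a3 a4 w3 (mul_mem (h.sit.mem h.mem) wQ) m)
  have az := h.sit.le h.mem a1
  have da : d ∈ C{a} := mem_C1_comm.1 (h.sit.le hd k)
  have L1 := fun e he => l1 h (e := e) w1 h.mem (h.sit.symm h.mem w1 wQ) w2.symm a1 a5 n1 he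
  rcases dih₃ (h.sit.sq w1) (h.sit.sq hd) (mem_C1_comm.1 a5) da with ⟨y, y1, e⟩ | ⟨τ, t1, t2, t3, t4, t5, t6⟩
  · rw [← e, h.sit.eqv _ w1, mem_cj] at k
    exact absurd (by rwa [show y⁻¹ * a * y = a by simpa using mem_C1_iff_conj.1 (C{a}.inv_mem y1)] at k) n1
  have tD : τ ∈ D := f2 h w1 t1 t3 (by
    rcases t6 with ⟨⟨g, -, e⟩, -⟩ | ⟨⟨g, -, e⟩, -⟩ <;> rw [← e]
    exacts [h.sit.conj _ w1 g, h.sit.conj _ hd g])
  rcases L1 τ tD (mem_C1.2 t3) (mem_C1.2 (t5 a (mem_C1.1 a5) (mem_C1.1 da).symm).symm) with rfl | rfl | e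
  · rcases L1 d hd (mem_C1.2 t4.symm) da with rfl | rfl | rfl
    exacts [absurd k n1, Or.inl rfl, absurd (wz ▸ k) n2]
  · exact l2 h B a1 a2 a3 a4 hd (f1z h hd (mem_C1.2 t4.symm)) k
  · rw [e, wz] at t4
    rcases l1 h w3 h.mem (h.sit.symm h.mem w3 (mul_mem (h.sit.mem h.mem) wQ))
      (fun e => h.sit.ne_one w1 (by simpa using e)) a1
      (mem_C1_comm.1 (mul_mem (mem_C1_comm.1 az) (mem_C1_comm.1 a5))) n2 hd (mem_C1.2 t4.symm) da with rfl | rfl | rfl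
    · exact absurd k n2
    · exact Or.inl rfl
    · rw [mul_assoc, wz, ← mul_assoc, h.sit.sq h.mem, one_mul] at k
      exact absurd k n1

theorem fix1 (hz : y ∈ C{z}) (hv : y ∈ C{ψ 1}) : (F.ρ ⟨y, hz⟩).1 (c 1) = c 1 := by
  rw [← show F.π (ψ 1) = c 1 from B.sb.lf.pi 1 (by norm_num), F.ρ_π _ _ B.vQ]
  exact congrArg F.π (mem_C1_iff_conj.1 hv)

theorem memS (hz : y ∈ C{z}) (k : F.ρ ⟨y, hz⟩ ∈ R (c 1)) : ∃ a < 4096, y = ψ a := by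
  obtain ⟨M, hM, r⟩ := ck9.ofR0 h.cs k
  obtain ⟨w, hw, rfl⟩ := List.getElem_of_mem hM
  have w8 : w < 8 := hw
  have r1 := B.sb.rp w w8 ⟨_, B.sb.cz (512 * w) (by omega)⟩ rfl
  rw [show H6.XS.s7.R = t9.p0.R from rfl, List.getD_eq_getElem _ _ hw] at r1
  obtain ⟨n, hn, en⟩ := B.sb.lf.surj h.sit h.mem B.cd ((F.ker (⟨y, hz⟩ * ⟨_, B.sb.cz (512 * w) (by omega)⟩⁻¹)).1 (by
    rw [map_mul, map_inv, B.cd.ext r r1, mul_inv_cancel]))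
  exact ⟨_, H13.ZR.sm_lt s7 (a := n) (b := 512 * w) (by omega) (by omega), by
    rw [B.sb.mul _ (by omega) _ (by omega), en]; simp⟩

/-- the members of `S` centralising `v` and `w t` -/
theorem cA {n : ℕ} (hn : n < 4096) (hv : ψ n ∈ C{ψ 1}) (ho : ψ n ∈ C{ψ 235 * (t * ψ 14)}) :
    n < 16 ∧ ψ n ∈ C{ψ 235} := by
  have k := List.all_eq_true.1 k6 n (List.mem_range.2 hn)
  simp only [frc_eq, Bool.or_eq_true, bne_iff_ne, Bool.and_eq_true, decide_eq_true_eq, beq_iff_eq] at k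
  have l := fun a b => H13.ZR.sm_lt s7 (a := a) (b := b)
  obtain ⟨q1, q2⟩ := k.resolve_left (not_not.2 (B.inj (l _ _ hn (by norm_num)) (l _ _ (by norm_num) hn) (by
    rw [B.sb.mul _ hn _ (by norm_num), B.sb.mul _ (by norm_num) _ hn, mem_C1.1 hv])))
  have l1 := l _ 14 (l 14 _ (by norm_num) hn) (by norm_num)
  obtain ⟨q3, q4⟩ := q2.resolve_left (not_not.2 (B.inj (show s7.tm _ < 4096 from pr_lt s7 _ (by decide) _)
    (l _ _ (l _ _ (by norm_num) hn) (by norm_num)) (by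
      have i1 := B.inv_eq (a := 14) (b := 14) (by norm_num) (by norm_num) (by decide)
      have i2 := B.inv_eq (a := 235) (b := 235) (by norm_num) (by norm_num) (by decide)
      rw [← B.sb.cj _ l1 q1, B.sb.mul _ (l _ _ (by norm_num) hn) _ (by norm_num),
        B.sb.mul _ (l _ _ (by norm_num) hn) _ (by norm_num), B.sb.mul _ (by norm_num) _ hn,
        B.sb.mul _ (by norm_num) _ hn]
      nth_rewrite 2 [← mem_C1_iff_conj.1 (mem_C1_comm.1 ho)]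
      simp only [mul_inv_rev, i1, i2, B.tinv, mul_assoc]
      rw [← mul_assoc (ψ 235), mul_eq_one_iff_eq_inv.2 i2.symm, one_mul, mul_one])))
  exact ⟨q3, mem_C1.2 (by rw [← B.sb.mul _ hn _ (by norm_num), q4, B.sb.mul _ (by norm_num) _ hn])⟩

variable {σ : G} (hx : σ ∈ C{z}) (ac : Ac ψ σ sb) (h7 : σ ^ 7 = 1)
include hx ac

theorem rs : Rp c (F.ρ ⟨σ, hx⟩) sb := ac.rp B.cd B.sb.lf hx

theorem d1 (hz : y ∈ C{z}) (hv : y ∈ C{ψ 1}) (y7 : y ^ 7 = 1) : ∃ k < 7, (y * (σ ^ k)⁻¹) ^ 2 ^ 3 = 1 := by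
  obtain ⟨M, m1, r⟩ := ck9.stab h.cs h.vd ⟨_, rfl⟩ (fix1 h B hz hv)
  obtain ⟨k, k7, Y, y1, rfl⟩ := k1 M m1 (B.cd.uniq (rp_pow B.cd r 7) (by
    rw [← map_pow, show (⟨y, hz⟩ : C{z}) ^ 7 = 1 from Subtype.ext y7, map_one]; exact B.cd.rp_one))
  obtain ⟨y0, a1, a2⟩ := ck9.toR0 h.cs y1
  have e := B.cd.ext r (a2.mul (rp_pow B.cd (rs h B hx ac) k))
  have e1 : ((⟨y, hz⟩ * (⟨σ, hx⟩ ^ k)⁻¹) ^ 2 : C{z}).1 ∈ Q z := (F.ker _).1 (by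
    rw [map_pow, map_mul, map_inv, map_pow, e, mul_inv_cancel_right, pow_two, h.vd.sq _ (ck9.v0 h.cs) _ a1])
  refine ⟨k, k7, ?_⟩
  change (y * (σ ^ k)⁻¹) ^ 2 ∈ _ at e1
  rw [show 2 ^ 3 = 2 * 2 * 2 from rfl, pow_mul, pow_mul, pow_two (_ ^ 2)]
  rcases h.sit.sq_or h.mem e1 with q | q <;> rw [pow_two (_ ^ 2), q]
  exacts [one_mul _, h.sit.sq h.mem]

include h7

theorem d2 (hz : y ∈ C{z}) (hv : (F.ρ ⟨y, hz⟩).1 (c 1) = c 1) : y * σ * y⁻¹ ≠ σ⁻¹ := fun e => by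
  obtain ⟨M, m1, r⟩ := ck9.stab h.cs h.vd ⟨_, rfl⟩ hv
  refine k2 M m1 (B.cd.uniq (r.mul (rs h B hx ac)) ?_)
  have : (⟨y, hz⟩ * ⟨σ, hx⟩ : C{z}) = ⟨σ, hx⟩ ^ 6 * ⟨y, hz⟩ := Subtype.ext (by
    change y * σ = σ ^ 6 * y
    rw [eq_inv_of_mul_eq_one_left (by rw [← pow_succ, h7] : σ ^ 6 * σ = 1), ← e, inv_mul_cancel_right])
  rw [← map_mul, this, map_mul, map_pow]
  exact (rp_pow B.cd (rs h B hx ac) 6).mul r

theorem cen {n : G} (nz : n ∈ C{z}) (nw : n * ψ 235 * n⁻¹ = ψ 1) (ns : n * σ * n⁻¹ = σ⁻¹) (hg : g ∈ C{σ})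
    (hz : g ∈ C{z}) : ∃ e ∈ [1, z, ψ 1, z * ψ 1], ∃ i : ℕ, g = e * σ ^ i ∨ g = e * ψ 235 * σ ^ i := by
  have cm : F.ρ ⟨g, hz⟩ * F.ρ ⟨σ, hx⟩ = F.ρ ⟨σ, hx⟩ * F.ρ ⟨g, hz⟩ := by
    rw [← map_mul, ← map_mul]; exact congrArg F.ρ (Subtype.ext (mem_C1.1 hg))
  have r0 := rs h B hx ac
  obtain ⟨m, hm, em⟩ := h.cs.cd.surj ((F.ρ ⟨g, hz⟩).1 (c 1))
  have m1 := (h.cs.memS m hm).1 (em ▸ h.vd.inv _ ⟨_, rfl⟩ _ (ck9.v0 h.cs))
  have m2 : app sb m = m := (rp_fix B.cd r0 hm).1 (by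
    rw [em, ← Form.Isom.mul_apply, ← cm, Form.Isom.mul_apply, (rp_fix B.cd r0 (by norm_num)).2 rfl])
  rcases (by decide : ∀ m ∈ d9.S, app sb m = m → m = 1 ∨ m = 235) m m1 m2 with rfl | rfl
  swap
  · refine absurd ?_ (d2 h B hx ac h7 (mul_mem nz hz) ?_)
    · rw [← ns]; nth_rewrite 2 [← mem_C1_iff_conj.1 hg]; group
    · rw [show (⟨n * g, _⟩ : C{z}) = ⟨n, nz⟩ * ⟨g, hz⟩ from rfl, map_mul, Form.Isom.mul_apply, ← em,
        ← show F.π (ψ 235) = c 235 from B.sb.lf.pi 235 (by norm_num), F.ρ_π _ _ (B.sb.lf.mem 235 (by norm_num)), nw]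
      exact B.sb.lf.pi 1 (by norm_num)
  obtain ⟨M, m1, r⟩ := ck9.stab h.cs h.vd ⟨_, rfl⟩ em.symm
  obtain ⟨k, -, rfl⟩ := k3 M m1 (B.cd.uniq (r.mul r0) (cm ▸ r0.mul r))
  obtain ⟨m, hm, e1⟩ := B.sb.lf.surj h.sit h.mem B.cd ((F.ker (⟨g, hz⟩ * (⟨σ, hx⟩ ^ k)⁻¹)).1 (by
    rw [map_mul, map_inv, map_pow, B.cd.ext r (rp_pow B.cd r0 k), mul_inv_cancel]))
  change ψ m = g * (σ ^ k)⁻¹ at e1
  obtain ⟨e, e2, e3⟩ := k4 m hm (B.sb.lf.inj h.sit h.mem B.cd (au_lt _ _) hm (by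
    rw [← ac.2 m hm, e1]
    exact mem_C1_iff_conj.1 (mem_C1_comm.1 (mul_mem hg (inv_mem (pow_mem (self_mem_C1 σ) k))))))
  refine ⟨ψ e, ?_, k, e3.imp (fun q => by rw [← q, e1, inv_mul_cancel_right]) fun q => by
    rw [← B.sb.mul e ((by decide : ∀ e ∈ [0, 256, 1, 257], e < 4096) e e2) _ (by norm_num), ← q, e1, inv_mul_cancel_right]⟩
  rw [zm h B (by norm_num), ← B.one, ← B.sb.lf.zz]
  exact List.mem_map_of_mem (f := ψ) e2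

end X9
end H18
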