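import Mathlib
import Cfsg.Agent.H18.X9b
import Cfsg.Agent.H6.XZA
import Cfsg.Agent.H15.ZT9e

/-!
S1763, case 9: the relations of the presentation `P9` hold.
-/

set_option autoImplicit false
set_option linter.unusedSectionVars false
set_option linter.unusedVariables false
set_option maxRecDepth 100000

namespace H18
namespace X9

open Subgroup H24 H15 H15.XP Module H6.XS H6.XS.ZA H6.XS.ZO H13.ZR H29

def sl1 : List (ℕ × ℕ) := [(1, 1), (2, 2), (4, 4), (8, 8), (16, 16), (32, 32), (64, 64), (128, 128), (256, 256),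
  (512, 513), (1024, 1025), (2048, 2049)]

def sl2 : List (ℕ × ℕ) := [(513, 512), (1025, 1024), (2049, 2048)]

def L : List Lt := sL s7 sl1 ++ ⟨1, 0, 0, [], 1, []⟩ :: (sL s7 sl2 ++
  [⟨2, 0, 0, sb, 7, [0, 1799, 3587, 2308, 2826, 3084, 1289, 527]⟩, ⟨2, 0, 0, [1, 14, 6, 13, 381, 365, 57, 445], 7, [0]⟩,
   ⟨2, 0, 0, [491, 212, 187, 448, 347, 221, 14, 217], 3, [0]⟩, ⟨2, 0, 0, [245, 311, 160, 471, 426, 28, 175, 423], 3, [0]⟩])

def hints : List (ℕ × ℕ × ℕ × ℕ) := [(1, 0, 0, 0), (1, 0, 0, 0), (1, 0, 0, 0), (1, 0, 0, 0), (1, 0, 0, 0), (1, 0, 0, 0), (1, 0, 0, 0), (1, 0, 0,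
  0), (1, 0, 0, 0), (1, 0, 0, 0), (1, 0, 0, 0), (1, 0, 0, 0), (1, 0, 0, 0), (1, 0, 0, 0), (1, 0, 0, 0), (1, 0,
  0, 0), (1, 0, 0, 0), (1, 0, 0, 0), (1, 0, 0, 0), (1, 0, 0, 0), (1, 0, 0, 0), (1, 0, 0, 0), (1, 0, 0, 0), (1,
  0, 0, 0), (1, 0, 0, 0), (1, 0, 0, 0), (1, 0, 0, 0), (1, 0, 0, 0), (1, 0, 0, 0), (1, 0, 0, 0), (1, 0, 0, 0),
  (1, 0, 0, 0), (1, 0, 0, 0), (1, 0, 0, 0), (1, 0, 0, 0), (1, 0, 0, 0), (1, 0, 0, 0), (1, 0, 0, 0), (1, 0, 0,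
  0), (1, 0, 0, 0), (1, 0, 0, 0), (1, 0, 0, 0), (1, 0, 0, 0), (1, 0, 0, 0), (1, 0, 0, 0), (1, 0, 0, 0), (1, 0,
  0, 0), (1, 0, 0, 0), (1, 0, 0, 0), (1, 0, 0, 0), (1, 0, 0, 0), (1, 0, 0, 0), (1, 0, 0, 0), (1, 0, 0, 0), (1,
  0, 0, 0), (1, 0, 0, 0), (1, 0, 0, 0), (1, 0, 0, 0), (1, 0, 0, 0), (1, 0, 0, 0), (1, 0, 0, 0), (1, 0, 0, 0),
  (1, 0, 0, 0), (1, 0, 0, 0), (1, 0, 0, 0), (1, 0, 0, 0), (1, 0, 0, 0), (1, 0, 0, 0), (1, 0, 0, 0), (1, 1, 1,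
  0), (1, 1, 1, 0), (1, 1, 1, 0), (1, 1, 1, 0), (1, 1, 1, 0), (1, 1, 1, 0), (1, 1, 1, 0), (1, 1, 1, 0), (1, 1,
  1, 0), (1, 1, 1, 0), (1, 1, 1, 0), (4, 0, 0, 0), (3, 0, 0, 0), (2, 0, 1, 0), (1, 1, 1, 0), (1, 1, 1, 0), (1,
  1, 1, 0), (1, 1, 1, 0), (1, 1, 1, 0), (1, 1, 1, 0), (1, 1, 1, 0), (2, 0, 1, 0), (1, 1, 1, 0), (1, 1, 1, 0),
  (1, 1, 1, 0), (3, 0, 0, 0), (1, 1, 1, 0), (1, 1, 1, 0), (1, 1, 1, 0), (1, 1, 1, 0), (1, 1, 1, 0), (1, 1, 1,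
  0), (1, 1, 1, 0), (1, 1, 1, 0), (2, 0, 1, 0), (2, 1, 1, 0), (2, 2, 4, 0)]

/-- the inverse letters -/
noncomputable abbrev iv : ℕ → ℕ := ivOf ZT9e.ivl
/-- the involution inverting `σ` -/
def nw : List ℕ := [6, 4, 2, 1, 18, 13]
/-- the involution centralising `σ` -/
def tw : List ℕ := [12, 1, 2, 3]

theorem ckR : ckA s7 L iv [] (ZT9e.R0.take 94 ++ (ZT9e.R0.drop 95).take 12) hints = true := by decide +kernel

theorem split : ∀ r ∈ ZT9e.R0, r ∈ ZT9e.R0.take 94 ++ (ZT9e.R0.drop 95).take 12 ∨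
    r = 16 :: (tw ++ iv 16 :: invW iv tw) ∨
    r = (List.replicate 3 (tw ++ 0 :: (nw ++ (tw ++ invW iv nw)))).flatten := by decide +kernel

variable {G : Type*} [Group G] [Finite G] {D : Set G} {Q : G → Subgroup G} {z : G}
variable {V : Type*} [AddCommGroup V] [Module (ZMod 2) V] [Finite V]
variable {F : Fr z (Q z) V} {E : V → Submodule (ZMod 2) V} {R : V → Subgroup (ofQuad F.q).Isom}
variable {c : ℕ → V} {ψ : ℕ → G} {t : G} {f : ℕ → G}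

variable (h : FC D Q z F E R c d9) (e : Env D Q F c s7 ψ t L iv f)
include e

theorem ch (w : List ℕ) (a b : ℕ) (k : (chase s7 L w a == b && decide (b < 4096)) = true) :
    ev f w * ψ a * (ev f w)⁻¹ = ψ b := by
  simp only [Bool.and_eq_true, beq_iff_eq, decide_eq_true_eq] at k
  rw [← k.1]; exact (e.chase_ok w (k.1 ▸ k.2)).2

theorem wd (w : List ℕ) (a : ℕ) (k : (cw s7 L w == a && decide (a < 4096)) = true) : ev f w = ψ a := by
  simp only [Bool.and_eq_true, beq_iff_eq, decide_eq_true_eq] at k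
  rw [← k.1]; exact e.cw_ok w (k.1 ▸ k.2)

theorem mm (a b a' : ℕ) (k : (s7.sm a b == a' && decide (a < 4096) && decide (b < 4096)) = true) :
    ψ a * ψ b = ψ a' := by
  simp only [Bool.and_eq_true, beq_iff_eq, decide_eq_true_eq] at k
  rw [← k.1.1, e.sb.mul _ k.1.2 _ k.2]

theorem etw : ev f tw = t * ψ 14 := by
  rw [tw, ev_cons, (e.ok 12).k1 rfl, wd e _ 14 (by decide +kernel)]

theorem nn : ev f nw * ev f nw = 1 := by
  have e1 := e.ck2_ok (r := ([13, 6, 4, 2, 1] ++ 18 :: invW iv [13, 6, 4, 2, 1]) ++ ([0, 1, 2, 3, 6] ++ 18 ::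
    invW iv [0, 1, 2, 3, 6])) (i := 5) (j := 5) (by decide +kernel)
  have e2 := e.ck1_ok (r := iv 18 :: (invW iv [0, 1, 2, 3, 6] ++ ([13, 6, 4, 2, 1] ++ ([13, 6, 4, 2, 1] ++
    18 :: [0, 1, 2, 3, 6])))) (i := 1) (j := 15) (by decide +kernel)
  rw [show nw = [6, 4, 2, 1] ++ [18, 13] from rfl]
  rw [show [13, 6, 4, 2, 1] = 13 :: [6, 4, 2, 1] from rfl] at e1 e2
  generalize [6, 4, 2, 1] = q, [0, 1, 2, 3, 6] = u at e1 e2 ⊢
  simp only [ev_append, ev_cons, ev_invW e.iv, ev_nil, e.iv 18, mul_one] at e1 e2 ⊢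
  generalize ev f q = q, ev f u = u, f 18 = a, f 13 = y at e1 e2 ⊢
  calc _ = y⁻¹ * (y * q * (a * (y * q)⁻¹) * (u * (a * (a⁻¹ * (u⁻¹ * (y * q * (y * q * (a * u))))) * u⁻¹))) * y := by
        group
    _ = y⁻¹ * (y * q * (a * (y * q)⁻¹) * (u * (a * u⁻¹))) * y := by rw [e2, mul_one]
    _ = 1 := by rw [e1]; group

theorem na : (ev f nw * ψ 775) ^ 3 = 1 := by
  have e1 := e.ck1_ok (r := iv 18 :: (invW iv [2, 3, 6] ++ (nw ++ ([0, 1, 2, 8, 9] ++ [2, 3, 6])))) (i := 1) (j := 7)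
    (by decide +kernel)
  rw [ev_cons, ev_append, ev_append, ev_append, ev_invW e.iv, e.iv 18, wd e [0, 1, 2, 8, 9] 775 (by decide +kernel)] at e1
  have e2 : f 18 ^ 3 = 1 := ((e.ok 18).od rfl).2
  generalize ev f [2, 3, 6] = u at e1
  rw [show ev f nw * ψ 775 = u * (f 18 * ((f 18)⁻¹ * (u⁻¹ * (ev f nw * (ψ 775 * u))))) * u⁻¹ by group, e1, mul_one,
    conj_pow, e2]; simp

theorem o3 : (ψ 235 * (t * ψ 14)) ^ 3 = 1 := by
  have g : ev f [7, 12] = ψ 128 * t := by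
    rw [ev_cons, ev_cons, ev_nil, mul_one, (e.ok 12).k1 rfl, ((e.ok 7).k0 rfl).1]; rfl
  have e1 := ch e [7, 12] 3179 101 (by decide +kernel)
  have e2 := ch e ([7, 12] ++ [7, 12]) 3179 3329 (by decide +kernel)
  have e3 := ch e ([7, 12] ++ ([7, 12] ++ [7, 12])) 3179 3179 (by decide +kernel)
  have e4 : ψ 235 * (t * ψ 14) = ψ 128 * t * ψ 3179 := by
    rw [← mm e 128 363 235 (by decide), ← mm e 3173 14 3179 (by decide), show 3173 = s7.tm 363 by decide,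
      ← e.sb.cj 363 (by norm_num) (by norm_num)]
    simp only [mul_assoc, ← mul_assoc t t, e.sb.tt, one_mul]
  have e5 := e.sb.cube
  simp only [ev_append, g] at e1 e2 e3
  rw [e4]
  generalize ψ 128 * t = γ at *
  calc _ = γ * ψ 3179 * γ⁻¹ * (γ * γ * ψ 3179 * (γ * γ)⁻¹) * (γ * (γ * γ) * ψ 3179 * (γ * (γ * γ))⁻¹) * γ ^ 3 := by
        simp only [pow_succ, pow_zero]; group
    _ = 1 := by
        rw [e1, e2, e3, e5, mm e 101 3329 _ (by decide +kernel : (_ == s7.sm 101 3329 && _ && _) = true),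
          mm e _ 3179 14 (by decide +kernel), mm e 14 s7.p0 0 (by decide +kernel), e.one]

include h

theorem am (st : f 16 * (t * ψ 14) * (f 16)⁻¹ = t * ψ 14) : Am (f 16) z (ψ 1) (ψ 235) (t * ψ 14) (ev f nw) := by
  obtain ⟨x1, x2⟩ := (e.ok 16).ac (by decide)
  have zz := e.sb.lf.zz
  have ww : ψ 235 * ψ 235 = 1 := by rw [mm e 235 235 0 (by decide), e.one]
  have tt : t * ψ 14 * (t * ψ 14) = 1 := by
    rw [← mul_assoc, e.sb.cj 14 (by norm_num) (by norm_num), mm e _ 14 0 (by decide), e.one]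
  have ns : ev f nw * f 16 * (ev f nw)⁻¹ = (f 16)⁻¹ := by
    have e1 := e.ck2_ok (r := (nw ++ 16 :: invW iv nw) ++ [16]) (i := 6) (j := 0) (by decide +kernel)
    simp only [ev_append, ev_cons, ev_invW e.iv, ev_nil, mul_one] at e1
    rw [← mul_assoc] at e1
    exact eq_inv_of_mul_eq_one_left e1
  have ni := inv_eq_of_mul_eq_one_right (nn e)
  have nv := ch e nw 1 235 (by decide +kernel)
  have nz := ch e nw 256 256 (by decide +kernel)
  have tv := ch e tw 1 1 (by decide +kernel)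
  have tz := ch e tw 256 257 (by decide +kernel)
  rw [etw e] at tv tz
  rw [zz] at nz tz
  have h7 : f 16 ^ 7 = 1 := ((e.ok 16).od rfl).2
  refine ⟨h.sit.sq h.mem, h.sit.sq e.sb.vD, ww, tt, nn e, h7, e.z_ne, mem_C1_comm.1 x1,
    mem_C1_comm.1 (mem_C1_iff_conj.2 (x2.2 1 (by norm_num))), mem_C1_comm.1 (mem_C1_iff_conj.2 (x2.2 235 (by norm_num))),
    mem_C1_comm.1 (mem_C1_iff_conj.2 st), ns, mem_C1.1 (e.sb.cz 1 (by norm_num)), mem_C1.1 (e.sb.cz 235 (by norm_num)),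
    ?_, mul_inv_eq_iff_eq_mul.1 tv, ?_, ?_, nz, nv, fun g hg hz => cen h e.toBs x1 x2 h7 (mem_C1_iff_conj.2 nz) ?_ ns hg hz⟩
  · rw [← zz, mm e 235 1 490 (by decide), mm e 1 235 234 (by decide), mm e 256 234 490 (by decide)]
  · rw [mul_inv_eq_iff_eq_mul.1 tz, ← mul_assoc z, ← zz, mm e 256 1 257 (by decide)]
  · have := o3 e
    generalize t * ψ 14 = u, ψ 235 = w at *
    calc _ = w * (w * u) ^ 3 * (u * w) := by
          simp only [pow_succ, pow_zero, one_mul, mul_assoc, ← mul_assoc w w, ← mul_assoc u u, ww, tt, mul_one]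
      _ = _ := by rw [this, mul_one]
  · rw [← nv, ni]; simp only [mul_assoc, ← mul_assoc (ev f nw) (ev f nw), nn e, one_mul, mul_one]

theorem lastR (st : f 16 * (t * ψ 14) * (f 16)⁻¹ = t * ψ 14) :
    (t * ψ 14 * ψ 1 * (ev f nw * (t * ψ 14) * (ev f nw)⁻¹)) ^ 3 = 1 := by
  have a := am h e st
  obtain ⟨x1, x2⟩ := (e.ok 16).ac (by decide)
  have B := e.toBs
  have cm : ∀ n, (s7.sm n 11 == s7.sm 11 n && decide (n < 4096)) = true → ψ n ∈ C{ψ 11} := fun n k => by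
    simp only [Bool.and_eq_true, beq_iff_eq, decide_eq_true_eq] at k
    rw [mem_C1, ← e.sb.mul _ k.2 _ (by norm_num), k.1, e.sb.mul _ (by norm_num) _ k.2]
  have c1 : z ∈ C{ψ 11} := e.sb.lf.zz ▸ cm 256 (by decide)
  have c4 : t * ψ 14 ∈ C{ψ 11} := mem_C1_iff_conj.2 (etw e ▸ ch e tw 11 11 (by decide +kernel))
  have sQ := e.sb.lf.mem 11 (by norm_num)
  refine a.last (a.om_of (A := Q z ⊓ Q (ψ 1) ⊓ C{ψ 235 * (t * ψ 14)}) (s := ψ 11) (fun k => ?_)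
    ⟨⟨sQ, e.sb.memv 11 (by norm_num) (by norm_num)⟩, mem_C1_comm.1 (mul_mem (cm 235 (by decide)) c4)⟩
    (fun k => absurd (B.inj (by norm_num) (by norm_num) (k.trans e.one.symm)) (by norm_num))
    (by rw [mm e 11 11 0 (by decide), e.one]) inf_le_right (fun y u hu u1 k => mem_normalizer_fintype fun d hd => ?_)
    (fun u uz uv uo u2 => ?_) (fun y hz hv => d1 h B x1 x2 hz hv)
    fun y hz hv => d2 h B x1 x2 a.s7 hz (fix1 h B hz hv)) c1 (cm 1 (by decide)) (cm 235 (by decide)) c4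
    (a := ψ 775) ?_ ?_
  · obtain ⟨g, hg⟩ := isConj_iff.1 k
    have := (F.mem_VV h.sit h.mem sQ).2 ⟨hg ▸ h.sit.conj z h.mem g, fun k =>
      absurd (B.inj (by norm_num) (by norm_num) (k.trans e.sb.lf.zz.symm)) (by norm_num)⟩
    rw [e.sb.lf.pi 11 (by norm_num)] at this
    exact absurd ((h.cs.memS _ (by norm_num)).1 this) (by decide)
  · have dD : d ∈ D ∧ u ∈ Q d := by
      rcases hd with rfl | rfl | rfl
      · exact ⟨h.mem, hu.1.1⟩
      · exact ⟨e.sb.vD, hu.1.2⟩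
      · rw [← a.ov, h.sit.eqv _ e.sb.vD]
        exact ⟨h.sit.conj _ e.sb.vD _, mem_C1_iff_conj.1 (mem_C1_comm.1 hu.2) ▸ conj_mem_cj _ hu.1.2⟩
    obtain ⟨m, hm, em⟩ := e.sb.lf.surj h.sit h.mem e.cd k.1.1
    refine f3 h B k.1.1 k.1.2 (by simpa using u1) (fun q => a.vz' ?_)
      (em ▸ (cA h B (by omega) (em ▸ h.sit.le e.sb.vD k.1.2) (em ▸ k.2)).2) (h.sit.conj d dD.1 y)
      (by rw [h.sit.eqv _ dD.1]; exact conj_mem_cj y dD.2)
    rw [← a.oz, mem_C1_iff_conj.1 (mem_C1_comm.1 (q ▸ k.2))]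
  · obtain ⟨m, hm, rfl⟩ := memS h B uz (by_contra fun k => by
      obtain ⟨M, hM, -⟩ := ck9.stabI h.cs h.vd ⟨_, rfl⟩ (fix1 h B uz uv) (by
        rw [← map_mul, show (⟨u, uz⟩ * ⟨u, uz⟩ : C{z}) = 1 from Subtype.ext u2, map_one]) k
      exact absurd hM List.not_mem_nil)
    have := (cA h B hm uv uo).1
    exact ⟨⟨e.sb.lf.mem m (by omega), e.sb.memv m hm (by omega)⟩, uo⟩
  · have := ch e (([0, 1, 3, 5, 6, 7] ++ tw) ++ nw) 11 775 (by decide +kernel)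
    rwa [ev_append, ev_append, wd e _ 235 (by decide +kernel), etw e] at this
  · have e1 := na e
    have e2 : ψ 775 * ψ 775 = 1 := by rw [mm e 775 775 0 (by decide), e.one]
    have e3 := nn e
    generalize ev f nw = n, ψ 775 = u at e1 e2 e3 ⊢
    rw [inv_eq_of_mul_eq_one_right e3]
    calc n = n * (n * u) ^ 3 * n * n := by rw [e1, mul_one, mul_assoc, e3, mul_one]
      _ = (n * n) * u * (n * u * n) * u * (n * n) := by simp only [pow_succ, pow_zero]; group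
      _ = _ := by rw [e3, one_mul, mul_one]

theorem rels (st : f 16 * (t * ψ 14) * (f 16)⁻¹ = t * ψ 14) : ∀ r ∈ ZT9e.R0, ev f r = 1 := fun r hr => by
  rcases split r hr with k | rfl | rfl
  · exact e.ckA_ok (fun _ hp => absurd hp List.not_mem_nil) ckR r k
  · rw [ev_cons, ev_append, ev_cons, ev_invW e.iv, e.iv 16, etw e, ← mul_assoc, ← mul_assoc]
    exact mul_inv_eq_one.2 st
  · rw [Env.ev_rep, ev_append, ev_cons, ev_append, ev_append, ev_invW e.iv, etw e, ← mul_assoc, ← mul_assoc (ev _ nw),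
      show f 0 = ψ 1 from ((e.ok 0).k0 rfl).1]
    exact lastR h e st

omit e

theorem main : ∃ f : ℕ → G, IvOK f iv ∧ (∀ r ∈ ZT9e.R0, ev f r = 1) ∧
    Q z ≤ gen f ZT9e.cols ∧ R (c 1) ≤ F.img (gen f ZT9e.cols) ∧ R (c 128) ≤ F.img (gen f ZT9e.cols) ∧
    ∃ v ∈ Q z, F.π v = c 1 ∧ ∃ t ∈ gen f ZT9e.cols, t ∈ Q v ∧ t ∉ C{z} := by
  have p1 := (h.cs.pt _ (List.mem_cons_self ..)).2
  have p2 := (h.cs.pt _ (List.mem_cons_of_mem _ (List.mem_cons_self ..))).2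
  obtain ⟨ψ, t, sb'⟩ := h.sit.sb7 h.mem h.vd h.lift h.cs.cd ((h.cs.memS 1 (by norm_num)).2 (by decide)) p1
  have b : Bs D Q F c s7 ψ t := ⟨h.sit, h.mem, h.cs.cd, sb', by decide⟩
  obtain ⟨σ, x1, x2, x3⟩ := b.exists_odd (pts_mem h) [13, 2, 14] sb 7 (by decide +kernel)
  obtain ⟨o0, st⟩ := b.sigma9 h.lift p1 x1 x2 (by decide) x3 sig7
  have i0 := (b.ok_pair (N := [1, 14, 6, 13, 381, 365, 57, 445]) (W := [0]) (W' := [0]) [(0, 0)] x1 x2 x3
    (by decide +kernel)).2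
  obtain ⟨a1, o1, i1⟩ := b.exists_pair (pts_mem h) [7, 9, 6] [491, 212, 187, 448, 347, 221, 14, 217]
    [245, 311, 160, 471, 426, 28, 175, 423] [0] [0] 3 [(0, 0)] (by decide +kernel)
  have a : List.Forall₂ (OKL z s7 ψ t) L (sl1.map (fun p => ψ p.1) ++ t :: (sl2.map (fun p => ψ p.1) ++
      [σ, σ⁻¹, a1, a1⁻¹])) :=
    List.rel_append (b.ok_sL sl1 (by decide +kernel)) (.cons b.okT (List.rel_append (b.ok_sL sl2 (by decide +kernel))
      (.cons o0 (.cons i0 (.cons o1 (.cons i1 .nil))))))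
  have e : Env D Q F c s7 ψ t L iv _ := ⟨b, b.ok_get a, b.ivOK a ZT9e.ivl [16, 17, 18, 19]
    (by decide +kernel) (by
      simp only [List.forall_mem_cons, List.not_mem_nil, false_imp_iff, implies_true, and_true]
      exact ⟨rfl, (inv_inv _).symm, rfl, (inv_inv _).symm⟩)⟩
  exact ⟨_, e.iv, rels h e st, e.Q_le (by decide +kernel),
    e.R_le p1 [[], [9], [10], [10, 9], [11], [11, 9], [11, 10], [11, 10, 9]] (by decide +kernel),
    e.R_le p2 [[], [16, 10, 18, 16], [17, 19, 10, 18, 9], [16, 18, 9], [16, 11, 16, 18, 11], [17, 11, 18, 10],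
      [19, 16, 16, 9], [17, 17, 19, 16, 10]] (by decide +kernel), e.ex_t (by decide +kernel)⟩

end X9
end H18
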