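import Mathlib
import Cfsg.Agent.H8.K3F

/-!
# The groups of the list with cyclic Sylow `3`-subgroups
-/

set_option autoImplicit false

open Cfsg Matrix Subgroup

namespace H18.K3

/-- all `3`-subgroups are cyclic -/
def Cyc3 (H : Type*) [Group H] : Prop := ∀ T : Subgroup H, IsPGroup 3 T → IsCyclic T

theorem Cyc3.equiv {H L : Type*} [Group H] [Group L] (h : Cyc3 H) (e : H ≃* L) : Cyc3 L := by
  intro T hT
  have e1 : T ≃* T.map e.symm.toMonoidHom := T.equivMapOfInjective _ e.symm.injective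
  have := h _ (hT.map e.symm.toMonoidHom)
  exact isCyclic_of_surjective e1.symm e1.symm.surjective

theorem cyc3_of_sylow {H : Type*} [Group H] (h : ∀ T : Sylow 3 H, IsCyclic T) : Cyc3 H := by
  intro T hT
  obtain ⟨S, hS⟩ := hT.exists_le_sylow
  have := h S
  exact isCyclic_of_injective (inclusion hS) (inclusion_injective hS)

theorem Cyc3.exists_order {H : Type*} [Group H] [Finite H] (h : Cyc3 H) {n : ℕ}
    (hd : 3 ^ n ∣ Nat.card H) : ∃ g : H, orderOf g = 3 ^ n := by
  have : Fact (Nat.Prime 3) := ⟨Nat.prime_three⟩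
  obtain ⟨K, hK⟩ := Sylow.exists_subgroup_card_pow_prime 3 hd
  have := h K (IsPGroup.of_card hK)
  obtain ⟨g, hg⟩ := IsCyclic.exists_ofOrder_eq_natCard (α := K)
  exact ⟨g, by rw [orderOf_coe, hg, hK]⟩

theorem mat_pow9 {F : Type*} [Field F] [CharP F 3] {ι : Type*} [Fintype ι] [DecidableEq ι]
    [Nonempty ι] (hn : Fintype.card ι ≤ 9) {x : Matrix ι ι F} {k : ℕ} (hx : x ^ 3 ^ k = 1) :
    x ^ 9 = 1 := by
  have : Fact (Nat.Prime 3) := ⟨Nat.prime_three⟩
  have h1 : IsNilpotent (x - 1) := ⟨3 ^ k, by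
    rw [sub_pow_char_pow_of_commute 3 k (Commute.one_right x), hx, one_pow, sub_self]⟩
  have h2 := isNilpotent_charpoly_sub_pow_of_isNilpotent h1
  rw [isNilpotent_iff_eq_zero, sub_eq_zero] at h2
  have h3 := aeval_self_charpoly (x - 1)
  rw [h2, map_pow, Polynomial.aeval_X] at h3
  have h4 : (x - 1) ^ 3 ^ 2 = 0 := pow_eq_zero_of_le hn h3
  rw [sub_pow_char_pow_of_commute 3 2 (Commute.one_right x), one_pow, sub_eq_zero] at h4
  exact h4

theorem no27 {S : Type*} [Group S] [Finite S] {F : Type*} [Field F] [CharP F 3] {ι : Type*}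
    [Fintype ι] [DecidableEq ι] [Nonempty ι] (hn : Fintype.card ι ≤ 9) (f : S →* Matrix ι ι F)
    (hf : Function.Injective f) (N : Subgroup S) [N.Normal] (g : S ⧸ N) : orderOf g ≠ 3 ^ 3 := by
  intro hg
  obtain ⟨x, rfl⟩ := QuotientGroup.mk_surjective g
  obtain ⟨k, m, hm, e⟩ := Nat.exists_eq_pow_mul_and_not_dvd (orderOf_pos x).ne' 3 (by norm_num)
  have h1 : (f (x ^ m)) ^ 3 ^ k = 1 := by
    rw [← map_pow, ← pow_mul, mul_comm, ← e, pow_orderOf_eq_one, map_one]
  have h2 : (x ^ m) ^ 9 = 1 := hf (by rw [map_pow, mat_pow9 hn h1, map_one])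
  have h3 : (x : S ⧸ N) ^ (m * 9) = 1 := by
    rw [← QuotientGroup.mk_pow, pow_mul, h2, QuotientGroup.mk_one]
  have h4 := orderOf_dvd_of_pow_eq_one h3
  rw [hg] at h4
  omega

theorem charP3 {F : Type*} [Field F] [Fintype F] {n : ℕ} (hF : Fintype.card F = 3 ^ n) :
    CharP F 3 :=
  have : Fact (Nat.Prime 3) := ⟨Nat.prime_three⟩
  charP_of_card_eq_prime_pow hF

theorem not_cyc3_A6 : ¬ Cyc3 (alternatingGroup (Fin 6)) := by
  intro h
  obtain ⟨g, hg⟩ := h.exists_order (n := 2) (by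
    rw [nat_card_alternatingGroup]; simp [Nat.factorial])
  rw [← orderOf_coe, ← Equiv.Perm.lcm_cycleType] at hg
  have h1 := Equiv.Perm.sum_cycleType_le (g : Equiv.Perm (Fin 6))
  rw [Fintype.card_fin] at h1
  have h2 : Multiset.lcm (g : Equiv.Perm (Fin 6)).cycleType ∣ 60 := by
    refine Multiset.lcm_dvd.2 fun n hn => ?_
    have h3 := Multiset.le_sum_of_mem hn
    have h4 := Equiv.Perm.two_le_of_mem_cycleType hn
    have h5 : n ≤ 6 := h3.trans h1
    interval_cases n <;> norm_num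
  rw [hg] at h2
  omega

/-- the socle list -/
theorem soc {H : Type*} [Group H] (h : H8.K3.Concl H) (hc : Cyc3 H) :
    Nonempty (H ≃* alternatingGroup (Fin 5)) ∨ ∃ (F : Type) (_ : Field F) (_ : Fintype F),
      (Fintype.card F = 7 ∨ Fintype.card F = 8 ∨ Fintype.card F = 17) ∧
        Nonempty (H ≃* ProjectiveSpecialLinearGroup (Fin 2) F) := by
  rcases h with h | ⟨⟨e⟩⟩ | ⟨F, _, _, hF, ⟨e⟩⟩ | h | ⟨F, _, _, hF, ⟨e⟩⟩ | ⟨F, _, _, hF, ⟨e⟩⟩
  · exact Or.inl h
  · exact absurd (hc.equiv e) not_cyc3_A6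
  · have := charP3 (n := 1) hF
    have h1 := H7.card_psp (F := F) 2 (by norm_num)
    simp only [Finset.prod_range_succ, Finset.prod_range_zero, hF] at h1
    norm_num at h1
    obtain ⟨g, hg⟩ := (hc.equiv e).exists_order (n := 3) (by omega)
    exact absurd hg (no27 (by simp) (symplecticGroup (Fin 2) F).subtype Subtype.val_injective _ g)
  · exact Or.inr h
  · have := charP3 (n := 2) hF
    have h1 := H8.K3.card_u3 (F := F) (x := 2) hF
    norm_num at h1
    obtain ⟨g, hg⟩ := (hc.equiv e).exists_order (n := 3) (by omega)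
    exact absurd hg (no27 (by simp) ((slToMat 3 F).comp (SU 3 F 3).subtype)
      (fun a b hab => Subtype.ext (Subtype.ext hab)) _ g)
  · have := charP3 (n := 1) hF
    have h1 := H8.K3.card_l3 (F := F) (x := 2) hF
    norm_num at h1
    obtain ⟨g, hg⟩ := (hc.equiv e).exists_order (n := 3) (by omega)
    exact absurd hg (no27 (by simp) (slToMat 3 F) (fun a b hab => Subtype.ext hab) _ g)

end H18.K3
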