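import Mathlib
import Cfsg.Agent.H18.K3Fr0
import Cfsg.Agent.H18.K3Red
import Cfsg.Agent.H18.K3Soc

/-!
# The thin case: the frame of a non-solvable `2`-local subgroup
-/

set_option autoImplicit false
set_option linter.unusedSectionVars false

open Cfsg H24 H25 H26 Subgroup

namespace H18.K3

universe u

/-- the data on `N(Q)/Q` -/
structure AX (X : Type u) [Group X] (p a b : ℕ) (x : X) : Prop where
  prime : p.Prime
  five : 5 ≤ p
  dvd : Nat.card X ∣ p * 3 ^ a * 2 ^ b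
  ns : ¬ Sol (⊤ : Subgroup X)
  o2 : O[{2}, (⊤ : Subgroup X)] = ⊥
  c3 : ∀ T : Subgroup X, IsPi {3} T → Cyc T
  ord : orderOf x = p
  cen : C{x} ≤ zpowers x

theorem prime_dvd {p r i j : ℕ} (hp : p.Prime) (hr : r.Prime) (h : r ∣ p * 3 ^ i * 2 ^ j) :
    r = p ∨ r = 3 ∨ r = 2 := by
  rcases (Nat.Prime.dvd_mul hr).1 h with h | h
  · rcases (Nat.Prime.dvd_mul hr).1 h with h | h
    · exact Or.inl ((Nat.prime_dvd_prime_iff_eq hr hp).1 h)
    · exact Or.inr (Or.inl ((Nat.prime_dvd_prime_iff_eq hr Nat.prime_three).1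
        (hr.dvd_of_dvd_pow h)))
  · exact Or.inr (Or.inr ((Nat.prime_dvd_prime_iff_eq hr Nat.prime_two).1 (hr.dvd_of_dvd_pow h)))

namespace AX

variable {X : Type u} [Group X] [Finite X] {p a b : ℕ} {x y : X} {K M : Subgroup X}

theorem nsq (h : AX X p a b x) : ¬ p * p ∣ ♯M := by
  intro hd
  have h1 := (hd.trans (card_subgroup_dvd_card M)).trans h.dvd
  rw [mul_assoc] at h1
  have h2 := Nat.dvd_of_mul_dvd_mul_left h.prime.pos h1
  have h5 := h.five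
  rcases (Nat.Prime.dvd_mul h.prime).1 h2 with h3 | h3
  · have := Nat.le_of_dvd (by norm_num) (h.prime.dvd_of_dvd_pow h3); omega
  · have := Nat.le_of_dvd (by norm_num) (h.prime.dvd_of_dvd_pow h3); omega

theorem dvd_of (h : AX X p a b x) (hK : ¬ Sol K) : p ∣ ♯K := by
  obtain ⟨i, -, j, -, e⟩ := card_of_dvd hK h.prime ((card_subgroup_dvd_card K).trans h.dvd)
  rw [e, mul_assoc]; exact dvd_mul_right _ _

theorem mem (h : AX X p a b x) (hn : K ⊴ M) (hK : p ∣ ♯K) (hy : y ∈ M) (ho : orderOf y = p) :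
    y ∈ K := by
  have h1 : orderOf (cs K y) ∣ p := ho ▸ orderOf_ap_dvd _ (hn.norm hy)
  rcases (Nat.dvd_prime h.prime).1 h1 with h2 | h2
  · exact (cs_eq_one (hn.norm hy)).1 (orderOf_eq_one_iff.1 h2)
  · refine absurd ?_ (h.nsq (M := M))
    rw [← hn.card_quo]
    exact mul_dvd_mul hK (h2 ▸ orderOf_dvd_natCard _ (cs_mem_quo hy (hn.norm hy)))

theorem cyc_bot (h : AX X p a b x) (hn : K ⊴ ⊤) (hc : Cyc K) : K = ⊥ := by
  have h1 := cyc_der1_norm_le_cent hc hn.norm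
  have h2 : ¬ Sol (⁅⊤, ⊤⁆ : Subgroup X) := fun hs => h.ns (sol_of_der1 hs)
  have h3 := h.mem (der1_nml ⊤) (h.dvd_of h2) (mem_top x) h.ord
  have h4 : K ≤ zpowers x := (mem_C_iff_le_C1.1 (h1 h3)).trans h.cen
  refine (eq_bot_or_eq_of_card_prime h.prime (by rw [Nat.card_zpowers, h.ord]) h4).resolve_right
    fun e => h2 ((H24.cyc_zpowers x).sol.of_le (h1.trans ?_))
  rw [e, C_zpowers]; exact h.cen

theorem core_bot (h : AX X p a b x) (hn : K ⊴ ⊤) {r : ℕ} (hr : r.Prime) : O[{r}, K] = ⊥ := by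
  by_contra h1
  have h2 := (pcore_pi {r} K).dvd_card h1
  rcases prime_dvd h.prime hr ((h2.trans (card_subgroup_dvd_card _)).trans h.dvd) with
    rfl | rfl | rfl
  · obtain ⟨n, hn'⟩ := isPi_single_card hr (pcore_pi {r} K)
    refine h1 (h.cyc_bot (hn.pcore _) (cyc_of_prime ?_))
    have h3 := h.nsq (M := O[{r}, K])
    rw [hn'] at h2 h3 ⊢
    rcases n with _ | _ | n
    · exact absurd (Nat.dvd_one.1 h2) hr.one_lt.ne'
    · simpa using hr
    · exact absurd ⟨r ^ n, by ring⟩ h3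
  · exact h1 (h.cyc_bot (hn.pcore _) (h.c3 _ (pcore_pi _ _)))
  · exact h1 (le_bot_iff.1 (h.o2 ▸ hn.pcore_le _))

theorem sol_bot (h : AX X p a b x) (hM : M ⊴ ⊤) (hn : K ⊴ M) (hs : Sol K) : K = ⊥ := by
  by_contra h1
  obtain ⟨r, hr, h2⟩ := exists_pcore_ne_bot hs h1
  exact h2 (le_bot_iff.1 (h.core_bot hM hr ▸ hn.pcore_le _))

theorem main (h : AX X p a b x) : ∃ L : Subgroup X, L ⊴ ⊤ ∧ IsSimpleGroup L ∧
    ¬ IsMulCommutative L ∧ C[L] = ⊥ := by
  have hL : normalClosure {x} ⊴ ⊤ := nml_top _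
  have hx : x ∈ normalClosure {x} := subset_normalClosure rfl
  have x1 : x ≠ 1 := fun e => h.prime.one_lt.ne' (by rw [← h.ord, e, orderOf_one])
  have h1 : normalClosure {x} ≠ ⊥ := fun e => x1 (by rwa [e] at hx)
  refine ⟨_, hL, ?_, fun ha => h1 (h.sol_bot hL ⟨le_rfl, norm_self _⟩ (Abl.sol ha)),
    h.cyc_bot ⟨le_top, norm_C hL.norm⟩ ((H24.cyc_zpowers x).of_le (le_trans ?_ h.cen))⟩
  · have := (nontrivial_iff_ne_bot _).2 h1
    refine ⟨fun K hK => ?_⟩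
    have hn := nml_map_subtype K
    by_cases hs : Sol (K.map (normalClosure {x}).subtype)
    · exact Or.inl ((map_eq_bot_iff_of_injective _ (subtype_injective _)).1 (h.sol_bot hL hn hs))
    · refine Or.inr (map_injective (subtype_injective _) ?_)
      rw [map_subtype_top]
      refine le_antisymm hn.le ((closure_le _).2 fun y hy => ?_)
      refine h.mem hn (h.dvd_of hs) (conjugatesOfSet_subset_normalClosure hy) ?_
      obtain ⟨z, hz, hc⟩ := Group.mem_conjugatesOfSet_iff.1 hy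
      obtain ⟨c, rfl⟩ := isConj_iff.1 hc
      rw [orderOf_conj, show z = x from hz, h.ord]
  · exact fun g hg => mem_C1.2 (mem_C.1 hg x hx).symm

end AX

variable {G : Type u} [Group G] [Finite G] {p a b : ℕ} {T Q : Subgroup G}

theorem KT.ax (h : KT G p a b) (thin : Thin G) (hQ : IsPi {2} Q) (h1 : Q ≠ ⊥)
    (hO : O[{2}, N[Q]] = Q) (hns : ¬ Sol N[Q]) : ∃ x : QN Q, AX (QN Q) p a b x := by
  obtain ⟨x, hx, ho⟩ := exists_orderOf_eq h.prime (not_not.1 fun hd => hns (h.sol hd))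
  obtain ⟨m, hm⟩ := isPi_single_card Nat.prime_two hQ
  have hc : (♯Q).Coprime (orderOf x) := by
    rw [hm, ho]
    exact Nat.Coprime.pow_left _ ((Nat.coprime_primes Nat.prime_two h.prime).2 h.ne2)
  have hn : Q ⊴ N[Q] := ⟨norm_self Q, le_rfl⟩
  refine ⟨cs Q x, h.prime, h.five, ?_, fun hs => hns ?_, ?_, fun T hT => ?_, ?_, ?_⟩
  · rw [← h.card, ← card_top, ← quo_N]
    exact (card_quo_dvd _ _).trans (card_subgroup_dvd_card _)
  · rw [← coq_top]; exact (hQ.sol Nat.prime_two).coq hs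
  · rw [← quo_N, ← quo_pcore hQ hn, hO, quo_self]
  · obtain ⟨A, hA⟩ := Sylow_exists Nat.prime_three (coq Q T)
    have h2 := hA.quo (coq_le_N T)
    rw [quo_coq] at h2
    rw [← h2.eq_self hT]
    exact (h.cyc3 thin hQ h1 (hA.le.trans (coq_le_N T)) hA.pi).quo Q
  · have h2 : orderOf (cs Q x) ∣ p := ho ▸ orderOf_ap_dvd _ hx
    refine ((Nat.dvd_prime h.prime).1 h2).resolve_left fun e => ?_
    have h3 := (cs_eq_one hx).1 (orderOf_eq_one_iff.1 e)
    have h4 := Nat.Coprime.eq_one_of_dvd hc.symm (orderOf_dvd_natCard _ h3)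
    exact h.prime.one_lt.ne' (ho ▸ h4)
  · have h2 := coprime_quo_cent1 (K := N[Q]) (norm_self _ hx) hx le_rfl hc
    rw [quo_N, top_inf_eq] at h2
    rw [← h2, ← quo_zpowers hx, ← h.cent_p ho]
    exact quo_mono _ inf_le_right

theorem frame0 (h : KT G p a b) (thin : Thin G)
    (IH : ∀ (H : Type u) [Group H] [Finite H], Nat.card H < Nat.card G → IsK3 H → H8.K3.Concl H)
    (hQ : IsPi {2} Q) (h1 : Q ≠ ⊥) (hO : O[{2}, N[Q]] = Q) (hns : ¬ Sol N[Q]) :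
    ∃ L : Subgroup G, Q ≤ L ∧ L ⊴ N[Q] ∧
      (∀ g ∈ N[Q], (∀ l ∈ L, g * l * g⁻¹ * l⁻¹ ∈ Q) → g ∈ Q) ∧
      ((p = 5 ∧ ∃ φ : L →* alternatingGroup (Fin 5),
          Function.Surjective φ ∧ φ.ker = Q.subgroupOf L) ∨
        ∃ (F : Type) (_ : Field F) (_ : Fintype F),
          ((Fintype.card F = 7 ∧ p = 7) ∨ (Fintype.card F = 8 ∧ p = 7) ∨
            (Fintype.card F = 17 ∧ p = 17)) ∧
          ∃ φ : L →* Matrix.ProjectiveSpecialLinearGroup (Fin 2) F,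
            Function.Surjective φ ∧ φ.ker = Q.subgroupOf L) := by
  obtain ⟨x, hx⟩ := h.ax thin hQ h1 hO hns
  obtain ⟨L, hL, hs, hna, hC⟩ := hx.main
  have hn : Q ⊴ N[Q] := ⟨norm_self Q, le_rfl⟩
  have hcard := card_coq L
  have hd : ♯L ∣ Nat.card G := (Dvd.intro_left _ hcard.symm).trans (card_subgroup_dvd_card _)
  have hlt : ♯L < Nat.card G := by
    have h2 := (one_lt_card_iff_ne_bot Q).2 h1
    have h3 : ♯(coq Q L) ≤ Nat.card G := card_le_card_group _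
    have h4 : 0 < ♯L := Nat.card_pos
    nlinarith
  obtain ⟨hK, i, -, j, -, hc⟩ := h.section hna hd
  have hp : ∀ r : ℕ, r.Prime → 5 ≤ r → r ∣ ♯L → p = r := fun r hr h5 hd => by
    rcases prime_dvd h.prime hr (hc ▸ hd) with h | h | h <;> omega
  have key : ∀ {Y : Type} [Group Y], L ≃* Y → ∃ φ : coq Q L →* Y,
      Function.Surjective φ ∧ φ.ker = Q.subgroupOf (coq Q L) := fun {Y} _ e => by
    let ψ : coq Q L →* L := ((coset Q).comp (inclusion (coq_le_N L))).codRestrict L fun l => by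
      have := (mem_coq.1 l.2).2
      rwa [cs, ap_of_mem _ (coq_le_N L l.2)] at this
    have hψ : ∀ l, (ψ l : QN Q) = cs Q l := fun l =>
      (ap_of_mem (coset Q) (coq_le_N L l.2)).symm
    refine ⟨e.toMonoidHom.comp ψ, e.surjective.comp fun z => ?_, ?_⟩
    · obtain ⟨g, hg, e⟩ := exists_cs (z : QN Q)
      exact ⟨⟨g, mem_coq.2 ⟨hg, e ▸ z.2⟩⟩, Subtype.ext ((hψ _).trans e)⟩
    · ext l
      rw [MonoidHom.mem_ker, mem_subgroupOf, ← cs_eq_one (coq_le_N L l.2), ← hψ]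
      simp
  refine ⟨coq Q L, le_coq L, nml_coq_of hn (by rwa [quo_N]), fun g hg hl => ?_, ?_⟩
  · rw [← cs_eq_one hg, ← mem_bot, ← hC]
    refine mem_C.2 fun z hz => ?_
    obtain ⟨l, hl', rfl⟩ := exists_cs z
    have h2 := cs_of_mem (hl l (mem_coq.2 ⟨hl', hz⟩))
    rw [cs, ap_mul _ (mul_mem (mul_mem hg hl') (inv_mem hg)) (inv_mem hl'), ap_conj _ hg hl',
      ap_inv _ hl', mul_inv_eq_one, mul_inv_eq_iff_eq_mul] at h2
    exact h2.symm
  · have h3 : Cyc3 L := fun T hT => (cyc_map_iff (subtype_injective L)).1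
      (hx.c3 _ (isPi_of_isPGroup Nat.prime_three (hT.map _)))
    rcases soc (IH L hlt hK) h3 with ⟨⟨e⟩⟩ | ⟨F, _, _, hF, ⟨e⟩⟩
    · refine Or.inl ⟨hp 5 (by norm_num) le_rfl ?_, key e⟩
      rw [Nat.card_congr e.toEquiv, nat_card_alternatingGroup]; simp [Nat.factorial]
    · refine Or.inr ⟨F, inferInstance, inferInstance, ?_, key e⟩
      rw [Nat.card_congr e.toEquiv] at hp
      rcases hF with hF | hF | hF
      · have := H8.K3.card_l2 (x := 6) hF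
        norm_num at this
        exact Or.inl ⟨hF, hp 7 (by norm_num) (by norm_num) (by omega)⟩
      · have := H8.K3.card_l2 (x := 7) hF
        norm_num at this
        exact Or.inr (Or.inl ⟨hF, hp 7 (by norm_num) (by norm_num) (by omega)⟩)
      · have := H8.K3.card_l2 (x := 16) hF
        norm_num at this
        exact Or.inr (Or.inr ⟨hF, hp 17 (by norm_num) (by norm_num) (by omega)⟩)

/-- a `2`-subgroup of largest order with non-solvable normaliser -/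
theorem exists_max (hT : IsPi {2} T) (h1 : T ≠ ⊥) (hns : ¬ Sol N[T]) :
    ∃ Q : Subgroup G, Q ≠ ⊥ ∧ IsPi {2} Q ∧ O[{2}, N[Q]] = Q ∧ ¬ Sol N[Q] ∧
      ∀ T' : Subgroup G, IsPi {2} T' → ¬ Sol N[T'] → ♯T' ≤ ♯Q := by
  obtain ⟨Q, ⟨hQ, hs⟩, hm⟩ := Set.exists_max_image
    {T' : Subgroup G | IsPi {2} T' ∧ ¬ Sol N[T']} (fun T' => ♯T') (Set.toFinite _) ⟨T, hT, hns⟩
  refine ⟨Q, fun e => ?_, hQ, ?_, hs, fun T' h2 h3 => hm T' ⟨h2, h3⟩⟩
  · have h2 := hm T ⟨hT, hns⟩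
    have h3 := (one_lt_card_iff_ne_bot T).2 h1
    simp only [e, card_bot] at h2
    omega
  · exact (eq_of_le_of_card_ge (pcore_max' hQ (norm_self Q) le_rfl)
      (hm _ ⟨pcore_pi _ _, fun h2 => hs (h2.of_le (pcore_nml _ _).norm)⟩)).symm

theorem frame' (h : KT G p a b) (thin : Thin G)
    (IH : ∀ (H : Type u) [Group H] [Finite H], Nat.card H < Nat.card G → IsK3 H → H8.K3.Concl H)
    (hT : IsPi {2} T) (h1 : T ≠ ⊥) (hns : ¬ Sol N[T]) :
    ∃ Q L : Subgroup G, (∀ T' : Subgroup G, IsPi {2} T' → ¬ Sol N[T'] → ♯T' ≤ ♯Q) ∧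
      Q ≠ ⊥ ∧ IsPi {2} Q ∧ O[{2}, N[Q]] = Q ∧ Q ≤ L ∧ L ⊴ N[Q] ∧
      (∀ g ∈ N[Q], (∀ l ∈ L, g * l * g⁻¹ * l⁻¹ ∈ Q) → g ∈ Q) ∧
      ((p = 5 ∧ ∃ φ : L →* alternatingGroup (Fin 5),
          Function.Surjective φ ∧ φ.ker = Q.subgroupOf L) ∨
        ∃ (F : Type) (_ : Field F) (_ : Fintype F),
          ((Fintype.card F = 7 ∧ p = 7) ∨ (Fintype.card F = 8 ∧ p = 7) ∨
            (Fintype.card F = 17 ∧ p = 17)) ∧
          ∃ φ : L →* Matrix.ProjectiveSpecialLinearGroup (Fin 2) F,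
            Function.Surjective φ ∧ φ.ker = Q.subgroupOf L) := by
  obtain ⟨Q, q1, hQ, hO, hs, hm⟩ := exists_max hT h1 hns
  obtain ⟨L, hL⟩ := frame0 h thin IH hQ q1 hO hs
  exact ⟨Q, L, hm, q1, hQ, hO, hL⟩

theorem frame (h : KT G p a b) (thin : Thin G)
    (IH : ∀ (H : Type u) [Group H] [Finite H], Nat.card H < Nat.card G → IsK3 H → H8.K3.Concl H)
    (hT : IsPi {2} T) (h1 : T ≠ ⊥) (hns : ¬ Sol N[T]) :
    ∃ Q L : Subgroup G, Q ≠ ⊥ ∧ IsPi {2} Q ∧ O[{2}, N[Q]] = Q ∧ Q ≤ L ∧ L ⊴ N[Q] ∧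
      (∀ g ∈ N[Q], (∀ l ∈ L, g * l * g⁻¹ * l⁻¹ ∈ Q) → g ∈ Q) ∧
      ((p = 5 ∧ ∃ φ : L →* alternatingGroup (Fin 5),
          Function.Surjective φ ∧ φ.ker = Q.subgroupOf L) ∨
        ∃ (F : Type) (_ : Field F) (_ : Fintype F),
          ((Fintype.card F = 7 ∧ p = 7) ∨ (Fintype.card F = 8 ∧ p = 7) ∨
            (Fintype.card F = 17 ∧ p = 17)) ∧
          ∃ φ : L →* Matrix.ProjectiveSpecialLinearGroup (Fin 2) F,
            Function.Surjective φ ∧ φ.ker = Q.subgroupOf L) := by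
  obtain ⟨Q, L, -, hL⟩ := frame' h thin IH hT h1 hns
  exact ⟨Q, L, hL⟩

end H18.K3
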