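import Mathlib
import Cfsg.Agent.H18.Small2
import Cfsg.Agent.H2.Quaternion

/-! The simple group of order 168: elements and Sylow subgroups. -/

set_option autoImplicit false
set_option linter.unusedSectionVars false

open Cfsg H4 H17 Subgroup
open scoped Pointwise

namespace H18

variable {G : Type*} [Group G] [Finite G]

theorem card_modEq_one_of_fpf {q : ℕ} [hq : Fact q.Prime] {K : Subgroup G} {y : G}
    (hy : y ∈ normalizer (K : Set G)) (ho : orderOf y = q) (h : ∀ k ∈ K, Commute k y → k = 1) :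
    Nat.card K ≡ 1 [MOD q] := by
  let φ : zpowers y →* MulAut K := K.normalizerMonoidHom.comp (inclusion (zpowers_le.2 hy))
  let := MulAction.compHom K φ
  have h1 := (IsPGroup.of_card (G := zpowers y) (n := 1)
    (by rw [Nat.card_zpowers, ho, pow_one])).card_modEq_card_fixedPoints K
  rwa [show MulAction.fixedPoints (zpowers y) K = {1} from Set.eq_singleton_iff_unique_mem.2
    ⟨fun g => map_one (φ g), fun k hk => Subtype.ext (h k k.2 (mul_inv_eq_iff_eq_mul.1
      (congrArg Subtype.val (hk ⟨y, mem_zpowers y⟩))).symm)⟩, Nat.card_unique (α := ({1} : Set K))] at h1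

theorem comm_of_index_two {T : Subgroup G} {a : G} (ha : a ∈ T)
    (hc : Nat.card T = 2 * orderOf a) (h : T ≤ centralizer {a}) : IsMulCommutative T := by
  have h1 : (zpowers (⟨a, ha⟩ : T)).index = 2 := by
    have := (zpowers (⟨a, ha⟩ : T)).index_mul_card
    rw [Nat.card_zpowers, hc, ← orderOf_coe] at this
    exact Nat.eq_of_mul_eq_mul_right (orderOf_pos a) this
  have h2 : zpowers (⟨a, ha⟩ : T) ≤ center T := zpowers_le.2 (mem_center_iff.2 fun g =>
    Subtype.ext (mem_centralizer_singleton_iff.1 (h g.2)))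
  have := normal_of_index_eq_two h1
  have := isCyclic_of_prime_card (p := 2) (α := T ⧸ zpowers (⟨a, ha⟩ : T)) h1
  exact ⟨⟨(commGroupOfCyclicCenterQuotient (QuotientGroup.mk' _)
    ((QuotientGroup.ker_mk' _).trans_le h2)).mul_comm⟩⟩

theorem ncard_isConj (u : G) :
    Nat.card (centralizer ({u} : Set G)) * {g | IsConj u g}.ncard = Nat.card G :=
  card_centralizer_mul_card_isConj u

theorem dvd_orderOf_of_pElt {p : ℕ} [Fact p.Prime] {v : G} (hv : PElt p v) (h1 : v ≠ 1) :
    p ∣ orderOf v := by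
  rwa [← not_not (a := p ∣ _), ← pp_eq_one_iff, pp_of_pElt hv]

namespace G168

variable [IsSimpleGroup G] (h : Nat.card G = 168)
include h

instance : Fact (Nat.Prime 7) := ⟨by norm_num⟩

theorem nc : ¬ IsMulCommutative G := not_comm_of_not_prime (by rw [h]; norm_num)

theorem seven : Nat.card (Sylow 7 G) = 8 ∧ ∃ x : G, SC 7 x := by
  obtain ⟨x, hx⟩ := exists_D1 (G := G) (p := 7) (by rw [h]; norm_num) (by rw [h]; norm_num)
  obtain ⟨D⟩ := hx.nonempty_bData
  obtain ⟨c, L, h1, -, h3⟩ := D.extract (nc h) h 13 [] (by simp)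
    (by norm_num) (fun N _ c _ => N == 8 && c == 1) (by decide +kernel)
  simp only [Bool.and_eq_true, beq_iff_eq] at h3
  exact ⟨h3.1, x, hx.sc_of_card (h3.2 ▸ h1)⟩

theorem three : Nat.card (Sylow 3 G) = 28 ∧ ∃ x : G, SC 3 x := by
  obtain ⟨x, hx⟩ := exists_D1 (G := G) (p := 3) (by rw [h]; norm_num) (by rw [h]; norm_num)
  obtain ⟨D⟩ := hx.nonempty_bData
  obtain ⟨c, L, h1, -, h3⟩ := D.extract (nc h) h 13 [2, 7]
    (by simp [Nat.prime_two]; norm_num)
    (by norm_num) (fun N _ c _ => N == 28 && c == 1) (by decide +kernel)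
  simp only [Bool.and_eq_true, beq_iff_eq] at h3
  exact ⟨h3.1, x, hx.sc_of_card (h3.2 ▸ h1)⟩

theorem ord7 {g : G} (hg : 7 ∣ orderOf g) : orderOf g = 7 := (seven h).2.elim fun _ hx => hx.orderOf_eq hg

theorem ord3 {g : G} (hg : 3 ∣ orderOf g) : orderOf g = 3 := (three h).2.elim fun _ hx => hx.orderOf_eq hg

theorem not_dvd (q : ℕ) (g : G) (hq : q.Prime) (h2 : q ≠ 2) (hg : 2 ∣ orderOf g) :
    ¬ q ∣ orderOf g := fun hc => by
  have h1 := prime_of_dvd_orderOf h hq hc
  rw [show Nat.primeFactors 168 = {2, 3, 7} by decide +kernel] at h1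
  simp only [Finset.mem_insert, Finset.mem_singleton] at h1
  rcases h1 with rfl | rfl | rfl
  · exact h2 rfl
  · rw [ord3 h hc] at hg; omega
  · rw [ord7 h hc] at hg; omega

theorem pElt {g : G} (hg : 2 ∣ orderOf g) : PElt 2 g :=
  ⟨_, Nat.eq_prime_pow_of_unique_prime_dvd (orderOf_pos g).ne' fun {q} hq hd =>
    by_contra fun hc => not_dvd h q g hq hc hg hd⟩

theorem isPGroup_cent {g : G} (hg : 2 ∣ orderOf g) : IsPGroup 2 (centralizer ({g} : Set G)) :=
  isPGroup_centralizer hg (pElt h hg) (not_dvd h)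

theorem card_T (T : Sylow 2 G) : Nat.card (T : Subgroup G) = 8 :=
  card_sylow_of_mul (k := 3) (m := 21) h (by norm_num) T

theorem card_dvd {K : Subgroup G} (hK : IsPGroup 2 K) : Nat.card K ∣ 8 := by
  obtain ⟨T, hT⟩ := hK.exists_le_sylow
  exact card_T h T ▸ card_dvd_of_le hT

theorem exists_sylow {K : Subgroup G} (hK : IsPGroup 2 K) (h8 : Nat.card K = 8) :
    ∃ T : Sylow 2 G, K = T := by
  obtain ⟨T, hT⟩ := hK.exists_le_sylow
  exact ⟨T, eq_of_le_of_card_ge hT (by rw [card_T h, h8])⟩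

theorem card7 : {g : G | orderOf g = 7}.ncard = 48 := by
  obtain ⟨h1, x, hx⟩ := seven h
  obtain ⟨R⟩ : Nonempty (Sylow 7 G) := inferInstance
  have := card_orderOf_eq_prime R (hx.d1.card_sylow R)
  rwa [h1] at this

theorem card3 : {g : G | orderOf g = 3}.ncard = 56 := by
  obtain ⟨h1, x, hx⟩ := three h
  obtain ⟨R⟩ : Nonempty (Sylow 3 G) := inferInstance
  have := card_orderOf_eq_prime R (hx.d1.card_sylow R)
  rwa [h1] at this

theorem cardE : {g : G | 2 ∣ orderOf g}.ncard = 63 := by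
  have h1 : {g : G | 2 ∣ orderOf g}ᶜ = insert 1 ({g | orderOf g = 7} ∪ {g | orderOf g = 3}) := by
    ext g
    simp only [Set.mem_compl_iff, Set.mem_ofPred_eq, Set.mem_insert_iff, Set.mem_union]
    rw [← orderOf_eq_one_iff]
    refine ⟨fun hg => ?_, by omega⟩
    by_contra hc
    obtain ⟨q, hq, hd⟩ := Nat.exists_prime_and_dvd (n := orderOf g) (by omega)
    have h1 := prime_of_dvd_orderOf h hq hd
    rw [show Nat.primeFactors 168 = {2, 3, 7} by decide +kernel] at h1
    simp only [Finset.mem_insert, Finset.mem_singleton] at h1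
    rcases h1 with rfl | rfl | rfl
    · exact hg hd
    · have := ord3 h hd; omega
    · have := ord7 h hd; omega
  have h2 := Set.ncard_add_ncard_compl {g : G | 2 ∣ orderOf g}
  rw [h1, Set.ncard_insert_of_notMem (by simp), Set.ncard_union_eq
    (Set.disjoint_left.2 fun g h1 h2 => by simp_all), card7 h, card3 h, h] at h2
  omega

theorem eq_one_of_commute {k y : G} (hk : PElt 2 k) (hy : orderOf y = 3) (hc : Commute k y) :
    k = 1 := by
  by_contra h1
  have h2 := (Subgroup.orderOf_dvd_natCard _ (H17.mem_centralizer_singleton.2 hc.symm)).trans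
    (card_dvd h (isPGroup_cent h (dvd_orderOf_of_pElt hk h1)))
  rw [hy] at h2
  omega

theorem index_ge {H : Subgroup G} (hH : H ≠ ⊤) : 7 ≤ H.index := by
  have h1 := two_mul_card_dvd_factorial (nc h) H hH
  by_contra hc
  exact absurd (h ▸ h1.trans (Nat.factorial_dvd_factorial (show H.index ≤ 6 by omega))) (by decide)

theorem normalizer_T (T : Sylow 2 G) : normalizer ((T : Subgroup G) : Set G) = T := by
  have h1 := index_ge h (normalizer_sylow_ne_top (nc h) (by rw [h]; norm_num) T)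
  have h2 := (normalizer ((T : Subgroup G) : Set G)).index_mul_card
  obtain ⟨k, hk⟩ := card_dvd_of_le (T : Subgroup G).le_normalizer
  rw [card_T h] at hk
  refine (eq_of_le_of_card_ge le_normalizer ?_).symm
  by_contra hc
  obtain ⟨y, hy⟩ := exists_prime_orderOf_dvd_card' (G := normalizer ((T : Subgroup G) : Set G)) 3 (by
    rw [card_T h] at hc
    rw [hk, h] at h2
    have := Nat.mul_le_mul_right (8 * k) h1
    have : k = 2 ∨ k = 3 := by omega
    rcases this with rfl | rfl <;> omega)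
  rw [← orderOf_coe] at hy
  have := card_modEq_one_of_fpf y.2 hy fun k hk => eq_one_of_commute h (PElt.of_mem T.2 hk) hy
  rw [card_T h] at this
  exact absurd this (by decide)

theorem card_sylow_two : Nat.card (Sylow 2 G) = 21 := by
  obtain ⟨T⟩ : Nonempty (Sylow 2 G) := inferInstance
  have := card_sylow_mul_card_normalizer T
  rw [normalizer_T h, card_T h, h] at this
  omega

theorem cent_eq (T : Sylow 2 G) {z : G} (hz : z ∈ (T : Subgroup G)) (h1 : z ≠ 1)
    (hc : ∀ t ∈ (T : Subgroup G), t * z = z * t) : centralizer ({z} : Set G) = T :=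
  T.3 (isPGroup_cent h (dvd_orderOf_of_pElt (PElt.of_mem T.2 hz) h1))
    fun t ht => mem_centralizer_singleton_iff.2 (hc t ht)

theorem not_TI (T : Sylow 2 G) : ¬ ∀ g : G, ∀ a ∈ ((T : Subgroup G) : Set G) \ {1},
    g * a * g⁻¹ ∈ ((T : Subgroup G) : Set G) \ {1} → g ∈ (T : Subgroup G) := fun hc => by
  have h1 := H2.ncard_conjugatesOfSet_of_TI T (((T : Subgroup G) : Set G) \ {1}) (fun n hn a ha =>
    ⟨mul_mem (mul_mem hn ha.1) (inv_mem hn), by simpa using ha.2⟩) hc
  have h2 := (T : Subgroup G).index_mul_card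
  have h3 := Set.ncard_le_ncard (s := Group.conjugatesOfSet (((T : Subgroup G) : Set G) \ {1}))
    (t := {g : G | 2 ∣ orderOf g}) fun g hg => by
      obtain ⟨a, ha, h3⟩ := Group.mem_conjugatesOfSet_iff.1 hg
      exact (dvd_orderOf_of_pElt (PElt.of_mem T.2 ha.1) ha.2).trans (orderOf_eq_of_isConj h3).dvd
  rw [Set.ncard_sdiff_singleton_of_mem (T : Subgroup G).one_mem,
    show ((T : Subgroup G) : Set G).ncard = 8 from card_T h T] at h1
  rw [card_T h, h] at h2
  rw [cardE h] at h3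
  omega

theorem not_comm (T : Sylow 2 G) : ¬ IsMulCommutative (T : Subgroup G) := fun hc =>
  not_TI h T fun _ _ ha hg => normalizer_T h T ▸
    (isCC_sylow T hc (not_dvd h)).mem_normalizer ha.1 ha.2 hg.1

theorem orderOf_dvd_four {g : G} (hg : 2 ∣ orderOf g) : orderOf g = 2 ∨ orderOf g = 4 := by
  obtain ⟨T, hT⟩ := (pElt h hg).isPGroup_zpowers.exists_le_sylow
  have h1 := card_dvd_of_le hT
  rw [card_T h, Nat.card_zpowers] at h1
  have h2 : orderOf g ≠ 8 := fun hc => not_comm h T (by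
    rw [← eq_of_le_of_card_ge hT (by rw [card_T h, Nat.card_zpowers, hc])]
    infer_instance)
  have := Nat.le_of_dvd (by norm_num) h1
  generalize orderOf g = n at *
  interval_cases n <;> omega

theorem cent_four {a : G} (ha : orderOf a = 4) : centralizer ({a} : Set G) = zpowers a := by
  have h1 := isPGroup_cent h (g := a) (by omega)
  have h2 : zpowers a ≤ centralizer {a} := zpowers_le.2 (mem_centralizer_singleton_iff.2 rfl)
  have h3 := card_dvd_of_le h2
  have h4 := card_dvd h h1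
  have h5 : Nat.card (centralizer ({a} : Set G)) ≠ 8 := fun hc => by
    obtain ⟨T, hT⟩ := exists_sylow h h1 hc
    exact not_comm h T (comm_of_index_two (hT ▸ h2 (mem_zpowers a)) (by rw [card_T h, ha]) hT.ge)
  rw [Nat.card_zpowers, ha] at h3
  have := Nat.le_of_dvd (by norm_num) h4
  exact (eq_of_le_of_card_ge h2 (by rw [Nat.card_zpowers, ha]; omega)).symm

theorem exists_four (T : Sylow 2 G) : ∃ a ∈ (T : Subgroup G), orderOf a = 4 ∧
    (∀ b ∈ (T : Subgroup G), b ∉ zpowers a → b * a * b⁻¹ = a⁻¹) ∧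
    centralizer ({a ^ 2} : Set G) = T ∧
    ∀ b ∈ (T : Subgroup G), b ∉ zpowers a → ∀ g ∈ (T : Subgroup G), g ∉ zpowers a →
      b⁻¹ * g ∈ zpowers a := by
  classical
  obtain ⟨a, ha, h1⟩ : ∃ a ∈ (T : Subgroup G), orderOf a = 4 := by
    by_contra hc
    push Not at hc
    have h1 : ∀ a : (T : Subgroup G), a * a = 1 := fun a => by
      rcases eq_or_ne (a : G) 1 with h1 | h1
      · rw [show a = 1 from Subtype.ext h1, mul_one]
      · have := (orderOf_dvd_four h (dvd_orderOf_of_pElt (PElt.of_mem T.2 a.2) h1)).resolve_right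
          (hc a a.2)
        exact Subtype.ext (by simpa [this, sq] using pow_orderOf_eq_one (a : G))
    exact not_comm h T ⟨⟨fun a b => by
      rw [eq_inv_of_mul_eq_one_left (h1 (a * b)), mul_inv_rev, ← eq_inv_of_mul_eq_one_left (h1 a),
        ← eq_inv_of_mul_eq_one_left (h1 b)]⟩⟩
  have h2 : (T : Subgroup G) ≤ normalizer (zpowers a : Set G) :=
    le_normalizer_of_card T.2 (zpowers_le.2 ha) (by rw [card_T h, Nat.card_zpowers, h1])
  have ha4 : a ^ 4 = 1 := h1 ▸ pow_orderOf_eq_one a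
  have h3 : ∀ b ∈ (T : Subgroup G), b * a * b⁻¹ = a ∨ b * a * b⁻¹ = a⁻¹ := fun b hb => by
    have h3 := mem_zpowers_iff_mem_range_orderOf.1 (mem_normalizer_zpowers_iff.1 (h2 hb))
    have h4 : orderOf (b * a * b⁻¹) = 4 := by rw [← h1]; exact orderOf_conj b a
    obtain ⟨k, hk, h5⟩ := Finset.mem_image.1 h3
    rw [h1, Finset.mem_range] at hk
    rw [← h5] at h4 ⊢
    interval_cases k
    · simp at h4
    · simp
    · rw [orderOf_pow, h1] at h4
      norm_num at h4
    · exact Or.inr (eq_inv_of_mul_eq_one_left (by rw [← pow_succ, ha4]))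
  refine ⟨a, ha, h1, fun b hb h4 => (h3 b hb).resolve_left fun hc => h4 (cent_four h h1 ▸
    mem_centralizer_singleton_iff.2 (mul_inv_eq_iff_eq_mul.1 hc)), cent_eq h T (pow_mem ha 2)
      (fun hc => by have := orderOf_dvd_of_pow_eq_one hc; rw [h1] at this; omega) fun t ht => ?_, fun b hb h4 g hg h5 => ?_⟩
  · rw [← mul_inv_eq_iff_eq_mul, ← conj_pow]
    rcases h3 t ht with h4 | h4 <;> rw [h4]
    rw [inv_pow, inv_eq_iff_mul_eq_one, ← pow_add, ha4]
  · have h6 : ((zpowers a).subgroupOf T).index = 2 := by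
      have := ((zpowers a).subgroupOf T).index_mul_card
      rw [Nat.card_congr (subgroupOfEquivOfLe (zpowers_le.2 ha)).toEquiv, Nat.card_zpowers, h1,
        card_T h] at this
      omega
    exact (mul_mem_iff_of_index_two h6 (a := ⟨b, hb⟩⁻¹) (b := ⟨g, hg⟩)).2
      (iff_of_false (by simpa [mem_subgroupOf] using h4) h5)

theorem dihedral (T : Sylow 2 G) : Nonempty ((T : Subgroup G) ≃* DihedralGroup 4) := by
  classical
  obtain ⟨a, ha, h1, h2, h3, h4⟩ := exists_four h T
  obtain ⟨b, hb, h5, h6⟩ : ∃ b ∈ (T : Subgroup G), b ∉ zpowers a ∧ b * b = 1 := by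
    by_contra hc
    push Not at hc
    have h5 : ∀ b ∈ (T : Subgroup G), orderOf b = 2 → b = a ^ 2 := fun b hb h5 => by
      have h6 : b ∈ zpowers a := by
        by_contra h6
        exact hc b hb h6 (by rw [← sq, ← h5, pow_orderOf_eq_one])
      obtain ⟨k, hk, rfl⟩ := Finset.mem_image.1 (mem_zpowers_iff_mem_range_orderOf.1 h6)
      rw [h1, Finset.mem_range] at hk
      rw [orderOf_pow, h1] at h5
      interval_cases k <;> simp_all
    refine not_TI h T fun g y hy hg => ?_
    obtain ⟨k, hk⟩ : ∃ k, orderOf (y ^ k) = 2 := by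
      rcases orderOf_dvd_four h (dvd_orderOf_of_pElt (PElt.of_mem T.2 hy.1) hy.2) with h6 | h6
      · exact ⟨1, by simpa using h6⟩
      · exact ⟨2, by rw [orderOf_pow, h6]; norm_num⟩
    have h6 := h5 _ (pow_mem hg.1 k) (by rw [conj_pow, orderOf_conj, hk])
    rw [conj_pow, h5 _ (pow_mem hy.1 k) hk] at h6
    exact h3 ▸ mem_centralizer_singleton_iff.2 (mul_inv_eq_iff_eq_mul.1 h6)
  have h7 : ∀ g : (T : Subgroup G), g ∈ zpowers (⟨a, ha⟩ : (T : Subgroup G)) ↔ (g : G) ∈ zpowers a :=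
    fun g => ⟨fun ⟨k, hk⟩ => ⟨k, congrArg Subtype.val hk⟩, fun ⟨k, hk⟩ => ⟨k, Subtype.ext hk⟩⟩
  refine H2.nonempty_equiv_dihedral (a := ⟨a, ha⟩) (b := ⟨b, hb⟩) (by rw [← orderOf_coe, h1])
    (Subtype.ext (h2 b hb h5)) (Subtype.ext h6) (mt (h7 _).1 h5) fun g => ?_
  rw [h7, h7, or_iff_not_imp_left]
  exact h4 b hb h5 g g.2

theorem classes : ∃ a : G, orderOf a = 4 ∧ {g | IsConj a g}.ncard = 42 ∧
    {g | IsConj (a ^ 2) g}.ncard = 21 ∧ Nat.card (centralizer ({a ^ 2} : Set G)) = 8 ∧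
    {g | orderOf g = 4} = {g | IsConj a g} ∧ {g | orderOf g = 2} = {g | IsConj (a ^ 2) g} := by
  obtain ⟨T⟩ : Nonempty (Sylow 2 G) := inferInstance
  obtain ⟨a, -, h1, -, h3, -⟩ := exists_four h T
  have h4 := ncard_isConj a
  have h5 := ncard_isConj (a ^ 2)
  rw [cent_four h h1, Nat.card_zpowers, h1, h] at h4
  rw [h3, card_T h, h] at h5
  have h6 : orderOf (a ^ 2) = 2 := by rw [orderOf_pow, h1]; norm_num
  have h7 : {g | IsConj a g} ∪ {g | IsConj (a ^ 2) g} = {g : G | 2 ∣ orderOf g} :=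
    Set.eq_of_subset_of_ncard_le (by
      rintro g (hg | hg) <;> simp only [Set.mem_ofPred_eq, ← orderOf_eq_of_isConj hg] <;> omega) (by
      rw [cardE h, Set.ncard_union_eq (Set.disjoint_left.2 fun g h7 h8 => by
        have := (orderOf_eq_of_isConj h7).trans (orderOf_eq_of_isConj h8).symm
        omega)]
      omega)
  refine ⟨a, h1, by omega, by omega, by rw [h3, card_T h], Set.ext fun g => ⟨fun hg => ?_,
    fun hg => (orderOf_eq_of_isConj hg).symm.trans h1⟩, Set.ext fun g => ⟨fun hg => ?_,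
    fun hg => (orderOf_eq_of_isConj hg).symm.trans h6⟩⟩
  all_goals
    change orderOf g = _ at hg
    rcases h7.ge (show 2 ∣ orderOf g by omega) with h8 | h8
    all_goals first | exact h8 | (have := orderOf_eq_of_isConj h8; omega)

end G168

end H18
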