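import Mathlib
import Cfsg.Agent.H18.G168a
import Cfsg.Agent.H16.SmallRec

/-! The simple group of order 168: four-groups and maximal subgroups. -/

set_option autoImplicit false
set_option linter.unusedSectionVars false

open Cfsg H4 H17 Subgroup
open scoped Pointwise

namespace H18

variable {G : Type*} [Group G] [Finite G]

theorem isKleinFour_iff {U : Subgroup G} :
    IsKleinFour U ↔ Nat.card U = 4 ∧ ∀ u ∈ U, u * u = 1 := by
  refine ⟨fun h => ⟨h.card_four, fun u hu => congrArg Subtype.val (IsKleinFour.mul_self (⟨u, hu⟩ : U))⟩,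
    fun ⟨h1, h2⟩ => ⟨h1, ?_⟩⟩
  have : Nontrivial U := Finite.one_lt_card_iff_nontrivial.1 (by omega)
  refine (Nat.dvd_prime Nat.prime_two).1 (Monoid.exponent_dvd_of_forall_pow_eq_one fun u =>
    Subtype.ext (by simpa [sq] using h2 u u.2)) |>.resolve_left Monoid.one_lt_exponent.ne'

theorem comm_of_klein {U : Subgroup G} (h : IsKleinFour U) {a b : G} (ha : a ∈ U) (hb : b ∈ U) :
    a * b = b * a :=
  congrArg Subtype.val (IsKleinFour.isMulCommutative.1.1 (⟨a, ha⟩ : U) ⟨b, hb⟩)

theorem klein_map {H : Type*} [Group H] [Finite H] {f : G →* H} (hf : Function.Injective f)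
    {U : Subgroup G} (h : IsKleinFour U) : IsKleinFour (U.map f) := by
  rw [isKleinFour_iff] at h ⊢
  refine ⟨(card_map_of_injective hf).trans h.1, ?_⟩
  rintro _ ⟨u, hu, rfl⟩
  rw [← map_mul, h.2 u hu, map_one]

theorem klein_D4 : ∃ A B : Subgroup (DihedralGroup 4), A ≠ B ∧ IsKleinFour A ∧ IsKleinFour B ∧
    ∀ U : Subgroup (DihedralGroup 4), IsKleinFour U → U = A ∨ U = B := by
  classical
  have h1 : ∀ i, IsKleinFour (centralizer ({.sr i} : Set (DihedralGroup 4))) := fun i => by
    refine isKleinFour_iff.2 ⟨?_, ?_⟩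
    · rw [Nat.card_congr (Equiv.subtypeEquivRight fun _ => mem_centralizer_singleton_iff),
        Nat.card_eq_fintype_card]
      revert i
      decide
    · simp only [mem_centralizer_singleton_iff]
      revert i
      decide
  refine ⟨_, _, fun h => ?_, h1 0, h1 1, fun U hU => ?_⟩
  · have : DihedralGroup.sr 0 ∈ centralizer ({.sr 1} : Set (DihedralGroup 4)) :=
      h ▸ mem_centralizer_singleton_iff.2 rfl
    exact absurd (mem_centralizer_singleton_iff.1 this) (by decide)
  · obtain ⟨s, hs, h2⟩ : ∃ s ∈ U, s ∉ zpowers (DihedralGroup.r 2 : DihedralGroup 4) := by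
      by_contra hc
      push Not at hc
      have := card_le_of_le (show U ≤ _ from hc)
      rw [hU.card_four, Nat.card_zpowers, orderOf_eq_prime (p := 2) (by decide) (by decide)] at this
      omega
    have h3 := (isKleinFour_iff.1 hU).2 s hs
    have h4 : s ≠ 1 := by rintro rfl; exact h2 (one_mem _)
    have h5 : s ≠ .r 2 := by rintro rfl; exact h2 (mem_zpowers _)
    have h6 : (∀ g, g * s = s * g → g * .sr 0 = .sr 0 * g) ∨
        ∀ g, g * s = s * g → g * .sr 1 = .sr 1 * g := by
      clear hs h2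
      revert s
      decide
    refine h6.imp (fun h => ?_) fun h => ?_ <;>
    exact eq_of_le_of_card_ge (fun g hg => mem_centralizer_singleton_iff.2
      (h g (comm_of_klein hU hg hs))) (by rw [hU.card_four, (h1 _).card_four])

theorem map_conj_eq (U : Subgroup G) (g : G) :
    U.map (MulAut.conj g).toMonoidHom = MulAut.conj g • U := rfl

theorem normalizer_smul (U : Subgroup G) (g : G) :
    normalizer ((MulAut.conj g • U : Subgroup G) : Set G) =
      MulAut.conj g • normalizer (U : Set G) :=
  (map_equiv_normalizer_eq U (MulAut.conj g)).symm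

namespace G168

variable [IsSimpleGroup G] (h : Nat.card G = 168)
include h

theorem two_klein (T : Sylow 2 G) : ∃ A B : Subgroup G, A ≠ B ∧ (A ≤ T ∧ IsKleinFour A) ∧
    (B ≤ T ∧ IsKleinFour B) ∧ ∀ U : Subgroup G, U ≤ T → IsKleinFour U → U = A ∨ U = B := by
  obtain ⟨e⟩ := dihedral h T
  obtain ⟨A, B, h1, h2, h3, h4⟩ := klein_D4
  let φ := (T : Subgroup G).subtype.comp e.symm.toMonoidHom
  have hφ : Function.Injective φ := Subtype.val_injective.comp e.symm.injective
  have h5 : ∀ A : Subgroup (DihedralGroup 4), A.map φ ≤ T := by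
    rintro A _ ⟨a, -, rfl⟩
    exact (e.symm a).2
  refine ⟨A.map φ, B.map φ, fun hc => h1 (map_injective hφ hc), ⟨h5 A, klein_map hφ h2⟩,
    ⟨h5 B, klein_map hφ h3⟩, fun U hU hk => ?_⟩
  have h6 : (U.comap φ).map φ = U := map_comap_eq_self fun u hu => ⟨e ⟨u, hU hu⟩, by simp [φ]⟩
  have h7 : IsKleinFour (U.comap φ) := by
    rw [isKleinFour_iff] at hk ⊢
    exact ⟨by rw [← card_map_of_injective hφ, h6, hk.1], fun u hu => hφ (by simpa using hk.2 _ hu)⟩
  exact (h4 _ h7).imp (fun h => by rw [← h6, h]) fun h => by rw [← h6, h]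

omit h in
theorem isPGroup_klein {U : Subgroup G} (hU : IsKleinFour U) : IsPGroup 2 U :=
  IsPGroup.of_card (n := 2) hU.card_four

theorem le_normalizer_klein {U : Subgroup G} (hU : IsKleinFour U) {T : Sylow 2 G}
    (hT : U ≤ T) : (T : Subgroup G) ≤ normalizer (U : Set G) :=
  le_normalizer_of_card T.2 hT (by rw [card_T h, hU.card_four])

theorem not_conj (T : Sylow 2 G) (U W : Subgroup G) (hU : U ≤ T) (hW : W ≤ T) (kU : IsKleinFour U)
    (kW : IsKleinFour W) (hne : U ≠ W) (g : G) : U.map (MulAut.conj g).toMonoidHom ≠ W := by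
  rintro rfl
  have h1 := le_normalizer_klein h kW hW
  have h2 := le_normalizer_klein h kW (T := g • T) (map_mono hU)
  obtain ⟨n, hn⟩ := MulAction.exists_smul_eq (normalizer ((U.map (MulAut.conj g).toMonoidHom :
    Subgroup G) : Set G)) ((g • T).subtype h2) (T.subtype h1)
  rw [Sylow.smul_subtype] at hn
  have h3 := Sylow.subtype_injective hn
  rw [Subgroup.smul_def, smul_smul, Sylow.smul_eq_iff_mem_normalizer] at h3
  have h4 := le_normalizer_klein h kU hU (normalizer_T h T ▸ h3)
  apply hne
  have h5 : MulAut.conj ((n : G) * g) • U = U := mem_normalizer_iff_map_conj_eq.1 h4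
  have h6 : MulAut.conj (n : G) • MulAut.conj g • U = MulAut.conj g • U :=
    mem_normalizer_iff_map_conj_eq.1 n.2
  rw [map_mul, mul_smul, h6] at h5
  exact h5.symm

theorem card_le {H : Subgroup G} (hH : H ≠ ⊤) : Nat.card H ≤ 24 := by
  have h1 := Nat.mul_le_mul_right (Nat.card H) (index_ge h hH)
  rw [H.index_mul_card, h] at h1
  omega

theorem normalizer_ne_top {U : Subgroup G} (h1 : 1 < Nat.card U) (h2 : Nat.card U < 168) :
    normalizer (U : Set G) ≠ ⊤ := fun hc => by
  rcases (normalizer_eq_top_iff.1 hc).eq_bot_or_eq_top with rfl | rfl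
  · simp at h1
  · simp [h] at h2

theorem card_cent_two {s : G} (hs : orderOf s = 2) : Nat.card (centralizer ({s} : Set G)) = 8 := by
  obtain ⟨a, -, -, h1, -, -, h2⟩ := classes h
  have h3 := ncard_isConj s
  rw [show {g | IsConj s g} = {g | IsConj (a ^ 2) g} from Set.ext fun g =>
    ⟨(h2.le hs).trans, (h2.le hs).symm.trans⟩, h1, h] at h3
  omega

theorem card_normalizer_klein {U : Subgroup G} (hU : IsKleinFour U) :
    Nat.card (normalizer (U : Set G)) = 24 := by
  obtain ⟨T, hT⟩ := (isPGroup_klein hU).exists_le_sylow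
  have h1 := le_normalizer_klein h hU hT
  have h2 := card_le h (normalizer_ne_top h (U := U) (by simp) (by simp))
  have h3 := card_subgroup_dvd_card (normalizer (U : Set G))
  have h4 := card_dvd_of_le h1
  rw [h] at h3
  rw [card_T h] at h4
  have h5 : Nat.card (normalizer (U : Set G)) ≠ 8 := fun hc => by
    obtain ⟨a, ha, h5, -⟩ := exists_four h T
    have h6 : U ≤ zpowers a := fun s hs => by
      rcases eq_or_ne s 1 with rfl | hs1
      · exact one_mem _
      have h6 := orderOf_eq_prime (p := 2) (by rw [sq, (isKleinFour_iff.1 hU).2 s hs]) hs1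
      obtain ⟨T', hT'⟩ := exists_sylow h (isPGroup_cent h (h6 ▸ dvd_rfl)) (card_cent_two h h6)
      have h7 := le_normalizer_klein h hU (T := T') fun u hu =>
        hT' ▸ mem_centralizer_singleton_iff.2 (comm_of_klein hU hu hs)
      rw [← eq_of_le_of_card_ge h1 (by rw [hc, card_T h])] at h7
      rw [sylow_eq_of_le h7] at hT'
      rw [← cent_four h h5, mem_centralizer_singleton_iff]
      exact (mem_centralizer_singleton_iff.1 (hT' ▸ ha)).symm
    have h7 := (isKleinFour_iff.1 hU).2 a (eq_of_le_of_card_ge h6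
      (by rw [Nat.card_zpowers, h5, hU.card_four]) ▸ mem_zpowers a)
    have := orderOf_dvd_of_pow_eq_one (sq a ▸ h7)
    rw [h5] at this
    omega
  obtain ⟨k, hk⟩ := h4
  have : 0 < Nat.card (normalizer (U : Set G)) := Nat.card_pos
  have : k = 1 ∨ k = 2 ∨ k = 3 := by omega
  rw [hk] at h3
  rcases this with rfl | rfl | rfl <;> omega

theorem equiv_S4 {M : Subgroup G} (hM : Nat.card M = 24) : Nonempty (M ≃* Equiv.Perm (Fin 4)) :=
  H16.equiv_S4 hM fun g hg => by
    rw [← orderOf_coe] at hg
    have := ord3 h (g := g) (by omega)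
    omega

theorem klein_of_normalized {K : Subgroup G} (hK : IsPGroup 2 K) (h0 : K ≠ ⊥) {y : G}
    (hy : orderOf y = 3) (hyK : y ∈ normalizer (K : Set G)) : IsKleinFour K := by
  have h1 := card_modEq_one_of_fpf hyK hy fun k hk => eq_one_of_commute h (PElt.of_mem hK hk) hy
  have h2 := card_dvd h hK
  have h3 := card_eq_one.not.2 h0
  have h4 : Nat.card K = 4 := by
    have := Nat.le_of_dvd (by norm_num) h2
    unfold Nat.ModEq at h1
    generalize Nat.card K = n at *
    interval_cases n <;> omega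
  refine isKleinFour_iff.2 ⟨h4, fun u hu => ?_⟩
  rcases eq_or_ne u 1 with rfl | hu1
  · simp
  rcases orderOf_dvd_four h (dvd_orderOf_of_pElt (PElt.of_mem hK hu) hu1) with h5 | h5
  · rw [← sq, ← h5, pow_orderOf_eq_one]
  rw [← eq_of_le_of_card_ge (zpowers_le.2 hu) (by rw [Nat.card_zpowers, h5, h4])] at hyK
  obtain ⟨k, hk⟩ := mem_normalizer_zpowers_iff.1 hyK
  refine eq_one_of_commute h ((PElt.of_mem hK hu).mul (PElt.of_mem hK hu) rfl) hy
    (mul_inv_eq_iff_eq_mul.1 ?_).symm
  have h6 : ¬ (2 : ℤ) ∣ k := by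
    rintro ⟨j, rfl⟩
    have h6 : orderOf (y * u * y⁻¹) ∣ 2 := orderOf_dvd_of_pow_eq_one (by
      rw [← hk, ← zpow_natCast, ← zpow_mul, ← orderOf_dvd_iff_zpow_eq_one, h5]
      exact ⟨j, by push_cast; ring⟩)
    rw [orderOf_conj, h5] at h6
    omega
  rw [← sq, ← conj_pow, ← hk, ← zpow_natCast, ← zpow_mul, ← zpow_natCast, zpow_eq_zpow_iff_modEq, h5]
  unfold Int.ModEq
  push_cast
  omega

theorem exists_klein_of_twelve {M : Subgroup G} (h12 : 12 ∣ Nat.card M) (hM : M ≠ ⊤) :
    ∃ U : Subgroup G, IsKleinFour U ∧ M ≤ normalizer (U : Set G) := by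
  have h1 := card_le h hM
  obtain ⟨S⟩ : Nonempty (Sylow 2 M) := inferInstance
  have h2 : (S : Subgroup M).index = 3 := by
    have h2 := (S : Subgroup M).index_mul_card
    have h3 : 0 < Nat.card M := Nat.card_pos
    rcases (show Nat.card M = 12 ∨ Nat.card M = 24 by omega) with h4 | h4
    · rw [card_sylow_of_mul (k := 2) (m := 3) h4 (by norm_num)] at h2
      omega
    · rw [card_sylow_of_mul (k := 3) (m := 3) h4 (by norm_num)] at h2
      omega
  obtain ⟨f, hf⟩ := exists_perm_hom_of_index (S : Subgroup M)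
  have h3 : (S : Subgroup M).normalCore ≠ ⊥ := fun hc => by
    have := h12.trans (card_dvd_of_injective f ((MonoidHom.ker_eq_bot_iff f).1 (hf.trans hc)))
    rw [Nat.card_perm, Nat.card_fin, h2] at this
    exact absurd this (by decide)
  have h4 : M ≤ normalizer (((S : Subgroup M).normalCore.map M.subtype : Subgroup G) : Set G) := by
    have := le_normalizer_map (H := (S : Subgroup M).normalCore) M.subtype
    rwa [normalizer_eq_top, ← MonoidHom.range_eq_map, range_subtype] at this
  obtain ⟨y, hy⟩ := exists_prime_orderOf_dvd_card' (G := M) 3 (by omega)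
  exact ⟨_, klein_of_normalized h ((S.2.to_le (normalCore_le _)).map _)
    (mt (map_eq_bot_iff_of_injective _ M.subtype_injective).1 h3) (orderOf_coe y ▸ hy) (h4 y.2), h4⟩

theorem isCoatom_normalizer {U : Subgroup G} (hU : IsKleinFour U) :
    IsCoatom (normalizer (U : Set G)) := by
  have h1 := card_normalizer_klein h hU
  refine ⟨fun hc => by simp [hc, h] at h1, fun M hM => ?_⟩
  by_contra hc
  exact hM.ne (eq_of_le_of_card_ge hM.le (h1 ▸ card_le h hc))

theorem coatom_cases {M : Subgroup G} (hM : IsCoatom M) :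
    (∃ U : Subgroup G, IsKleinFour U ∧ M = normalizer (U : Set G)) ∨
      ∃ P : Sylow 7 G, M = normalizer ((P : Subgroup G) : Set G) := by
  have h1 := card_le h hM.1
  have h2 := h ▸ card_subgroup_dvd_card M
  have hk : ∀ U : Subgroup G, IsKleinFour U → M ≤ normalizer (U : Set G) →
      ∃ U : Subgroup G, IsKleinFour U ∧ M = normalizer (U : Set G) := fun U hU hle =>
    ⟨U, hU, ((hM.le_iff.1 hle).resolve_left (isCoatom_normalizer h hU).1).symm⟩
  have hs : ∀ (p : ℕ) [Fact p.Prime] (x : G), D1 p x → p ∣ Nat.card M →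
      (∀ n, n ∣ Nat.card M → n % p = 1 → n = 1) →
      ∃ P : Sylow p G, M ≤ normalizer ((P : Subgroup G) : Set G) := fun p hp x hx hd hn => by
    obtain ⟨S⟩ : Nonempty (Sylow p M) := inferInstance
    have h3 := normal_of_card_sylow_eq_one (hn _ (S.card_dvd_index.trans (index_dvd_card _))
      (Eq.trans (card_sylow_modEq_one p M) (Nat.mod_eq_of_lt hp.out.one_lt))) S
    obtain ⟨P, hP⟩ := (S.2.map M.subtype).exists_le_sylow
    have h4 := le_normalizer_map (H := (S : Subgroup M)) M.subtype
    rw [normalizer_eq_top, ← MonoidHom.range_eq_map, range_subtype, eq_of_le_of_card_ge hP (by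
      rw [hx.card_sylow, card_map_of_injective M.subtype_injective]
      exact Nat.le_of_dvd Nat.card_pos (S.dvd_card_of_dvd_card hd))] at h4
    exact ⟨P, h4⟩
  by_cases h7 : 7 ∣ Nat.card M
  · obtain ⟨-, x, hx⟩ := seven h
    obtain ⟨P, hP⟩ := hs 7 x hx.d1 h7 fun n h3 h4 => by
      have := Nat.le_of_dvd Nat.card_pos h3
      have h5 := h3.trans h2
      have h6 : ¬ 56 ∣ Nat.card M := fun hc => by have := Nat.le_of_dvd Nat.card_pos hc; omega
      rcases (show n = 1 ∨ n = 8 ∨ n = 15 ∨ n = 22 by omega) with rfl | rfl | rfl | rfl <;> omega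
    exact Or.inr ⟨P, ((hM.le_iff.1 hP).resolve_left
      (normalizer_sylow_ne_top (nc h) (by rw [h]; norm_num) P)).symm⟩
  left
  by_cases h12 : 12 ∣ Nat.card M
  · obtain ⟨U, hU, hle⟩ := exists_klein_of_twelve h h12 hM.1
    exact hk U hU hle
  obtain ⟨T⟩ : Nonempty (Sylow 2 G) := inferInstance
  by_cases h3 : 3 ∣ Nat.card M
  · obtain ⟨hn, x, hx⟩ := three h
    obtain ⟨P, hP⟩ := hs 3 x hx.d1 h3 fun n h3 h4 => by
      have := Nat.le_of_dvd Nat.card_pos h3
      have h5 := h3.trans h2
      have h6 : n ≠ 4 := by rintro rfl; omega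
      have h7 : n ≠ 7 := by rintro rfl; omega
      have : n ≤ 24 := by omega
      interval_cases n <;> omega
    obtain ⟨A, -, -, ⟨-, hA⟩, -⟩ := two_klein h T
    obtain ⟨y, hy⟩ := exists_prime_orderOf_dvd_card' (G := normalizer (A : Set G)) 3
      (by rw [card_normalizer_klein h hA]; norm_num)
    rw [← orderOf_coe] at hy
    obtain ⟨Q, hQ⟩ := (hx.d1.of_orderOf hy).exists_sylow
    obtain ⟨g, rfl⟩ := MulAction.exists_smul_eq G Q P
    have hA' : IsKleinFour (MulAut.conj g • A : Subgroup G) := klein_map (MulAut.conj g).injective hA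
    refine hk _ hA' (hP.trans ?_)
    have h4 : ((g • Q : Sylow 3 G) : Subgroup G) ≤
        normalizer ((MulAut.conj g • A : Subgroup G) : Set G) := by
      rw [normalizer_smul, Sylow.coe_subgroup_smul, ← hQ]
      exact map_mono (zpowers_le.2 y.2)
    have h5 := card_normalizer_klein h hA'
    generalize normalizer ((MulAut.conj g • A : Subgroup G) : Set G) = N at h4 h5
    generalize g • Q = P at h4
    have h6 := card_sylow_mul_card_normalizer P
    have h8 := card_sylow_mul_card_normalizer (P.subtype h4)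
    have h9 := card_sylow_modEq_one 3 N
    have h10 : normalizer ((P.subtype h4 : Subgroup N) : Set N) =
        (normalizer ((P : Subgroup G) : Set G)).subgroupOf N := (subgroupOf_normalizer_eq h4).symm
    rw [h10, ← inf_subgroupOf_right, Nat.card_congr (subgroupOfEquivOfLe inf_le_right).toEquiv,
      h5] at h8
    rw [hn, h] at h6
    have h11 := card_le_of_le (inf_le_left : normalizer ((P : Subgroup G) : Set G) ⊓ N ≤ _)
    refine inf_eq_left.1 (eq_of_le_of_card_ge inf_le_left ?_)
    unfold Nat.ModEq at h9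
    generalize Nat.card ↥(normalizer ((P : Subgroup G) : Set G) ⊓ N) = k at *
    have : k ≤ 6 := by omega
    interval_cases k <;> omega
  · obtain ⟨S, hS⟩ := (IsPGroup.iff_card.2 ⟨_, Nat.eq_prime_pow_of_unique_prime_dvd (p := 2)
      (n := Nat.card M) Nat.card_pos.ne' fun {q} hq hd => by
        have h1 : q ∈ Nat.primeFactors 168 := Nat.mem_primeFactors.2 ⟨hq, hd.trans h2, by norm_num⟩
        rw [show Nat.primeFactors 168 = {2, 3, 7} by decide +kernel] at h1
        simp only [Finset.mem_insert, Finset.mem_singleton] at h1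
        rcases h1 with rfl | rfl | rfl <;> omega⟩).exists_le_sylow
    obtain ⟨A, -, -, ⟨h4, hA⟩, -⟩ := two_klein h S
    exact hk A hA (hS.trans (le_normalizer_klein h hA h4))

theorem card_normalizer_seven (P : Sylow 7 G) :
    Nat.card (normalizer ((P : Subgroup G) : Set G)) = 21 := by
  have := card_sylow_mul_card_normalizer P
  rw [(seven h).1, h] at this
  omega

theorem eq_of_normalizer_eq {U W : Subgroup G} (hU : IsKleinFour U) (hW : IsKleinFour W)
    (hn : normalizer (U : Set G) = normalizer (W : Set G)) : U = W := by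
  obtain ⟨y, hy⟩ := exists_prime_orderOf_dvd_card' (G := normalizer (U : Set G)) 3
    (by rw [card_normalizer_klein h hU]; norm_num)
  rw [← orderOf_coe] at hy
  have h1 : IsPGroup 2 (U ⊔ W : Subgroup G) :=
    (isPGroup_klein hW).to_sup_of_normal_left' (isPGroup_klein hU) (hn ▸ le_normalizer) |>.of_equiv
      (MulEquiv.subgroupCongr (sup_comm _ _))
  have h2 := klein_of_normalized h h1 (fun hc => by
    have := hU.card_four
    rw [eq_bot_iff.2 (le_sup_left.trans hc.le)] at this
    simp at this) hy (normalizer_inf_normalizer_le_normalizer_sup U W ⟨y.2, hn ▸ y.2⟩)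
  exact (eq_of_le_of_card_ge le_sup_left (by rw [h2.card_four, hU.card_four])).trans
    (eq_of_le_of_card_ge le_sup_right (by rw [h2.card_four, hW.card_four])).symm

end G168

end H18
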