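import Mathlib
import Cfsg.Agent.H9.JRCls
import Cfsg.Agent.H11.JS1

/-!
# The amalgam of the two maximal subgroups of the presented group `J₄`
-/

set_option autoImplicit false
set_option maxRecDepth 100000
set_option Elab.async false
set_option linter.all false

namespace H18.JP

open Cfsg H29 H9 H9.MX H9.DC H9.J4 H9.JL H9.R Subgroup H11.J4R

/-- The fourth letter. -/
noncomputable def t : G := eZ 3

theorem eZP {c : ℕ} (h : c < 4) : eZ c = P.e c := (eZ_lt (by omega)).trans (eX_lt h)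
theorem evP {w : List ℕ} (h : ∀ c ∈ w, c < 4) : ev eZ w = ev P.e w := ev_congr fun c hc => eZP (h c hc)
theorem t_sq : t * t = 1 := by rw [t, eZP (by norm_num)]; exact J4.tt
theorem t_inv : t⁻¹ = t := inv_eq_of_mul_eq_one_left t_sq
theorem tH : t ∈ H0 := t_mem
theorem ttl (g : G) : t * (t * g) = g := by rw [← mul_assoc, t_sq, one_mul]
theorem e28' : eZ 28 = s' := (eZ_lt (by norm_num)).trans e28
theorem memN {w : List ℕ} (h : ∀ c ∈ w, c ∈ [0, 1, 2]) : ev eZ w ∈ HH := by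
  rw [evP fun c hc => by have := h c hc; simp at this; omega]
  exact N_le_HH (word_mem h)
theorem evI (w : List ℕ) : ev eZ (invW (ivOf ivZ) w) = (ev eZ w)⁻¹ := ev_invW hivZ w

/-- The word centralises the central involution. -/
noncomputable def c0 (w : List ℕ) : Bool := Q.chkEq lZ [(w ++ [28], 28 :: w)]

theorem mem0 {w : List ℕ} (h : c0 w = true) : ev eZ w ∈ H0 := by
  have := hmZ.eqs Q_ok val_inj h _ List.mem_cons_self
  simp only [ev_append, ev_cons, ev_nil, mul_one, e28'] at this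
  exact mem_centralizer_singleton_iff.2 this

/-- The word conjugates the duad with code `d` into `V`. -/
noncomputable def c1 (w : List ℕ) (d m : ℕ) : Bool := Q.chkEq lZ [(mw taus d ++ w, w ++ mw taus m)]

theorem mem1 {w : List ℕ} {i j m : ℕ} (hi : i < 24) (hj : j < 24) (hij : i ≠ j)
    (h : c1 w (dc i j) m = true) : ev eZ w ∈ HH := by
  have := hmZ.eqs Q_ok val_inj h _ List.mem_cons_self
  simp only [ev_append] at this
  refine mem_HH_of_conj (fun h => hij (pt_inj hi hj h)) ?_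
  rw [δ_pt hi hj, mul_assoc, vv, this, inv_mul_cancel_left]
  exact vv_mem m

def T1 : List ℕ := [440, 440, 441, 441, 1738, 1738, 1739, 1739, 1719, 1719, 1718, 1718, 259, 259, 258, 258,
  1548, 1548, 1549, 1549, 1994, 1994, 1995, 1995]
def T2 : List ℕ := [1677, 1676, 1677, 1676, 442, 443, 442, 443, 252, 253, 252, 253, 1608, 1609, 1608, 1609,
  1589, 1588, 1589, 1588, 1551, 1550, 1551, 1550]

theorem cD : (allN 24 fun i =>
    and2 (c1 (3 :: (mw taus (dc i (Nat.xor i 1)) ++ [3])) (dc i (Nat.xor i 1)) (nth 0 T1 i))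
      (c1 (3 :: (mw taus (dc i (Nat.xor i 2)) ++ [3])) (dc i (Nat.xor i 2)) (nth 0 T2 i))) = true := by
  decide +kernel

theorem duads (p : GolayPt) : ∃ q r, p ≠ q ∧ p ≠ r ∧ q ≠ r ∧ t * δ p q * t ∈ HH ∧ t * δ p r * t ∈ HH := by
  obtain ⟨h1, h2, h3, h4, h5⟩ := (by decide : ∀ i < 24, Nat.xor i 1 < 24 ∧ Nat.xor i 2 < 24 ∧
    i ≠ Nat.xor i 1 ∧ i ≠ Nat.xor i 2 ∧ Nat.xor i 1 ≠ Nat.xor i 2) _ (ix_lt p)
  have h := and2_true.1 (allN_true.1 cD _ (ix_lt p))
  have k1 := mem1 (ix_lt p) h1 h3 h.1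
  have k2 := mem1 (ix_lt p) h2 h4 h.2
  simp only [ev_append, ev_cons, ev_nil, mul_one] at k1 k2
  refine ⟨pt (Nat.xor (ix p) 1), pt (Nat.xor (ix p) 2), fun h => h3 (by rw [← ix_pt h1, ← h]),
    fun h => h4 (by rw [← ix_pt h2, ← h]), fun h => h5 (pt_inj h1 h2 h), ?_, ?_⟩
  · rw [δ, ix_pt h1, mul_assoc]; exact k1
  · rw [δ, ix_pt h2, mul_assoc]; exact k2

/-- An element that centralises the part of `V` conjugated into `HH` by `t` lies in `V`. -/
theorem mem_V {c : G} (h : ∀ v ∈ V, t * v * t ∈ HH → c * v = v * c) : c ∈ V := by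
  obtain ⟨q, -, h1, -, -, h2, -⟩ := duads (pt 0)
  obtain ⟨v, hv, n, rfl⟩ := decomp (cent_δ h1 (mem_centralizer_singleton_iff.2 (h _ (δ_mem _ _) h2)))
  have key : ∀ p q, p ≠ q → t * δ p q * t ∈ HH → p = n.1 p ∨ q = n.1 p := fun p q h1 h2 => by
    have h3 := h _ (δ_mem _ _) h2
    rw [mul_assoc, ← mul_assoc (δ p q), ← hvn.comm _ hv _ (δ_mem p q), mul_assoc, mul_right_inj] at h3
    have h4 : δ p q = δ (n.1 p) (n.1 q) := by rw [← conj_δ, h3, mul_inv_cancel_right]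
    exact (δ_inj h1 h4).imp And.left And.right
  have : n = 1 := Subtype.ext (Equiv.ext fun p => by
    obtain ⟨q, r, h1, h2, h3, h4, h5⟩ := duads p
    rcases key p q h1 h4 with k | k
    · exact k.symm
    rcases key p r h2 h5 with k' | k'
    · exact k'.symm
    exact absurd (k.trans k'.symm) h3)
  rw [this, map_one, mul_one]; exact hv

variable {Γ : Type*} [Group Γ]

theorem gt {t h1 h2 k1 k2 k3 : Γ} (e1 : k1 * t = t * k1) (e2 : k2 * t = t * k2) (e3 : k3 * t = t * k3) :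
    t * (k1⁻¹ * h1 * k2) * t * (k2⁻¹ * h2 * k3) * t = k1⁻¹ * (t * h1 * t * h2 * t) * k3 := by
  calc _ = (t * k1⁻¹) * h1 * (k2 * t) * k2⁻¹ * h2 * (k3 * t) := by group
    _ = _ := by rw [← (Commute.inv_left e1).eq, e2, e3]; group

theorem gq {t H C D M1 M2 R : Γ} (e1 : t * t = 1) (e2 : t * C * t * D * t = H⁻¹)
    (e3 : t * (D * M1) * t * (M2 * H) * t = R) : t * M1 * t * M2 = H * t * (C * R) * (H * t)⁻¹ := by
  have e4 : H * t * C * t * D = t := by
    calc _ = H * (t * C * t * D * t) * t * (t * t)⁻¹ := by group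
      _ = t := by rw [e2, e1]; group
  calc _ = (H * t * C * t * D) * M1 * t * M2 := by rw [e4]
    _ = _ := by rw [← e3]; group

theorem gr {A t I M G : Γ} (e : M = G * A) :
    A * (t * (I * (t * (M * (t * (I * (t * G))))))) = 1 ↔ (t * I * t * M) ^ 2 = 1 := by
  rw [← conj_eq_one_iff (a := A) (b := _ ^ 2), e, sq]; group

/-- The two maps of the amalgam, as functions on the whole group. -/
structure Am (a b : G → Γ) : Prop where
  am : ∀ {g g'}, g ∈ H0 → g' ∈ H0 → a (g * g') = a g * a g'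
  bm : ∀ {g g'}, g ∈ HH → g' ∈ HH → b (g * g') = b g * b g'
  ab : ∀ {g}, g ∈ H0 → g ∈ HH → a g = b g
  inj : ∀ {g g'}, g ∈ H0 → g' ∈ H0 → a g = a g' → g = g'
  cen : ∀ γ, γ * a s' = a s' * γ → ∃ g ∈ H0, a g = γ

namespace Am

variable {a b : G → Γ} (h : Am a b)
include h

theorem b1 : b 1 = 1 := by
  have := h.bm (one_mem _) (one_mem _)
  rw [one_mul] at this
  exact left_eq_mul.1 this
theorem a1 : a 1 = 1 := (h.ab (one_mem _) (one_mem _)).trans h.b1
theorem bi {g : G} (hg : g ∈ HH) : b g⁻¹ = (b g)⁻¹ :=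
  eq_inv_of_mul_eq_one_left (by rw [← h.bm (inv_mem hg) hg, inv_mul_cancel, h.b1])
theorem TT : a t * a t = 1 := by rw [← h.am tH tH, t_sq, h.a1]
theorem TTl (γ : Γ) : a t * (a t * γ) = γ := by rw [← mul_assoc, h.TT, one_mul]
theorem bc {k g : G} (hk : k ∈ HH) (hg : g ∈ HH) : b (k * g * k⁻¹) = b k * b g * (b k)⁻¹ := by
  rw [h.bm (mul_mem hk hg) (inv_mem hk), h.bm hk hg, h.bi hk]

theorem key {k o v : G} (hk : k ∈ HH) (kt : k * t = t * k) (ho : o ∈ HH) (ot : o * t = t * o)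
    (o1 : o ∈ H0) (o2 : k * o * k⁻¹ ∈ H0) (hv : v ∈ V) (h3 : (t * (v * o)) ^ 3 = 1) :
    b k * a t = a t * b k := by
  have kt' : ∀ g, t * (k * g * k⁻¹) * t = k * (t * g * t) * k⁻¹ := fun g => by
    have : k⁻¹ * t = t * k⁻¹ := (Commute.inv_left kt).eq
    calc t * (k * g * k⁻¹) * t = (t * k) * g * (k⁻¹ * t) := by group
      _ = _ := by rw [← kt, this]; group
  obtain ⟨T', hT⟩ : ∃ T', T' = (b k)⁻¹ * a t * b k := ⟨_, rfl⟩
  have C : ∀ o ∈ HH, t * o * t ∈ HH → o ∈ H0 → k * o * k⁻¹ ∈ H0 → T' * a o * T' = a (t * o * t) := by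
    intro o ho h1 h2 h3
    have h4 : t * (k * o * k⁻¹) * t ∈ HH := kt' o ▸ mul_mem (mul_mem hk h1) (inv_mem hk)
    have h5 := h.ab (mul_mem (mul_mem tH h3) tH) h4
    rw [h.am (mul_mem tH h3) tH, h.am tH h3, kt', h.bc hk h1,
      h.ab h3 (mul_mem (mul_mem hk ho) (inv_mem hk)), h.bc hk ho] at h5
    rw [h.ab (mul_mem (mul_mem tH h2) tH) h1, h.ab h2 ho, hT]
    calc _ = (b k)⁻¹ * (a t * (b k * b o * (b k)⁻¹) * a t) * b k := by group
      _ = _ := by rw [h5]; group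
  have CV : ∀ v ∈ V, t * v * t ∈ HH → T' * a v * T' = a (t * v * t) := fun v hv h1 =>
    C v (V_le_HH hv) h1 (V_le_H0 hv) (V_le_H0 (conj_mem_V hk hv))
  have ts : t * s' * t = s' := by rw [mem_centralizer_singleton_iff.1 tH, mul_assoc, t_sq, mul_one]
  have T2 : T' * T' = 1 := by
    rw [hT]
    calc _ = (b k)⁻¹ * (a t * a t) * b k := by group
      _ = 1 := by rw [h.TT]; group
  obtain ⟨t0, h0, e0⟩ := h.cen T' (by
    have := CV s' hvn.sV (by rw [ts]; exact V_le_HH hvn.sV)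
    rw [ts] at this
    calc T' * a s' = T' * a s' * (T' * T') := by rw [T2, mul_one]
      _ = _ := by rw [← mul_assoc, this])
  have t2 : t0 * t0 = 1 := h.inj (mul_mem h0 h0) (one_mem _) (by rw [h.am h0 h0, e0, T2, h.a1])
  have D : ∀ o ∈ H0, T' * a o * T' = a (t * o * t) → t * t0 * o = o * (t * t0) := fun o ho h1 => by
    rw [← e0, ← h.am h0 ho, ← h.am (mul_mem h0 ho) h0] at h1
    have h2 := h.inj (mul_mem (mul_mem h0 ho) h0) (mul_mem (mul_mem tH ho) tH) h1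
    calc t * t0 * o = t * (t0 * o * t0) * t0 * (t0 * t0)⁻¹ := by group
      _ = o * (t * t0) := by rw [h2, t2, mul_assoc t o, ttl]; group
  have cV : t * t0 ∈ V := mem_V fun v hv h1 => D v (V_le_H0 hv) (CV v hv h1)
  have co := D o o1 (C o ho (by rw [← ot, mul_assoc, t_sq, mul_one]; exact ho) o1 o2)
  obtain ⟨c, hc⟩ : ∃ c, c = t * t0 := ⟨_, rfl⟩
  rw [← hc] at cV co
  have e1 : t0 = t * c := by rw [hc, ttl]
  have c2 := V_sq cV
  have ct : Commute c t := by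
    rw [e1] at t2
    calc c * t = t * (t * c * (t * c)) * (c * c)⁻¹ * c := by rw [mul_assoc t c, ttl]; group
      _ = t * c := by rw [t2, c2]; group
  have cB : Commute c (v * o) := Commute.mul_right (hvn.comm _ cV _ hv) co
  have B0 : v * o ∈ H0 := mul_mem (V_le_H0 hv) o1
  have B1 : v * o ∈ HH := mul_mem (V_le_HH hv) ho
  have B2 : k * (v * o) * k⁻¹ ∈ H0 := by
    have := mul_mem (V_le_H0 (conj_mem_V hk hv)) o2
    rwa [show k * v * k⁻¹ * (k * o * k⁻¹) = k * (v * o) * k⁻¹ by group] at this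
  generalize v * o = B at *
  have cube : ∀ g ∈ H0, a (g ^ 3) = a g ^ 3 := fun g hg => by
    rw [pow_three, pow_three, h.am hg (mul_mem hg hg), h.am hg hg]
  have f1 : (a t * (b k * b B * (b k)⁻¹)) ^ 3 = 1 := by
    rw [← h.bc hk B1, ← h.ab B2 (mul_mem (mul_mem hk B1) (inv_mem hk)), ← h.am tH B2,
      ← cube _ (mul_mem tH B2), show t * (k * B * k⁻¹) = k * (t * B) * k⁻¹ by
        rw [← mul_assoc, ← mul_assoc, ← kt]; group, conj_pow, h3, mul_one, mul_inv_cancel, h.a1]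
  have f2 : (t0 * B) ^ 3 = 1 := h.inj (pow_mem (mul_mem h0 B0) 3) (one_mem _) (by
    rw [cube _ (mul_mem h0 B0), h.am h0 B0, e0, hT, h.ab B0 B1, h.a1,
      show (b k)⁻¹ * a t * b k * b B = (b k)⁻¹ * (a t * (b k * b B * (b k)⁻¹)) * (b k)⁻¹⁻¹ by group,
      conj_pow, f1, mul_one, mul_inv_cancel])
  rw [e1, ← ct.eq, mul_assoc, (ct.mul_right cB).mul_pow, h3, mul_one, pow_three, c2, mul_one] at f2
  rw [e1, f2, mul_one, hT] at e0
  calc b k * a t = b k * ((b k)⁻¹ * a t * b k) := by rw [← e0]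
    _ = _ := by group

end Am

/-- The elements that commute with `t` in both groups. -/
def W (a b : G → Γ) (k : G) : Prop := k ∈ HH ∧ k * t = t * k ∧ b k * a t = a t * b k

/-- The words for the generators of the trio group. -/
noncomputable def KL : List (List ℕ) := [[0], uw, invW (ivOf ivZ) uw]
/-- Words in the generators of the trio group. -/
noncomputable def kw (l : List ℕ) : List ℕ := l.flatMap (nth [] KL)
/-- An element of the trio group centralising the common involutions. -/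
noncomputable def ow : List ℕ := kw [0, 1, 1, 0, 1, 1, 0, 1, 1]

theorem cK : Q.chkEq lZ [([0, 3], [3, 0]), (uw ++ [3], 3 :: uw), (ow ++ [3], 3 :: ow),
    (powW 3 (3 :: (mw taus 6 ++ ow)), [])] = true := by decide +kernel

namespace Am

variable {a b : G → Γ} (h : Am a b)
include h

theorem W1 : W a b 1 := ⟨one_mem _, by simp, by simp [h.b1]⟩
theorem Wm {k k' : G} (h1 : W a b k) (h2 : W a b k') : W a b (k * k') :=
  ⟨mul_mem h1.1 h2.1, Commute.mul_left h1.2.1 h2.2.1, by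
    rw [h.bm h1.1 h2.1]; exact Commute.mul_left h1.2.2 h2.2.2⟩
theorem Wi {k : G} (h1 : W a b k) : W a b k⁻¹ :=
  ⟨inv_mem h1.1, Commute.inv_left h1.2.1, by rw [h.bi h1.1]; exact Commute.inv_left h1.2.2⟩

theorem Wxu : W a b (ev eZ [0]) ∧ W a b (ev eZ uw) := by
  have k := hmZ.eqs Q_ok val_inj cK
  simp only [List.forall_mem_cons, ev_append, ev_powW, ev_cons, ev_nil, mul_one] at k
  obtain ⟨k1, k2, k3, k4, -⟩ := k
  have ho : ev eZ ow ∈ HH := memN (by decide +kernel)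
  have o1 : ev eZ ow ∈ H0 := mem0 (by decide +kernel)
  have key : ∀ w, (∀ c ∈ w, c ∈ [0, 1, 2]) → ev eZ w * t = t * ev eZ w →
      c0 (w ++ (ow ++ invW (ivOf ivZ) w)) = true → W a b (ev eZ w) := fun w h1 h2 h3 =>
    ⟨memN h1, h2, h.key (memN h1) h2 ho k3 o1 (by simpa only [ev_append, evI, mul_assoc] using mem0 h3)
      (vv_mem 6) k4⟩
  exact ⟨key _ (by decide) (by simpa [t] using k1) (by decide +kernel), key _ (by decide) k2 (by decide +kernel)⟩

theorem Wkw : ∀ l, W a b (ev eZ (kw l))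
  | [] => h.W1
  | c :: l => by
    rw [kw, List.flatMap_cons, ev_append]
    refine h.Wm (nth_forall (d := []) (p := fun w => W a b (ev eZ w)) h.W1 ?_ c) (Wkw l)
    simp only [KL, List.forall_mem_cons]
    exact ⟨h.Wxu.1, h.Wxu.2, evI _ ▸ h.Wi h.Wxu.2, by simp⟩

/-- Triangles. -/
theorem tri {h1 h2 k1 k2 k3 : G} (H1 : h1 ∈ HH) (H2 : h2 ∈ HH) (H3 : t * h1 * t * h2 * t ∈ HH)
    (K1 : W a b k1) (K2 : W a b k2) (K3 : W a b k3) (c1 : k1⁻¹ * h1 * k2 ∈ H0)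
    (c2 : k2⁻¹ * h2 * k3 ∈ H0) : a t * b h1 * a t * b h2 * a t = b (t * h1 * t * h2 * t) := by
  have m : ∀ {k k' g : G}, W a b k → W a b k' → g ∈ HH →
      k⁻¹ * g * k' ∈ HH ∧ b (k⁻¹ * g * k') = (b k)⁻¹ * b g * b k' := fun K K' hg =>
    ⟨mul_mem (mul_mem (inv_mem K.1) hg) K'.1, by
      rw [h.bm (mul_mem (inv_mem K.1) hg) K'.1, h.bm (inv_mem K.1) hg, h.bi K.1]⟩
  have e' := gt (h1 := h1) (h2 := h2) K1.2.1 K2.2.1 K3.2.1
  have k := h.ab (mul_mem (mul_mem (mul_mem (mul_mem tH c1) tH) c2) tH) (e' ▸ (m K1 K3 H3).1)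
  rw [h.am (mul_mem (mul_mem (mul_mem tH c1) tH) c2) tH, h.am (mul_mem (mul_mem tH c1) tH) c2,
    h.am (mul_mem tH c1) tH, h.am tH c1, h.ab c1 (m K1 K2 H1).1, h.ab c2 (m K2 K3 H2).1, e',
    (m K1 K2 H1).2, (m K2 K3 H2).2, (m K1 K3 H3).2, gt K1.2.2 K2.2.2 K3.2.2] at k
  exact mul_left_cancel (mul_right_cancel k)

end Am

/-- The conditions on a triangle. -/
noncomputable def cT (w1 w2 l1 l2 l3 : List ℕ) : Bool :=
  and2 (c0 (invW (ivOf ivZ) (kw l1) ++ (w1 ++ kw l2))) (c0 (invW (ivOf ivZ) (kw l2) ++ (w2 ++ kw l3)))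

theorem Am.triW {a b : G → Γ} (h : Am a b) {w1 w2 : List ℕ} (l1 l2 l3 : List ℕ) (H1 : ev eZ w1 ∈ HH)
    (H2 : ev eZ w2 ∈ HH) (H3 : t * ev eZ w1 * t * ev eZ w2 * t ∈ HH) (hc : cT w1 w2 l1 l2 l3 = true) :
    a t * b (ev eZ w1) * a t * b (ev eZ w2) * a t = b (t * ev eZ w1 * t * ev eZ w2 * t) := by
  obtain ⟨h1, h2⟩ := and2_true.1 hc
  exact h.tri H1 H2 H3 (h.Wkw l1) (h.Wkw l2) (h.Wkw l3)
    (by simpa only [ev_append, evI, mul_assoc] using mem0 h1)
    (by simpa only [ev_append, evI, mul_assoc] using mem0 h2)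

def gA : List ℕ := [1, 0, 1, 0, 2, 0, 1, 0, 2]
def gC : List ℕ := [1, 0, 2, 0, 1, 0, 2, 0]
def sA : List ℕ := [1, 0, 1, 0, 2, 0, 2, 0, 2, 0, 2]
def sC : List ℕ := [1, 0, 1, 0, 1, 0, 1, 0, 2, 0]
def qA : List ℕ := [1, 0, 1, 0, 1, 0, 1, 1, 0, 1, 0, 1, 0, 1, 1, 0, 1, 0, 1, 0, 1]
def qG : List ℕ := [0, 1, 0, 1, 0, 1, 1, 0, 1, 0, 1, 0, 1, 0, 1, 0, 1, 0, 1, 1]
def qI : List ℕ := [2, 2, 0, 2, 0, 2, 0, 2, 0, 2, 0, 2, 0, 2, 2, 0, 2, 0, 2, 0]
def qH : List ℕ := [0, 2, 0, 2, 0, 2, 0, 2, 0, 1, 0, 2, 0, 2]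
def qC : List ℕ := [1, 0, 2, 0, 2, 0, 2, 0, 1, 0, 1, 0, 2, 0, 2, 0, 1, 0, 1, 0, 1, 0, 2]
/-- The third side of the first triangle. -/
noncomputable def qD : List ℕ := 3 :: (invW (ivOf ivZ) qC ++ 3 :: (invW (ivOf ivZ) (34 :: qH) ++ [3]))

namespace Am

variable {a b : G → Γ} (h : Am a b)
include h

/-- The quadrilateral. -/
theorem quad (hG : (t * ev eZ qI * t * ev eZ (qG ++ qA)) ^ 2 = 1) :
    (a t * b (ev eZ qI) * a t * b (ev eZ (qG ++ qA))) ^ 2 = 1 := by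
  have hH : ev eZ (34 :: qH) ∈ HH := mul_mem (V_le_HH (by
    rw [eZ_lt (by norm_num)]; exact mem_gen (by decide))) (memN (w := qH) (by decide))
  have hC : ev eZ qC ∈ HH := memN (by decide)
  have h1 : ev eZ qI ∈ HH := memN (by decide)
  have h2 : ev eZ (qG ++ qA) ∈ HH := memN (by decide)
  have hD : ev eZ qD ∈ HH := mem1 (i := 0) (j := 1) (m := 116) (by norm_num) (by norm_num) (by norm_num)
    (by decide +kernel)
  have eD : t * ev eZ qC * t * ev eZ qD * t = (ev eZ (34 :: qH))⁻¹ := by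
    simp only [qD, ev_append, evI, ev_cons eZ 3, ev_nil, mul_one, ← t.eq_1, mul_assoc, ttl,
      mul_inv_cancel_left, t_sq]
  have hR : t * ev eZ (qD ++ qI) * t * ev eZ ((qG ++ qA) ++ 34 :: qH) * t ∈ HH := by
    have := mem1 (w := 3 :: ((qD ++ qI) ++ 3 :: (((qG ++ qA) ++ 34 :: qH) ++ [3]))) (i := 0) (j := 1)
      (m := 1550) (by norm_num) (by norm_num) (by norm_num) (by decide +kernel)
    simpa only [mul_assoc, ev_cons, ev_append, ev_nil, mul_one, t] using this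
  have k1 := h.triW [1, 0] [1, 0] [0, 1, 0] hC hD (eD ▸ inv_mem hH) (by decide +kernel)
  have k2 := h.triW [1, 1, 0] [1, 1, 0] [1, 1, 0] (w1 := qD ++ qI) (w2 := (qG ++ qA) ++ 34 :: qH)
    (by rw [ev_append]; exact mul_mem hD h1) (by rw [ev_append]; exact mul_mem h2 hH) hR (by decide +kernel)
  rw [eD, h.bi hH] at k1
  rw [ev_append eZ qD, ev_append eZ (qG ++ qA)] at k2 hR
  generalize ev eZ (34 :: qH) = H at *
  generalize ev eZ qC = C at *
  generalize ev eZ qD = D at *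
  generalize ev eZ qI = M1 at *
  generalize ev eZ (qG ++ qA) = M2 at *
  rw [h.bm hD h1, h.bm h2 hH] at k2
  rw [gq t_sq eD rfl, conj_pow, conj_eq_one_iff] at hG
  rw [gq h.TT k1 k2, conj_pow, ← h.bm hC hR, sq, ← h.bm (mul_mem hC hR) (mul_mem hC hR), ← sq, hG, h.b1,
    mul_one, mul_inv_cancel]

end Am

open Classical in
/-- The images of the letters. -/
noncomputable def σ (a b : G → Γ) (c : ℕ) : Γ := if c = 3 then a t else b (P.e c)

namespace Am

variable {a b : G → Γ} (h : Am a b)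
include h

theorem evσ : ∀ {w : List ℕ}, (∀ c ∈ w, c ∈ [0, 1, 2]) → ev (σ a b) w = b (ev eZ w)
  | [], _ => h.b1.symm
  | c :: w, hw => by
    have h1 : c ∈ [0, 1, 2] := hw c (by simp)
    have h2 : ∀ c ∈ w, c ∈ [0, 1, 2] := fun c hc => hw c (by simp [hc])
    have h3 : eZ c ∈ HH := by simpa using memN (w := [c]) (by simpa using h1)
    rw [ev_cons, ev_cons, evσ h2, h.bm h3 (memN h2), σ, if_neg (by revert h1; rintro h1 rfl; simp at h1),
      eZP (by simp at h1; omega)]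

theorem σ3 : σ a b 3 = a t := if_pos rfl

theorem tri3 {A B C : List ℕ} (l : List ℕ) (hA : ∀ c ∈ A, c ∈ [0, 1, 2]) (hB : ∀ c ∈ B, c ∈ [0, 1, 2])
    (hC : ∀ c ∈ C, c ∈ [0, 1, 2]) (hm : ev eZ (A ++ 3 :: (B ++ 3 :: (B ++ 3 :: C))) ∈ HH)
    (hc : cT B B l l l = true) : ev (σ a b) (A ++ 3 :: (B ++ 3 :: (B ++ 3 :: C))) =
      b (ev eZ (A ++ 3 :: (B ++ 3 :: (B ++ 3 :: C)))) := by
  have e : ev eZ (A ++ 3 :: (B ++ 3 :: (B ++ 3 :: C))) =
      ev eZ A * (t * ev eZ B * t * ev eZ B * t) * ev eZ C := by simp only [ev_append, ev_cons, mul_assoc, t]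
  rw [e] at hm ⊢
  have h1 := (mul_mem_cancel_left (memN hA)).1 ((mul_mem_cancel_right (memN hC)).1 hm)
  rw [h.bm (mul_mem (memN hA) h1) (memN hC), h.bm (memN hA) h1, ← h.triW l l l (memN hB) (memN hB) h1 hc]
  simp only [ev_append, ev_cons, mul_assoc, h.σ3, h.evσ hA, h.evσ hB, h.evσ hC]

theorem hiv : IvOK (σ a b) (ivOf [0, 2, 1, 3]) := fun c => by
  by_cases h3 : c = 3
  · subst h3
    exact h.σ3.trans (h.σ3 ▸ eq_inv_of_mul_eq_one_left h.TT)
  have h4 : ivOf [0, 2, 1, 3] c ≠ 3 := by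
    match c, h3 with
    | 0, _ => decide
    | 1, _ => decide
    | 2, _ => decide
    | c + 4, _ => exact (by omega : c + 4 ≠ 3)
  rw [σ, σ, if_neg h3, if_neg h4, hiv0, h.bi]
  by_cases h5 : c < 4
  · simpa [eZP h5] using memN (w := [c]) (by simp; omega)
  · rw [PData.e_eq_one (not_lt.1 h5)]; exact one_mem _

theorem rels : ∀ r ∈ P.relL, ev (σ a b) r = 1 := fun r hr => by
  have h0 := hR r hr
  have comm : ∀ w, (∀ c ∈ w, c ∈ [0, 1, 2]) → W a b (ev eZ w) →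
      ev (σ a b) (3 :: (invW (ivOf [0, 2, 1, 3]) w ++ 3 :: w)) = 1 := fun w h1 h2 => by
    rw [ev_cons, ev_append, ev_invW h.hiv, ev_cons, h.evσ h1, h.σ3, ← h2.2.2, inv_mul_cancel_left, h.TT]
  rcases (by decide +kernel : ∀ r ∈ P.relL, (∀ c ∈ r, c ∈ [0, 1, 2]) ∨ r = [3, 3] ∨
    r = 3 :: (invW (ivOf [0, 2, 1, 3]) [0] ++ 3 :: [0]) ∨ r = 3 :: (invW (ivOf [0, 2, 1, 3]) uw ++ 3 :: uw) ∨
    r = gA ++ 3 :: ((gC ++ gA) ++ 3 :: ((gC ++ gA) ++ 3 :: gC)) ∨
    r = qA ++ 3 :: (qI ++ 3 :: ((qG ++ qA) ++ 3 :: (qI ++ 3 :: qG)))) r hr with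
      h1 | rfl | rfl | rfl | rfl | rfl
  · rw [h.evσ h1, evP fun c hc => by have := h1 c hc; simp at this; omega, h0, h.b1]
  · simp [h.σ3, h.TT]
  · exact comm _ (by decide) h.Wxu.1
  · exact comm _ (by decide) h.Wxu.2
  · rw [← evP (by decide)] at h0
    rw [h.tri3 [0, 1, 0] (by decide) (by decide) (by decide) (h0 ▸ one_mem _) (by decide +kernel), h0, h.b1]
  · rw [← evP (by decide)] at h0
    have hA : ∀ c ∈ qA, c ∈ [0, 1, 2] := by decide
    have hG : ∀ c ∈ qG, c ∈ [0, 1, 2] := by decide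
    have hI : ∀ c ∈ qI, c ∈ [0, 1, 2] := by decide
    have hM : ∀ c ∈ qG ++ qA, c ∈ [0, 1, 2] := by decide
    have hE := ev_append eZ qG qA
    generalize hm : qG ++ qA = M at *
    simp only [ev_append, ev_cons] at h0 ⊢
    rw [h.σ3, h.evσ hA, h.evσ hG, h.evσ hI, h.evσ hM, gr (by rw [hE, h.bm (memN hG) (memN hA)])]
    subst hm
    exact h.quad ((gr hE).1 h0)

theorem exists_Phi : ∃ Φ : G →* Γ, ∀ g ∈ HH, Φ g = b g := by
  obtain ⟨Φ, hΦ⟩ := PData.exists_hom coh hg h.hiv h.rels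
  have key : ∀ w : List ℕ, (∀ c ∈ w, c < 4) → Φ (ev P.e w) = ev (σ a b) w := fun w hw => by
    rw [map_ev]; exact ev_congr fun c hc => hΦ c (hw c hc)
  let K : Subgroup G :=
    { carrier := {g | g ∈ HH ∧ Φ g = b g}
      one_mem' := ⟨one_mem _, by rw [map_one, h.b1]⟩
      mul_mem' := fun h1 h2 => ⟨mul_mem h1.1 h2.1, by rw [map_mul, h1.2, h2.2, h.bm h1.1 h2.1]⟩
      inv_mem' := fun h1 => ⟨inv_mem h1.1, by rw [map_inv, h1.2, h.bi h1.1]⟩ }
  have k1 : ∀ w : List ℕ, (∀ c ∈ w, c ∈ [0, 1, 2]) → ev P.e w ∈ K := fun w hw => by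
    have h1 : ∀ c ∈ w, c < 4 := fun c hc => by have := hw c hc; simp at this; omega
    exact ⟨evP h1 ▸ memN hw, by rw [key w h1, h.evσ hw, evP h1]⟩
  have k2 : ev P.e sw ∈ K := ⟨s_mem, by
    have h1 : ∀ c ∈ sw, c < 4 := by decide
    have h2 := s_mem
    rw [key _ h1, ← evP h1] at *
    exact h.tri3 (A := sA) (B := sC ++ sA) (C := sC) [2, 0] (by decide) (by decide) (by decide) h2
      (by decide +kernel)⟩
  have : HH ≤ K := gen_le.2 (by
    simp only [List.forall_mem_cons]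
    exact ⟨k1 [0] (by decide), k1 [1] (by decide), k2, by simp⟩)
  exact ⟨Φ, fun g hg => (this hg).2⟩

end Am

open Classical in
/-- Extension by the identity. -/
noncomputable def ext {K : Subgroup G} (f : K →* Γ) (g : G) : Γ := if h : g ∈ K then f ⟨g, h⟩ else 1

theorem ext_of {K : Subgroup G} (f : K →* Γ) {g : G} (h : g ∈ K) : ext f g = f ⟨g, h⟩ := dif_pos h

theorem ext_mul {K : Subgroup G} (f : K →* Γ) {g g' : G} (h : g ∈ K) (h' : g' ∈ K) :
    ext f (g * g') = ext f g * ext f g' := by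
  rw [ext_of f h, ext_of f h', ext_of f (mul_mem h h'), ← map_mul]; rfl

theorem exists_Phi' (α : H0 →* Γ) (β : HH →* Γ) (hα : Function.Injective α)
    (hαβ : ∀ g (h1 : g ∈ H0) (h2 : g ∈ HH), α ⟨g, h1⟩ = β ⟨g, h2⟩)
    (hC : centralizer {α ⟨s', s'_mem⟩} ≤ α.range) : ∃ Φ : G →* Γ, ∀ h : HH, Φ h = β h := by
  have h : Am (ext α) (ext β) :=
    { am := ext_mul α
      bm := ext_mul β
      ab := fun h1 h2 => by rw [ext_of α h1, ext_of β h2, hαβ]
      inj := fun h1 h2 h3 => by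
        rw [ext_of α h1, ext_of α h2] at h3
        exact congrArg Subtype.val (hα h3)
      cen := fun γ h1 => by
        rw [ext_of α s'_mem] at h1
        obtain ⟨g, hg⟩ := hC (mem_centralizer_singleton_iff.2 h1)
        exact ⟨g, g.2, (ext_of α g.2).trans hg⟩ }
  obtain ⟨Φ, hΦ⟩ := h.exists_Phi
  exact ⟨Φ, fun g => (hΦ g g.2).trans (ext_of β g.2)⟩

end H18.JP
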