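import Mathlib
import Cfsg.Agent.H18.JS1

/-! Normal form of `3 · M₂₂ ≤ GL₁₂(2)`, part one: the elements of order 11, 5 and 3. -/

set_option autoImplicit false
set_option maxRecDepth 100000
set_option linter.all false

namespace H18.JS

open H29 H9.GF2 H9.R
open Matrix hiding vec
open H9 (treeAll treeAll_iff anyLt anyLt_iff lin lin_induction)

theorem maps_va {K : Mx} {bs im : List ℕ} (h : Maps K bs im) (m : ℕ) :
    vec (va m (pk bs)) ᵥ* K = vec (va m (pk im)) := by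
  rw [vec_va, vec_va, vecMul_vecMul, h.pk]

theorem maps_app {K : Mx} {a b c d : List ℕ} (h : Maps K a b) (h' : Maps K c d) :
    Maps K (app a c) (app b d) := by
  rw [app_eq, app_eq]; exact List.rel_append h h'

theorem maps_orb {R : Mx} {A B : ℕ} (h : mat A * R = R * mat B) : ∀ (k : ℕ) {x a : ℕ},
    vec x ᵥ* R = vec a → Maps R (orb A k x) (orb B k a)
  | 0, _, _, _ => List.Forall₂.nil
  | k + 1, x, a, hx => by
    rw [orb_succ, orb_succ]
    exact List.Forall₂.cons hx (maps_orb h k (by rw [vec_va, vec_va, vecMul_vecMul, h, ← hx,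
      vecMul_vecMul]))

theorem orb_ind {p : ℕ → Prop} {A : ℕ} (h : ∀ y, p y → p (va y A)) : ∀ (k : ℕ) {x : ℕ}, p x →
    ∀ y ∈ orb A k x, p y
  | 0, _, _, _, hy => absurd hy List.not_mem_nil
  | k + 1, x, hx, y, hy => by
    rw [orb_succ, List.mem_cons] at hy
    rcases hy with rfl | hy
    exacts [hx, orb_ind h k (h x hx) y hy]

theorem eq_bld {R : Mx} {B a b c : ℕ} (h : mat G0 * R = R * mat B) (ha : vec 1 ᵥ* R = vec a)
    (hb : vec 1024 ᵥ* R = vec b) (hc : vec 2048 ᵥ* R = vec c) : R = mat (bld B a b c) := by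
  have := (maps_app (maps_orb h 10 ha) (List.Forall₂.cons hb (List.Forall₂.cons hc .nil))).eq
    (B := one) (by decide +kernel)
  rwa [mat_mu, mat_one, one_mul] at this

theorem eq_bld' {R : Mx} {B : ℕ} (h : mat G0 * R = R * mat B) :
    R = mat (bld B (cd (vec 1 ᵥ* R)) (cd (vec 1024 ᵥ* R)) (cd (vec 2048 ᵥ* R))) :=
  eq_bld h (vec_cd _).symm (vec_cd _).symm (vec_cd _).symm

theorem va_cd {x y : V} {A : ℕ} (h : x ᵥ* mat A = y) : Nat.beq (va (cd x) A) (cd y) = true := by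
  rw [H29.beq_true, ← cd_vecMul, h]

theorem mem_C0 {A : ℕ} (hA : A ∈ [G0, G10]) {x : V} (h : x ᵥ* mat A = x) : cd x ∈ C0 :=
  memL_true.1 (imp_true.1 (all12 (allL_true.1 chk_fixG A hA) x) (va_cd h))

theorem mem_FixF {x : V} (h : x ᵥ* mat F2 = x) : cd x ∈ FixF :=
  memL_true.1 (imp_true.1 (all12 chk_fixF x) (va_cd h))

theorem eq_of_eqM {X Y : ℕ} (h : eqM X Y = true) : mat X = mat Y := eqM_iff.1 h

theorem F2_eq : mat F2 = mat F0 ^ 2 := by
  rw [← mat_pw]; exact eq_of_eqM (by decide +kernel)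

theorem chk_Ph' : treeAll (fun x => seqN (lin (orb G0 11 x) 2047) fun y => and2 (memL y C0)
    (imp (Nat.beq y 0) (Nat.ble x 1023))) 12 0 = true := by decide +kernel

theorem row_pk (l : List ℕ) (i : Fin P12.n) : vec (2 ^ (i : ℕ)) ᵥ* mat (pk l) = vec (nth 0 l i) := by
  rw [vec_two_pow, single_vecMul, one_smul]; exact mat_pk l i

theorem ext_rows {A B : Mx} (h : ∀ i : Fin 12, vec (2 ^ (i : ℕ)) ᵥ* A = vec (2 ^ (i : ℕ)) ᵥ* B) :
    A = B := by
  ext i j
  have := congrFun (h i) j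
  rw [vec_two_pow (i : Fin P12.n)] at this
  simpa using this

/-- the base change -/
theorem base {G : Mx} {v u u' : V} (hv : v ≠ 0) (hΦ : ∑ i ∈ Finset.range 11, v ᵥ* G ^ i = 0)
    (hu : u ᵥ* G = u) (hu' : u' ᵥ* G = u') (h1 : u ≠ 0) (h2 : u' ≠ 0) (h3 : u ≠ u') :
    ∃ P Pi : Mx, P * Pi = 1 ∧ P * G * Pi = mat G0 ∧ vec 1 ᵥ* P = v ∧ vec 1024 ᵥ* P = u ∧
      vec 2048 ᵥ* P = u' := by
  obtain ⟨w, hw⟩ : ∃ w : ℕ → V, w = fun i => v ᵥ* G ^ i := ⟨_, rfl⟩
  have hs : ∀ i, w i ᵥ* G = w (i + 1) := fun i => by simp only [hw, vecMul_vecMul, pow_succ]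
  obtain ⟨P, hP⟩ : ∃ P, P = mat (pk [cd (w 0), cd (w 1), cd (w 2), cd (w 3), cd (w 4), cd (w 5),
    cd (w 6), cd (w 7), cd (w 8), cd (w 9), cd u, cd u']) := ⟨_, rfl⟩
  have r : ∀ i : Fin 12, vec (2 ^ (i : ℕ)) ᵥ* P = vec (nth 0 [cd (w 0), cd (w 1), cd (w 2), cd (w 3),
    cd (w 4), cd (w 5), cd (w 6), cd (w 7), cd (w 8), cd (w 9), cd u, cd u'] i) := fun i =>
    hP ▸ row_pk _ i
  have r0 : vec 1 ᵥ* P = w 0 := (r 0).trans (vec_cd _)
  have r1 : vec 2 ᵥ* P = w 1 := (r 1).trans (vec_cd _)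
  have r2 : vec 4 ᵥ* P = w 2 := (r 2).trans (vec_cd _)
  have r3 : vec 8 ᵥ* P = w 3 := (r 3).trans (vec_cd _)
  have r4 : vec 16 ᵥ* P = w 4 := (r 4).trans (vec_cd _)
  have r5 : vec 32 ᵥ* P = w 5 := (r 5).trans (vec_cd _)
  have r6 : vec 64 ᵥ* P = w 6 := (r 6).trans (vec_cd _)
  have r7 : vec 128 ᵥ* P = w 7 := (r 7).trans (vec_cd _)
  have r8 : vec 256 ᵥ* P = w 8 := (r 8).trans (vec_cd _)
  have r9 : vec 512 ᵥ* P = w 9 := (r 9).trans (vec_cd _)
  have r10 : vec 1024 ᵥ* P = u := (r 10).trans (vec_cd _)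
  have r11 : vec 2048 ᵥ* P = u' := (r 11).trans (vec_cd _)
  have rs : vec 1023 ᵥ* P = w 10 := by
    rw [show (1023 : ℕ) = 1 ^^^ 2 ^^^ 4 ^^^ 8 ^^^ 16 ^^^ 32 ^^^ 64 ^^^ 128 ^^^ 256 ^^^ 512 from rfl]
    simp only [vec_xor', add_vecMul, r0, r1, r2, r3, r4, r5, r6, r7, r8, r9]
    simpa only [hw, Finset.sum_range_succ, Finset.sum_range_zero, zero_add, H9.R.add_eq_zero'] using hΦ
  have k : ∀ a b : ℕ, va a G0 = b → vec a ᵥ* (mat G0 * P) = vec b ᵥ* P := fun a b h => by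
    rw [← vecMul_vecMul, ← vec_va, h]
  have hc : mat G0 * P = P * G := by
    refine ext_rows fun i => ?_
    rw [← vecMul_vecMul _ P]
    fin_cases i
    · exact (k 1 2 (by decide +kernel)).trans (r1.trans ((hs 0).symm.trans (r0 ▸ rfl)))
    · exact (k 2 4 (by decide +kernel)).trans (r2.trans ((hs 1).symm.trans (r1 ▸ rfl)))
    · exact (k 4 8 (by decide +kernel)).trans (r3.trans ((hs 2).symm.trans (r2 ▸ rfl)))
    · exact (k 8 16 (by decide +kernel)).trans (r4.trans ((hs 3).symm.trans (r3 ▸ rfl)))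
    · exact (k 16 32 (by decide +kernel)).trans (r5.trans ((hs 4).symm.trans (r4 ▸ rfl)))
    · exact (k 32 64 (by decide +kernel)).trans (r6.trans ((hs 5).symm.trans (r5 ▸ rfl)))
    · exact (k 64 128 (by decide +kernel)).trans (r7.trans ((hs 6).symm.trans (r6 ▸ rfl)))
    · exact (k 128 256 (by decide +kernel)).trans (r8.trans ((hs 7).symm.trans (r7 ▸ rfl)))
    · exact (k 256 512 (by decide +kernel)).trans (r9.trans ((hs 8).symm.trans (r8 ▸ rfl)))
    · exact (k 512 1023 (by decide +kernel)).trans (rs.trans ((hs 9).symm.trans (r9 ▸ rfl)))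
    · exact (k 1024 1024 (by decide +kernel)).trans (r10.trans (hu.symm.trans (r10 ▸ rfl)))
    · exact (k 2048 2048 (by decide +kernel)).trans (r11.trans (hu'.symm.trans (r11 ▸ rfl)))
  have hk : ∀ x : V, x ᵥ* P = 0 → x = 0 := by
    intro x hx
    have p1 : ∀ y, vec y ᵥ* P = 0 → vec (va y G0) ᵥ* P = 0 := fun y hy => by
      rw [vec_va, vecMul_vecMul, hc, ← vecMul_vecMul, hy, zero_vecMul]
    have p2 : ∀ n m, vec (lin (orb G0 n (cd x)) m) ᵥ* P = 0 := fun n m =>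
      lin_induction (fun y => vec y ᵥ* P = 0) (by simp) (fun a b ha hb => by
        simp only [vec_xor', add_vecMul, ha, hb, add_zero]) _
        (orb_ind p1 n (by rw [vec_cd, hx])) m
    have h4 := all12 chk_Ph' x
    have h5 := p2 11 2047
    simp only [seqN_eq, and2_true, memL_true, imp_true, H29.beq_true, Nat.ble_eq, C0,
      List.mem_cons, List.not_mem_nil, or_false] at h4
    rcases h4 with ⟨h6 | h6 | h6 | h6, h7⟩
    · have h8 := (treeAll_iff _ 10).1 chk_inv (cd x) (by have := h7 h6; omega)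
      simp only [or2_true, H29.beq_true] at h8
      rcases h8 with h8 | h8
      · rw [← vec_cd x, h8, vec_zero]
      · have := p2 10 (Nat.land (Nat.shiftRight tab (Nat.mul 10 (cd x))) 1023)
        rw [h8, r0, hw] at this
        exact absurd (by simpa using this) hv
    · rw [h6, r10] at h5; exact absurd h5 h1
    · rw [h6, r11] at h5; exact absurd h5 h2
    · rw [h6, show (3072 : ℕ) = 1024 ^^^ 2048 from rfl, vec_xor', add_vecMul, r10, r11] at h5
      exact absurd (H9.R.add_eq_zero'.1 h5) h3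
  obtain ⟨Q, rfl⟩ : IsUnit P := vecMul_injective_iff_isUnit.1 fun x y h =>
    H9.R.add_eq_zero'.1 (hk _ (by simp only at h; rw [add_vecMul, h, add_self]))
  exact ⟨Q, ↑Q⁻¹, Q.mul_inv, by rw [← hc, mul_assoc, Q.mul_inv, mul_one], by simpa [hw] using r0,
    r10, r11⟩

/-- The relations satisfied by generators of `3 · M₂₂`. -/
structure Hy (G F K D : Mx) : Prop where
  g11 : G ^ 11 = 1
  f5 : F ^ 5 = 1
  k4 : K ^ 4 = 1
  d3 : D ^ 3 = 1
  g1 : G ≠ 1
  d1 : D ≠ 1
  gf : G * F = F * G ^ 3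
  fk : F * K = K * F ^ 2
  gd : G * D = D * G
  fd : F * D = D * F
  kd : K * D = D * K
  gk : (G * K) ^ 6 = 1 ∨ (G * K) ^ 6 = D ∨ (G * K) ^ 6 = D ^ 2
  fix : ∀ u : V, u ᵥ* G = u → u ᵥ* F = u → u ᵥ* K = u → u ᵥ* D = u

/-- The normal form. -/
def Nm (G F K D : Mx) : Prop := ∃ P Pi : Mx, P * Pi = 1 ∧ P * G * Pi = mat G0 ∧
  P * F * Pi = mat F0 ∧ P * K * Pi = mat K0 ∧ (P * D * Pi = mat D0 ∨ P * D ^ 2 * Pi = mat D0)

/-- conjugation -/
def cm {P Pi : Mx} (h : P * Pi = 1) : Mx →* Mx where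
  toFun A := P * A * Pi
  map_one' := by rw [mul_one, h]
  map_mul' a b := by
    calc _ = P * a * (Pi * P) * b * Pi := by rw [mul_eq_one_comm.1 h]; simp only [mul_assoc, mul_one]
      _ = _ := by simp only [mul_assoc]

theorem cm_apply {P Pi : Mx} (h : P * Pi = 1) (A : Mx) : cm h A = P * A * Pi := rfl

theorem cm_inj {P Pi : Mx} (h : P * Pi = 1) {A B : Mx} (e : cm h A = cm h B) : A = B := by
  have k : ∀ A, Pi * cm h A * P = A := fun A => by
    calc _ = (Pi * P) * A * (Pi * P) := by simp only [cm_apply, mul_assoc]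
      _ = A := by rw [mul_eq_one_comm.1 h, one_mul, mul_one]
  rw [← k A, e, k]

variable {G F K D : Mx}

theorem Hy.conj (h : Hy G F K D) {P Pi : Mx} (e : P * Pi = 1) :
    Hy (cm e G) (cm e F) (cm e K) (cm e D) where
  g11 := by rw [← map_pow, h.g11, map_one]
  f5 := by rw [← map_pow, h.f5, map_one]
  k4 := by rw [← map_pow, h.k4, map_one]
  d3 := by rw [← map_pow, h.d3, map_one]
  g1 := fun k => h.g1 (cm_inj e (k.trans (map_one _).symm))
  d1 := fun k => h.d1 (cm_inj e (k.trans (map_one _).symm))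
  gf := by simp only [← map_pow, ← map_mul, h.gf]
  fk := by simp only [← map_pow, ← map_mul, h.fk]
  gd := by simp only [← map_mul, h.gd]
  fd := by simp only [← map_mul, h.fd]
  kd := by simp only [← map_mul, h.kd]
  gk := by
    simp only [← map_pow, ← map_mul]
    rcases h.gk with k | k | k <;> simp [k]
  fix u h1 h2 h3 := by
    have k : ∀ A, u ᵥ* cm e A = u ↔ (u ᵥ* P) ᵥ* A = u ᵥ* P := fun A =>
      ⟨fun k => by
        conv_rhs => rw [← k]
        rw [cm_apply, vecMul_vecMul, vecMul_vecMul, mul_assoc, mul_eq_one_comm.1 e, mul_one],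
      fun k => by rw [cm_apply, ← vecMul_vecMul, ← vecMul_vecMul, k, vecMul_vecMul, e, vecMul_one]⟩
    rw [k] at h1 h2 h3 ⊢
    exact h.fix _ h1 h2 h3

theorem Hy.d4 (h : Hy G F K D) : (D ^ 2) ^ 2 = D := by
  rw [← pow_mul, show 2 * 2 = 3 + 1 from rfl, pow_succ, h.d3, one_mul]

theorem Hy.sq (h : Hy G F K D) : Hy G F K (D ^ 2) where
  g11 := h.g11
  f5 := h.f5
  k4 := h.k4
  g1 := h.g1
  gf := h.gf
  fk := h.fk
  d3 := by rw [← pow_mul, mul_comm, pow_mul, h.d3, one_pow]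
  d1 := fun k => h.d1 (by rw [← h.d4, k, one_pow])
  gd := (Commute.pow_right (show Commute G D from h.gd) 2).eq
  fd := (Commute.pow_right (show Commute F D from h.fd) 2).eq
  kd := (Commute.pow_right (show Commute K D from h.kd) 2).eq
  gk := by
    rw [h.d4]
    rcases h.gk with k | k | k
    exacts [Or.inl k, Or.inr (Or.inr k), Or.inr (Or.inl k)]
  fix := fun u h1 h2 h3 => by
    rw [_root_.sq, ← vecMul_vecMul, h.fix u h1 h2 h3, h.fix u h1 h2 h3]

theorem Nm.of_conj {P Pi : Mx} (e : P * Pi = 1) (h : Nm (cm e G) (cm e F) (cm e K) (cm e D)) :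
    Nm G F K D := by
  obtain ⟨Q, Qi, h1, h2, h3, h4, h5⟩ := h
  rw [← map_pow] at h5
  simp only [cm_apply] at h2 h3 h4 h5
  have k : ∀ A : Mx, Q * P * A * (Pi * Qi) = Q * (P * A * Pi) * Qi := fun A => by
    simp only [mul_assoc]
  refine ⟨Q * P, Pi * Qi, ?_, (k _).trans h2, (k _).trans h3, (k _).trans h4,
    h5.imp (k _).trans (k _).trans⟩
  rw [mul_assoc, ← mul_assoc P, e, one_mul, h1]

theorem Nm.of_sq (h0 : Hy G F K D) (h : Nm G F K (D ^ 2)) : Nm G F K D := by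
  obtain ⟨Q, Qi, h1, h2, h3, h4, h5⟩ := h
  rw [h0.d4] at h5
  exact ⟨Q, Qi, h1, h2, h3, h4, h5.symm⟩

theorem fix_pow {x : V} {A : Mx} (h : x ᵥ* A = x) : ∀ n : ℕ, x ᵥ* A ^ n = x
  | 0 => by simp
  | n + 1 => by rw [pow_succ, ← vecMul_vecMul, fix_pow h n, h]

/-- normal form of the elements of order 11 and 5 -/
theorem Hy.exists_base (h : Hy G F K D) : ∃ (P Pi : Mx) (e : P * Pi = 1),
    cm e G = mat G0 ∧ cm e F = mat F0 := by
  haveI : Fact (Nat.Prime 11) := ⟨by norm_num⟩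
  haveI : Fact (Nat.Prime 5) := ⟨by norm_num⟩
  obtain ⟨C, hC⟩ : ∃ C : Set V, C = {x | x ᵥ* G = x} := ⟨_, rfl⟩
  have hu : (Set.univ : Set V).ncard = 4096 := by rw [Set.ncard_univ, card_V]
  have h4 : C.ncard = 4 := by
    have h1 := card_fix h.g11 Set.univ fun _ _ => trivial
    simp only [Set.mem_univ, true_and, hu, ← hC] at h1
    let A : AddSubgroup V := ⟨⟨⟨C, by
      intro a b ha hb
      simp only [hC, Set.mem_setOf_eq] at ha hb ⊢
      rw [add_vecMul, ha, hb]⟩, by simp [hC]⟩, by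
      intro a ha
      simp only [hC, Set.mem_setOf_eq] at ha ⊢
      rw [neg_vecMul, ha]⟩
    have h2 : C.ncard ∣ 2 ^ 12 := by
      have := A.card_addSubgroup_dvd_card
      rwa [card_V] at this
    obtain ⟨k, hk, h3⟩ := (Nat.dvd_prime_pow Nat.prime_two).1 h2
    have h5 : C.ncard ≠ 4096 := fun e => h.g1 (ext_vecMul fun x => by
      have : C = Set.univ := Set.eq_of_subset_of_ncard_le (Set.subset_univ _) (by omega)
      have h6 : x ∈ C := this ▸ trivial
      rw [vecMul_one]; rwa [hC] at h6)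
    rw [h3] at h1 h5 ⊢
    revert h1 h5
    interval_cases k <;> decide
  have hF : ∀ x : V, x ᵥ* F ∈ C ↔ x ∈ C := fun x => by
    simp only [hC, Set.mem_setOf_eq]
    constructor
    · intro h1
      have h2 := fix_pow h1 3
      rw [vecMul_vecMul, ← h.gf, ← vecMul_vecMul] at h2
      have h3 := congrArg (· ᵥ* F ^ 4) h2
      simpa only [vecMul_vecMul, mul_assoc, ← pow_succ', h.f5, mul_one, vecMul_one] using h3
    · intro h1
      have h2 : (x ᵥ* F) ᵥ* G ^ 3 = x ᵥ* F := by rw [vecMul_vecMul, ← h.gf, ← vecMul_vecMul, h1]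
      have h3 := fix_pow h2 4
      rwa [← pow_mul, show 3 * 4 = 11 + 1 from rfl, pow_succ, h.g11, one_mul] at h3
  have hFC : ∀ x ∈ C, x ᵥ* F = x := by
    have h1 := card_fix h.f5 C fun x hx => (hF x).2 hx
    have h2 : {x | x ∈ C ∧ x ᵥ* F = x} ⊆ C := fun x hx => hx.1
    have h3 := Set.ncard_le_ncard h2
    have h5 := Set.eq_of_subset_of_ncard_le h2 (by rw [h4, Nat.ModEq] at *; omega)
    intro x hx
    rw [← h5] at hx
    exact hx.2
  obtain ⟨x, hx, hx'⟩ : {x | x ∈ Cᶜ ∧ x ᵥ* F = x}.Nonempty := by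
    have h1 := card_fix h.f5 Cᶜ fun x hx => mt (hF x).1 hx
    have h2 := Set.ncard_add_ncard_compl C
    rw [card_V, h4] at h2
    refine Set.nonempty_of_ncard_ne_zero fun e => ?_
    rw [e, show Cᶜ.ncard = 4092 by omega] at h1
    exact absurd h1 (by decide)
  obtain ⟨y, hy⟩ : ∃ y, y = ∑ i ∈ Finset.range 11, x ᵥ* G ^ i := ⟨_, rfl⟩
  have hyG : y ᵥ* G = y := by
    rw [hy, sum_vecMul]
    simp only [vecMul_vecMul, ← pow_succ]
    have := Finset.sum_range_succ' (fun i => x ᵥ* G ^ i) 11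
    rw [Finset.sum_range_succ, h.g11, pow_zero] at this
    exact (add_right_cancel this).symm
  obtain ⟨u, u1, u2⟩ := Set.exists_mem_notMem_of_ncard_lt_ncard (s := {0}) (t := C) (by simp [h4])
  obtain ⟨u', u3, u4⟩ := Set.exists_mem_notMem_of_ncard_lt_ncard (s := {0, u}) (t := C)
    (lt_of_le_of_lt (Set.ncard_insert_le _ _) (by simp [h4]))
  simp only [Set.mem_insert_iff, Set.mem_singleton_iff, not_or] at u2 u4
  obtain ⟨P, Pi, e, h1, h2, h3, h5⟩ := base (G := G) (v := x + y) (u := u) (u' := u')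
    (fun k => hx (by rw [H9.R.add_eq_zero'.1 k, hC]; exact hyG))
    (by
      simp only [add_vecMul, Finset.sum_add_distrib, ← hy, fix_pow hyG, Finset.sum_const,
        Finset.card_range]
      rw [show 11 • y = y + (5 • y + 5 • y) by module, add_self, add_zero, add_self])
    (by rwa [hC] at u1) (by rwa [hC] at u3) u2 u4.1 (Ne.symm u4.2)
  have k : ∀ (a : ℕ) (z : V), vec a ᵥ* P = z → z ᵥ* F = z → vec a ᵥ* cm e F = vec a :=
    fun a z h6 h7 => by
      rw [cm_apply, ← vecMul_vecMul, ← vecMul_vecMul, h6, h7, ← h6, vecMul_vecMul, e, vecMul_one]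
  refine ⟨P, Pi, e, h1, (eq_bld (B := pw G0 3) ?_ (k _ _ h2 ?_) (k _ _ h3 (hFC _ u1))
    (k _ _ h5 (hFC _ u3))).trans (eq_of_eqM (by decide +kernel))⟩
  · rw [mat_pw, ← h1]; exact (h.conj e).gf
  · rw [add_vecMul, hx', hFC y (by rw [hC]; exact hyG)]

end H18.JS
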