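import Mathlib
import Cfsg.Agent.H18.JS2

/-! Normal form of `3 · M₂₂ ≤ GL₁₂(2)`, part two, and of the outer element. -/

set_option autoImplicit false
set_option maxRecDepth 100000
set_option linter.all false

namespace H18.JS

open H29 H9.GF2 H9.R
open Matrix hiding vec
open H9 (treeAll treeAll_iff anyLt anyLt_iff lin lin_induction anyL_iff)

theorem vfix {a b A : ℕ} (h : va a A = b) : vec a ᵥ* mat A = vec b := by rw [← vec_va, h]

theorem exists_good {K : Mx} {D : ℕ} (hD : D ∈ [D0, D1]) (h : Hy (mat G0) (mat F0) K (mat D))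
    {good : ℕ → Bool} (hc : chkK D good = true) : ∃ X, mat X = K ∧ good X = true := by
  have fk : mat F0 * K = K * mat F2 := by rw [F2_eq]; exact h.fk
  have hfix : ∀ a, va a F0 = a → cd (vec a ᵥ* K) ∈ FixF := fun a ha =>
    mem_FixF (by rw [vecMul_vecMul, ← fk, ← vecMul_vecMul, vfix ha])
  have hD' : ∀ {w p : ℕ}, vec w ᵥ* K = vec p → vec (va w D) ᵥ* K = vec (va p D) := fun e => by
    rw [vec_va, vec_va, vecMul_vecMul, ← h.kd, ← vecMul_vecMul, e]
  have hF' : ∀ {w p : ℕ}, vec w ᵥ* K = vec p → vec (va w F0) ᵥ* K = vec (va p F2) := fun e => by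
    rw [vec_va, vec_va, vecMul_vecMul, fk, ← vecMul_vecMul, e]
  have h4 : ∀ w, Maps K (four D F0 w) (four D F2 (cd (vec w ᵥ* K))) := fun w =>
    have e := (vec_cd (vec w ᵥ* K)).symm
    .cons e (.cons (hD' e) (.cons (hF' e) (.cons (hD' (hF' e)) .nil)))
  have hb := allL_true.1 chk_blk D hD
  simp only [seqN_eq] at hb
  have k1 : ∀ E : ℕ, K * mat E = mat E * K → ∀ w, va w (Nat.xor (Nat.xor F2 (mu F0 E)) one) = 0 →
      Nat.beq (va (cd (vec w ᵥ* K)) (Nat.xor (Nat.xor (mu F2 F2) (mu F2 E)) one)) 0 = true := by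
    intro E hE w hw
    rw [← cd_zero]
    refine va_cd ?_
    have e : K * mat (Nat.xor (Nat.xor (mu F2 F2) (mu F2 E)) one) =
        mat (Nat.xor (Nat.xor F2 (mu F0 E)) one) * K := by
      simp only [mat_xor, mat_mu, mat_one, mul_add, add_mul, mul_one, one_mul]
      rw [← mul_assoc, ← mul_assoc, ← fk, mul_assoc, mul_assoc, ← fk, hE, ← mul_assoc, ← mul_assoc,
        ← sq, ← F2_eq]
    rw [vecMul_vecMul, e, ← vecMul_vecMul, vfix hw, vec_zero, zero_vecMul]
  have hDD : K * mat (mu D D) = mat (mu D D) * K := by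
    rw [mat_mu, ← mul_assoc, h.kd, mul_assoc, h.kd, mul_assoc]
  have c0 : (allL [D0, D1] fun D => and2 (Nat.beq (va 7 (Nat.xor (Nat.xor F2 (mu F0 D)) one)) 0)
      (and2 (Nat.beq (va 21 (Nat.xor (Nat.xor F2 (mu F0 (mu D D))) one)) 0)
      (and2 (Nat.beq (va 1 D) 570) (and2 (eqM (mu Pf D) (mu D Pf))
      (Nat.beq (mu Bi (pk (app [1, 570, 1024, 2048] (app (four D F0 7) (four D F0 21))))) one)))))
      = true := by decide +kernel
  have c1 := allL_true.1 c0 D hD
  simp only [and2_true, H29.beq_true, eqM_iff, mat_mu] at c1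
  obtain ⟨c1, c2, c3, c4, c5⟩ := c1
  have hp := memL_true.1 (imp_true.1 (and2_true.1 (all12 hb (vec 7 ᵥ* K))).1 (k1 D h.kd 7 c1))
  have hq := memL_true.1 (imp_true.1 (and2_true.1 (all12 hb (vec 21 ᵥ* K))).2 (k1 _ hDD 21 c2))
  have m4 : Maps K [1, 570, 1024, 2048] [cd (vec 1 ᵥ* K), va (cd (vec 1 ᵥ* K)) D,
      cd (vec 1024 ᵥ* K), cd (vec 2048 ᵥ* K)] :=
    .cons (vec_cd _).symm (.cons (c3 ▸ hD' (vec_cd _).symm) (.cons (vec_cd _).symm
      (.cons (vec_cd _).symm .nil)))
  have hK := (maps_app m4 (maps_app (h4 7) (h4 21))).eq c5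
  simp only [chkK, seqN_eq] at hc
  have h5 := allL_true.1 (allL_true.1 (allL_true.1 hc _ (hfix 1 (by decide +kernel))) _
    (hfix 1024 (by decide +kernel))) _ (hfix 2048 (by decide +kernel))
  have hf : mat (mu Bi (pk [cd (vec 1 ᵥ* K), va (cd (vec 1 ᵥ* K)) D, cd (vec 1024 ᵥ* K),
      cd (vec 2048 ᵥ* K)])) = mat Pf * K := by
    rw [mat_mu, ← m4.pk, Pf, mat_mu, mul_assoc]
  generalize mu Bi (pk [cd (vec 1 ᵥ* K), va (cd (vec 1 ᵥ* K)) D, cd (vec 1024 ᵥ* K),
      cd (vec 2048 ᵥ* K)]) = Kf at h5 hf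
  simp only [and2_true, imp_true, eqM_iff, mat_mu, hf] at h5
  obtain ⟨h6, h7⟩ := h5
  have h8 : ∀ B : Mx, mat Pf * (K * (mat Pf * B)) = mat Pf * (K * B) := fun B => by
    rw [← mul_assoc, ← mul_assoc, h6, mul_assoc]
  have h10 : mat Pf * K * (mat Pf * K) * (mat Pf * K * (mat Pf * K)) = mat Pf := by
    have e : K * (K * (K * K)) = 1 := by rw [← h.k4]; simp only [pow_succ, pow_zero, one_mul, mul_assoc]
    calc _ = mat Pf * (K * (mat Pf * (K * (mat Pf * (K * (mat Pf * K)))))) := by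
          simp only [mul_assoc]
      _ = mat Pf * (K * (K * (K * K))) := by rw [h8 K, h8 (K * K), h8]
      _ = _ := by rw [e, mul_one]
  have h9 := allL_true.1 (allL_true.1 (h7 (by rw [mul_assoc, h.kd, ← mul_assoc, c4, mul_assoc])
    h10) _ hp) _ hq
  simp only [imp_true, or2_true, eqM_iff, mat_mu, mat_pw, mat_one] at h9
  refine ⟨_, hK.symm, h9 ?_ ?_⟩
  · rw [← mat_mu, ← hK, ← sq, ← sq, ← pow_mul]; exact h.k4
  · rw [← mat_mu, ← hK, ← sq]; exact h.gk

theorem not_D2 {K : Mx} (h : Hy (mat G0) (mat F0) K (mat D2)) : False := by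
  have c0 : treeAll (fun x => memL (va x (Nat.xor D2 one)) C0) 12 0 = true := by decide +kernel
  have h1 := memL_true.1 (all12 c0 (vec 2048 ᵥ* K))
  have h2 : vec (va (cd (vec 2048 ᵥ* K)) (Nat.xor D2 one)) = vec 1024 ᵥ* K := by
    rw [vec_va, vec_cd, vecMul_vecMul, ← vfix (show va 2048 (Nat.xor D2 one) = 1024 by
      decide +kernel), vecMul_vecMul]
    simp only [mat_xor, mat_one, mul_add, add_mul, h.kd, mul_one, one_mul]
  have k : ∀ j, vec 1024 ᵥ* K = vec 1024 ᵥ* mat D2 ^ j → vec 1024 ᵥ* mat D2 ^ j = vec 1024 := by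
    intro j e
    have hc : Commute K (mat D2) := h.kd
    have k1 : ∀ n, vec 1024 ᵥ* K ^ n = vec 1024 ᵥ* (mat D2 ^ j) ^ n := fun n => by
      induction n with
      | zero => simp
      | succ n ih =>
        rw [pow_succ, ← vecMul_vecMul, ih, vecMul_vecMul, ← ((hc.pow_right j).pow_right n).eq,
          ← vecMul_vecMul, e, vecMul_vecMul, pow_succ']
    have k2 := k1 4
    rw [h.k4, vecMul_one, pow_succ, ← pow_mul, mul_comm j, pow_mul, h.d3, one_pow, one_mul] at k2
    exact k2.symm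
  have ne : ∀ a b, a < 4096 → b < 4096 → a ≠ b → vec a ≠ vec b := fun a b ha hb e e' =>
    e (vec_inj ha hb e')
  have d1 : vec 1024 ᵥ* mat D2 ^ 1 = vec 2048 := by rw [pow_one]; exact vfix (by decide +kernel)
  have d2 : vec 1024 ᵥ* mat D2 ^ 2 = vec 3072 := by rw [← mat_pw]; exact vfix (by decide +kernel)
  simp only [C0, List.mem_cons, List.not_mem_nil, or_false] at h1
  rcases h1 with e | e | e | e <;> rw [e] at h2
  · have := congrArg (· ᵥ* K ^ 3) h2
    simp only [vec_zero, zero_vecMul, vecMul_vecMul, ← pow_succ', h.k4, vecMul_one] at this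
    exact ne 0 1024 (by norm_num) (by norm_num) (by norm_num) (vec_zero.trans this)
  · have := h.fix _ (vfix (show va 1024 G0 = 1024 by decide +kernel))
      (vfix (by decide +kernel)) h2.symm
    rw [pow_one] at d1
    exact ne 2048 1024 (by norm_num) (by norm_num) (by norm_num) (d1.symm.trans this)
  · exact ne 2048 1024 (by norm_num) (by norm_num) (by norm_num)
      (d1.symm.trans (k 1 (h2.symm.trans d1.symm)))
  · exact ne 3072 1024 (by norm_num) (by norm_num) (by norm_num)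
      (d2.symm.trans (k 2 (h2.symm.trans d2.symm)))

theorem conj_eq {A B X Y : ℕ} (h : eqM (mu (mu A X) B) Y = true) : mat A * mat X * mat B = mat Y := by
  rw [← mat_mu, ← mat_mu]; exact eq_of_eqM h

theorem inv_eq {A B : ℕ} (h : eqM (mu A B) one = true) : mat A * mat B = 1 := by
  rw [← mat_mu, ← mat_one]; exact eq_of_eqM h

theorem nm0 {K D : Mx} (h : Hy (mat G0) (mat F0) K D) {W : ℕ} (hW : W ∈ [D0, D1, D2])
    (e : D = mat W) : Nm (mat G0) (mat F0) K D := by
  subst e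
  simp only [List.mem_cons, List.not_mem_nil, or_false] at hW
  rcases hW with rfl | rfl | rfl
  · obtain ⟨X, rfl, hX⟩ := exists_good (by simp) h chk_K0
    simp only [or2_true, eqM_iff, mat_mu, ← mul_assoc] at hX
    rcases hX with e | e | e
    · exact ⟨1, 1, by simp, by simp, by simp, by simp [e], by simp⟩
    · exact ⟨_, _, inv_eq (by decide +kernel), conj_eq (by decide +kernel),
        conj_eq (by decide +kernel), e, Or.inl (conj_eq (by decide +kernel))⟩
    · exact ⟨_, _, inv_eq (by decide +kernel), conj_eq (by decide +kernel),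
        conj_eq (by decide +kernel), e, Or.inl (conj_eq (by decide +kernel))⟩
  · obtain ⟨X, -, hX⟩ := exists_good (by simp) h chk_K1
    exact absurd hX (by simp)
  · exact (not_D2 h).elim

theorem nm1 {K : Mx} {Y : ℕ} (h : Hy (mat G0) (mat F0) K (mat Y))
    (hY : (H9.anyL [Y, mu Tw (mu Y Tw)] fun Z => H9.anyL [D0, D1, D2] fun W => eqM Z W) = true) :
    Nm (mat G0) (mat F0) K (mat Y) := by
  simp only [anyL_iff, eqM_iff] at hY
  obtain ⟨Z, hZ, W, hW, e⟩ := hY
  simp only [List.mem_cons, List.not_mem_nil, or_false] at hZ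
  rcases hZ with rfl | rfl
  · exact nm0 h hW e
  · have t : mat Tw * mat Tw = 1 := inv_eq (by decide +kernel)
    have h1 := h.conj t
    have e1 : cm t (mat G0) = mat G0 := conj_eq (by decide +kernel)
    have e2 : cm t (mat F0) = mat F0 := conj_eq (by decide +kernel)
    refine Nm.of_conj t ?_
    rw [e1, e2] at h1 ⊢
    exact nm0 h1 hW (by rw [← e, mat_mu, mat_mu, cm_apply, mul_assoc])

theorem Hy.nm {G F K D : Mx} (h : Hy G F K D) : Nm G F K D := by
  obtain ⟨P, Pi, e, e1, e2⟩ := h.exists_base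
  have h1 := h.conj e
  refine Nm.of_conj e ?_
  rw [e1, e2] at h1 ⊢
  generalize cm e K = K, cm e D = D at h1 ⊢
  have hD := eq_bld' (R := D) (B := G0) h1.gd
  have k : ∀ a, va a G0 = a → cd (vec a ᵥ* D) ∈ C0 := fun a ha => mem_C0 (A := G0) (by simp)
    (by rw [vecMul_vecMul, ← h1.gd, ← vecMul_vecMul, vfix ha])
  have h2 := allL_true.1 (allL_true.1 (allL_true.1 chk_D (cd (vec 1 ᵥ* D)) (mem_FixF (by
    rw [vecMul_vecMul, F2_eq, ← ((show Commute (mat F0) D from h1.fd).pow_left 2).eq,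
      ← vecMul_vecMul, ← F2_eq, vfix (show va 1 F2 = 1 by decide +kernel)]))) _
    (k 1024 (by decide +kernel))) _ (k 2048 (by decide +kernel))
  rw [seqN_eq] at h2
  generalize bld G0 _ _ _ = X at hD h2
  subst hD
  rw [imp_true, imp_true, or2_true, anyL_iff] at h2
  rcases h2 (eqM_iff.2 (by rw [mat_mu, mat_mu, mat_one, ← h1.d3, pow_three]))
    (eqM_iff.2 (by rw [mat_mu, mat_mu, h1.gd])) with h3 | ⟨Y, hY, h3⟩
  · exact absurd (by simpa using eqM_iff.1 h3) h1.d1
  · simp only [List.mem_cons, List.not_mem_nil, or_false] at hY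
    rcases hY with rfl | rfl
    · exact nm1 h1 h3
    · have e3 : mat X ^ 2 = mat (mu X X) := by rw [mat_mu, _root_.sq]
      refine Nm.of_sq h1 ?_
      have h4 := h1.sq
      rw [e3] at h4 ⊢
      exact nm1 h4 h3

/-- the outer element -/
theorem outer {R : Mx} {A : ℕ} (hA : A ∈ [G0, G10]) (h : mat G0 * R = R * mat A)
    (hc : ∀ x : V, cls (cd (x ᵥ* R)) = cls (cd x)) :
    ∃ i j : ℕ, R = mat G0 ^ i * mat D0 ^ j ∨ R = mat G0 ^ i * mat D0 ^ j * mat R0 := by
  have hc' : ∀ m y, m < 4096 → y < 4096 → vec m ᵥ* R = vec y → Nat.beq (cls y) (cls m) = true :=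
    fun m y hm hy e => by rw [H29.beq_true, ← cd_vec hy, ← e, hc, cd_vec hm]
  have k : ∀ a, va a G0 = a → cd (vec a ᵥ* R) ∈ C0 := fun a ha => mem_C0 hA
    (by rw [vecMul_vecMul, ← h, ← vecMul_vecMul, vfix ha])
  have h1 := imp_true.1 (all12 (allL_true.1 chk_R A hA) (vec 1 ᵥ* R))
    (by
      rw [H29.beq_true.1 (hc' 1 _ (by norm_num) (cd_lt _) (vec_cd _).symm)]; decide +kernel)
  rw [seqN_eq, imp_true] at h1
  have m := maps_orb h 10 (vec_cd (vec 1 ᵥ* R)).symm
  have h2 := allL_true.1 (allL_true.1 (h1 (allL_true.2 fun y hy => hc' y _ (by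
      revert y; decide) (va_lt _ _) (by
    rw [← maps_va m, show va y (pk (orb G0 10 1)) = y by revert y; decide +kernel]))) _
    (k 1024 (by decide +kernel))) _ (k 2048 (by decide +kernel))
  have hR := eq_bld' h
  rw [seqN_eq] at h2
  generalize bld A _ _ _ = X at hR h2
  subst hR
  have h3 := imp_true.1 h2 (allL_true.2 fun y hy => hc' y _ (by revert y; decide) (va_lt _ _)
    (vec_va _ _).symm)
  simp only [anyLt_iff, seqN_eq, or2_true, eqM_iff, mat_mu, mat_pw] at h3
  obtain ⟨i, -, j, -, h3⟩ := h3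
  exact ⟨i, j, h3⟩

end H18.JS
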