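import Mathlib
import Cfsg.Agent.H18.JS3
import Cfsg.Agent.H9.M24
import Cfsg.Agent.H24.Base2

/-! Generators of `2 ^ (1 + 12) . 3 M₂₂`. -/

set_option autoImplicit false
set_option maxRecDepth 100000
set_option linter.all false

namespace H18.JS

open H29 H9.GF2 H9.R Cfsg Subgroup
open Matrix hiding vec
open H9 (pm GensIn evalW validP)
open scoped commutatorElement

def m22 : List ℕ := [958448060062074346518142771853238496, 966323206956280044804389570003618272,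
  974465049934143059283296994843694368]

variable {Γ : Type*} [Group Γ] [Finite Γ]

theorem pm_eq_of {Y : Subgroup (Equiv.Perm GolayPt)} (h : GensIn m22 Y) :
    ∀ w : List ℕ, pm (evalW m22 w) = (w.map fun i => pm (m22.getD i H9.idP)).prod
  | [] => H9.pm_idP
  | i :: w => by
    have h1 : evalW m22 (i :: w) = H9.mulP (m22.getD i H9.idP) (evalW m22 w) := H9.force_eq _ _
    have h2 : validP (m22.getD i H9.idP) = true := by
      rcases i with _ | _ | _ | i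
      exacts [(h _ (by simp [m22])).1, (h _ (by simp [m22])).1, (h _ (by simp [m22])).1,
        H9.validP_idP]
    rw [h1, H9.pm_mulP h2 (h.evalW w).1, pm_eq_of h w, List.map_cons, List.prod_cons]

/-- lifts of generators of `M₂₂` -/
theorem exists_gens (c : Co Γ) {N M : Subgroup Γ} [N.Normal] [M.Normal] (hQN : c.Q ≤ N)
    (hNM : N ≤ M) (hN : Nat.card N = 3 * Nat.card c.Q) (hcent : ⁅M, N⁆ ≤ c.Q)
    (hperf : M ≤ ⁅M, M⁆ ⊔ c.Q) (hker : ∀ g, c.ρ g = 1 → g ∈ c.Q)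
    (hM22 : Spor.IsoM22 (M ⧸ N.subgroupOf M)) :
    Nat.card M = 443520 * 24576 ∧ ∃ g ∈ M, ∃ f ∈ M, ∃ k ∈ M, ∃ d ∈ M, g ^ 11 = 1 ∧
      Hy (c.ρ g) (c.ρ f) (c.ρ k) (c.ρ d) ∧
      ∀ Y : Subgroup Γ, c.Q ≤ Y → g ∈ Y → f ∈ Y → k ∈ Y → M ≤ Y := by
  haveI := c.nQ
  haveI : Fact (Nat.Prime 3) := ⟨by norm_num⟩
  obtain ⟨e⟩ := hM22
  rw [c.card_Q] at hN
  let ψ : M →* Equiv.Perm GolayPt :=
    Spor.M22.subtype.comp (e.toMonoidHom.comp (QuotientGroup.mk' _))
  have k1 : ∀ x : M, ψ x = 1 ↔ (x : Γ) ∈ N := fun x => by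
    rw [← mem_subgroupOf, ← QuotientGroup.eq_one_iff, ← e.map_eq_one_iff, Subtype.ext_iff]; rfl
  have k2 : ∀ σ ∈ Spor.M22, ∃ x, ψ x = σ := fun σ hσ => by
    obtain ⟨x, hx⟩ := QuotientGroup.mk_surjective (e.symm ⟨σ, hσ⟩)
    exact ⟨x, by simp [ψ, hx]⟩
  have k3 : ∀ x : M, ψ x ∈ Spor.M22 := fun x => (e x).2
  have hg : GensIn m22 Spor.M22 := H9.M22_eq ▸ H9.gensIn_Stab (by decide +kernel)
  have rel : ∀ u v : List ℕ, evalW m22 u = evalW m22 v →
      (u.map fun i => pm (m22.getD i H9.idP)).prod = (v.map fun i => pm (m22.getD i H9.idP)).prod :=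
    fun u v h => by rw [← pm_eq_of hg, ← pm_eq_of hg, h]
  have cM : Nat.card M = 443520 * 24576 := by
    rw [(N.subgroupOf M).card_eq_card_quotient_mul_card_subgroup, Nat.card_congr e.toEquiv,
      H9.card_M22, Nat.card_congr (subgroupOfEquivOfLe hNM).toEquiv, hN]
  have lift : ∀ (σ : Equiv.Perm GolayPt) (p t s : ℕ), σ ∈ Spor.M22 → σ ^ p = 1 →
      24576 * t = p * s + 1 → ∃ x : M, ψ x = σ ∧ x ^ p = 1 := by
    intro σ p t s h1 h2 h3
    obtain ⟨x, rfl⟩ := k2 σ h1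
    refine ⟨x ^ (24576 * t), by rw [map_pow, h3, pow_succ, pow_mul, h2, one_pow, one_mul], ?_⟩
    have h4 := congrArg Subtype.val (pow_card_eq_one' (G := N)
      (x := ⟨_, (k1 (x ^ p)).1 (by rw [map_pow, h2])⟩))
    rw [hN] at h4
    rw [← pow_mul, mul_comm, pow_mul, pow_mul, show (x ^ p) ^ 24576 = 1 from Subtype.ext h4, one_pow]
  obtain ⟨d, hd, hd3⟩ : ∃ d ∈ N, orderOf d = 3 := by
    obtain ⟨d, hd⟩ := exists_prime_orderOf_dvd_card' (G := N) 3 (by rw [hN]; norm_num)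
    exact ⟨d, d.2, by rw [← hd, orderOf_coe]⟩
  have hdQ : d ∉ c.Q := fun h => by
    have := c.Q.orderOf_dvd_natCard h
    rw [hd3, c.card_Q] at this
    exact absurd this (by norm_num)
  have hNd : N ≤ c.Q ⊔ zpowers d := by
    have h1 := relIndex_mul_relIndex c.Q (c.Q ⊔ zpowers d) N le_sup_left
      (sup_le hQN (zpowers_le.2 hd))
    have h2 : c.Q.relIndex N = 3 := by
      have := (c.Q.subgroupOf N).card_mul_index
      rw [Nat.card_congr (subgroupOfEquivOfLe hQN).toEquiv, c.card_Q, hN] at this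
      unfold relIndex; omega
    rw [h2] at h1
    rcases (Nat.dvd_prime Nat.prime_three).1 (Dvd.intro_left _ h1) with h | h
    · exact relIndex_eq_one.1 h
    · rw [h] at h1
      have h3 : c.Q.relIndex (c.Q ⊔ zpowers d) = 1 := by omega
      exact absurd (relIndex_eq_one.1 h3 (mem_sup_right (mem_zpowers d))) hdQ
  have d3 : c.ρ d ^ 3 = 1 := by rw [← map_pow, ← hd3, pow_orderOf_eq_one, map_one]
  have hρ : ∀ n ∈ N, c.ρ n = 1 ∨ c.ρ n = c.ρ d ∨ c.ρ n = c.ρ d ^ 2 := by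
    intro n hn
    obtain ⟨q, hq, a, ha, rfl⟩ := (H24.mem_sup_of_norm le_normalizer_of_normal).1 (hNd hn)
    obtain ⟨i, rfl⟩ := mem_powers_iff_mem_zpowers.2 ha
    rw [map_mul, c.ρ_Q hq, one_mul, map_pow, pow_eq_pow_mod i d3]
    have : i % 3 < 3 := Nat.mod_lt _ (by norm_num)
    interval_cases i % 3 <;> simp
  have n3 : ∀ n ∈ N, c.ρ n ^ 3 = 1 := fun n hn => by
    rcases hρ n hn with h | h | h <;> rw [h]
    exacts [one_pow _, d3, by rw [← pow_mul, mul_comm, pow_mul, d3, one_pow]]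
  have hc : ∀ m ∈ M, ∀ n ∈ N, Commute (c.ρ m) (c.ρ n) := fun m hm n hn => by
    have := c.ρ_Q (hcent (commutator_mem_commutator hm hn))
    show _ = _
    rw [← map_mul, show m * n = ⁅m, n⁆ * (n * m) by rw [commutatorElement_def]; group, map_mul, this,
      one_mul, map_mul]
  have ex : ∀ (a b : M) (p s : ℕ), p + 1 = 3 * s → ψ a = ψ b → a ^ p = 1 → b ^ p = 1 →
      c.ρ a = c.ρ b := by
    intro a b p s h1 h2 h3 h4
    have h5 := (k1 (b⁻¹ * a)).1 (by rw [map_mul, map_inv, h2, inv_mul_cancel])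
    have h6 : c.ρ a = c.ρ b * c.ρ (b⁻¹ * a : M) := by rw [← map_mul]; simp
    have h7 := congrArg (· ^ p) h6
    simp only [(hc _ b.2 _ h5).mul_pow] at h7
    rw [← map_pow, ← map_pow, ← SubmonoidClass.coe_pow, ← SubmonoidClass.coe_pow, h3, h4,
      OneMemClass.coe_one, map_one, one_mul] at h7
    have h8 : c.ρ (b⁻¹ * a : M) ^ (p + 1) = 1 := by rw [h1, pow_mul, n3 _ h5, one_pow]
    rw [pow_succ, ← h7, one_mul] at h8
    rw [h6, h8, mul_one]
  obtain ⟨g, hg1, hg2⟩ := lift _ 11 6 13405 (hg _ (List.getElem_mem (n := 0) (by decide))).2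
    (H9.pm_pow_eq_one (by decide +kernel) (by decide +kernel)) rfl
  obtain ⟨f, hf1, hf2⟩ := lift _ 5 1 4915 (hg _ (List.getElem_mem (n := 1) (by decide))).2
    (H9.pm_pow_eq_one (by decide +kernel) (by decide +kernel)) rfl
  obtain ⟨k0, hk0⟩ := k2 _ (hg _ (List.getElem_mem (n := 2) (by decide))).2
  have hk4 : ψ k0 ^ 4 = 1 := hk0 ▸ H9.pm_pow_eq_one (by decide +kernel) (by decide +kernel)
  obtain ⟨k, hk⟩ : ∃ k, k = k0 ^ 9 := ⟨_, rfl⟩
  have hk1 : ψ k = pm m22[2] := by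
    rw [hk, map_pow, show 9 = 4 * 2 + 1 from rfl, pow_succ, pow_mul, hk4, one_pow, one_mul, hk0]
  have e0 : pm (m22.getD 0 H9.idP) = ψ g := hg1.symm
  have e1 : pm (m22.getD 1 H9.idP) = ψ f := hf1.symm
  have e2 : pm (m22.getD 2 H9.idP) = ψ k := hk1.symm
  have r1 := rel [0, 1] [1, 0, 0, 0] (by decide +kernel)
  have r2 := rel [1, 2] [2, 1, 1] (by decide +kernel)
  have r3 := rel [0, 2, 0, 2, 0, 2, 0, 2, 0, 2, 0, 2] [] (by decide +kernel)
  simp only [List.map_cons, List.map_nil, List.prod_cons, List.prod_nil, e0, e1, e2, mul_one]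
    at r1 r2 r3
  have gen1 : ∀ Y : Subgroup Γ, N ≤ Y → (g : Γ) ∈ Y → (f : Γ) ∈ Y → (k : Γ) ∈ Y → M ≤ Y := by
    intro Y h1 h2 h3 h4 m hm
    have h5 : GensIn m22 ((Y.subgroupOf M).map ψ) := fun a ha => ⟨(hg a ha).1, by
      simp only [m22, List.mem_cons, List.not_mem_nil, or_false] at ha
      rcases ha with rfl | rfl | rfl
      exacts [⟨g, h2, hg1⟩, ⟨f, h3, hf1⟩, ⟨k, h4, hk1⟩]⟩
    have h6 := (h5.of_words [[0, 1, 1, 1, 0, 1, 1], [0, 2, 0, 2, 1, 2, 0, 0, 2, 0, 2, 1, 2, 2]]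
      (gens' := H9.g22) (by decide +kernel)).cl_le
    rw [H9.cl_g22, ← H9.M22_eq] at h6
    obtain ⟨y, hy, h7⟩ := h6 (k3 ⟨m, hm⟩)
    have h8 := h1 ((k1 (y⁻¹ * ⟨m, hm⟩)).1 (by rw [map_mul, map_inv, h7, inv_mul_cancel]))
    simpa using mul_mem (mem_subgroupOf.1 hy) h8
  have gen2 : ∀ Y : Subgroup Γ, c.Q ≤ Y → (g : Γ) ∈ Y → (f : Γ) ∈ Y → (k : Γ) ∈ Y → M ≤ Y := by
    intro Y h1 h2 h3 h4
    have h5 : zpowers d ≤ normalizer ((Y ⊓ M : Subgroup Γ) : Set Γ) := by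
      refine zpowers_le.2 (H24.mem_N_of_cj_le ?_)
      rintro _ ⟨y, hy, rfl⟩
      replace hy := mem_inf.1 hy
      have h6 := mul_mem hy.1 (h1 (hcent (commutator_mem_commutator (inv_mem hy.2) hd)))
      refine mem_inf.2 ⟨?_, mul_mem (mul_mem (hNM hd) hy.2) (inv_mem (hNM hd))⟩
      convert h6 using 1
      simp [commutatorElement_def, mul_assoc]
    have h7 := gen1 (Y ⊓ M ⊔ zpowers d)
      (hNd.trans (sup_le_sup_right (le_inf h1 (hQN.trans hNM)) _))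
      (mem_sup_left ⟨h2, g.2⟩) (mem_sup_left ⟨h3, f.2⟩) (mem_sup_left ⟨h4, k.2⟩)
    refine hperf.trans (sup_le (commutator_le.2 fun a ha b hb => ?_) h1)
    obtain ⟨y, hy, a, ha', rfl⟩ := (H24.mem_sup_of_norm h5).1 (h7 ha)
    obtain ⟨y', hy', b, hb', rfl⟩ := (H24.mem_sup_of_norm h5).1 (h7 hb)
    have h8 : a * b = b * a := (H24.abl_zpowers d).comm ha' hb'
    have := mul_mem (mul_mem (mul_mem (mem_inf.1 hy).1 (mem_inf.1 (H24.conj_mem (h5 ha') hy')).1)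
      (mem_inf.1 (H24.conj_mem (h5 hb') (inv_mem hy))).1) (inv_mem (mem_inf.1 hy').1)
    convert this using 1
    rw [commutatorElement_def]
    calc _ = y * a * y' * (b * a⁻¹) * y⁻¹ * b⁻¹ * y'⁻¹ := by group
      _ = _ := by rw [show b * a⁻¹ = a⁻¹ * b by rw [mul_inv_eq_iff_eq_mul, mul_assoc, ← h8]; group]; group
  have cp : ∀ (a : M) (p : ℕ), a ^ p = 1 → c.ρ a ^ p = 1 := fun a p h => by
    rw [← map_pow, ← SubmonoidClass.coe_pow, h, OneMemClass.coe_one, map_one]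
  refine ⟨cM, g, g.2, f, f.2, k, k.2, d, hNM hd, congrArg Subtype.val hg2, ⟨cp g 11 hg2, cp f 5 hf2,
    ?_, d3, fun h => ?_, fun h => hdQ (hker d h), ?_, ?_, hc _ g.2 _ hd, hc _ f.2 _ hd,
    hc _ k.2 _ hd, ?_, fun u h1 h2 h3 => ?_⟩, gen2⟩
  · have := n3 _ ((k1 (k0 ^ 4)).1 (by rw [map_pow, hk4]))
    rw [hk, SubmonoidClass.coe_pow, map_pow, ← pow_mul, show 9 * 4 = 4 * 3 * 3 from rfl, pow_mul,
      pow_mul, ← map_pow, ← SubmonoidClass.coe_pow, this, one_pow]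
  · have h1 := (k1 g).2 (hQN (hker _ h))
    rw [hg1, ← H9.pm_idP] at h1
    exact absurd (H9.pm_inj (by decide +kernel) H9.validP_idP h1 (i := 1) (by norm_num))
      (by decide +kernel)
  · have := ex (f⁻¹ * g * f) (g ^ 3) 11 4 rfl
      (by rw [map_mul, map_mul, map_inv, mul_assoc, r1, map_pow, pow_three]; group)
      (by simpa [hg2] using conj_pow (a := f⁻¹) (b := g) (i := 11)) (by rw [← pow_mul, mul_comm, pow_mul, hg2, one_pow])
    rw [← map_pow, ← SubmonoidClass.coe_pow, ← this, ← map_mul, ← map_mul]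
    congr 1; simp [mul_assoc]
  · have := ex (k⁻¹ * f * k) (f ^ 2) 5 2 rfl
      (by rw [map_mul, map_mul, map_inv, mul_assoc, r2, map_pow, sq]; group)
      (by simpa [hf2] using conj_pow (a := k⁻¹) (b := f) (i := 5)) (by rw [← pow_mul, mul_comm, pow_mul, hf2, one_pow])
    rw [← map_pow, ← SubmonoidClass.coe_pow, ← this, ← map_mul, ← map_mul]
    congr 1; simp [mul_assoc]
  · have := hρ _ ((k1 ((g * k) ^ 6)).1 (by
      rw [map_pow, map_mul, ← r3]; simp only [pow_succ, pow_zero, one_mul, mul_assoc]))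
    rwa [SubmonoidClass.coe_pow, coe_mul, map_pow, map_mul] at this
  · let Y : Subgroup Γ :=
      { carrier := {γ | u ᵥ* c.ρ γ = u}
        one_mem' := by simp
        mul_mem' := fun {a b} ha hb => by
          simp only [Set.mem_setOf_eq] at ha hb ⊢
          rw [map_mul, ← vecMul_vecMul, ha, hb]
        inv_mem' := fun {a} ha => by
          simp only [Set.mem_setOf_eq] at ha ⊢
          conv_lhs => rw [← ha, vecMul_vecMul, ← map_mul, mul_inv_cancel, map_one, vecMul_one] }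
    exact gen2 Y (fun q hq => by show u ᵥ* _ = u; rw [c.ρ_Q hq, vecMul_one]) h1 h2 h3 (hNM hd)

end H18.JS
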