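import Mathlib
import Cfsg.Agent.H19.MG1

/-!
# The invariant quadratic form on the Leech lattice modulo 2; coordinates from a section
-/

set_option autoImplicit false
set_option linter.all false

open Cfsg

namespace H10.Mon.MG

namespace SQ

theorem two0 : (2 : ZMod 2) = 0 := rfl

theorem tri : ∃ x y : L, sqNorm (x : V) = 32 ∧ sqNorm (y : V) = 32 ∧ sqNorm ((x + y : L) : V) = 32 ∧
    dU' x = 0 ∧ dU' y = 0 := by
  have a1 : inL 0x001000100010001000100010001000100010001000100010001000100010001000100010001000100010000c00140010 = true := by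
    decide +kernel
  have a2 : inL 0x00100010001000100010001000100010001000100010001000100010001000100010001000100010000c001400100010 = true := by
    decide +kernel
  refine ⟨lv _, lv _, by rw [lv_coe a1, norm_vc]; decide +kernel,
    by rw [lv_coe a2, norm_vc]; decide +kernel, ?_,
    by rw [dU', lv_coe a1, vU'_eq, dot_vc]; decide +kernel,
    by rw [dU', lv_coe a2, vU'_eq, dot_vc]; decide +kernel⟩
  rw [AddSubgroup.coe_add, sqNorm_add, lv_coe a1, lv_coe a2, norm_vc, norm_vc, dot_vc]
  decide +kernel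

theorem span_short (W : AddSubgroup C) (h : ∀ x : L, sqNorm (x : V) = 32 → kap x ∈ W) (c : C) :
    c ∈ W := by
  have k : ∀ c : C, bb c c0.1 + bb c0.1 c = 0 → c ∈ W := fun c hc =>
    span_perp W (h _ norm_vU') (fun y hy _ => h y hy) hc
  rcases z2 (bb c c0.1 + bb c0.1 c) with a | a
  · exact k c a
  · have b1 : bb bs c0.1 + bb c0.1 bs = 1 := by rw [c0_code]; decide +kernel
    have b2 : bs ∈ W := by rw [bs, ← kap_eL]; exact h _ (norm_eL 5)
    have := W.add_mem (k (c + bs) (by
      rw [bb_add_left, bb_add_right]; linear_combination a + b1 + two0)) b2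
    rwa [add_assoc, two_zmod, add_zero] at this

/-- An invariant functional vanishes. -/
theorem lin_zero (ψ : C →+ ZMod 2) (h : ∀ (g : G0) c, ψ (g • c) = ψ c) (c : C) : ψ c = 0 := by
  obtain ⟨x, y, h1, h2, h3, -⟩ := tri
  have k : ∀ u v : L, sqNorm (u : V) = 32 → sqNorm (v : V) = 32 → ψ (kap u) = ψ (kap v) :=
    fun u v hu hv => by
      obtain ⟨g, rfl⟩ := tr_C0 u v hu hv
      rw [← smul_kap, h]
  refine span_short ψ.ker (fun u hu => ?_) c
  rw [AddMonoidHom.mem_ker, k u _ hu h3, map_add, map_add, k y x h2 h1, two_zmod]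

theorem form_uniq (β : C →+ C →+ ZMod 2) (hi : ∀ (g : G0) c d, β (g • c) (g • d) = β c d)
    (h0 : ∀ c, β c c = 0) (hn : ∃ c d, β c d ≠ 0) (c d : C) : β c d = bb c d + bb d c := by
  obtain ⟨x, y, h1, h2, h3, h4, h5⟩ := tri
  have k : ∀ u v : L, sqNorm (u : V) = 32 → sqNorm (v : V) = 32 → dU' u = dU' v →
      β c0.1 (kap u) = β c0.1 (kap v) := fun u v hu hv e => by
    obtain ⟨g, g1, rfl⟩ := tr_C2' hu hv e
    rw [← hi g, fix_c0.2 (.inl g1), smul_kap]
  have h6 : dU' (x + y) = 0 := by
    rw [dU', AddSubgroup.coe_add, dot_add_right]; exact by rw [← dU', ← dU', h4, h5]; rfl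
  have k1 : ∀ e, bb e c0.1 + bb c0.1 e = 0 → β c0.1 e = 0 := fun e he =>
    span_perp (β c0.1).ker (h0 _) (fun u hu e => by
      rw [AddMonoidHom.mem_ker, k u _ hu h3 (e.trans h6.symm), map_add, map_add,
        k y x h2 h1 (h5.trans h4.symm), two_zmod]) he
  obtain ⟨e, he⟩ := exists_polar (β c0.1)
  obtain ⟨b, hb⟩ : ∃ b : ZMod 2, ∀ d, β c0.1 d = b * (bb c0.1 d + bb d c0.1) := by
    rcases perp_perp (e := e) fun d hd => (he d).symm.trans (k1 d hd) with rfl | rfl
    · exact ⟨0, fun d => by rw [he, bb_zero_left, bb_zero_right, add_zero, zero_mul]⟩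
    · exact ⟨1, fun d => by rw [he, one_mul]⟩
  have k2 : ∀ c d, β c d = b * (bb c d + bb d c) := fun c d => by
    let W : AddSubgroup C :=
      { carrier := {c | ∀ d, β c d = b * (bb c d + bb d c)}
        zero_mem' := fun d => by simp [bb_zero_left, bb_zero_right]
        add_mem' := fun {u v} hu hv d => by
          rw [map_add, AddMonoidHom.add_apply, hu, hv, bb_add_left, bb_add_right]; ring
        neg_mem' := fun {u} hu => by
          rwa [neg_eq_iff_add_eq_zero.2 (two_zmod u)] }
    refine span_short W (fun u hu d => ?_) c d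
    obtain ⟨g, rfl⟩ := tr_C0 vU' u norm_vU' hu
    obtain ⟨d, rfl⟩ := MulAction.surjective g d
    rw [← smul_kap, hi, bb_smul, ← c0_val, hb]
  obtain ⟨u, v, huv⟩ := hn
  rcases z2 b with rfl | rfl
  · exact absurd (by rw [k2, zero_mul]) huv
  · rw [k2, one_mul]

end SQ

theorem quad_uniq (f : C → ZMod 2) (β : C →+ C →+ ZMod 2)
    (hf : ∀ c d, f (c + d) = f c + f d + β c d) (hi : ∀ (g : G0) c, f (g • c) = f c)
    (hn : ∃ c d, β c d ≠ 0) (c : C) : f c = bb c c := by
  have f0 : f 0 = 0 := by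
    have := hf 0 0
    rw [add_zero, map_zero, two_zmod, add_zero] at this
    exact this
  have k := SQ.form_uniq β (fun g c d => by
    have a := hf (g • c) (g • d)
    rw [← smul_add, hi, hi, hi, hf] at a
    exact (add_left_cancel a).symm) (fun c => by
    have a := hf c c
    rw [two_zmod, f0, two_zmod, zero_add] at a
    exact a.symm) hn
  have := SQ.lin_zero (AddMonoidHom.mk' (fun c => f c + bb c c) fun c d => by
    rw [hf, k, bb_add_left, bb_add_right, bb_add_right]
    linear_combination (bb c d + bb d c) * SQ.two0) (fun g c => by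
      change f _ + _ = f _ + _
      rw [hi, bb_smul_self]) c
  change f c + bb c c = 0 at this
  linear_combination this - bb c c * SQ.two0

end H10.Mon.MG

namespace H10.Mon.MG

open scoped commutatorElement

namespace SQ

/-- The extension attached to a cocycle. -/
def Ex {M : Type} (_δ : M → M → ZMod 2) : Type := ZMod 2 × M

theorem cobound {M : Type} [AddCommGroup M] (h2 : ∀ a : M, a + a = 0) (δ : M → M → ZMod 2)
    (hc : ∀ a b c, δ a b + δ (a + b) c = δ b c + δ a (b + c)) (hs : ∀ a b, δ a b = δ b a)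
    (hd : ∀ a, δ a a = 0) : ∃ μ : M → ZMod 2, ∀ a b, δ a b = μ a + μ b + μ (a + b) := by
  have d0 : ∀ a, δ 0 a = 0 := fun a => by
    have := hc 0 0 a
    rw [hd, zero_add, zero_add, zero_add] at this
    exact left_eq_add.1 this
  letI : Add (Ex δ) := ⟨fun u v => (u.1 + v.1 + δ u.2 v.2, u.2 + v.2)⟩
  letI : Zero (Ex δ) := ⟨((0, 0) : ZMod 2 × M)⟩
  letI : Neg (Ex δ) := ⟨id⟩
  have ad : ∀ u v : Ex δ, u + v = (u.1 + v.1 + δ u.2 v.2, u.2 + v.2) := fun _ _ => rfl
  have dbl : ∀ u : Ex δ, u + u = 0 := fun u => Prod.ext (by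
    change u.1 + u.1 + δ u.2 u.2 = 0
    rw [hd, add_zero, two_zmod]) (h2 _)
  letI : AddGroup (Ex δ) := AddGroup.ofLeftAxioms (fun u v w => Prod.ext (by
      change u.1 + v.1 + δ u.2 v.2 + w.1 + δ (u.2 + v.2) w.2 =
        u.1 + (v.1 + w.1 + δ v.2 w.2) + δ u.2 (v.2 + w.2)
      linear_combination hc u.2 v.2 w.2) (add_assoc u.2 v.2 w.2))
    (fun u => Prod.ext (by
      change 0 + u.1 + δ 0 u.2 = u.1
      rw [d0, zero_add, add_zero]) (zero_add u.2)) dbl
  letI : AddCommGroup (Ex δ) := ⟨fun u v => Prod.ext (by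
    change u.1 + v.1 + δ u.2 v.2 = v.1 + u.1 + δ v.2 u.2
    rw [hs, add_comm u.1]) (add_comm u.2 v.2)⟩
  letI : Module (ZMod 2) (Ex δ) := AddCommGroup.zmodModule fun x => by rw [two_nsmul, dbl]
  let o : Ex δ := ((1, 0) : ZMod 2 × M)
  have : Fact (Nat.Prime 2) := ⟨Nat.prime_two⟩
  obtain ⟨ψ, hψ⟩ : ∃ ψ : Module.Dual (ZMod 2) (Ex δ), ψ o ≠ 0 := by
    by_contra h
    push Not at h
    have := (Module.forall_dual_apply_eq_zero_iff (ZMod 2) o).1 h
    exact one_ne_zero (α := ZMod 2) (congrArg Prod.fst this)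
  have h1 : ψ o = 1 := (z2 _).resolve_left hψ
  let i : M → Ex δ := fun a => ((0, a) : ZMod 2 × M)
  refine ⟨fun a => ψ (i a), fun a b => ?_⟩
  rcases z2 (δ a b) with e | e
  · have : i a + i b = i (a + b) := Prod.ext (by
      change 0 + 0 + δ a b = 0
      rw [e]; rfl) rfl
    rw [e, ← map_add, this, two_zmod]
  · have : i a + i b = o + i (a + b) := Prod.ext (by
      change 0 + 0 + δ a b = 1 + 0 + δ 0 (a + b)
      rw [e, d0]; rfl) (zero_add (a + b)).symm
    rw [e, ← map_add, this, map_add, h1, add_assoc, two_zmod, add_zero]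

variable {H : Type*} [Group H]

theorem rel_mul {q : ZMod 2 → C → H} {g g' : H} {k k' : GT} (h : Rel q g k) (h' : Rel q g' k') :
    Rel q (g * g') (k * k') := fun t c => by
  rw [mul_inv_rev, show g * g' * q t c * (g'⁻¹ * g⁻¹) = g * (g' * q t c * g'⁻¹) * g⁻¹ by group, h',
    h, ep_mul, map_mul, mul_smul, add_assoc]

theorem rel_q {q : ZMod 2 → C → H} (hm : ∀ s c t d, q s c * q t d = q (s + t + bb c d) (c + d))
    (s : ZMod 2) (d : C) : Rel q (q s d) (qe s d) := fun t c => by
  rw [mul_inv_eq_iff_eq_mul, hm, hm, ep_qe, co_qe, one_smul, add_comm c d]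
  congr 1
  linear_combination (-bb c d) * two0

/-- The powers of `z`. -/
def zp (z : H) (t : ZMod 2) : H := if t = 0 then 1 else z

theorem zp_zero (z : H) : zp z 0 = 1 := rfl
theorem zp_one (z : H) : zp z 1 = z := rfl

theorem zp_add {z : H} (hz : z * z = 1) (s t : ZMod 2) : zp z (s + t) = zp z s * zp z t := by
  rcases z2 s with rfl | rfl <;> rcases z2 t with rfl | rfl <;>
    simp [two_zmod, zp_zero, zp_one, hz]

theorem zp_inj {z : H} (hz : z ≠ 1) {s t : ZMod 2} (h : zp z s = zp z t) : s = t := by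
  rcases z2 s with rfl | rfl <;> rcases z2 t with rfl | rfl
  exacts [rfl, absurd h.symm hz, absurd h hz, rfl]

theorem zp_comm {z : H} (hc : ∀ g, g * z = z * g) (g : H) (t : ZMod 2) :
    g * zp z t = zp z t * g := by
  rcases z2 t with rfl | rfl
  · rw [zp_zero, mul_one, one_mul]
  · exact hc g

theorem mem_zp {z : H} (hz : orderOf z = 2) {g : H} (h : g ∈ Subgroup.zpowers z) :
    ∃ t, g = zp z t := by
  obtain ⟨n, rfl⟩ := h
  have zz : z ^ (2 : ℤ) = 1 := by rw [zpow_ofNat, ← hz, pow_orderOf_eq_one]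
  rcases Int.even_or_odd' n with ⟨m, rfl | rfl⟩
  · exact ⟨0, by change z ^ _ = _; rw [zpow_mul, zz, one_zpow]; rfl⟩
  · exact ⟨1, by change z ^ _ = _; rw [zpow_add, zpow_mul, zz, one_zpow, one_mul, zpow_one]; rfl⟩

/-- Coordinates from a section. -/
theorem coords {z : H} (hz : orderOf z = 2) (hc : ∀ g, g * z = z * g) (s : C → H)
    (h1 : ∀ c d, ∃ t, s c * s d = zp z t * s (c + d))
    (h2 : ∀ c d t, s c = zp z t * s d → c = d)
    (h3 : ∃ c d, s c * s d ≠ s d * s c)
    (A : H → G0 → Prop) (h4 : ∀ h, ∃ g, A g h)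
    (h5 : ∀ g h, A g h → ∀ c, ∃ t, g * s c * g⁻¹ = zp z t * s (h • c)) :
    ∃ q : ZMod 2 → C → H, (∀ s c t d, q s c * q t d = q (s + t + bb c d) (c + d)) ∧
      (∀ {s c t d}, q s c = q t d → s = t ∧ c = d) ∧ q 1 0 = z ∧
      (∀ t c, ∃ u, zp z t * s c = q u c) ∧ (∀ t c, ∃ u, q t c = zp z u * s c) ∧
      (∀ g h, A g h → ∃ k, co k = h ∧ Rel q g k) ∧ ∀ k, ∃ g, Rel q g k := by
  have zz : z * z = 1 := by rw [← sq, ← hz, pow_orderOf_eq_one]
  have z1 : z ≠ 1 := by rintro rfl; simp at hz
  have za := zp_add zz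
  have zc := zp_comm hc
  choose γ hγ using h1
  have can : ∀ {a b : ZMod 2} {x : H}, zp z a * x = zp z b * x → a = b := fun h =>
    zp_inj z1 (mul_right_cancel h)
  have coc : ∀ a b c, γ a b + γ (a + b) c = γ b c + γ a (b + c) := fun a b c => can (x := s (a + b + c)) (by
    rw [za, mul_assoc, ← hγ, ← mul_assoc, ← hγ, mul_assoc, hγ b c, ← mul_assoc, zc, mul_assoc, hγ,
      ← mul_assoc, ← za, add_assoc])
  have s0 : s 0 = zp z (γ 0 0) := by
    have := hγ 0 0
    rw [add_zero] at this
    exact mul_right_cancel this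
  have g0 : ∀ a, γ 0 a = γ 0 0 := fun a => by
    have := coc 0 0 a
    rw [add_zero, zero_add, add_comm] at this
    exact (add_left_cancel this).symm
  let β : C →+ C →+ ZMod 2 := AddMonoidHom.mk' (fun c => AddMonoidHom.mk' (fun d => γ c d + γ d c)
    fun d e => by
      have a1 := coc c d e
      have a2 := coc d e c
      have a3 := coc d c e
      rw [add_comm e c] at a2
      rw [add_comm d c] at a3
      clear * - a1 a2 a3
      grind) fun c d => by
      ext e
      change γ (c + d) e + γ e (c + d) = γ c e + γ e c + (γ d e + γ e d)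
      have a1 := coc e c d
      have a2 := coc c d e
      have a3 := coc c e d
      rw [add_comm d e] at a2
      rw [add_comm c e] at a3
      clear * - a1 a2 a3
      grind
  have hβ : ∀ c d, β c d = γ c d + γ d c := fun _ _ => rfl
  have sq : ∀ c, s c * s c = zp z (γ c c + γ 0 0) := fun c => by rw [hγ, two_zmod, s0, za]
  have hf := quad_uniq (fun c => γ c c + γ 0 0) β (fun c d => by
      have a1 := coc c d (c + d)
      have a2 := coc d d c
      rw [add_left_comm, two_zmod, add_zero] at a1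
      rw [two_zmod, g0, add_comm d c] at a2
      rw [hβ]
      clear * - a1 a2
      grind) (fun g c => by
      obtain ⟨x, hx⟩ := h4 g
      obtain ⟨t, ht⟩ := h5 x g hx c
      refine zp_inj z1 ?_
      have : x * (s c * s c) * x⁻¹ = s (g • c) * s (g • c) := by
        rw [show x * (s c * s c) * x⁻¹ = (x * s c * x⁻¹) * (x * s c * x⁻¹) by group, ht, mul_assoc,
          ← mul_assoc (s _), zc, mul_assoc, ← mul_assoc, ← za, two_zmod, zp_zero, one_mul]
      rw [← sq, ← this, sq, zc, mul_inv_cancel_right]) (by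
      obtain ⟨c, d, h⟩ := h3
      refine ⟨c, d, fun e => h ?_⟩
      rw [hγ, hγ, add_comm d c, show γ c d = γ d c by linear_combination e - hβ c d - γ d c * two0])
  have hp : ∀ c d, γ c d + γ d c = bb c d + bb d c := fun c d => by
    have a1 := coc c d (c + d)
    have a2 := coc d d c
    rw [add_left_comm, two_zmod, add_zero] at a1
    rw [two_zmod, g0, add_comm d c] at a2
    have a3 := hf (c + d)
    have a4 := hf c
    have a5 := hf d
    rw [bb_add_left, bb_add_right, bb_add_right] at a3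
    clear * - a1 a2 a3 a4 a5
    grind
  obtain ⟨μ, hμ⟩ := cobound two_zmod (fun c d => γ c d + bb c d + γ 0 0) (fun a b c => by
      have := coc a b c
      rw [bb_add_left, bb_add_right]
      linear_combination this) (fun a b => by
      linear_combination hp a b + (bb a b - γ b a) * two0)
    (fun a => by linear_combination hf a + bb a a * two0)
  have m0 : μ 0 = 0 := by
    have := hμ 0 0
    rw [add_zero, bb_zero_left] at this
    clear * - this
    grind
  let q : ZMod 2 → C → H := fun t c => zp z (t + μ c + γ 0 0) * s c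
  have hq : ∀ t c, q t c = zp z (t + μ c + γ 0 0) * s c := fun _ _ => rfl
  have qm : ∀ s c t d, q s c * q t d = q (s + t + bb c d) (c + d) := fun u c t d => by
    rw [hq, hq, hq, mul_assoc, ← mul_assoc (s c), zc, mul_assoc, hγ, ← mul_assoc, ← mul_assoc, ← za,
      ← za]
    refine congrArg (fun t => zp z t * _) ?_
    have := hμ c d
    clear * - this
    grind
  have qi : ∀ {s c t d}, q s c = q t d → s = t ∧ c = d := fun {u c t d} e => by
    rw [hq, hq] at e
    obtain rfl : c = d := h2 c d _ (by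
      rw [za, mul_assoc, ← e, ← mul_assoc, ← za, two_zmod, zp_zero, one_mul])
    exact ⟨add_right_cancel (add_right_cancel (can e)), rfl⟩
  have qz : ∀ u t c, zp z u * q t c = q (u + t) c := fun u t c => by
    rw [hq, hq, ← mul_assoc, ← za, add_assoc u, add_assoc u]
  have qs : ∀ t c, ∃ u, zp z t * s c = q u c := fun t c => ⟨t + μ c + γ 0 0, by
    rw [hq]; refine congrArg (fun t => zp z t * _) ?_
    linear_combination -(μ c + γ 0 0) * two0⟩
  have up : ∀ g h, A g h → ∃ k, co k = h ∧ Rel q g k := fun g h hA => by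
    have : ∀ c, ∃ l, ∀ t, g * q t c * g⁻¹ = q (t + l) (h • c) := fun c => by
      obtain ⟨t0, e⟩ := h5 g h hA c
      obtain ⟨u, hu⟩ := qs (μ c + γ 0 0 + t0) (h • c)
      refine ⟨u, fun t => ?_⟩
      rw [← qz, ← hu, hq, ← mul_assoc g, zc, mul_assoc, mul_assoc, ← mul_assoc g, e, ← mul_assoc,
        ← mul_assoc, ← za, ← za]
      refine congrArg (fun t => zp z t * _) ?_
      ring
    choose l hl using this
    obtain ⟨k0, rfl⟩ := co_surj h
    obtain ⟨d, hd⟩ := exists_polar (AddMonoidHom.mk' (fun c => l c + ep k0 c) fun c d => by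
      have a1 := hl (c + d) (0 + 0 + bb c d)
      rw [← qm, show g * (q 0 c * q 0 d) * g⁻¹ = (g * q 0 c * g⁻¹) * (g * q 0 d * g⁻¹) by group,
        hl, hl, qm] at a1
      have a2 := (qi a1).1
      rw [ep_add]
      clear * - a2
      grind)
    refine ⟨k0 * qe 0 d, by rw [map_mul, co_qe, mul_one], fun t c => ?_⟩
    rw [hl, ep_mul, ep_qe, map_mul, co_qe, mul_one, one_smul, ← hd]
    refine congrArg (fun t => q t _) ?_
    change _ = t + (l c + ep k0 c + ep k0 c)
    rw [add_assoc (l c), two_zmod, add_zero]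
  refine ⟨q, qm, qi, ?_, qs, fun t c => ⟨_, rfl⟩, up, fun k => ?_⟩
  · rw [hq, s0, ← za, m0, add_zero, add_assoc, two_zmod, add_zero, zp_one]
  · obtain ⟨g, hg⟩ := h4 (co k)
    obtain ⟨k', e, r⟩ := up g _ hg
    obtain ⟨t, c, e'⟩ := co_eq_one.1 (show co (k'⁻¹ * k) = 1 by
      rw [map_mul, map_inv, e, inv_mul_cancel])
    refine ⟨g * q t c, ?_⟩
    rw [← mul_inv_cancel_left k' k, e']
    exact rel_mul r (rel_q qm t c)

end SQ

end H10.Mon.MG
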