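import Mathlib
import Cfsg.Agent.H5.MC2
import Cfsg.Agent.H13.Basic

/-!
# The wreath case for a standard subgroup `M₁₂`: the relations, abstractly
-/

set_option autoImplicit false
set_option linter.unusedSectionVars false
set_option linter.unusedVariables false
set_option maxRecDepth 100000

namespace H18.MW

open H5.MC H24 Subgroup
open scoped commutatorElement

theorem inn_mul : ∀ s : Ph, s.inn → ∀ u : Ph, u.inn → (s * u).inn := by decide +kernel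
theorem inn_inv : ∀ s : Ph, s.inn → s⁻¹.inn := by decide +kernel
theorem U0_facts : ∀ u : Ph, u.U0 → u.inn ∧ u.Jh ∧ u * u = 1 ∧ (sg * u * sg⁻¹).U0 ∧
    (∀ v : Ph, v.U0 → (u * v).U0) ∧ ∀ s : Ph, s.Jh → u * s = s * u := by decide +kernel
theorem Jh_facts : ∀ s : Ph, s.Jh → s⁻¹.Jh ∧ (s * s).U0 ∧ (sg * s * sg⁻¹).Jh ∧
    ∀ u : Ph, u.Jh → (s * u).Jh ∧ (s * u * s⁻¹ * u⁻¹).U0 := by decide +kernel
theorem not_Jh : ∀ s : Ph, ¬ s.Jh → (sg * s).Jh ∧ s * z2 ≠ z2 * s ∧ s * j2 ≠ j2 * s ∧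
    (s * j2 * s⁻¹ * j2⁻¹) * (s * j2 * s⁻¹ * j2⁻¹) ≠ 1 := by decide +kernel
theorem io_facts : ∀ k : Fin 4, (io k).inn ∧ (io k).Jh ∧ ¬ (io k).U0 ∧ io k * io k = 1 ∧ (ee k).Jh := by
  decide +kernel
theorem sg_facts : sg.inn ∧ sg * sg = 1 ∧ sg * z1 * sg⁻¹ = z1 ∧ sg * z2 * sg⁻¹ = z3 ∧
    sg * z3 * sg⁻¹ = z2 ∧ z1 * z2 = z3 ∧ sg * i0 = i0 * sg ∧ sg * i1 = i1 * sg ∧ i0 * i1 ≠ i1 * i0 ∧
    sg * c0 * sg⁻¹ = c0 * i0 ∧ c0 * c0 = 1 := by decide +kernel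
theorem dec_w : ∀ (k : Fin 4) (s : Ph), s.Jh → ∃ u ∈ [1, z1, z2, z3], ∃ x ∈ [1, j1], ∃ y ∈ [1, j2],
    ∃ c ∈ [1, io k], ∃ d ∈ [1, ee k], s = u * x * y * c * d ∧ (s.inn → d = 1) := by decide +kernel

structure WB (Γ : Type*) [Group Γ] where
  t : Γ
  p : Ph → Γ
  I : Ph → Prop
  a1 : Γ
  a2 : Γ
  Iiff : ∀ s, I s ↔ s.inn ∨ I c0
  pn : ∀ s, ¬ I s → p s = 1
  pm : ∀ {s u}, I s → I u → p (s * u) = p s * p u
  pi : ∀ {s u}, I s → I u → p s = p u → s = u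
  pt : ∀ s, Commute t (p s)
  tt : t * t = 1
  aa1 : a1 * a1 = 1
  aa2 : a2 * a2 = 1
  a12 : Commute a1 a2
  ta1 : a1 * t * a1⁻¹ = t * p z1
  ta2 : a2 * t * a2⁻¹ = t * p z2
  aJ : ∀ s : Ph, s.Jh → Commute a1 (p s) ∧ Commute a2 (p s)
  sa1 : Commute (p sg) a1
  sa2 : p sg * a2 * (p sg)⁻¹ = a1 * a2

namespace WB

variable {Γ : Type*} [Group Γ] (D : WB Γ)

theorem inn {s : Ph} (h : s.inn) : D.I s := (D.Iiff s).2 (.inl h)
theorem IU {u : Ph} (h : u.U0) : D.I u := D.inn (U0_facts u h).1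
theorem I_mul {s u : Ph} (hs : D.I s) (hu : D.I u) : D.I (s * u) := by
  rw [D.Iiff] at hs hu ⊢
  rcases hs with hs | hs
  · exact hu.imp_left (inn_mul s hs u)
  · exact .inr hs
theorem I_inv {s : Ph} (hs : D.I s) : D.I s⁻¹ := by
  rw [D.Iiff] at hs ⊢
  exact hs.imp_left (inn_inv s)
theorem I_all (h : D.I c0) (s : Ph) : D.I s := (D.Iiff s).2 (.inr h)
theorem I_one : D.I 1 := D.inn (by decide)
theorem p_one : D.p 1 = 1 := by
  have := D.pm D.I_one D.I_one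
  rw [mul_one] at this
  exact left_eq_mul.1 this
theorem p_inv {s : Ph} (hs : D.I s) : D.p s⁻¹ = (D.p s)⁻¹ := by
  rw [eq_inv_iff_mul_eq_one, ← D.pm (D.I_inv hs) hs, inv_mul_cancel, D.p_one]
theorem p_cj {s u : Ph} (hs : D.I s) (hu : D.I u) : D.p (s * u * s⁻¹) = D.p s * D.p u * (D.p s)⁻¹ := by
  rw [D.pm (D.I_mul hs hu) (D.I_inv hs), D.pm hs hu, D.p_inv hs]
theorem p_cm {s u : Ph} (hs : D.I s) (hu : D.I u) :
    D.p (s * u * s⁻¹ * u⁻¹) = ⁅D.p s, D.p u⁆ := by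
  rw [D.pm (D.I_mul (D.I_mul hs hu) (D.I_inv hs)) (D.I_inv hu), D.p_cj hs hu, D.p_inv hu,
    commutatorElement_def]
theorem p_comm {s u : Ph} (h : s * u = u * s) : Commute (D.p s) (D.p u) := by
  by_cases hs : D.I s
  · by_cases hu : D.I u
    · rw [Commute, SemiconjBy, ← D.pm hs hu, h, D.pm hu hs]
    · rw [D.pn u hu]; exact Commute.one_right _
  · rw [D.pn s hs]; exact Commute.one_left _
theorem comm_p {s u : Ph} (hs : D.I s) (hu : D.I u) (h : Commute (D.p s) (D.p u)) : s * u = u * s :=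
  D.pi (D.I_mul hs hu) (D.I_mul hu hs) (by rw [D.pm hs hu, D.pm hu hs, h.eq])
theorem p_eq_one {s : Ph} (hs : D.I s) (h : D.p s = 1) : s = 1 :=
  D.pi hs D.I_one (h.trans D.p_one.symm)
theorem p_sq {s : Ph} (hs : D.I s) (h : s * s = 1) : D.p s * D.p s = 1 := by
  rw [← D.pm hs hs, h, D.p_one]
theorem t_inv : D.t⁻¹ = D.t := inv_eq_of_mul_eq_one_right D.tt
theorem p_z3 : D.p z3 = D.p z1 * D.p z2 := by
  rw [← D.pm (D.inn (by decide)) (D.inn (by decide)), sg_facts.2.2.2.2.2.1]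

open Classical in
/-- the element moving `t` to `t u` -/
noncomputable def g (u : Ph) : Γ :=
  if u = z1 then D.a1 else if u = z2 then D.a2 else if u = z3 then D.a1 * D.a2 else 1

theorem g_one : D.g 1 = 1 := by
  rw [g, if_neg (by decide), if_neg (by decide), if_neg (by decide)]
theorem g_z1 : D.g z1 = D.a1 := if_pos rfl
theorem g_z2 : D.g z2 = D.a2 := by rw [g, if_neg (by decide), if_pos rfl]
theorem g_z3 : D.g z3 = D.a1 * D.a2 := by rw [g, if_neg (by decide), if_neg (by decide), if_pos rfl]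

theorem g_comm (u : Ph) {x : Γ} (h1 : Commute D.a1 x) (h2 : Commute D.a2 x) : Commute (D.g u) x := by
  unfold g; split_ifs
  exacts [h1, h2, h1.mul_left h2, Commute.one_left _]

theorem g_p (u : Ph) {s : Ph} (h : s.Jh) : Commute (D.g u) (D.p s) :=
  D.g_comm u (D.aJ s h).1 (D.aJ s h).2

theorem g_g (u v : Ph) : Commute (D.g u) (D.g v) :=
  D.g_comm u (D.g_comm v (Commute.refl _) D.a12.symm).symm (D.g_comm v D.a12 (Commute.refl _)).symm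

theorem g_mul {u v : Ph} (hu : u.U0) (hv : v.U0) : D.g (u * v) = D.g u * D.g v := by
  have e : z1 * z1 = 1 ∧ z1 * z2 = z3 ∧ z1 * z3 = z2 ∧ z2 * z1 = z3 ∧ z2 * z2 = 1 ∧ z2 * z3 = z1 ∧
    z3 * z1 = z2 ∧ z3 * z2 = z1 ∧ z3 * z3 = 1 := by decide +kernel
  have c1 : D.a1 * (D.a1 * D.a2) = D.a2 := by rw [← mul_assoc, D.aa1, one_mul]
  have c2 : D.a2 * (D.a1 * D.a2) = D.a1 := by rw [D.a12.eq, ← mul_assoc, D.aa2, one_mul]
  have c3 : D.a1 * D.a2 * D.a1 = D.a2 := by rw [D.a12.eq, mul_assoc, D.aa1, mul_one]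
  have c4 : D.a1 * D.a2 * D.a2 = D.a1 := by rw [mul_assoc, D.aa2, mul_one]
  have c5 : D.a1 * D.a2 * (D.a1 * D.a2) = 1 := by rw [← mul_assoc, c3, D.aa2]
  rcases hu with rfl | rfl | rfl | rfl <;> rcases hv with rfl | rfl | rfl | rfl <;>
    simp only [e, one_mul, mul_one, g_one, g_z1, g_z2, g_z3, D.aa1, D.aa2, c1, c2, c3, c4, c5, D.a12.eq.symm]

theorem g_sq {u : Ph} (hu : u.U0) : D.g u * D.g u = 1 := by
  rw [← D.g_mul hu hu, (U0_facts u hu).2.2.1, g_one]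

theorem g_t {u : Ph} (hu : u.U0) : D.g u * D.t * (D.g u)⁻¹ = D.t * D.p u := by
  rcases hu with rfl | rfl | rfl | rfl
  · rw [g_one, p_one]; group
  · rw [g_z1, D.ta1]
  · rw [g_z2, D.ta2]
  · rw [g_z3, show D.a1 * D.a2 * D.t * (D.a1 * D.a2)⁻¹ = D.a1 * (D.a2 * D.t * D.a2⁻¹) * D.a1⁻¹ by group,
      D.ta2, ← mul_assoc, mul_assoc _ (D.p z2), ← (D.aJ z2 (by decide)).1.inv_left.eq, ← mul_assoc, D.ta1,
      p_z3, mul_assoc]

theorem t_g {u : Ph} (hu : u.U0) : D.t * D.g u * D.t⁻¹ = D.g u * D.p u := by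
  have := D.g_t hu
  rw [inv_eq_of_mul_eq_one_right (D.g_sq hu)] at this
  rw [D.t_inv, ← one_mul (D.t * _ * _), ← D.g_sq hu]
  calc D.g u * D.g u * (D.t * D.g u * D.t) = D.g u * (D.g u * D.t * D.g u) * D.t := by group
    _ = D.g u * D.p u := by rw [this, mul_assoc, mul_assoc, ← (D.pt u).eq, ← mul_assoc D.t, D.tt, one_mul]

theorem sg_g {u : Ph} (hu : u.U0) : D.p sg * D.g u * (D.p sg)⁻¹ = D.g (sg * u * sg⁻¹) := by
  obtain ⟨-, -, e1, e2, e3, -⟩ := sg_facts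
  have h1 : D.p sg * D.a1 * (D.p sg)⁻¹ = D.a1 := by rw [D.sa1.eq, mul_inv_cancel_right]
  rcases hu with rfl | rfl | rfl | rfl
  · rw [mul_one, mul_inv_cancel, g_one, mul_one, mul_inv_cancel]
  · rw [e1, g_z1, h1]
  · rw [e2, g_z2, g_z3, D.sa2]
  · rw [e3, g_z2, g_z3, ← conj_mul, h1, D.sa2, ← mul_assoc, D.aa1, one_mul]

/-- the elementary abelian group of order `16` -/
noncomputable def W : Subgroup Γ where
  carrier := {x | ∃ u v : Ph, u.U0 ∧ v.U0 ∧ x = D.g u * D.p v}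
  one_mem' := ⟨1, 1, .inl rfl, .inl rfl, by rw [g_one, p_one, mul_one]⟩
  mul_mem' := by
    rintro _ _ ⟨u, v, hu, hv, rfl⟩ ⟨u', v', hu', hv', rfl⟩
    refine ⟨u * u', v * v', (U0_facts u hu).2.2.2.2.1 _ hu', (U0_facts v hv).2.2.2.2.1 _ hv', ?_⟩
    rw [D.g_mul hu hu', D.pm (D.IU hv) (D.IU hv'), mul_assoc, ← mul_assoc (D.p v),
      ← (D.g_p u' (U0_facts v hv).2.1).eq]
    simp only [mul_assoc]
  inv_mem' := by
    rintro _ ⟨u, v, hu, hv, rfl⟩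
    refine ⟨u, v, hu, hv, ?_⟩
    rw [mul_inv_rev, inv_eq_of_mul_eq_one_right (D.g_sq hu),
      inv_eq_of_mul_eq_one_right (D.p_sq (D.IU hv) (U0_facts v hv).2.2.1),
      (D.g_p u (U0_facts v hv).2.1).eq]

theorem mem_W {x : Γ} : x ∈ D.W ↔ ∃ u v : Ph, u.U0 ∧ v.U0 ∧ x = D.g u * D.p v := Iff.rfl
theorem pW {v : Ph} (h : v.U0) : D.p v ∈ D.W := ⟨1, v, .inl rfl, h, by rw [g_one, one_mul]⟩
theorem gW {u : Ph} (h : u.U0) : D.g u ∈ D.W := ⟨u, 1, h, .inl rfl, by rw [p_one, mul_one]⟩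
theorem Uz1 : z1.U0 := .inr (.inl rfl)
theorem Uz2 : z2.U0 := .inr (.inr (.inl rfl))
theorem Uz3 : z3.U0 := .inr (.inr (.inr rfl))
theorem a1W : D.a1 ∈ D.W := D.g_z1 ▸ D.gW Uz1
theorem a2W : D.a2 ∈ D.W := D.g_z2 ▸ D.gW Uz2

theorem W_le {A : Subgroup Γ} (h1 : D.a1 ∈ A) (h2 : D.a2 ∈ A) (h3 : D.p z1 ∈ A) (h4 : D.p z2 ∈ A) :
    D.W ≤ A := by
  rintro _ ⟨u, v, hu, hv, rfl⟩
  refine mul_mem ?_ ?_
  · unfold g; split_ifs
    exacts [h1, h2, mul_mem h1 h2, one_mem _]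
  · rcases hv with rfl | rfl | rfl | rfl
    exacts [D.p_one ▸ one_mem _, h3, h4, D.p_z3 ▸ mul_mem h3 h4]

theorem mem_CW {x : Γ} (h1 : Commute x D.a1) (h2 : Commute x D.a2) (h3 : Commute x (D.p z1))
    (h4 : Commute x (D.p z2)) : x ∈ C[D.W] :=
  mem_C_iff_le_C1.2 (D.W_le (mem_C1.2 h1.symm) (mem_C1.2 h2.symm) (mem_C1.2 h3.symm) (mem_C1.2 h4.symm))

theorem pC {s : Ph} (h : s.Jh) : D.p s ∈ C[D.W] :=
  D.mem_CW (D.aJ s h).1.symm (D.aJ s h).2.symm (D.p_comm ((U0_facts _ Uz1).2.2.2.2.2 s h).symm)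
    (D.p_comm ((U0_facts _ Uz2).2.2.2.2.2 s h).symm)

theorem WC : D.W ≤ C[D.W] := D.W_le
  (D.mem_CW (Commute.refl _) D.a12 (D.aJ _ (by decide)).1 (D.aJ _ (by decide)).1)
  (D.mem_CW D.a12.symm (Commute.refl _) (D.aJ _ (by decide)).2 (D.aJ _ (by decide)).2)
  (D.pC (by decide)) (D.pC (by decide))

theorem cw {a x : Γ} (ha : a ∈ D.W) (hx : x ∈ C[D.W]) : Commute a x := mem_C.1 hx a ha

theorem W_inv {a : Γ} (ha : a ∈ D.W) : a⁻¹ = a := by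
  obtain ⟨u, v, hu, hv, rfl⟩ := ha
  rw [mul_inv_rev, inv_eq_of_mul_eq_one_right (D.g_sq hu),
    inv_eq_of_mul_eq_one_right (D.p_sq (D.IU hv) (U0_facts v hv).2.2.1),
    (D.g_p u (U0_facts v hv).2.1).eq]

theorem W_sq {a : Γ} (ha : a ∈ D.W) : a * a = 1 := by
  nth_rewrite 1 [← D.W_inv ha]; exact inv_mul_cancel a

theorem t_W {u v : Ph} (hu : u.U0) : D.t * (D.g u * D.p v) * D.t⁻¹ = D.g u * D.p v * D.p u ∨ ¬ v.U0 := by
  by_cases hv : v.U0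
  · left
    rw [← conj_mul, D.t_g hu, (D.pt v).eq, mul_inv_cancel_right, mul_assoc, mul_assoc,
      (D.p_comm ((U0_facts u hu).2.2.2.2.2 v (U0_facts v hv).2.1)).eq]
  · exact .inr hv

/-- the class of an element of `W` modulo `U0` -/
theorem W_cls {a : Γ} (ha : a ∈ D.W) {u : Ph} (hu : D.I u) (h : D.t * a * D.t⁻¹ = a * D.p u) :
    ∃ v : Ph, v.U0 ∧ u.U0 ∧ a = D.g u * D.p v := by
  obtain ⟨u', v, hu', hv, rfl⟩ := ha
  rw [(D.t_W hu').resolve_right (not_not.2 hv)] at h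
  obtain rfl := D.pi (D.IU hu') hu (mul_left_cancel h)
  exact ⟨v, hv, hu', rfl⟩

theorem W_t {a : Γ} (ha : a ∈ D.W) (h : Commute a D.t) : ∃ v : Ph, v.U0 ∧ a = D.p v := by
  obtain ⟨v, hv, -, e⟩ := D.W_cls ha D.I_one (by rw [p_one, mul_one, ← h.eq, mul_inv_cancel_right])
  exact ⟨v, hv, by rwa [g_one, one_mul] at e⟩

theorem p_mem_W {s : Ph} (hs : D.I s) (h : D.p s ∈ D.W) : s.U0 := by
  obtain ⟨v, hv, e⟩ := D.W_t h (D.pt s).symm
  exact D.pi hs (D.IU hv) e ▸ hv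

theorem tW {a : Γ} (ha : a ∈ D.W) : D.t * a * D.t⁻¹ ∈ D.W := by
  obtain ⟨u, v, hu, hv, rfl⟩ := ha
  rw [(D.t_W hu).resolve_right (not_not.2 hv)]
  exact mul_mem ⟨u, v, hu, hv, rfl⟩ (D.pW hu)

theorem sW {a : Γ} (ha : a ∈ D.W) : D.p sg * a * (D.p sg)⁻¹ ∈ D.W := by
  obtain ⟨u, v, hu, hv, rfl⟩ := ha
  rw [← conj_mul, D.sg_g hu, ← D.p_cj (D.inn (by decide)) (D.IU hv)]
  exact ⟨_, _, (U0_facts u hu).2.2.2.1, (U0_facts v hv).2.2.2.1, rfl⟩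

theorem p_split {s : Ph} (hs : D.I s) (h : ¬ s.Jh) : D.p s = D.p sg * D.p (sg * s) := by
  have := D.inn sg_facts.1
  rw [← D.pm this (D.I_mul this hs), ← mul_assoc, sg_facts.2.1, one_mul]

theorem t_notC : D.t ∉ C[D.W] := fun h => by
  have h1 := D.ta1
  rw [(D.cw D.a1W h).eq, mul_inv_cancel_right] at h1
  exact absurd (D.p_eq_one (D.IU Uz1) (left_eq_mul.1 h1)) (by decide)

theorem card_W : Nat.card D.W = 16 := by
  let f : {u : Ph // u.U0} × {u : Ph // u.U0} → D.W := fun x => ⟨D.g x.1 * D.p x.2, _, _, x.1.2, x.2.2, rfl⟩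
  have : Nat.card {u : Ph // u.U0} = 4 := by
    rw [Nat.card_eq_fintype_card]; decide +kernel
  rw [← Nat.card_congr (Equiv.ofBijective f ⟨?_, ?_⟩), Nat.card_prod, this]
  · rintro ⟨⟨u, hu⟩, v, hv⟩ ⟨⟨u', hu'⟩, v', hv'⟩ e
    have e1 : D.g u * D.p v = D.g u' * D.p v' := congrArg Subtype.val e
    have e2 := (D.t_W (v := v) hu).resolve_right (not_not.2 hv)
    rw [e1, (D.t_W hu').resolve_right (not_not.2 hv')] at e2
    obtain rfl := D.pi (D.IU hu') (D.IU hu) (mul_left_cancel e2)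
    obtain rfl := D.pi (D.IU hv) (D.IU hv') (mul_left_cancel e1)
    rfl
  · rintro ⟨_, u, v, hu, hv, rfl⟩
    exact ⟨(⟨u, hu⟩, ⟨v, hv⟩), rfl⟩

/-- the fixed points of `sg` on `W` -/
theorem W_sg {a : Γ} (ha : a ∈ D.W) (h : Commute a (D.p sg)) :
    a = 1 ∨ a = D.p z1 ∨ a = D.a1 ∨ a = D.a1 * D.p z1 := by
  obtain ⟨u, v, hu, hv, rfl⟩ := ha
  have e : D.g (sg * u * sg⁻¹) * D.p (sg * v * sg⁻¹) = D.g u * D.p v := by
    rw [← D.sg_g hu, D.p_cj (D.inn (by decide)) (D.IU hv), conj_mul, ← h.eq, mul_inv_cancel_right]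
  have hu' := (U0_facts u hu).2.2.2.1
  have hv' := (U0_facts v hv).2.2.2.1
  have e2 := (D.t_W (v := sg * v * sg⁻¹) hu').resolve_right (not_not.2 hv')
  rw [e, (D.t_W hu).resolve_right (not_not.2 hv)] at e2
  have e3 := D.pi (D.IU hu) (D.IU hu') (mul_left_cancel e2)
  rw [← e3] at e
  have e4 := D.pi (D.IU hv') (D.IU hv) (mul_left_cancel e)
  have k : ∀ u : Ph, u.U0 → sg * u * sg⁻¹ = u → u = 1 ∨ u = z1 := by decide +kernel
  rcases k u hu e3.symm with rfl | rfl <;> rcases k v hv e4 with rfl | rfl <;>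
    simp only [g_one, g_z1, p_one, mul_one, one_mul, true_or, or_true]

end WB

end H18.MW
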