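import Mathlib
import Cfsg.Agent.H18.MWa

/-!
# The wreath case for a standard subgroup `M₁₂`: the group `R4`
-/

set_option autoImplicit false
set_option linter.unusedSectionVars false
set_option linter.unusedVariables false
set_option maxRecDepth 100000

namespace H18.MW

open H5.MC H24 Subgroup
open scoped commutatorElement

theorem cm_mul_left {Γ : Type*} [Group Γ] (a b c : Γ) : ⁅a * b, c⁆ = a * ⁅b, c⁆ * a⁻¹ * ⁅a, c⁆ := by
  simp only [commutatorElement_def]; group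

theorem cm_mul_right {Γ : Type*} [Group Γ] (a b c : Γ) : ⁅a, b * c⁆ = ⁅a, b⁆ * (b * ⁅a, c⁆ * b⁻¹) := by
  simp only [commutatorElement_def]; group

theorem cm_inv_left {Γ : Type*} [Group Γ] (a c : Γ) : ⁅a⁻¹, c⁆ = a⁻¹ * ⁅a, c⁆⁻¹ * a := by
  simp only [commutatorElement_def]; group

theorem dec_i : ∀ s : Ph, s.Jh → ∃ x ∈ [1, io 1], ∃ y ∈ [1, io 2], ∃ z ∈ [1, io 3],
    (x * (y * (z * s))).U0 ∨ (¬ s.inn ∧ (c0 * (x * (y * (z * s)))).U0) := by decide +kernel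

theorem span_k : ∀ s : Ph, s.Jh → s * s = 1 → ¬ s.U0 → ∀ u ∈ [z1, z2],
    (∃ j ∈ [j1, j2, j3], s * j * s⁻¹ * j⁻¹ = u) ∧ ∃ k : Fin 4, io k * s * (io k)⁻¹ * s⁻¹ = u := by
  decide +kernel

theorem cent_i : ∀ s : Ph, s.Jh → (∀ k : Fin 4, io k * s = s * io k) → s.U0 := by decide +kernel

structure WD (Γ : Type*) [Group Γ] extends WB Γ where
  w : Fin 4 → Γ
  ww : ∀ k, w k * w k = 1
  wt : ∀ k, w k * t * (w k)⁻¹ = t * p (io k)
  wC : ∀ k, w k ∈ C[toWB.W]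
  wi : ∀ k, Commute (w k) (p (io k))
  we : ∀ k, Commute (w k) (p (ee k))
  wj1 : ∀ k, ∃ u : Ph, u.U0 ∧ w k * p j1 * (w k)⁻¹ = p j1 * a1 * p u
  wj2 : ∀ k, ∃ u : Ph, u.U0 ∧ w k * p j2 * (w k)⁻¹ = p j2 * a2 * p u
  wc : ∀ k l, ⁅w k, w l⁆ ∈ toWB.W
  sw : ∀ k, p sg * w k * (p sg)⁻¹ * w (![0, 1, 3, 2] k) ∈ toWB.W

namespace WB

variable {Γ : Type*} [Group Γ] (D : WB Γ)

theorem cjW {a x : Γ} (ha : a ∈ D.W) (hx : x ∈ C[D.W]) : x * a * x⁻¹ = a := by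
  rw [← (D.cw ha hx).eq, mul_inv_cancel_right]

/-- the elements of `C(W)` commuting with `y` modulo `W` -/
def Cm (y : Γ) : Subgroup Γ where
  carrier := {x | x ∈ C[D.W] ∧ ⁅x, y⁆ ∈ D.W}
  one_mem' := ⟨one_mem _, by simp⟩
  mul_mem' := fun {a b} ha hb => ⟨mul_mem ha.1 hb.1, by
    rw [cm_mul_left, D.cjW hb.2 ha.1]; exact mul_mem hb.2 ha.2⟩
  inv_mem' := fun {a} ha => ⟨inv_mem ha.1, by
    rw [cm_inv_left]
    have := D.cjW (inv_mem ha.2) (inv_mem ha.1)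
    rw [inv_inv] at this
    rw [this]; exact inv_mem ha.2⟩

theorem cm_symm {x y : Γ} (h : ⁅x, y⁆ ∈ D.W) : ⁅y, x⁆ ∈ D.W := by
  rw [← commutatorElement_inv]; exact inv_mem h

theorem cm_of_comm {x y : Γ} (h : Commute x y) : ⁅x, y⁆ ∈ D.W := by
  rw [h.commutator_eq]; exact one_mem _

theorem W_le_Cm {y : Γ} (hy : y ∈ C[D.W]) : D.W ≤ D.Cm y := fun _ ha =>
  ⟨D.WC ha, D.cm_of_comm (D.cw ha hy)⟩

theorem cm_pp {s u : Ph} (hs : s.Jh) (hu : u.Jh) : ⁅D.p s, D.p u⁆ ∈ D.W := by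
  by_cases h1 : D.I s
  · by_cases h2 : D.I u
    · rw [← D.p_cm h1 h2]; exact D.pW ((Jh_facts s hs).2.2.2 u hu).2
    · rw [D.pn u h2]; simp
  · rw [D.pn s h1]; simp

theorem tN : D.t ∈ N[D.W] := by
  rw [mem_N]
  refine fun h => ⟨D.tW, fun hh => ?_⟩
  have := D.tW hh
  rwa [D.t_inv, ← mul_assoc, ← mul_assoc, D.tt, one_mul, mul_assoc, D.tt, mul_one] at this

theorem sg_inv : (D.p sg)⁻¹ = D.p sg :=
  inv_eq_of_mul_eq_one_right (D.p_sq (D.inn sg_facts.1) sg_facts.2.1)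

theorem sN : D.p sg ∈ N[D.W] := by
  have e := D.p_sq (D.inn sg_facts.1) sg_facts.2.1
  rw [mem_N]
  refine fun h => ⟨D.sW, fun hh => ?_⟩
  have := D.sW hh
  rwa [D.sg_inv, ← mul_assoc, ← mul_assoc, e, one_mul, mul_assoc, e, mul_one] at this

theorem pN (s : Ph) : D.p s ∈ N[D.W] := by
  by_cases h1 : D.I s
  · by_cases h : s.Jh
    · exact C_le_N _ (D.pC h)
    · rw [D.p_split h1 h]; exact mul_mem D.sN (C_le_N _ (D.pC (not_Jh s h).1))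
  · rw [D.pn s h1]; exact one_mem _

/-- an involution of `t W` or `t c0 W` -/
theorem inv_W {a x : Γ} (ha : a ∈ D.W) (hx : x ∈ C[D.W]) (h1 : Commute D.t x) (h2 : x * x = 1)
    (h : D.t * x * a * (D.t * x * a) = 1) : ∃ r ∈ D.W, r * (D.t * x * a) * r⁻¹ = D.t * x := by
  have e : Commute a D.t := by
    have e1 : D.t * x * a * (D.t * x * a) = D.t * a * D.t * a * (x * x) := by
      rw [mul_assoc D.t x a, ← (D.cw ha hx).eq]
      calc D.t * (a * x) * (D.t * (a * x)) = D.t * a * (x * D.t) * a * x := by group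
        _ = D.t * a * D.t * (x * a) * x := by rw [← h1.eq]; group
        _ = _ := by rw [← (D.cw ha hx).eq]; group
    rw [e1, h2, mul_one, mul_eq_one_iff_eq_inv, D.W_inv ha] at h
    rw [Commute, SemiconjBy, ← mul_right_inj D.t, ← mul_assoc, h, ← mul_assoc, D.tt, one_mul]
  obtain ⟨v, hv, rfl⟩ := D.W_t ha e
  refine ⟨D.g v, D.gW hv, ?_⟩
  rw [← conj_mul, ← conj_mul, D.g_t hv, D.cjW (D.pW hv) (D.WC (D.gW hv)), (D.cw (D.gW hv) hx).eq,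
    mul_inv_cancel_right, mul_assoc, mul_assoc, ← (D.cw (D.pW hv) hx).eq, ← mul_assoc (D.p v),
    D.W_sq (D.pW hv), one_mul]

theorem gen (k : Fin 4) {A : Subgroup Γ} (h0 : D.W ≤ A) (g1 : D.p j1 ∈ A) (g2 : D.p j2 ∈ A)
    (g3 : D.p (io k) ∈ A) (g4 : D.p (ee k) ∈ A) {s : Ph} (hs : s.Jh) : D.p s ∈ A := by
  by_cases h1 : D.I s
  swap
  · rw [D.pn s h1]; exact one_mem _
  have one : D.p 1 ∈ A := D.p_one ▸ one_mem _
  obtain ⟨u, hu, x, hx, y, hy, c, hc, d, hd, e, h2⟩ := dec_w k s hs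
  simp only [List.mem_cons, List.not_mem_nil, or_false] at hu hx hy hc hd
  have i1 : D.I x ∧ D.p x ∈ A := by
    rcases hx with rfl | rfl
    exacts [⟨D.I_one, one⟩, ⟨D.inn (by decide), g1⟩]
  have i2 : D.I y ∧ D.p y ∈ A := by
    rcases hy with rfl | rfl
    exacts [⟨D.I_one, one⟩, ⟨D.inn (by decide), g2⟩]
  have i3 : D.I c ∧ D.p c ∈ A := by
    rcases hc with rfl | rfl
    exacts [⟨D.I_one, one⟩, ⟨D.inn (io_facts k).1, g3⟩]
  have i4 : D.I d ∧ D.p d ∈ A := by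
    refine ⟨((D.Iiff s).1 h1).elim (fun h => h2 h ▸ D.I_one) fun h => D.I_all h _, ?_⟩
    rcases hd with rfl | rfl
    exacts [one, g4]
  have i0 := D.IU hu
  rw [e, D.pm (D.I_mul (D.I_mul (D.I_mul i0 i1.1) i2.1) i3.1) i4.1,
    D.pm (D.I_mul (D.I_mul i0 i1.1) i2.1) i3.1, D.pm (D.I_mul i0 i1.1) i2.1, D.pm i0 i1.1]
  exact mul_mem (mul_mem (mul_mem (mul_mem (h0 (D.pW hu)) i1.2) i2.2) i3.2) i4.2

end WB

namespace WD

variable {Γ : Type*} [Group Γ] (D : WD Γ)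

theorem w_inv (k : Fin 4) : (D.w k)⁻¹ = D.w k := inv_eq_of_mul_eq_one_right (D.ww k)

theorem wp (k : Fin 4) {s : Ph} (hs : s.Jh) : ⁅D.p s, D.w k⁆ ∈ D.W := by
  have hj : ∀ {j : Ph} {a : Γ}, j.Jh → a ∈ D.W →
      (∃ u : Ph, u.U0 ∧ D.w k * D.p j * (D.w k)⁻¹ = D.p j * a * D.p u) →
      D.p j ∈ D.Cm (D.w k) := fun {j a} h ha ⟨u, hu, e⟩ => ⟨D.pC h, D.cm_symm (by
    rw [commutatorElement_def, e, mul_assoc (D.p j), D.cjW (mul_mem ha (D.pW hu)) (D.pC h)]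
    exact mul_mem ha (D.pW hu))⟩
  exact (D.gen k (D.W_le_Cm (D.wC k)) (hj (by decide) D.a1W (D.wj1 k)) (hj (by decide) D.a2W (D.wj2 k))
    ⟨D.pC (io_facts k).2.1, D.cm_of_comm (D.wi k).symm⟩
    ⟨D.pC (io_facts k).2.2.2.2, D.cm_of_comm (D.we k).symm⟩ hs).2

theorem t_w (k : Fin 4) : D.t * D.w k * D.t⁻¹ = D.w k * D.p (io k) := by
  have := D.wt k
  rw [mul_inv_eq_iff_eq_mul] at this
  rw [D.t_inv, mul_assoc, this, ← mul_assoc, ← mul_assoc, D.tt, one_mul, (D.wi k).eq]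

/-- the class of the commutator -/
theorem w_cls (k : Fin 4) {s : Ph} (hs : s.Jh) (h : D.I s) :
    D.t * ⁅D.w k, D.p s⁆ * D.t⁻¹ = ⁅D.w k, D.p s⁆ * D.p (io k * s * (io k)⁻¹ * s⁻¹) := by
  have hu := D.pW ((Jh_facts _ (io_facts k).2.1).2.2.2 s hs).2
  rw [conjugate_commutatorElement, D.t_w, (D.pt s).eq, mul_inv_cancel_right, cm_mul_left,
    ← D.p_cm (D.inn (io_facts k).1) h, D.cjW hu (D.wC k),
    (D.cw hu (D.WC (D.cm_symm (D.wp k hs)))).eq]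

/-- the group generated by `W`, `C(U0)` and the elements `w k` -/
def R4 : Subgroup Γ := closure ((D.W : Set Γ) ∪ Set.range D.w ∪ D.p '' {s | s.Jh})

theorem W_le_R4 : D.W ≤ D.R4 := fun _ h => subset_closure (.inl (.inl h))
theorem wR (k : Fin 4) : D.w k ∈ D.R4 := subset_closure (.inl (.inr ⟨k, rfl⟩))
theorem pR {s : Ph} (h : s.Jh) : D.p s ∈ D.R4 := subset_closure (.inr ⟨s, h, rfl⟩)

theorem R4_le {A : Subgroup Γ} (h1 : D.W ≤ A) (h2 : ∀ k, D.w k ∈ A) (h3 : ∀ s : Ph, s.Jh → D.p s ∈ A) :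
    D.R4 ≤ A := (closure_le A).2 (by
  rintro _ ((h | ⟨k, rfl⟩) | ⟨s, hs, rfl⟩)
  exacts [h1 h, h2 k, h3 s hs])

theorem R4C : D.R4 ≤ C[D.W] := D.R4_le D.WC D.wC fun _ => D.pC

theorem R4_le_Cm {y : Γ} (hy : y ∈ C[D.W]) (h2 : ∀ k, ⁅D.w k, y⁆ ∈ D.W)
    (h3 : ∀ s : Ph, s.Jh → ⁅D.p s, y⁆ ∈ D.W) : D.R4 ≤ D.Cm y :=
  D.R4_le (D.W_le_Cm hy) (fun k => ⟨D.wC k, h2 k⟩) fun s hs => ⟨D.pC hs, h3 s hs⟩

theorem cm_R4 {x y : Γ} (hx : x ∈ D.R4) (hy : y ∈ D.R4) : ⁅x, y⁆ ∈ D.W :=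
  (D.R4_le_Cm (D.R4C hy)
    (fun k => D.cm_symm (D.R4_le_Cm (D.wC k) (fun l => D.wc l k) (fun _ => D.wp k) hy).2)
    (fun s hs => D.cm_symm (D.R4_le_Cm (D.pC hs) (fun k => D.cm_symm (D.wp k hs))
      (fun _ hu => D.cm_pp hu hs) hy).2) hx).2

theorem sq_R4 {x : Γ} (hx : x ∈ D.R4) : x * x ∈ D.W := by
  induction hx using closure_induction with
  | mem x hx =>
    rcases hx with (h | ⟨k, rfl⟩) | ⟨s, hs, rfl⟩
    · exact mul_mem h h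
    · rw [D.ww]; exact one_mem _
    · by_cases h : D.I s
      · rw [← D.pm h h]; exact D.pW (Jh_facts s hs).2.1
      · rw [D.pn s h, mul_one]; exact one_mem _
  | one => rw [mul_one]; exact one_mem _
  | mul a b ha hb h1 h2 =>
    rw [show a * b * (a * b) = a * ⁅b, a⁆ * a⁻¹ * (a * a) * (b * b) by
      simp only [commutatorElement_def]; group, D.cjW (D.cm_R4 hb ha) (D.R4C ha)]
    exact mul_mem (mul_mem (D.cm_R4 hb ha) h1) h2
  | inv a ha h => rw [← mul_inv_rev]; exact inv_mem h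

theorem cj_R4 {y : Γ} (h0 : y ∈ N[D.W]) (h2 : ∀ k, y * D.w k * y⁻¹ ∈ D.R4)
    (h3 : ∀ s : Ph, s.Jh → y * D.p s * y⁻¹ ∈ D.R4) {x : Γ} (hx : x ∈ D.R4) : y * x * y⁻¹ ∈ D.R4 :=
  D.R4_le (A := D.R4.comap (MulAut.conj y).toMonoidHom) (fun _ h => D.W_le_R4 (conj_mem h0 h)) h2 h3 hx

theorem t_R4 {x : Γ} (hx : x ∈ D.R4) : D.t * x * D.t⁻¹ ∈ D.R4 :=
  D.cj_R4 D.tN (fun k => D.t_w k ▸ mul_mem (D.wR k) (D.pR (io_facts k).2.1))
    (fun s hs => by rw [(D.pt s).eq, mul_inv_cancel_right]; exact D.pR hs) hx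

theorem s_R4 {x : Γ} (hx : x ∈ D.R4) : D.p sg * x * (D.p sg)⁻¹ ∈ D.R4 :=
  D.cj_R4 D.sN (fun k => (mul_mem_cancel_right (D.wR _)).1 (D.W_le_R4 (D.sw k)))
    (fun s hs => by
      by_cases h : D.I s
      · rw [← D.p_cj (D.inn sg_facts.1) h]; exact D.pR (Jh_facts s hs).2.2.1
      · rw [D.pn s h, mul_one, mul_inv_cancel]; exact one_mem _) hx

theorem p_R4 (s : Ph) {x : Γ} (hx : x ∈ D.R4) : D.p s * x * (D.p s)⁻¹ ∈ D.R4 := by
  have k : ∀ s : Ph, s.Jh → D.p s * x * (D.p s)⁻¹ ∈ D.R4 := fun s hs =>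
    mul_mem (mul_mem (D.pR hs) hx) (inv_mem (D.pR hs))
  by_cases h1 : D.I s
  · by_cases h : s.Jh
    · exact k s h
    · rw [D.p_split h1 h, mul_inv_rev, ← mul_assoc, mul_assoc (D.p sg), mul_assoc (D.p sg)]
      exact D.s_R4 (k _ (not_Jh s h).1)
  · rw [D.pn s h1, one_mul, inv_one, mul_one]; exact hx

theorem two_R4 : IsPGroup 2 D.R4 := fun x => ⟨2, Subtype.ext (by
  have := D.W_sq (D.sq_R4 x.2)
  change (x : Γ) ^ 2 ^ 2 = 1
  rw [← this, show 2 ^ 2 = 1 + 1 + (1 + 1) from rfl, pow_add, pow_add, pow_one])⟩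

/-- the involutions of `t C(U0) W` -/
theorem inv_K {s : Ph} (hs : s.Jh) (hI : D.I s) {a : Γ} (ha : a ∈ D.W)
    (h : D.t * D.p s * a * (D.t * D.p s * a) = 1) : ∃ r ∈ D.R4, r * (D.t * D.p s * a) * r⁻¹ = D.t ∨
      (¬ s.inn ∧ r * (D.t * D.p s * a) * r⁻¹ = D.t * D.p c0) := by
  let Q : Ph → Prop := fun v => ∀ a ∈ D.W, D.t * D.p v * a * (D.t * D.p v * a) = 1 →
    ∃ r ∈ D.R4, r * (D.t * D.p v * a) * r⁻¹ = D.t ∨
      (¬ s.inn ∧ r * (D.t * D.p v * a) * r⁻¹ = D.t * D.p c0)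
  have step : ∀ (k : Fin 4) (s x : Ph), s.Jh → D.I s → x ∈ [1, io k] →
      (x * s).Jh ∧ D.I (x * s) ∧ (Q (x * s) → Q s) := by
    intro k s x hs hI hx
    simp only [List.mem_cons, List.not_mem_nil, or_false] at hx
    rcases hx with rfl | rfl
    · rw [one_mul]; exact ⟨hs, hI, id⟩
    have i := D.inn (io_facts k).1
    refine ⟨((Jh_facts _ (io_facts k).2.1).2.2.2 s hs).1, D.I_mul i hI, fun h a ha h2 => ?_⟩
    have hb := D.cm_symm (D.wp k hs)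
    have e : D.w k * (D.t * D.p s * a) * (D.w k)⁻¹ = D.t * D.p (io k * s) * (⁅D.w k, D.p s⁆ * a) := by
      rw [← conj_mul, ← conj_mul, D.wt, D.cjW ha (D.wC k), D.pm i hI,
        show D.w k * D.p s * (D.w k)⁻¹ = ⁅D.w k, D.p s⁆ * D.p s by simp [commutatorElement_def],
        (D.cw hb (D.pC hs)).eq]
      simp only [mul_assoc]
    obtain ⟨r, hr, h3⟩ := h _ (mul_mem hb ha) (by rw [← e, conj_mul, h2, mul_one, mul_inv_cancel])
    refine ⟨r * D.w k, mul_mem hr (D.wR k), ?_⟩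
    rwa [← e, show ∀ x, r * (D.w k * x * (D.w k)⁻¹) * r⁻¹ = r * D.w k * x * (r * D.w k)⁻¹ from
      fun x => by group] at h3
  obtain ⟨x, hx, y, hy, z, hz, h1⟩ := dec_i s hs
  obtain ⟨b1, b2, b3⟩ := step 3 s z hs hI hz
  obtain ⟨c1, c2, c3⟩ := step 2 _ y b1 b2 hy
  obtain ⟨d1, d2, d3⟩ := step 1 _ x c1 c2 hx
  refine b3 (c3 (d3 fun a ha h => ?_)) a ha h
  generalize x * (y * (z * s)) = v at *
  rcases h1 with h1 | ⟨h1, h2⟩
  · have e : D.t * D.p v * a = D.t * 1 * (D.p v * a) := by group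
    rw [e] at h ⊢
    obtain ⟨r, hr, e⟩ := D.inv_W (mul_mem (D.pW h1) ha) (one_mem _) (Commute.one_right _) (mul_one _) h
    exact ⟨r, D.W_le_R4 hr, .inl (e.trans (mul_one _))⟩
  · have hc := ((D.Iiff s).1 hI).resolve_left h1
    have e : D.t * D.p v * a = D.t * D.p c0 * (D.p (c0 * v) * a) := by
      rw [← mul_assoc, mul_assoc D.t (D.p c0), ← D.pm hc (D.I_all hc _), ← mul_assoc c0,
        sg_facts.2.2.2.2.2.2.2.2.2.2, one_mul]
    rw [e] at h ⊢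
    obtain ⟨r, hr, e⟩ := D.inv_W (mul_mem (D.pW h2) ha) (D.pC (by decide)) (D.pt _)
      (D.p_sq hc sg_facts.2.2.2.2.2.2.2.2.2.2) h
    exact ⟨r, D.W_le_R4 hr, .inr ⟨h1, e⟩⟩

theorem card_R4 [Finite Γ] : 1024 ≤ Nat.card D.R4 := by
  have hY : ∀ s : Ph, s.Y → s.Jh ∧ s.inn := by decide +kernel
  have : ∀ k : {s : Ph // s.Y}, ∃ c ∈ D.R4, c * D.t * c⁻¹ = D.t * D.p k * D.g (k * k) := by
    rintro ⟨k, hk⟩
    obtain ⟨h1, h2⟩ := hY k hk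
    have hu := (Jh_facts k h1).2.1
    obtain ⟨r, hr, e | e⟩ := D.inv_K h1 (D.inn h2) (D.gW hu) (by
      have e1 := D.t_g hu
      have e2 := (D.pt k).eq
      have e3 := (D.g_p (k * k) h1).eq
      have e4 := (D.g_p (k * k) (U0_facts _ hu).2.1).eq
      rw [D.t_inv] at e1
      calc D.t * D.p k * D.g (k * k) * (D.t * D.p k * D.g (k * k))
          = D.p k * (D.t * D.g (k * k) * D.t) * (D.p k * D.g (k * k)) := by
            nth_rewrite 1 [e2]; group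
        _ = D.g (k * k) * (D.p k * D.p (k * k) * D.p k) * D.g (k * k) := by
          rw [e1, ← mul_assoc (D.p k) (D.g _)]; nth_rewrite 1 [← e3]; group
        _ = 1 := by
          rw [← (D.cw (D.pW hu) (D.pC h1)).eq, mul_assoc (D.p (k * k)), ← D.pm (D.inn h2) (D.inn h2),
            D.W_sq (D.pW hu), mul_one, D.g_sq hu])
    · exact ⟨r⁻¹, inv_mem hr, by nth_rewrite 1 [← e]; group⟩
    · exact absurd h2 e.1
  choose c hc e using this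
  have c32 : Nat.card {s : Ph // s.Y} = 32 := by rw [Nat.card_eq_fintype_card]; decide +kernel
  refine le_trans (by rw [Nat.card_prod, c32]) (Nat.card_le_card_of_injective
    (fun x : {s : Ph // s.Y} × {s : Ph // s.Y} =>
      (⟨c x.1 * D.p x.2, mul_mem (hc _) (D.pR (hY _ x.2.2).1)⟩ : D.R4)) ?_)
  rintro ⟨k, k'⟩ ⟨l, l'⟩ h
  have h1 : c k * D.p k' = c l * D.p l' := congrArg Subtype.val h
  have h2 : ∀ (x : Γ) (s : Ph), x * D.p s * D.t * (x * D.p s)⁻¹ = x * D.t * x⁻¹ := fun x s => by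
    rw [mul_assoc x, ← (D.pt s).eq]; group
  have h3 := h2 (c k) k'
  rw [h1, h2, e, e, mul_assoc, mul_assoc, mul_right_inj] at h3
  obtain ⟨k1, k2⟩ := hY _ k.2
  obtain ⟨l1, l2⟩ := hY _ l.2
  have h4 : ((l : Ph)⁻¹ * k).U0 := D.p_mem_W (D.I_mul (D.I_inv (D.inn l2)) (D.inn k2)) (by
    rw [D.pm (D.I_inv (D.inn l2)) (D.inn k2), D.p_inv (D.inn l2),
      show (D.p l)⁻¹ * D.p k = D.g (l * l) * (D.g (k * k))⁻¹ by
        rw [inv_mul_eq_iff_eq_mul, ← mul_assoc, h3, mul_inv_cancel_right]]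
    exact mul_mem (D.gW (Jh_facts _ l1).2.1) (inv_mem (D.gW (Jh_facts _ k1).2.1)))
  have h5 : (k : Ph) * k = l * l := by
    obtain ⟨-, -, u1, -, -, u2⟩ := U0_facts _ h4
    rw [← mul_inv_cancel_left (l : Ph) k, mul_assoc, ← mul_assoc _ (l : Ph), u2 l l1, mul_assoc, u1,
      mul_one]
  rw [h5, mul_left_inj] at h3
  obtain rfl : k = l := Subtype.ext (D.pi (D.inn l2) (D.inn k2) h3).symm
  rw [Subtype.ext (D.pi (D.inn (hY _ k'.2).2) (D.inn (hY _ l'.2).2) (mul_left_cancel h1))]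

end WD

end H18.MW
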