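import Mathlib
import Cfsg.Agent.H18.MWb
import Cfsg.Agent.H0.MCQ0

/-!
# The wreath case for a standard subgroup `M₁₂`: the Sylow subgroup normalizes `W`
-/

set_option autoImplicit false
set_option linter.unusedSectionVars false
set_option linter.unusedVariables false
set_option maxRecDepth 100000

namespace H18.MW

open H5.MC H24 Subgroup
open scoped commutatorElement

/-- representatives of `Jh / U0` -/
def Rp (s : Ph) : Prop := s.n < 64 ∧ s.n % 4 < 2 ∧ s.n / 4 % 4 < 2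
instance (s : Ph) : Decidable (Rp s) := inferInstanceAs (Decidable (_ ∧ _))
theorem rp : ∀ s : Ph, s.Jh → ∃ k, Rp k ∧ k.Jh ∧ (k⁻¹ * s).U0 := by decide +kernel
set_option synthInstance.maxSize 4000 in
theorem rigid : ∀ k1, Rp k1 → k1 * k1 = j1 * j1 → ∀ k2, Rp k2 → k2 * k2 = j2 * j2 →
    k1 * k2 * (k1 * k2) = j1 * j2 * (j1 * j2) → ∀ k3, Rp k3 → k3 * k3 = i0 * i0 →
    k3 * k1 * (k3 * k1) = i0 * j1 * (i0 * j1) → k3 * k2 * (k3 * k2) = i0 * j2 * (i0 * j2) →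
    k3 * k1 * k2 * (k3 * k1 * k2) = i0 * j1 * j2 * (i0 * j1 * j2) → ∀ k4, Rp k4 → k4 * k4 = c0 * c0 →
    k4 * k1 * (k4 * k1) = c0 * j1 * (c0 * j1) → k4 * k2 * (k4 * k2) = c0 * j2 * (c0 * j2) →
    k3 * k4 * (k3 * k4) = i0 * c0 * (i0 * c0) → k1 = j1 ∧ k2 = j2 ∧ k3 = i0 ∧ k4 = c0 := by decide +kernel
theorem cent_j : ∀ (k : Fin 4) (s : Ph), s.Jh → s * io k = io k * s → s * j1 * s⁻¹ * j1⁻¹ = 1 →
    s * j2 * s⁻¹ * j2⁻¹ = 1 → s.U0 := by decide +kernel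
theorem cent_i1 : ∀ s : Ph, s.Jh → s * io 1 = io 1 * s → (∃ u ∈ [1, z1, z2, z3], ∃ c ∈ [1, io 1],
    ∃ d ∈ [1, ee 1], s = u * c * d) ∧ (s * s = 1 → (s * j1 * s⁻¹ * j1⁻¹ = 1 ∧ s * j2 * s⁻¹ * j2⁻¹ = 1) ∨
    (s * j1 * s⁻¹ * j1⁻¹ = z1 ∧ s * j2 * s⁻¹ * j2⁻¹ = z2)) := by decide +kernel

namespace WB

variable {Γ : Type*} [Group Γ] (D : WB Γ)

theorem cm_aL {a y : Γ} (x : Γ) (ha : a ∈ D.W) (hy : y ∈ C[D.W]) : ⁅x * a, y⁆ = ⁅x, y⁆ := by
  rw [cm_mul_left, (show Commute a y from D.cw ha hy).commutator_eq]; simp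

theorem cm_aR {a y : Γ} (x : Γ) (ha : a ∈ D.W) (hy : y ∈ C[D.W]) : ⁅y, x * a⁆ = ⁅y, x⁆ := by
  rw [cm_mul_right, (show Commute a y from D.cw ha hy).symm.commutator_eq]; simp

theorem pU {A : Subgroup Γ} (h3 : D.p z1 ∈ A) (h4 : D.p z2 ∈ A) {v : Ph} (hv : v.U0) : D.p v ∈ A := by
  rcases hv with rfl | rfl | rfl | rfl
  exacts [D.p_one ▸ one_mem _, h3, h4, D.p_z3 ▸ mul_mem h3 h4]

theorem Jh_of {s : Ph} (hs : D.I s) (h : Commute (D.p s) (D.p z2)) : s.Jh := by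
  by_contra h1
  exact (not_Jh s h1).2.1 (D.comm_p hs (D.IU Uz2) h)

theorem z1_ne : D.p z1 ≠ 1 := fun h => absurd (D.p_eq_one (D.IU Uz1) h) (by decide)

theorem a1t : ¬ Commute D.a1 D.t := fun h => by
  have h1 := D.ta1
  rw [h.eq, mul_inv_cancel_right] at h1
  exact D.z1_ne (left_eq_mul.1 h1)

theorem s_notC : D.p sg ∉ C[D.W] := fun h =>
  absurd (D.Jh_of (D.inn sg_facts.1) (D.cw (D.pW Uz2) h).symm) (by decide)

theorem sq_pa {s : Ph} (hs : s.Jh) (hI : D.I s) {a : Γ} (ha : a ∈ D.W) :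
    D.p s * a * (D.p s * a) = D.p (s * s) := by
  rw [mul_assoc, ← mul_assoc a, (D.cw ha (D.pC hs)).eq, mul_assoc, D.W_sq ha, mul_one, D.pm hI hI]

end WB

theorem cm_mem {Γ : Type*} [Group Γ] {V : Subgroup Γ} {x n : Γ} (hx : x ∈ V) (hn : n ∈ N[V]) :
    ⁅x, n⁆ ∈ V ∧ ⁅n, x⁆ ∈ V := by
  have : ⁅n, x⁆ ∈ V := mul_mem (conj_mem hn hx) (inv_mem hx)
  exact ⟨by rw [← commutatorElement_inv]; exact inv_mem this, this⟩

namespace WD

variable {Γ : Type*} [Group Γ] (D : WD Γ)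

theorem cm_wt (k : Fin 4) : ⁅D.w k, D.t⁆ = D.p (io k) := by
  rw [commutatorElement_def, D.wt, (D.pt _).eq, mul_inv_cancel_right]

theorem cmp1 {V : Subgroup Γ} (h2 : ∀ e ∈ V, e * e = 1) (hR : D.R4 ≤ N[V]) {s : Ph} (hs : s.Jh)
    (hI : D.I s) (hU : ¬ s.U0) {a : Γ} (ha : a ∈ D.W) (h : D.p s * a ∈ V) : D.W ≤ V := by
  have e : s * s = 1 := D.p_eq_one (D.I_mul hI hI) (by rw [← D.sq_pa hs hI ha, h2 _ h])
  have k : ∀ u ∈ [z1, z2], D.p u ∈ V ∧ ∃ v : Ph, v.U0 ∧ D.g u * D.p v ∈ V := fun u hu => by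
    obtain ⟨⟨j, hj, e1⟩, k, e2⟩ := span_k s hs e hU u hu
    have hj' : j.Jh ∧ j.inn := by
      simp only [List.mem_cons, List.not_mem_nil, or_false] at hj
      rcases hj with rfl | rfl | rfl <;> decide
    refine ⟨?_, ?_⟩
    · rw [← e1, D.p_cm hI (D.inn hj'.2), ← D.cm_aL _ ha (D.pC hj'.1)]
      exact (cm_mem h (hR (D.pR hj'.1))).1
    · obtain ⟨v, hv, -, e3⟩ := D.W_cls (D.cm_symm (D.wp k hs))
        (D.IU ((Jh_facts _ (io_facts k).2.1).2.2.2 s hs).2) (D.w_cls k hs hI)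
      refine ⟨v, hv, ?_⟩
      rw [← e2, ← e3, ← D.cm_aR _ ha (D.wC k)]
      exact (cm_mem h (hR (D.wR k))).2
  obtain ⟨b1, v1, c1, d1⟩ := k z1 (by simp)
  obtain ⟨b2, v2, c2, d2⟩ := k z2 (by simp)
  rw [mul_mem_cancel_right (D.pU b1 b2 c1), WB.g_z1] at d1
  rw [mul_mem_cancel_right (D.pU b1 b2 c2), WB.g_z2] at d2
  exact D.W_le d1 d2 b1 b2

/-- the elements of `C(W)` commuting with `R4` modulo `W` -/
def A : Subgroup Γ := ⨅ r : D.R4, D.Cm r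

theorem mem_A {y : Γ} : y ∈ D.A ↔ y ∈ C[D.W] ∧ ∀ r ∈ D.R4, ⁅y, r⁆ ∈ D.W := by
  rw [A, mem_iInf]
  exact ⟨fun h => ⟨(h 1).1, fun r hr => (h ⟨r, hr⟩).2⟩, fun h r => ⟨h.1, h.2 r r.2⟩⟩

theorem R4A : D.R4 ≤ D.A := fun _ h => D.mem_A.2 ⟨D.R4C h, fun _ => D.cm_R4 h⟩

end WD

structure WK (Γ : Type*) [Group Γ] extends WD Γ where
  two : IsPGroup 2 Γ
  cent : ∀ g, Commute g t → ∃ s, I s ∧ (g = p s ∨ g = t * p s)
  T : Γ → Prop
  Tt : T t
  Tc : ∀ {x} g, T x → T (g * x * g⁻¹)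
  T2 : ∀ {x}, T x → x * x = 1
  E16 : ∀ {x Y}, T x → Y ≤ C{x} → toWB.W ≤ Y → Y ≤ C[toWB.W] → Nat.card Y ≤ 32
  E32 : ∀ {x} {E E' : Subgroup Γ}, T x → E ≤ C{x} → E' ≤ C{x} → (∀ e ∈ E, e * e = 1) →
    (∀ e ∈ E', e * e = 1) → 32 ≤ Nat.card E → 32 ≤ Nat.card E' → E = E'
  tr : ∀ R : Subgroup Γ, R.index = 2 → t ∉ R → ∃ x ∈ R, T x ∧ Nat.card ↥(C{x} ⊓ C[C{x}]) = 4

namespace WK

variable {Γ : Type*} [Group Γ] [Finite Γ] (D : WK Γ)

include D in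
theorem nil (K : Subgroup Γ) : Group.IsNilpotent K :=
  haveI : Fact (Nat.Prime 2) := ⟨Nat.prime_two⟩
  (D.two.to_subgroup K).isNilpotent

include D in
theorem ex {U H : Subgroup Γ} (h : ¬ U ≤ H) : ∃ x ∈ U, x ∉ H ∧ ∀ k ∈ N[U], ⁅x, k⁆ ∈ H := by
  obtain ⟨x, h1, h2, h3⟩ := H13.exists_not_mem_commutator_mem (D.nil N[U]) (norm_self U) le_rfl h
  exact ⟨x, h1, h2, fun k hk => (h3 k hk).1⟩

theorem fixW {r : Γ} (h : ⁅r, D.t⁆ ∈ D.W) :
    ∃ s, D.I s ∧ ∃ a ∈ D.W, r = D.p s * a ∨ r = D.t * D.p s * a := by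
  have e : r * D.t * r⁻¹ = D.t * 1 * (D.t * ⁅r, D.t⁆ * D.t⁻¹) := by
    rw [mul_one, ← mul_assoc, ← mul_assoc, D.tt, one_mul, commutatorElement_def, mul_assoc _ D.t⁻¹,
      ← mul_inv_rev, D.tt, inv_one, mul_one]
  obtain ⟨b, hb, e2⟩ := D.inv_W (D.tW h) (one_mem _) (Commute.one_right _) (mul_one _)
    (by rw [← e, conj_mul, D.tt, mul_one, mul_inv_cancel])
  rw [← e, mul_one] at e2
  obtain ⟨s, hs, e3⟩ := D.cent (b * r) (mem_C1.1 (mem_C1_iff_conj.2 (by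
    rw [mul_inv_rev, ← mul_assoc, mul_assoc b, mul_assoc b, e2])))
  refine ⟨s, hs, ?_⟩
  rcases e3 with e3 | e3
  · exact ⟨_, conj_mem' (D.pN s) (inv_mem hb), .inl (by rw [← e3]; group)⟩
  · exact ⟨_, conj_mem' (mul_mem D.tN (D.pN s)) (inv_mem hb), .inr (by rw [← e3]; group)⟩

theorem fixC {r : Γ} (hr : r ∈ C[D.W]) (h : ⁅r, D.t⁆ ∈ D.W) :
    ∃ s : Ph, s.Jh ∧ D.I s ∧ ∃ a ∈ D.W, r = D.p s * a := by
  obtain ⟨s, hs, a, ha, rfl | rfl⟩ := D.fixW h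
  · rw [mul_mem_cancel_right (D.WC ha)] at hr
    exact ⟨s, D.Jh_of hs (D.cw (D.pW WB.Uz2) hr).symm, hs, a, ha, rfl⟩
  · rw [mul_mem_cancel_right (D.WC ha)] at hr
    have := D.Jh_of hs (by
      have := (D.pt z2).inv_left.mul_left (D.cw (D.pW WB.Uz2) hr).symm
      rwa [inv_mul_cancel_left] at this)
    exact absurd ((mul_mem_cancel_right (D.pC this)).1 hr) D.t_notC

theorem cmp {V : Subgroup Γ} (h2 : ∀ e ∈ V, e * e = 1) (hR : D.R4 ≤ N[V]) (ht : D.t ∈ N[V])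
    (h : ¬ V ≤ D.W) : D.W ≤ V := by
  obtain ⟨y, hy, h1, h3⟩ := D.ex h
  obtain ⟨s, hs, a, ha, e⟩ := D.fixW (h3 _ ht)
  by_cases hJ : s.Jh
  · rcases e with rfl | rfl
    · exact D.cmp1 h2 hR hJ hs (fun hU => h1 (mul_mem (D.pW hU) ha)) ha hy
    · have := (cm_mem hy (hR (D.wR 1))).2
      rw [D.cm_aR _ ha (D.wC 1), cm_mul_right, D.cm_wt] at this
      exact D.cmp1 h2 hR (io_facts 1).2.1 (D.inn (io_facts 1).1) (io_facts 1).2.2.1
        (D.tW (D.cm_symm (D.wp 1 hJ))) this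
  · have j : D.I j2 := D.inn (by decide)
    have e1 : ⁅y, D.p j2⁆ = D.p (s * j2 * s⁻¹ * j2⁻¹) := by
      rw [D.p_cm hs j]
      rcases e with rfl | rfl
      · exact D.cm_aL _ ha (D.pC (by decide))
      · rw [D.cm_aL _ ha (D.pC (by decide)), cm_mul_left, (D.pt j2).commutator_eq, mul_one,
          ← D.p_cm hs j, (D.pt _).eq, mul_inv_cancel_right]
    have := h2 _ (cm_mem hy (hR (D.pR (s := j2) (by decide)))).1
    have i := D.I_mul (D.I_mul (D.I_mul hs j) (D.I_inv hs)) (D.I_inv j)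
    rw [e1, ← D.pm i i] at this
    exact absurd (D.p_eq_one (D.I_mul i i) this) (not_Jh s hJ).2.2.2

/-- `W` is normal -/
theorem WN (g : Γ) : g ∈ N[D.W] := by
  by_contra hg
  obtain ⟨s, -, h1, h2⟩ := H13.exists_mem_normalizer_of_lt (D.nil ⊤) (H := N[D.W])
    (lt_top_iff_ne_top.2 fun e => hg (e ▸ mem_top g))
  have n : N[D.W] ≤ N[cj s D.W] := by rw [← cj_N, cj_of_mem_N h2]
  by_cases h : cj s D.W ≤ D.W
  · exact h1 (mem_N_of_cj_le h)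
  · refine h1 (mem_N_of_le_cj (D.cmp (fun e he => ?_) ((D.R4C.trans (C_le_N _)).trans n) (n D.tN) h))
    obtain ⟨a, ha, rfl⟩ := mem_cj'.1 he
    rw [conj_mul, D.W_sq ha, mul_one, mul_inv_cancel]

theorem CN (g : Γ) : g ∈ N[C[D.W]] := N_le_NC _ (D.WN g)

theorem z1C (g : Γ) : Commute g (D.p z1) := by
  obtain ⟨c, h1, h2, h3⟩ := D.ex (U := D.W) (H := ⊥) fun h => D.z1_ne (h (D.pW WB.Uz1))
  have k : ∀ g, Commute c g := fun g => commutatorElement_eq_one_iff_commute.1 (h3 g (D.WN g))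
  rcases D.W_sg h1 (k _) with rfl | rfl | rfl | rfl
  · exact (h2 (one_mem _)).elim
  · exact (k g).symm
  · exact (D.a1t (k _)).elim
  · have := (k D.t).mul_left (D.pt z1).symm.inv_left
    rw [mul_inv_cancel_right] at this
    exact (D.a1t this).elim

theorem CR : C[D.R4] ≤ D.W := by
  by_contra h
  obtain ⟨y, hy, h1, h3⟩ := D.ex h
  obtain ⟨s, hs, hI, a, ha, rfl⟩ := D.fixC (C_anti D.W_le_R4 hy)
    (h3 _ (N_le_NC _ (mem_N_of_finite fun _ => D.t_R4)))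
  refine h1 (mul_mem (D.pW (cent_i s hs fun k => ?_)) ha)
  have e := D.w_cls k hs hI
  rw [← D.cm_aR _ ha (D.wC k), (show Commute _ _ from mem_C.1 hy _ (D.wR k)).commutator_eq, mul_one,
    mul_inv_cancel, one_mul] at e
  have := D.p_eq_one (D.IU ((Jh_facts _ (io_facts k).2.1).2.2.2 s hs).2) e.symm
  rwa [mul_inv_eq_one, mul_inv_eq_iff_eq_mul] at this

theorem sq_A {y : Γ} (hy : y ∈ D.A) : y * y ∈ D.W := D.CR (mem_C'.2 fun r hr => by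
  obtain ⟨h1, h2⟩ := D.mem_A.1 hy
  refine (commutatorElement_eq_one_iff_commute.1 ?_).eq
  rw [cm_mul_left, D.cjW (h2 r hr) h1, D.W_sq (h2 r hr)])

theorem move {y : Γ} (h : ⁅y, D.t⁆ ∈ D.A) : ∃ r ∈ D.R4, Commute (r * y) D.t ∨
    (D.I c0 ∧ r * y * D.t * (r * y)⁻¹ = D.t * D.p c0) := by
  have e : y * D.t * y⁻¹ = ⁅y, D.t⁆ * D.t := by rw [commutatorElement_def, inv_mul_cancel_right]
  generalize ⁅y, D.t⁆ = c at h e
  have e1 : c * D.t * (c * D.t) = 1 := by rw [← e, conj_mul, D.tt, mul_one, mul_inv_cancel]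
  have e2 : D.t * c * D.t⁻¹ = c⁻¹ := by
    rw [D.t_inv, eq_inv_iff_mul_eq_one, mul_eq_one_comm, ← e1]
    simp only [mul_assoc]
  obtain ⟨s, hs, hI, a, ha, rfl⟩ := D.fixC (D.mem_A.1 h).1 (by
    rw [show ⁅c, D.t⁆ = c * (D.t * c * D.t⁻¹)⁻¹ by rw [commutatorElement_def]; group, e2, inv_inv]
    exact D.sq_A h)
  have e3 : D.p s * a * D.t = D.t * D.p s * (D.t⁻¹ * a * D.t) := by rw [(D.pt s).eq]; group
  rw [e3] at e e1
  obtain ⟨r, hr, h1⟩ := D.inv_K hs hI (conj_mem' D.tN ha) e1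
  rw [← e, show r * (y * D.t * y⁻¹) * r⁻¹ = r * y * D.t * (r * y)⁻¹ by group] at h1
  exact ⟨r, hr, h1.imp (fun h => mem_C1.1 (mem_C1_iff_conj.2 h))
    fun h => ⟨((D.Iiff s).1 hI).resolve_left h.1, h.2⟩⟩

section rig

variable {y : Γ} (hc : D.I c0) (hy : y * D.t * y⁻¹ = D.t * D.p c0) (hz : Commute y (D.p z2))
  (hA : ∀ r ∈ D.R4, y * r * y⁻¹ ∈ D.A)
include hc hy hz hA

theorem rig0 {r : Γ} (hr : r ∈ D.R4) : ∃ b ∈ D.W, ⁅y * r * y⁻¹, D.t⁆ = y * ⁅r, D.t⁆ * y⁻¹ * b := by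
  rw [conjugate_commutatorElement, hy, cm_mul_right]
  exact ⟨_, inv_mem (D.tW ((D.mem_A.1 (hA r hr)).2 _ (D.pR (s := c0) (by decide)))),
    (mul_inv_cancel_right _ _).symm⟩

theorem rig1 {s : Ph} (hs : s.Jh) : ∃ b ∈ D.W, y * D.p s * y⁻¹ = D.p s * b := by
  let M : Ph → Ph → Prop := fun s k => s.Jh ∧ k.Jh ∧ ∃ a ∈ D.W, y * D.p s * y⁻¹ = D.p k * a
  have I := D.I_all hc
  have m0 : ∀ s : Ph, s.Jh → ∃ k, Rp k ∧ M s k := fun s hs => by
    obtain ⟨b, hb, e⟩ := D.rig0 hc hy hz hA (D.pR hs)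
    rw [(D.pt s).symm.commutator_eq, mul_one, mul_inv_cancel, one_mul] at e
    obtain ⟨k, hk, -, a, ha, e1⟩ := D.fixC (D.mem_A.1 (hA _ (D.pR hs))).1 (e ▸ hb)
    obtain ⟨l, l1, l2, l3⟩ := rp k hk
    exact ⟨l, l1, hs, l2, _, mul_mem (D.pW l3) ha, by
      rw [e1, ← mul_assoc, ← D.pm (I _) (I _), mul_inv_cancel_left]⟩
  have mm : ∀ {s k s' k'}, M s k → M s' k' → M (s * s') (k * k') := by
    rintro s k s' k' ⟨h1, h2, a, ha, e⟩ ⟨h1', h2', a', ha', e'⟩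
    refine ⟨((Jh_facts s h1).2.2.2 _ h1').1, ((Jh_facts k h2).2.2.2 _ h2').1, _, mul_mem ha ha', ?_⟩
    rw [D.pm (I _) (I _), D.pm (I _) (I _), ← conj_mul, e, e', mul_assoc, ← mul_assoc a,
      (D.cw ha (D.pC h2')).eq]
    simp only [mul_assoc]
  have ms : ∀ {s k}, M s k → k * k = s * s := by
    rintro s k ⟨h1, h2, a, ha, e⟩
    refine D.pi (I _) (I _) ?_
    rw [← D.sq_pa h2 (I _) ha, ← e, conj_mul, ← D.pm (I _) (I _)]
    exact mem_C1_iff_conj.1 (mem_C1_comm.1 (D.pU (A := C{y}) (mem_C1.2 (D.z1C y).symm.eq)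
      (mem_C1.2 hz.symm.eq) (Jh_facts s h1).2.1))
  obtain ⟨k1, r1, m1⟩ := m0 j1 (by decide)
  obtain ⟨k2, r2, m2⟩ := m0 j2 (by decide)
  obtain ⟨k3, r3, m3⟩ := m0 i0 (by decide)
  obtain ⟨k4, r4, m4⟩ := m0 c0 (by decide)
  obtain ⟨rfl, rfl, rfl, rfl⟩ := rigid k1 r1 (ms m1) k2 r2 (ms m2) (ms (mm m1 m2)) k3 r3 (ms m3)
    (ms (mm m3 m1)) (ms (mm m3 m2)) (ms (mm (mm m3 m1) m2)) k4 r4 (ms m4) (ms (mm m4 m1)) (ms (mm m4 m2))
    (ms (mm m3 m4))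
  have k : ∀ {s}, M s s → D.p s ∈ D.Cm y := by
    rintro s ⟨h1, -, a, ha, e⟩
    refine ⟨D.pC h1, D.cm_symm ?_⟩
    rw [commutatorElement_def, e, D.cjW ha (D.pC h1)]
    exact ha
  have := D.cm_symm (D.gen 0 (fun a ha => (⟨D.WC ha, (cm_mem ha (D.WN y)).1⟩ : a ∈ D.Cm y))
    (k m1) (k m2) (k m3) (k m4) hs).2
  exact ⟨_, this, by rw [← (D.cw this (D.pC hs)).eq, commutatorElement_def, inv_mul_cancel_right]⟩

theorem rig2 (k : Fin 4) : ∃ s : Ph, s.Jh ∧ s * io k = io k * s ∧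
    (∃ a ∈ D.W, y * D.w k * y⁻¹ = D.w k * (D.p s * a)) ∧
    y * D.a1 * y⁻¹ = D.p (s * j1 * s⁻¹ * j1⁻¹) * D.a1 ∧ y * D.a2 * y⁻¹ = D.p (s * j2 * s⁻¹ * j2⁻¹) * D.a2 := by
  have I := D.I_all hc
  have hi := (io_facts k).2.1
  have xC := (D.mem_A.1 (hA _ (D.wR k))).1
  obtain ⟨b, hb, e⟩ := D.rig0 hc hy hz hA (D.wR k)
  obtain ⟨b', hb', e'⟩ := D.rig1 hc hy hz hA hi
  rw [D.cm_wt, e', mul_assoc (D.p _)] at e
  obtain ⟨s, hs, -, a, ha, e1⟩ := D.fixC (mul_mem (D.wC k) xC) (by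
    rw [cm_mul_left, e, D.cm_wt, ← conj_mul, D.cjW (mul_mem hb' hb) (D.wC k), (D.wi k).eq,
      mul_inv_cancel_right, ← D.cw (mul_mem hb' hb) (D.pC hi), mul_assoc, D.p_sq (I _) (io_facts k).2.2.2.1,
      mul_one]
    exact mul_mem hb' hb)
  have e2 : y * D.w k * y⁻¹ = D.w k * (D.p s * a) := by rw [← e1, ← mul_assoc (D.w k), D.ww, one_mul]
  have q : ∀ {j : Ph} {c : Γ}, j.Jh → c ∈ D.W → (∃ u : Ph, u.U0 ∧ D.w k * D.p j * (D.w k)⁻¹ = D.p j * c * D.p u) →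
      y * c * y⁻¹ = D.p (s * j * s⁻¹ * j⁻¹) * c := by
    rintro j c hj hc' ⟨u, hu, e3⟩
    obtain ⟨d, hd, e4⟩ := D.rig1 hc hy hz hA hj
    have e5 : ⁅D.w k, D.p j⁆ = c * D.p u := by
      rw [commutatorElement_def, e3, mul_assoc (D.p j), D.cjW (mul_mem hc' (D.pW hu)) (D.pC hj)]
    have e6 := conjugate_commutatorElement (D.w k) (D.p j) y
    rw [e4, D.cm_aR _ hd xC, e2, ← mul_assoc (D.w k), D.cm_aL _ ha (D.pC hj), cm_mul_left,
      D.cjW (D.cm_pp hs hj) (D.wC k), e5, ← conj_mul, ← D.p_cm (I _) (I _), ← mul_assoc _ c,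
      mem_C1_iff_conj.1 (mem_C1_comm.1 (D.pU (A := C{y}) (mem_C1.2 (D.z1C y).symm.eq)
      (mem_C1.2 hz.symm.eq) hu))] at e6
    exact mul_right_cancel e6
  refine ⟨s, hs, D.comm_p (I _) (I _) ?_, ⟨a, ha, e2⟩, q (by decide) D.a1W (D.wj1 k),
    q (by decide) D.a2W (D.wj2 k)⟩
  have c1 : Commute (y * D.w k * y⁻¹) (D.p (io k)) := by
    have := ((D.wi k).conj y).mul_right (D.cw hb' xC).symm.inv_right
    rwa [e', mul_inv_cancel_right] at this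
  have := ((D.wi k).mul_left c1).mul_left (D.cw ha (D.pC hi)).inv_left
  rwa [e1, mul_inv_cancel_right] at this

end rig

/-- `C(W)` commutes with `R4` modulo `W` -/
theorem CA : C[D.W] ≤ D.A := by
  by_contra h
  obtain ⟨y, hy, h1, h3⟩ := D.ex h
  obtain ⟨r, hr, h4⟩ := D.move (h3 _ (D.CN _))
  have hC := mul_mem (D.R4C hr) hy
  refine h1 ((mul_mem_cancel_left (D.R4A hr)).1 ?_)
  rcases h4 with h4 | ⟨hc, h4⟩
  · obtain ⟨s, hs, -, a, ha, e⟩ := D.fixC hC (D.cm_of_comm h4)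
    rw [e]
    exact D.R4A (mul_mem (D.pR hs) (D.W_le_R4 ha))
  have hA : ∀ x ∈ D.R4, r * y * x * (r * y)⁻¹ ∈ D.A := fun x hx => by
    rw [show r * y * x * (r * y)⁻¹ = r * (⁅y, x⁆ * x) * r⁻¹ by rw [commutatorElement_def]; group]
    exact mul_mem (mul_mem (D.R4A hr) (mul_mem (h3 _ (D.CN _)) (D.R4A hx))) (inv_mem (D.R4A hr))
  generalize r * y = x at *
  have hz := (D.cw (D.pW WB.Uz2) hC).symm
  have I := D.I_all hc
  refine D.mem_A.2 ⟨hC, fun v hv => D.cm_symm (D.R4_le_Cm hC (fun k => D.cm_symm ?_)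
    (fun s hs => D.cm_symm ?_) hv).2⟩
  · obtain ⟨s, hs, e, ⟨a, ha, e1⟩, e2, e3⟩ := D.rig2 hc h4 hz hA k
    rw [D.cjW D.a1W hC, right_eq_mul] at e2
    rw [D.cjW D.a2W hC, right_eq_mul] at e3
    have := mul_mem (D.pW (cent_j k s hs e (D.p_eq_one (I _) e2) (D.p_eq_one (I _) e3))) ha
    rw [commutatorElement_def, e1, D.cjW this (D.wC k)]
    exact this
  · obtain ⟨b, hb, e⟩ := D.rig1 hc h4 hz hA hs
    rw [commutatorElement_def, e, D.cjW hb (D.pC hs)]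
    exact hb

/-- the preimage of the four-group `⟨t, sg⟩` -/
def K : Subgroup Γ := C[D.W] ⊔ (zpowers D.t ⊔ zpowers (D.p sg))

theorem CK : C[D.W] ≤ D.K := le_sup_left
theorem tK : D.t ∈ D.K := mem_sup_right (mem_sup_left (mem_zpowers _))
theorem sK : D.p sg ∈ D.K := mem_sup_right (mem_sup_right (mem_zpowers _))
theorem pK (s : Ph) : D.p s ∈ D.K := by
  by_cases h1 : D.I s
  · by_cases h : s.Jh
    · exact D.CK (D.pC h)
    · rw [D.p_split h1 h]; exact mul_mem D.sK (D.CK (D.pC (not_Jh s h).1))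
  · rw [D.pn s h1]; exact one_mem _

theorem mem_K {y : Γ} (h : y ∈ D.K) :
    ∃ c ∈ C[D.W], y = c ∨ y = c * D.p sg ∨ y = c * D.t ∨ y = c * (D.t * D.p sg) := by
  obtain ⟨c, hc, _, hd, rfl⟩ := (mem_sup_of_norm fun g _ => D.CN g).1 h
  obtain ⟨a, ha, b, hb, rfl⟩ := (mem_sup_of_norm (norm_zpowers_of_cent
    (zpowers_le.2 (mem_C1.2 (D.pt sg).symm.eq)))).1 hd
  refine ⟨c, hc, ?_⟩
  rcases Q0.mem_zp D.tt ha with rfl | rfl <;>
    rcases Q0.mem_zp (D.p_sq (D.inn sg_facts.1) sg_facts.2.1) hb with rfl | rfl <;>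
    simp only [mul_one, one_mul, true_or, or_true]

theorem cm_C {c : Γ} (hc : c ∈ C[D.W]) (x y : Γ) : ⁅c * x, y⁆ ∈ C[D.W] ↔ ⁅x, y⁆ ∈ C[D.W] := by
  rw [cm_mul_left, mul_mem_cancel_right (cm_mem hc (D.CN y)).1, conj_mem_iff (D.CN c)]

theorem K_cm {y x : Γ} (h : y ∈ D.K) (h1 : Commute D.t x) (h2 : Commute (D.p sg) x) : ⁅y, x⁆ ∈ C[D.W] := by
  obtain ⟨c, hc, rfl | rfl | rfl | rfl⟩ := D.mem_K h
  · exact (cm_mem hc (D.CN x)).1
  · rw [D.cm_C hc, h2.commutator_eq]; exact one_mem _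
  · rw [D.cm_C hc, h1.commutator_eq]; exact one_mem _
  · rw [D.cm_C hc, (h1.mul_left h2).commutator_eq]; exact one_mem _

theorem rig3 {y : Γ} (hc : D.I c0) (hy : y * D.t * y⁻¹ = D.t * D.p c0) (hz : Commute y (D.p z2)) :
    y ∈ D.K := by
  have I := D.I_all hc
  obtain ⟨s, hs, e, ⟨a, ha, e1⟩, e2, e3⟩ := D.rig2 hc hy hz
    (fun r hr => D.CA (conj_mem (D.CN y) (D.R4C hr))) 1
  obtain ⟨⟨u, hu, c, hc, d, hd, e4⟩, h⟩ := cent_i1 s hs e
  simp only [List.mem_cons, List.not_mem_nil, or_false] at hu hc hd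
  have c1 : Commute (D.w 1) (D.p s) := by
    rw [e4, D.pm (I _) (I _), D.pm (I _) (I _)]
    refine ((D.cw (D.pW hu) (D.wC 1)).symm.mul_right ?_).mul_right ?_
    · rcases hc with rfl | rfl
      exacts [D.p_one ▸ Commute.one_right _, D.wi 1]
    · rcases hd with rfl | rfl
      exacts [D.p_one ▸ Commute.one_right _, D.we 1]
  have c2 := c1.mul_right (D.cw ha (D.wC 1)).symm
  have e5 : D.w 1 * (D.p s * a) * (D.w 1 * (D.p s * a)) = 1 := by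
    rw [← e1, conj_mul, D.ww, mul_one, mul_inv_cancel]
  rw [c2.symm.mul_mul_mul_comm, D.ww, one_mul, D.sq_pa hs (I _) ha] at e5
  have cj : ∀ {x y : Γ}, y * x * y⁻¹ = x → Commute y x := fun h => mem_C1.1 (mem_C1_iff_conj.2 h)
  rcases h (D.p_eq_one (I _) e5) with ⟨f1, f2⟩ | ⟨f1, f2⟩
  · rw [f1, D.p_one, one_mul] at e2
    rw [f2, D.p_one, one_mul] at e3
    exact D.CK (D.mem_CW (cj e2) (cj e3) (D.z1C y) hz)
  · have k : ∀ {u : Ph}, u.U0 → Commute y (D.p u) → y * D.g u * y⁻¹ = D.p u * D.g u →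
        Commute (y * D.t) (D.g u) := fun {u} hu h1 h2 => cj (by
      rw [mul_inv_rev, ← mul_assoc, mul_assoc y, mul_assoc y, D.t_g hu, ← conj_mul, h2, h1.eq,
        mul_inv_cancel_right, D.cw (D.pW hu) (D.WC (D.gW hu)), mul_assoc, D.W_sq (D.pW hu), mul_one])
    rw [f1, ← D.g_z1] at e2
    rw [f2, ← D.g_z2] at e3
    refine (mul_mem_cancel_right D.tK).1 (D.CK (D.mem_CW ?_ ?_ (D.z1C _) (hz.mul_left (D.pt _))))
    · exact D.g_z1 ▸ k WB.Uz1 (D.z1C y) e2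
    · exact D.g_z2 ▸ k WB.Uz2 hz e3

/-- the centralizer of `t` modulo `C(W)` -/
theorem KK {y : Γ} (h : ⁅y, D.t⁆ ∈ C[D.W]) : y ∈ D.K := by
  obtain ⟨r, hr, h4⟩ := D.move (D.CA h)
  refine (mul_mem_cancel_left (D.CK (D.R4C hr))).1 ?_
  generalize r * y = x at *
  rcases h4 with h4 | ⟨hc, h4⟩
  · obtain ⟨s, -, rfl | rfl⟩ := D.cent x h4
    exacts [D.pK s, mul_mem D.tK (D.pK s)]
  have I := D.I_all hc
  have m := conj_mem (D.WN x) (D.pW WB.Uz2)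
  obtain ⟨v, hv, e⟩ := D.W_t m (by
    have := ((D.pt z2).symm.conj x).mul_right (D.cw m (D.pC (s := c0) (by decide))).inv_right
    rwa [h4, mul_inv_cancel_right] at this)
  rcases hv with rfl | rfl | rfl | rfl
  · rw [D.p_one, conj_eq_one_iff] at e
    exact absurd (D.p_eq_one (I _) e) (by decide)
  · rw [mul_inv_eq_iff_eq_mul, ← (D.z1C x).eq, mul_right_inj] at e
    exact absurd (D.pi (I _) (I _) e) (by decide)
  · exact D.rig3 hc h4 (mem_C1.1 (mem_C1_iff_conj.2 e))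
  · obtain ⟨-, -, -, -, f1, -, -, -, -, f2, -⟩ := sg_facts
    have q : ∀ a : Γ, D.w 0 * D.p sg * x * a * (D.w 0 * D.p sg * x)⁻¹ =
        D.w 0 * (D.p sg * (x * a * x⁻¹) * (D.p sg)⁻¹) * (D.w 0)⁻¹ := fun a => by group
    refine (mul_mem_cancel_left (mul_mem (D.CK (D.wC 0)) D.sK)).1 (D.rig3 hc ?_
      (mem_C1.1 (mem_C1_iff_conj.2 ?_)))
    · have w1 : D.w 0 * D.p c0 * (D.w 0)⁻¹ = D.p c0 := mem_C1_iff_conj.1 (mem_C1.2 (D.we 0).eq)
      have w2 : D.w 0 * D.p i0 * (D.w 0)⁻¹ = D.p i0 := mem_C1_iff_conj.1 (mem_C1.2 (D.wi 0).eq)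
      rw [q, h4, ← conj_mul (b := D.p sg), ← (D.pt sg).eq, mul_inv_cancel_right, ← D.p_cj (I _) (I _), f2,
        D.pm (I _) (I _), ← conj_mul, ← conj_mul (c := D.p i0), D.wt, w1, w2, mul_assoc, ← D.pm (I _) (I _),
        ← D.pm (I _) (I _), show io 0 * (c0 * i0) = c0 by decide +kernel]
    · rw [q, e, ← D.p_cj (I _) (I _), f1, D.cjW (D.pW WB.Uz2) (D.wC 0)]

theorem T_notC {x : Γ} (hx : D.T x) : x ∉ C[D.W] := fun h => by
  have k := (D.mem_A.1 (D.CA h)).2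
  let f : D.R4 →* D.W := MonoidHom.mk' (fun r => ⟨⁅(r : Γ), x⁆, D.cm_symm (k r r.2)⟩) fun a b =>
    Subtype.ext (by
      change ⁅(a : Γ) * b, x⁆ = ⁅(a : Γ), x⁆ * ⁅(b : Γ), x⁆
      rw [cm_mul_left, D.cjW (D.cm_symm (k b b.2)) (D.R4C a.2)]
      exact D.cw (D.cm_symm (k b b.2)) (D.WC (D.cm_symm (k a a.2))))
  have c1 := D.E16 hx (inf_le_left : C{x} ⊓ C[D.W] ≤ _) (le_inf (mem_C_iff_le_C1.1 h) D.WC) inf_le_right
  have c2 : Nat.card (f.ker.map D.R4.subtype) ≤ _ := card_le (B := C{x} ⊓ C[D.W]) (by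
    rintro _ ⟨r, hr, rfl⟩
    exact ⟨mem_C1.2 (commutatorElement_eq_one_iff_commute.1 (congrArg Subtype.val hr)).eq, D.R4C r.2⟩)
  rw [card_map_of_injective D.R4.subtype_injective] at c2
  have c3 := f.ker.card_mul_index
  have c4 : f.ker.index ≤ 16 := by
    rw [index_ker, ← D.card_W]; exact card_le_card_group _
  have c5 := D.card_R4
  nlinarith

omit [Finite Γ] in
theorem _root_.H18.MW.sq_closure {S : Set Γ} (h1 : ∀ a ∈ S, a * a = 1) (h2 : ∀ a ∈ S, ∀ b ∈ S, Commute a b) :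
    ∀ e ∈ closure S, e * e = 1 := by
  have c : closure S ≤ C[closure S] := by
    rw [centralizer_closure, closure_le]
    exact fun a ha b hb => h2 b hb a ha
  intro e he
  induction he using closure_induction with
  | mem a ha => exact h1 a ha
  | one => exact mul_one _
  | mul a b ha hb e1 e2 =>
    rw [(show Commute b a from mem_C.1 (c ha) b hb).mul_mul_mul_comm, e1, e2, mul_one]
  | inv a ha e1 => rw [← mul_inv_rev, e1, inv_one]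

theorem _root_.H18.MW.dbl {S : Set Γ} {x : Γ} (B : Subgroup Γ) (hS : S ⊆ B) (hx : x ∉ B) :
    2 * Nat.card (closure S) ≤ Nat.card (closure (insert x S)) := by
  have h : closure S < closure (insert x S) := lt_of_le_of_ne (closure_mono (Set.subset_insert _ _))
    fun e => hx ((closure_le B).2 hS (e ▸ subset_closure (Set.mem_insert _ _)))
  obtain ⟨k, hk⟩ := card_dvd h.le
  have := card_lt h
  rw [hk] at this ⊢
  rcases k with _ | _ | k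
  · simp at this
  · simp at this
  · nlinarith

theorem T_notS {x c : Γ} (hx : D.T x) (hc : c ∈ C[D.W]) : x ≠ c * D.p sg := by
  rintro rfl
  have act : ∀ a ∈ D.W, c * D.p sg * a * (c * D.p sg)⁻¹ = D.p sg * a * (D.p sg)⁻¹ := fun a ha => by
    rw [← D.cjW (D.sW ha) hc]; group
  generalize hX : c * D.p sg = x at *
  have x2 := D.T2 hx
  have cj : ∀ {x y : Γ}, y * x * y⁻¹ = x → Commute y x := fun h => mem_C1.1 (mem_C1_iff_conj.2 h)
  have xa : Commute x D.a1 := cj (by rw [act _ D.a1W, D.sa1.eq, mul_inv_cancel_right])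
  -- correcting an element to commute with `x`
  have fix : ∀ r ∈ D.R4, ⁅D.p sg, r⁆ ∈ D.W → ∃ a ∈ D.W, Commute x (r * a) := by
    intro r hr h
    have hb : ⁅x, r⁆ ∈ D.W := by
      rw [← hX, cm_mul_left, D.cjW h hc]
      exact mul_mem h ((D.mem_A.1 (D.CA hc)).2 r hr)
    have e : x * r * x⁻¹ = r * ⁅x, r⁆ := by
      rw [← D.cw hb (D.R4C hr), commutatorElement_def, inv_mul_cancel_right]
    generalize ⁅x, r⁆ = b at hb e
    have e1 : Commute b (D.p sg) := by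
      have : x * (x * r * x⁻¹) * x⁻¹ = r := by
        rw [show x * (x * r * x⁻¹) * x⁻¹ = x * x * r * (x * x)⁻¹ by group, x2]; simp
      rw [e, ← conj_mul, e, mul_assoc r, mul_eq_left, act b hb, mul_eq_one_iff_inv_eq, D.W_inv hb] at this
      exact (cj this.symm).symm
    have s2 : D.p sg * D.p z2 * (D.p sg)⁻¹ = D.p z1 * D.p z2 := by
      rw [← D.p_cj (D.inn sg_facts.1) (D.IU WB.Uz2), sg_facts.2.2.2.1, D.p_z3]
    have : ∃ a ∈ D.W, D.p sg * a * (D.p sg)⁻¹ = b * a := by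
      rcases D.W_sg hb e1 with rfl | rfl | rfl | rfl
      · exact ⟨1, one_mem _, by simp⟩
      · exact ⟨_, D.pW WB.Uz2, s2⟩
      · exact ⟨_, D.a2W, D.sa2⟩
      · exact ⟨_, mul_mem D.a2W (D.pW WB.Uz2), by
          rw [← conj_mul, s2, D.sa2, (D.aJ z1 (by decide)).2.mul_mul_mul_comm]⟩
    obtain ⟨a, ha, e2⟩ := this
    exact ⟨a, ha, cj (by rw [← conj_mul, e, act a ha, e2, mul_assoc, ← mul_assoc b, D.W_sq hb, one_mul])⟩
  have key : ∀ k : Fin 4, sg * io k = io k * sg → ![0, 1, 3, 2] k = k → ∃ E : Subgroup Γ, E ≤ C{x} ∧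
      (∀ e ∈ E, e * e = 1) ∧ 32 ≤ Nat.card E ∧ ∃ a ∈ D.W, D.p (io k) * a ∈ E := by
    intro k h1 h2
    obtain ⟨i1, i2, i3, i4, -⟩ := io_facts k
    obtain ⟨a, ha, c1⟩ := fix _ (D.pR i2) (D.cm_of_comm (D.p_comm h1))
    obtain ⟨b, hb, c2⟩ := fix _ (D.wR k) (by
      have := D.sw k; rw [h2] at this; rwa [commutatorElement_def, D.w_inv k])
    have iC := mul_mem (D.pC i2) (D.WC ha)
    have wC := mul_mem (D.wC k) (D.WC hb)
    have z := D.pW WB.Uz1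
    have c3 : Commute (D.w k * b) (D.p (io k) * a) :=
      ((D.wi k).mul_right (D.cw ha (D.wC k)).symm).mul_left (D.cw hb iC)
    refine ⟨closure {x, D.w k * b, D.p (io k) * a, D.a1, D.p z1}, (closure_le _).2 ?_, sq_closure ?_ ?_, ?_,
      a, ha, subset_closure (by simp)⟩
    · rintro _ (rfl | rfl | rfl | rfl | rfl)
      exacts [self_mem_C1 _, mem_C1.2 c2.symm, mem_C1.2 c1.symm, mem_C1.2 xa.symm, mem_C1.2 (D.z1C _).symm]
    · rintro _ (rfl | rfl | rfl | rfl | rfl)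
      · exact x2
      · rw [(D.cw hb (D.wC k)).mul_mul_mul_comm, D.ww, D.W_sq hb, mul_one]
      · rw [D.sq_pa i2 (D.inn i1) ha, i4, D.p_one]
      · exact D.aa1
      · exact D.W_sq z
    · rintro _ (rfl | rfl | rfl | rfl | rfl) _ (rfl | rfl | rfl | rfl | rfl) <;>
        first | exact Commute.refl _ | exact D.z1C _ | exact (D.z1C _).symm | assumption |
          exact Commute.symm ‹_› | exact D.cw D.a1W ‹_› | exact (D.cw D.a1W ‹_›).symm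
    · have d0 := dbl (S := ∅) ⊥ (Set.empty_subset _) D.z1_ne
      have d1 := dbl (S := {D.p z1}) C{D.t} (Set.singleton_subset_iff.2 (mem_C1.2 (D.pt _).symm))
        fun h => D.a1t (mem_C1.1 h)
      have d2 := dbl (S := {D.a1, D.p z1}) (x := D.p (io k) * a) D.W (by
        rintro _ (rfl | rfl); exacts [D.a1W, z])
        fun h => i3 (D.p_mem_W (D.inn i1) ((mul_mem_cancel_right ha).1 h))
      have d3 := dbl (S := {D.p (io k) * a, D.a1, D.p z1}) (x := D.w k * b) (D.W ⊔ C{D.t}) (by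
        rintro _ (rfl | rfl | rfl)
        exacts [mul_mem (mem_sup_right (mem_C1.2 (D.pt _).symm)) (mem_sup_left ha), mem_sup_left D.a1W,
          mem_sup_left z]) fun h => by
        rw [mul_mem_cancel_right (mem_sup_left hb)] at h
        obtain ⟨u, hu, v, hv, e⟩ := (mem_sup_of_norm fun g _ => D.WN g).1 h
        refine i3 (D.p_mem_W (D.inn i1) ?_)
        rw [← D.cm_wt, e, cm_mul_left, (show Commute v D.t from mem_C1.1 hv).commutator_eq, mul_one,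
          mul_inv_cancel, one_mul]
        exact (cm_mem hu D.tN).1
      have d4 := dbl (S := {D.w k * b, D.p (io k) * a, D.a1, D.p z1}) (x := x) C[D.W] (by
        rintro _ (rfl | rfl | rfl | rfl)
        exacts [wC, iC, D.WC D.a1W, D.WC z]) (D.T_notC hx)
      rw [Subgroup.closure_empty, card_bot, insert_empty_eq] at d0
      omega
  obtain ⟨E, e1, e2, e3, a, ha, e4⟩ := key 0 sg_facts.2.2.2.2.2.2.1 rfl
  obtain ⟨E', f1, f2, f3, b, hb, f4⟩ := key 1 sg_facts.2.2.2.2.2.2.2.1 rfl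
  obtain rfl := D.E32 hx e1 f1 e2 f2 e3 f3
  have c0 : Commute (D.p (io 0) * a) (D.p (io 1) * b) := by
    have := e2 _ (mul_mem e4 f4)
    rwa [mul_eq_one_iff_eq_inv, mul_inv_rev, inv_eq_of_mul_eq_one_right (e2 _ e4),
      inv_eq_of_mul_eq_one_right (e2 _ f4)] at this
  have := c0.commutator_eq
  rw [D.cm_aL _ ha (mul_mem (D.pC (by decide)) (D.WC hb)), D.cm_aR _ hb (D.pC (by decide))] at this
  exact sg_facts.2.2.2.2.2.2.2.2.1 (D.comm_p (D.inn (by decide)) (D.inn (by decide))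
    (commutatorElement_eq_one_iff_commute.1 this))

/-- `sg` is central modulo `C(W)` -/
theorem s_cent (γ : Γ) : ⁅γ, D.p sg⁆ ∈ C[D.W] := by
  by_cases hK : γ ∈ D.K
  · exact D.K_cm hK (D.pt _) (Commute.refl _)
  obtain ⟨g, -, g1, g2⟩ := H13.exists_mem_normalizer_of_lt (D.nil ⊤) (H := D.K)
    (lt_top_iff_ne_top.2 fun e => hK (e ▸ mem_top γ))
  obtain ⟨z, -, z1, z2⟩ := D.ex (U := ⊤) (H := C[D.W]) fun h => D.t_notC (h (mem_top _))
  simp only [N_top, mem_top, true_implies] at z2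
  have sy : ∀ {a b : Γ}, ⁅a, b⁆ ∈ C[D.W] → ⁅b, a⁆ ∈ C[D.W] := fun h => by
    rw [← commutatorElement_inv]; exact inv_mem h
  obtain ⟨c, hc, rfl | rfl | rfl | rfl⟩ := D.mem_K (D.KK (z2 _))
  · exact (z1 hc).elim
  · exact sy ((D.cm_C hc _ _).1 (z2 γ))
  · exact (hK (D.KK (sy ((D.cm_C hc _ _).1 (z2 γ))))).elim
  exfalso
  obtain ⟨d, hd, e | e | e | e⟩ := D.mem_K (conj_mem g2 D.tK)
  · exact D.T_notC (D.Tc g D.Tt) (e ▸ hd)
  · exact D.T_notS (D.Tc g D.Tt) hd e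
  · exact g1 (D.KK (by rw [commutatorElement_def, e, mul_inv_cancel_right]; exact hd))
  · have h1 := sy ((D.cm_C hc _ _).1 (z2 g⁻¹))
    have h2 := mul_mem (conj_mem' (D.CN g) hd) h1
    rw [eq_mul_inv_iff_mul_eq.2 e.symm, commutatorElement_def,
      show g⁻¹ * (g * D.t * g⁻¹ * (D.t * D.p sg)⁻¹) * g * (g⁻¹ * (D.t * D.p sg) * g⁻¹⁻¹ * (D.t * D.p sg)⁻¹)
        = D.t * (D.p sg)⁻¹ * D.t⁻¹ by group, conj_mem_iff (D.CN _), inv_mem_iff] at h2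
    exact D.s_notC h2

theorem s_fix (γ : Γ) {b : Γ} (hb : b ∈ D.W) :
    D.p sg * (γ * b * γ⁻¹) * (D.p sg)⁻¹ = γ * (D.p sg * b * (D.p sg)⁻¹) * γ⁻¹ := by
  rw [← D.cjW (D.sW hb) (D.s_cent γ⁻¹), commutatorElement_def]
  group

theorem a1_orb (γ : Γ) : γ * D.a1 * γ⁻¹ = D.a1 ∨ γ * D.a1 * γ⁻¹ = D.a1 * D.p z1 := by
  have h := D.s_fix γ D.a1W
  rw [D.sa1.eq, mul_inv_cancel_right] at h
  rcases D.W_sg (conj_mem (D.WN γ) D.a1W) (show Commute (D.p sg) _ from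
    mem_C1.1 (mem_C1_iff_conj.2 h)).symm with e | e | e
  · rw [conj_eq_one_iff] at e
    exact (D.a1t (e ▸ Commute.one_left _)).elim
  · rw [mul_inv_eq_iff_eq_mul, ← (D.z1C γ).eq, mul_right_inj] at e
    exact (D.a1t (e ▸ (D.pt z1).symm)).elim
  · exact e

theorem not_C1 {b : Γ} : b * D.t ∈ C{D.a1} ↔ b ∉ C{D.a1} := by
  have e : b * D.t * D.a1 * (b * D.t)⁻¹ = b * D.a1 * b⁻¹ * D.p z1 := by
    have := D.t_g WB.Uz1
    rw [D.g_z1] at this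
    rw [mul_inv_rev, ← mul_assoc, mul_assoc b, mul_assoc b, this, ← conj_mul, (D.z1C b).eq,
      mul_inv_cancel_right]
  rw [mem_C1_iff_conj, mem_C1_iff_conj, e]
  rcases D.a1_orb b with h | h <;> rw [h]
  · simp [D.z1_ne]
  · rw [mul_assoc, D.W_sq (D.pW WB.Uz1)]; simp [D.z1_ne]

/-- the centralizer of `a1` is abelian modulo `C(W)` -/
theorem ab_C1 {γ δ : Γ} (h1 : γ ∈ C{D.a1}) (h2 : δ ∈ C{D.a1}) : ⁅γ, δ⁆ ∈ C[D.W] := by
  have k0 : ∀ γ ∈ C{D.a1}, ∀ f ∈ D.W, Commute f (D.p sg) → γ * f * γ⁻¹ = f := fun γ h f hf e => by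
    refine mem_C1_iff_conj.1 (mem_C1_comm.1 ?_)
    have b1 := mem_C1_comm.1 h
    have b2 : D.p z1 ∈ C{γ} := mem_C1.2 (D.z1C γ).symm
    rcases D.W_sg hf e with rfl | rfl | rfl | rfl
    exacts [one_mem _, b2, b1, mul_mem b1 b2]
  have k : ∀ γ ∈ C{D.a1}, ∀ b ∈ D.W, ∃ f ∈ D.W, Commute f (D.p sg) ∧ γ * b * γ⁻¹ = f * b := by
    intro γ h b hb
    have m := conj_mem (D.WN γ) hb
    have m2 := D.sW hb
    have e1 : γ * (D.p sg * b * (D.p sg)⁻¹ * b) * γ⁻¹ = D.p sg * b * (D.p sg)⁻¹ * b :=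
      k0 γ h _ (mul_mem m2 hb) (show Commute (D.p sg) _ from mem_C1.1 (mem_C1_iff_conj.2 (by
        rw [← conj_mul, D.cw m2 (D.WC hb), D.sg_inv, ← mul_assoc (D.p sg), ← mul_assoc (D.p sg),
          mul_assoc _ (D.p sg) (D.p sg), D.p_sq (D.inn sg_facts.1) sg_facts.2.1, one_mul, mul_one]))).symm
    refine ⟨γ * b * γ⁻¹ * b, mul_mem m hb, (show Commute (D.p sg) _ from mem_C1.1 (mem_C1_iff_conj.2 ?_)).symm,
      by rw [mul_assoc _ b b, D.W_sq hb, mul_one]⟩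
    rw [← conj_mul, D.s_fix γ hb]
    rw [← conj_mul, ← eq_mul_inv_iff_mul_eq, D.W_inv m] at e1
    rw [e1, mul_assoc _ b, D.cw m2 (D.WC (mul_mem hb m)), mul_assoc, D.W_sq m2, mul_one, D.cw hb (D.WC m)]
  refine mem_C'.2 fun b' hb' => mem_C1.1 (mem_C1_iff_conj.2 ?_)
  obtain ⟨b, hb, rfl⟩ := mem_cj'.1 ((cj_of_mem_N (D.WN (δ * γ))).ge hb')
  obtain ⟨f, f1, f2, f3⟩ := k γ h1 b hb
  obtain ⟨g, g1, g2, g3⟩ := k δ h2 b hb
  calc ⁅γ, δ⁆ * (δ * γ * b * (δ * γ)⁻¹) * ⁅γ, δ⁆⁻¹ = γ * (δ * b * δ⁻¹) * γ⁻¹ := by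
        rw [commutatorElement_def]; group
    _ = δ * (γ * b * γ⁻¹) * δ⁻¹ := by
        rw [g3, f3, ← conj_mul, ← conj_mul (b := δ), k0 γ h1 g g1 g2, k0 δ h2 f f1 f2, f3, g3, ← mul_assoc,
          ← mul_assoc, D.cw g1 (D.WC f1)]
    _ = _ := by group

include D in
theorem kill : False := by
  classical
  have tn : D.t ∉ C{D.a1} := fun h => D.a1t (show Commute D.t _ from mem_C1.1 h).symm
  obtain ⟨x, h1, hx, h4⟩ := D.tr C{D.a1} (index_eq_two_iff.2 ⟨D.t, fun b => by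
    rw [D.not_C1]; by_cases h : b ∈ C{D.a1} <;> simp [h]⟩) tn
  by_cases h : C{x} ≤ C{D.a1}
  · have xW : ∀ a ∈ D.W, x ≠ a := fun a ha e => D.T_notC hx (e ▸ D.WC ha)
    have m1 : D.p z1 ∈ C{x} ⊓ C[C{x}] := ⟨mem_C1.2 (D.z1C x).symm, mem_C.2 fun g _ => D.z1C g⟩
    have m2 : D.a1 ∈ C{x} ⊓ C[C{x}] := ⟨mem_C1_comm.1 h1, mem_C_iff_le_C1.2 h⟩
    have := Q0.fin_le (D := C{x} ⊓ C[C{x}]) {x, 1, D.p z1, D.a1, D.a1 * D.p z1} fun y hy => by
      simp only [Finset.mem_insert, Finset.mem_singleton] at hy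
      rcases hy with rfl | rfl | rfl | rfl | rfl
      exacts [⟨self_mem_C1 _, mem_C_iff_le_C1.2 le_rfl⟩, one_mem _, m1, m2, mul_mem m2 m1]
    have n1 : D.a1 ≠ 1 := fun e => D.a1t (e ▸ Commute.one_left _)
    have n2 : D.p z1 ≠ D.a1 := fun e => D.a1t (e ▸ (D.pt z1).symm)
    have n3 : 1 ≠ D.a1 * D.p z1 := fun e => n2 (by
      rw [← D.aa1, mul_right_inj] at e; exact e.symm)
    rw [h4, Finset.card_insert_of_notMem (by
        simp [xW _ (one_mem _), xW _ (D.pW WB.Uz1), xW _ D.a1W, xW _ (mul_mem D.a1W (D.pW WB.Uz1))]),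
      Finset.card_insert_of_notMem (by simp [D.z1_ne.symm, n1.symm, n3]),
      Finset.card_insert_of_notMem (by simp [n1, n2]), Finset.card_pair (by simp [D.z1_ne])] at this
    omega
  · obtain ⟨g, g1, g2⟩ := SetLike.not_le_iff_exists.1 h
    have c := D.ab_C1 h1 (D.not_C1.2 g2)
    rw [cm_mul_right, (show Commute g x from mem_C1.1 g1).symm.commutator_eq, one_mul,
      conj_mem_iff (D.CN g)] at c
    have cs := C_le_C1 D.a1W
    have ss : D.p sg ∈ C{D.a1} := mem_C1.2 D.sa1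
    obtain ⟨d, hd, e | e | e | e⟩ := D.mem_K (D.KK c)
    · exact D.T_notC hx (e ▸ hd)
    · exact D.T_notS hx hd e
    · rw [e, mul_mem_cancel_left (cs hd)] at h1; exact tn h1
    · rw [e, mul_mem_cancel_left (cs hd), mul_mem_cancel_right ss] at h1; exact tn h1

end WK

end H18.MW
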