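import Cfsg.Agent.H12.NGMb
import Cfsg.Agent.H12.NGC1
import Cfsg.Agent.H3.NG1

/-!
# N-groups, case II: systems of components, transfer along a holomorph
-/

set_option autoImplicit false

namespace H18.NO

open Subgroup Cfsg H24 H11.ZN H12.NG

universe u

variable {G : Type u} [Group G] {V H H' K X Y W W' A : Subgroup G} {𝓦 𝓐 : Set (Subgroup G)}
  {a b d g m w x y : G}

theorem le_Cw (hW' : W' ∈ 𝓦) (hne : W' ≠ W) : W' ≤ Cw 𝓦 W := le_sSup ⟨hW', hne⟩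

theorem Cw_le (h : ∀ W' ∈ 𝓦, W' ≠ W → W' ≤ X) : Cw 𝓦 W ≤ X := sSup_le fun _ h' => h _ h'.1 h'.2

theorem Cw_mono (h : 𝓐 ⊆ 𝓦) : Cw 𝓐 W ≤ Cw 𝓦 W := Cw_le fun _ h1 h2 => le_Cw (h h1) h2

theorem Cw_le_sSup : Cw 𝓦 W ≤ sSup 𝓦 := Cw_le fun _ h1 _ => le_sSup h1

theorem sSup_eq_Cw (hW : W ∈ 𝓦) : sSup 𝓦 = W ⊔ Cw 𝓦 W := by
  refine le_antisymm (sSup_le fun W' h' => ?_) (sup_le (le_sSup hW) Cw_le_sSup)
  by_cases e : W' = W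
  · rw [e]; exact le_sup_left
  · exact (le_Cw h' e).trans le_sup_right

theorem cj_sSup (g : G) (𝓐 : Set (Subgroup G)) : cj g (sSup 𝓐) = sSup (cj g '' 𝓐) := by
  refine le_antisymm (cj_le_iff.2 (sSup_le fun W hW => ?_)) (sSup_le ?_)
  · exact cj_le_iff.1 (le_sSup ⟨W, hW, rfl⟩)
  · rintro _ ⟨W, hW, rfl⟩
    exact cj_mono g (le_sSup hW)

theorem Cw_cj (g : G) (𝓦 : Set (Subgroup G)) (W : Subgroup G) :
    Cw (cj g '' 𝓦) (cj g W) = cj g (Cw 𝓦 W) := by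
  refine le_antisymm (Cw_le ?_) (cj_le_iff.2 (Cw_le fun W' h1 h2 => cj_le_iff.1 ?_))
  · rintro _ ⟨W', h1, rfl⟩ h2
    exact cj_mono g (le_Cw h1 fun e => h2 (by rw [e]))
  · exact le_Cw ⟨W', h1, rfl⟩ fun e => h2 (cj_inj.1 e)

theorem C_sSup (h : ∀ W ∈ 𝓐, x ∈ C[W]) : x ∈ C[sSup 𝓐] :=
  mem_C_iff_le_C1.2 (sSup_le fun W hW => mem_C_iff_le_C1.1 (h W hW))

theorem C_Cw (h : ∀ W' ∈ 𝓦, W' ≠ W → x ∈ C[W']) : x ∈ C[Cw 𝓦 W] :=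
  mem_C_iff_le_C1.2 (Cw_le fun W' h1 h2 => mem_C_iff_le_C1.1 (h W' h1 h2))

theorem cj_Cw_le (h : ∀ W ∈ 𝓦, cj m W ∈ 𝓦) (W : Subgroup G) : cj m (Cw 𝓦 W) ≤ Cw 𝓦 (cj m W) := by
  rw [← Cw_cj]
  exact Cw_mono (by rintro _ ⟨W', h1, rfl⟩; exact h W' h1)

theorem mem_C_cj (h : x ∈ C[W]) (g : G) : g * x * g⁻¹ ∈ C[cj g W] := by
  rw [← cj_C]; exact conj_mem_cj g h

theorem mem_N_cj (h : x ∈ N[W]) (g : G) : g * x * g⁻¹ ∈ N[cj g W] := by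
  rw [← cj_N]; exact conj_mem_cj g h

theorem inf_C1_cj (h : W ⊓ C{d} = ⊥) (g : G) : cj g W ⊓ C{g * d * g⁻¹} = ⊥ := by
  rw [← cj_C1, ← cj_inf, h, cj_bot]

theorem eq_one_of_inf (h : X ⊓ Y = ⊥) (h1 : x ∈ X) (h2 : x ∈ Y) : x = 1 :=
  mem_bot.1 (h ▸ mem_inf.2 ⟨h1, h2⟩)

theorem inf_eq_bot_of (h : ∀ x ∈ X, x ∈ Y → x = 1) : X ⊓ Y = ⊥ :=
  eq_bot_iff.2 fun x hx => mem_bot.2 (h x (mem_inf.1 hx).1 (mem_inf.1 hx).2)

/-- two elements acting in the same way have the same fixed points -/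
theorem inf_C1_congr (h : a⁻¹ * b ∈ C[W]) : W ⊓ C{a} = W ⊓ C{b} := by
  ext w
  simp only [mem_inf, and_congr_right_iff, mem_C1]
  intro hw
  have e := mem_C'.1 h w hw
  constructor
  · intro e'
    calc w * b = w * a * (a⁻¹ * b) := by group
      _ = a * (w * (a⁻¹ * b)) := by rw [e']; group
      _ = b * w := by rw [← e]; group
  · intro e'
    have e1 : a * w * (a⁻¹ * b) = w * a * (a⁻¹ * b) := by
      rw [mul_assoc a w, ← e]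
      calc a * (a⁻¹ * b * w) = b * w := by group
        _ = w * a * (a⁻¹ * b) := by rw [← e']; group
    exact (mul_right_cancel e1).symm

theorem C1_inv' (a : G) : C{a⁻¹} = C{a} := by
  rw [← C_zpowers, ← C_zpowers, zpowers_inv]

/-- the elements normalizing `X` and centralizing `X / Y` -/
def Stab (X Y : Subgroup G) : Subgroup G where
  carrier := {g | g ∈ N[X] ∧ ∀ x ∈ X, g * x * g⁻¹ * x⁻¹ ∈ Y}
  one_mem' := ⟨one_mem _, fun x _ => by simp⟩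
  mul_mem' := by
    rintro a b ⟨a1, a2⟩ ⟨b1, b2⟩
    refine ⟨mul_mem a1 b1, fun x hx => ?_⟩
    have := mul_mem (a2 _ (conj_mem b1 hx)) (b2 x hx)
    convert this using 1
    group
  inv_mem' := by
    rintro a ⟨a1, a2⟩
    refine ⟨inv_mem a1, fun x hx => ?_⟩
    have := inv_mem (a2 _ (conj_mem' a1 hx))
    convert this using 1
    group

theorem mem_Stab : g ∈ Stab X Y ↔ g ∈ N[X] ∧ ∀ x ∈ X, g * x * g⁻¹ * x⁻¹ ∈ Y := Iff.rfl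

theorem Stab_conj (h : g ∈ Stab X Y) (h1 : m ∈ N[X]) (h2 : m ∈ N[Y]) : m * g * m⁻¹ ∈ Stab X Y := by
  refine ⟨mul_mem (mul_mem h1 h.1) (inv_mem h1), fun x hx => ?_⟩
  have := conj_mem h2 (h.2 _ (conj_mem' h1 hx))
  convert this using 1
  group

theorem comm_le_of_Stab (h : A ≤ Stab X Y) : ⁅X, A⁆ ≤ Y :=
  H3.NG.cm_le fun x hx _ ha => H3.NG.cm_symm ((h ha).2 x hx)

variable [Finite G]

theorem fix_of_odd (hY : IsPi {2} Y) (h1 : Y ≠ ⊥) (hX : X ≤ N[Y])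
    (h : ∀ x ∈ X, Odd (orderOf x) → x ∈ C[Y]) : Y ⊓ C[X] ≠ ⊥ := by
  obtain ⟨T, hT⟩ := Sylow_exists two_prime X
  have h2 := hT.pi.inf_C_ne_bot two_prime hY (hT.le.trans hX) h1
  refine ne_bot_of_le h2 (le_inf inf_le_left (cents_symm ((le_Od2_sup hT).trans (sup_le ?_ ?_))))
  · exact (closure_le _).2 fun x hx => C_anti inf_le_left (h x hx.1 hx.2)
  · exact cents_symm inf_le_right

theorem fix_of_sq (hY : IsPi {2} Y) (h1 : Y ≠ ⊥) (hX : X ≤ N[Y]) (h : ∀ x ∈ X, x * x ∈ C[Y]) :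
    Y ⊓ C[X] ≠ ⊥ :=
  fix_of_odd hY h1 hX fun x hx ho => H3.NG.mem_of_sq ho (h x hx)

theorem odd_mem (hK : K ⊴ X) (h : PiNat {2} (K.relIndex X)) (hx : x ∈ X) (ho : Odd (orderOf x)) :
    x ∈ K :=
  le_of_idx_compl' hK h (piElt_odd.2 ho).isPi (zpowers_le.2 hx) (mem_zpowers x)

theorem two_mem (hK : K ⊴ X) (h : Odd (K.relIndex X)) (hx : x ∈ X) (h2 : x * x = 1) : x ∈ K :=
  le_of_idx_compl hK (piNat_odd.2 h) (H3.NG.zp_two h2) (zpowers_le.2 hx) (mem_zpowers x)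

theorem image_eq (h : ∀ W ∈ 𝓦, cj m W ∈ 𝓦) : cj m '' 𝓦 = 𝓦 :=
  Set.eq_of_subset_of_ncard_le (by rintro _ ⟨W', h1, rfl⟩; exact h W' h1)
    (Set.ncard_image_of_injective _ fun _ _ e => cj_inj.1 e).ge (Set.toFinite _)

theorem cj_Cw (h : ∀ W ∈ 𝓦, cj m W ∈ 𝓦) (W : Subgroup G) : cj m (Cw 𝓦 W) = Cw 𝓦 (cj m W) := by
  rw [← Cw_cj, image_eq h]

theorem mem_N_sSup (h : ∀ W ∈ 𝓦, cj m W ∈ 𝓦) : m ∈ N[sSup 𝓦] := by
  rw [mem_N_iff_cj, cj_sSup, image_eq h]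

/-- a fixed-point-free element acts irreducibly on a four-group -/
theorem four_irr (h4 : ♯W = 4) (hc : W ⊓ C{d} = ⊥) (hX : X ≤ W) (h1 : X ≠ ⊥)
    (hd : d ∈ N[X]) : X = W := by
  by_contra hne
  have h2 : ♯X < 4 := h4 ▸ card_lt (lt_of_le_of_ne hX hne)
  have h3 : ♯X ∣ 2 ^ 2 := by have := card_dvd hX; rwa [h4] at this
  obtain ⟨k, hk, e⟩ := (Nat.dvd_prime_pow two_prime).1 h3
  have h5 : ♯X ≤ 2 := by
    rw [e] at h2 ⊢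
    interval_cases k <;> omega
  obtain ⟨x, hx, x1⟩ := exists_ne_one h1
  exact x1 (eq_one_of_inf hc (hX hx) (mem_C_iff_le_C1.1 (mem_C_of_card_le_two hd h5) hx))

/-- a group acting as a `2`-group on a four-group acts with kernel of index at most two -/
theorem four_le_two (hW : EA W) (h4 : ♯W = 4) (hX : X ≤ N[W]) (h : ∀ x ∈ X, x * x ∈ C[W]) :
    (X ⊓ C[W]).relIndex X ≤ 2 := by
  by_cases hc : X ≤ C[W]
  · rw [inf_eq_left.2 hc, relIndex_self]; omega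
  have h1 : W ≠ ⊥ := by rintro rfl; simp at h4
  obtain ⟨w, hw, w1⟩ := exists_ne_one (fix_of_sq (ea_pi hW) h1 hX h)
  exact (H3.NG.four_idx hW h4 (mem_inf.1 hw).1 w1 hX (mem_C_iff_le_C1.1 (mem_inf.1 hw).2) hc).le

omit [Finite G] in
/-- the number of conjugates -/
theorem ncard_orbit (A W : Subgroup G) : {W' | ∃ a ∈ A, cj a W = W'}.ncard = N[W].relIndex A := by
  let φ : A → Subgroup G := fun a => cj a W
  have e : {W' | ∃ a ∈ A, cj a W = W'} = Set.range φ := by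
    ext W'
    exact ⟨fun ⟨a, ha, e⟩ => ⟨⟨a, ha⟩, e⟩, fun ⟨a, e⟩ => ⟨a, a.2, e⟩⟩
  rw [e, relIndex, index, ← Nat.card_coe_set_eq]
  refine (Nat.card_congr (Equiv.ofBijective (fun q : A ⧸ (N[W]).subgroupOf A =>
    (Quotient.liftOn' q (fun a => (⟨φ a, a, rfl⟩ : Set.range φ)) fun a b hab => ?_)) ⟨?_, ?_⟩)).symm
  · rw [QuotientGroup.leftRel_apply, mem_subgroupOf] at hab
    exact Subtype.ext (cj_eq_cj_iff.2 hab).symm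
  · intro p q
    refine Quotient.inductionOn₂' p q fun a b e => ?_
    refine Quotient.sound' ?_
    rw [QuotientGroup.leftRel_apply, mem_subgroupOf]
    exact cj_eq_cj_iff.1 (congrArg Subtype.val e).symm
  · rintro ⟨_, a, rfl⟩
    exact ⟨Quotient.mk'' a, rfl⟩

/-- a system of components -/
structure Cs (V H : Subgroup G) (𝓦 : Set (Subgroup G)) : Prop where
  ea : EA V
  le : ∀ W ∈ 𝓦, W ≤ V
  card : ∀ W ∈ 𝓦, ♯W = 4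
  ind : ∀ W ∈ 𝓦, W ⊓ Cw 𝓦 W = ⊥
  perm : ∀ m ∈ H, ∀ W ∈ 𝓦, cj m W ∈ 𝓦
  three : ∀ W ∈ 𝓦, ∃ d ∈ H, d ∈ C[Cw 𝓦 W] ∧ W ⊓ C{d} = ⊥

namespace Cs

variable (h : Cs V H 𝓦)
include h

omit [Finite G] in
theorem eq_of_mem (hW : W ∈ 𝓦) (hW' : W' ∈ 𝓦) (h1 : w ∈ W) (h2 : w ∈ W') (w1 : w ≠ 1) : W' = W := by
  by_contra e
  exact w1 (eq_one_of_inf (h.ind W hW) h1 (le_Cw hW' e h2))

omit [Finite G] in
theorem eaW (hW : W ∈ 𝓦) : EA W := H3.NG.ea_le h.ea (h.le W hW)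

omit [Finite G] in
theorem ne_bot (hW : W ∈ 𝓦) : W ≠ ⊥ := by
  have := h.card W hW
  rintro rfl
  simp at this

omit [Finite G] in
theorem Cw_le_V (W : Subgroup G) : Cw 𝓦 W ≤ V := Cw_le fun W' h1 _ => h.le W' h1

omit [Finite G] in
theorem sSup_le_V : sSup 𝓦 ≤ V := sSup_le h.le

omit [Finite G] in
/-- an element fixing a non-trivial element of `W` normalizes `W` -/
theorem norm_of_fix (hm : m ∈ H) (hW : W ∈ 𝓦) (hw : w ∈ W) (w1 : w ≠ 1) (hc : m ∈ C{w}) : m ∈ N[W] := by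
  refine mem_N_iff_cj.2 (h.eq_of_mem hW (h.perm m hm W hW) hw ?_ w1)
  have := conj_mem_cj m hw
  rwa [mem_C1_iff_conj.1 hc] at this

omit [Finite G] in
theorem norm_of_C (hd : d ∈ H) (hW : W ∈ 𝓦) (hc : d ∈ C[Cw 𝓦 W]) : d ∈ N[W] := by
  by_contra hn
  have e : cj d W ≠ W := fun e => hn (mem_N_iff_cj.2 e)
  exact e (cj_inj.1 (cj_of_mem_C (C_anti (le_Cw (h.perm d hd W hW) e) hc)))

omit [Finite G] in
theorem norm_of_three (hd : d ∈ H) (hW : W ∈ 𝓦) (hc : d ∈ C[Cw 𝓦 W]) (hW' : W' ∈ 𝓦) : d ∈ N[W'] := by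
  by_cases e : W' = W
  · rw [e]; exact h.norm_of_C hd hW hc
  · exact C_le_N _ (C_anti (le_Cw hW' e) hc)

omit [Finite G] in
theorem sub (h1 : 𝓐 ⊆ 𝓦) (h2 : ∀ m ∈ H', ∀ W ∈ 𝓐, cj m W ∈ 𝓐)
    (h3 : ∀ W ∈ 𝓐, ∃ d ∈ H', d ∈ C[Cw 𝓦 W] ∧ W ⊓ C{d} = ⊥) : Cs V H' 𝓐 where
  ea := h.ea
  le W hW := h.le W (h1 hW)
  card W hW := h.card W (h1 hW)
  ind W hW := eq_bot_of_le (h.ind W (h1 hW)) (inf_le_inf_left _ (Cw_mono h1))
  perm := h2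
  three W hW := by
    obtain ⟨d, d1, d2, d3⟩ := h3 W hW
    exact ⟨d, d1, C_anti (Cw_mono h1) d2, d3⟩

theorem norm : H ≤ N[sSup 𝓦] := fun m hm => mem_N_sSup (h.perm m hm)

theorem red (hle : sSup 𝓦 ≤ H) : Red (sSup 𝓦) H := by
  refine ⟨⟨hle, h.norm⟩, H3.NG.ea_le h.ea h.sSup_le_V, fun X hX h1 h2 => ?_⟩
  have hK : H ⊓ C[sSup 𝓦] ⊴ X := (Nml.infC ⟨hle, h.norm⟩).of_le h1 hX.1
  have ho : ∀ W ∈ 𝓦, ∀ x ∈ X, Odd (orderOf x) → x ∈ C[W] := fun W hW x hx ho =>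
    C_anti (le_sSup hW) (mem_inf.1 (odd_mem hK h2 hx ho)).2
  refine fun x hx => C_sSup fun W hW => ?_
  obtain ⟨d, d1, d2, d3⟩ := h.three W hW
  have dN := h.norm_of_C d1 hW d2
  have hn : X ≤ N[W] := by
    intro x hx
    by_contra hn
    have e : cj x⁻¹ W ≠ W := fun e => hn (by simpa using inv_mem (mem_N_iff_cj.2 e))
    have c1 : x * d * x⁻¹ ∈ C[W] := by
      simpa using mem_C_cj (C_anti (le_Cw (h.perm _ (inv_mem (hX.1 hx)) W hW) e) d2) x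
    have y1 : x * d * x⁻¹ * d⁻¹ ∈ X := by
      have := mul_mem hx (hX.conj_mem d1 (inv_mem hx))
      convert this using 1
      group
    have y2 : x * d * x⁻¹ * d⁻¹ ∈ N[W] := mul_mem (C_le_N _ c1) (inv_mem dN)
    have y3 : W ⊓ C{x * d * x⁻¹ * d⁻¹} = ⊥ := by
      rw [← C1_inv', inf_C1_congr (b := d) (by simpa using c1), d3]
    refine fix_of_odd (ea_pi (h.eaW hW)) (h.ne_bot hW) (zpowers_le.2 y2)
      (fun y hy => ho W hW y (zpowers_le.2 y1 hy)) ?_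
    rwa [C_zpowers]
  have e := four_irr (h.card W hW) d3 inf_le_left
    (fix_of_odd (ea_pi (h.eaW hW)) (h.ne_bot hW) hn (ho W hW)) (mem_N_inf dN (N_le_NC _ (hX.2 d1)))
  exact cents_symm (e.ge.trans inf_le_right) hx

omit [Finite G] in
theorem card_sSup (h1 : 𝓐 ⊆ 𝓦) (hf : 𝓐.Finite) : ♯(sSup 𝓐) = 4 ^ 𝓐.ncard := by
  induction 𝓐, hf using Set.Finite.induction_on with
  | empty => simp
  | @insert W s hW hs ih =>
    have h2 : W ∈ 𝓦 := h1 (Set.mem_insert _ _)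
    have h3 : s ⊆ 𝓦 := (Set.subset_insert _ _).trans h1
    have h4 : sSup s ≤ Cw 𝓦 W := sSup_le fun W' h' => le_Cw (h3 h') fun e => hW (e ▸ h')
    rw [sSup_insert, card_sup_of_inf ((H3.NG.ea_abl h.ea).norm (h4.trans (h.Cw_le_V W)) (h.le W h2))
      (eq_bot_of_le (h.ind W h2) (inf_le_inf_left _ h4)), ih h3, h.card W h2,
      Set.ncard_insert_of_notMem hW hs, pow_succ']

/-- elementary abelian groups acting on a sum of components -/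
theorem rank (h2 : ∀ a ∈ A, a * a ∈ C[V]) (n : ℕ) :
    ∀ 𝓐 ⊆ 𝓦, 𝓐.ncard = n → (∀ a ∈ A, ∀ W ∈ 𝓐, cj a W ∈ 𝓐) → C[sSup 𝓐].relIndex A ≤ 2 ^ n := by
  induction n using Nat.strong_induction_on with
  | _ n ih =>
  intro 𝓐 h1 hn hp
  rcases 𝓐.eq_empty_or_nonempty with rfl | ⟨W, hW⟩
  · rw [sSup_empty, C_bot, relIndex_top_left]
    exact Nat.one_le_two_pow
  obtain ⟨𝓞, hO⟩ : ∃ 𝓞, 𝓞 = {W' | ∃ a ∈ A, cj a W = W'} := ⟨_, rfl⟩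
  have o1 : 𝓞 ⊆ 𝓐 := by rw [hO]; rintro _ ⟨a, ha, rfl⟩; exact hp a ha W hW
  have o2 : 𝓞.ncard = N[W].relIndex A := hO ▸ ncard_orbit A W
  have o3 : 0 < 𝓞.ncard := o2 ▸ relIndex_pos _ _
  have o4 : (𝓐 \ 𝓞).ncard + 𝓞.ncard = n := by rw [Set.ncard_sdiff_add_ncard_of_subset o1, hn]
  have i1 := ih (𝓐 \ 𝓞).ncard (by omega) (𝓐 \ 𝓞) (Set.sdiff_subset.trans h1) rfl (by
    intro a ha W' hW'
    refine ⟨hp a ha W' hW'.1, fun e => hW'.2 ?_⟩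
    rw [hO] at e ⊢
    obtain ⟨b, hb, e⟩ := e
    exact ⟨a⁻¹ * b, mul_mem (inv_mem ha) hb, by rw [cj_mul, e, cj_inv_cj]⟩)
  have hWV := h.le W (h1 hW)
  have i2 : (A ⊓ N[W] ⊓ C[W]).relIndex (A ⊓ N[W]) ≤ 2 :=
    four_le_two (h.eaW (h1 hW)) (h.card W (h1 hW)) inf_le_right fun x hx =>
      C_anti hWV (h2 x (mem_inf.1 hx).1)
  have i3 : (A ⊓ N[W] ⊓ C[W]).relIndex A ≤ 2 * 𝓞.ncard := by
    rw [← relIndex_mul_relIndex _ (A ⊓ N[W]) A inf_le_left inf_le_left, o2, inf_comm A N[W],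
      inf_relIndex_right, inf_comm N[W] A]
    exact Nat.mul_le_mul_right _ i2
  have i4 : (A ⊓ N[W] ⊓ C[W]) ⊓ C[sSup (𝓐 \ 𝓞)] ≤ C[sSup 𝓐] := by
    intro x hx
    obtain ⟨⟨⟨x1, -⟩, x2⟩, x3⟩ := hx
    refine C_sSup fun W' hW' => ?_
    by_cases e : W' ∈ 𝓞
    · rw [hO] at e
      obtain ⟨a, ha, rfl⟩ := e
      have c1 : a⁻¹ * x * a ∈ C[W] := by
        have := mul_mem (mul_mem (inv_mem (C_anti hWV (h2 a ha)))
          (C_anti hWV (h2 _ (mul_mem ha x1)))) (inv_mem x2)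
        convert this using 1
        group
      simpa [mul_assoc] using mem_C_cj c1 a
    · exact C_anti (le_sSup (show W' ∈ 𝓐 \ 𝓞 from ⟨hW', e⟩)) x3
  have i5 : ∀ k : ℕ, 0 < k → 2 * k ≤ 2 ^ k := by
    intro k hk
    obtain ⟨j, rfl⟩ : ∃ j, k = j + 1 := ⟨k - 1, by omega⟩
    have := @Nat.lt_two_pow_self j
    rw [pow_succ]; omega
  calc C[sSup 𝓐].relIndex A ≤ ((A ⊓ N[W] ⊓ C[W]) ⊓ C[sSup (𝓐 \ 𝓞)]).relIndex A :=
        relIndex_le_of_le_left i4 (relIndex_ne_zero' _ _)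
    _ ≤ (A ⊓ N[W] ⊓ C[W]).relIndex A * C[sSup (𝓐 \ 𝓞)].relIndex A := relIndex_inf_le
    _ ≤ 2 ^ 𝓞.ncard * 2 ^ (𝓐 \ 𝓞).ncard := Nat.mul_le_mul (i3.trans (i5 _ o3)) i1
    _ = 2 ^ n := by rw [← pow_add, ← o4, add_comm]

end Cs

section Sec

variable {Γ : Type u} [Group Γ] {ι : V →* Γ} {ρ : H →* Γ} (h : Sec V ⊥ H ι ρ)
include h

omit [Finite G]

theorem pre_ι : pre ι ⊥ = ⊥ :=
  eq_bot_iff.2 fun x hx => (h.ker x (mem_pre_bot.1 hx).1).1 (mem_pre_bot.1 hx).2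

theorem ρ_eq_one (hm : m ∈ H) : ap ρ m = 1 ↔ m ∈ C[V] := by
  rw [h.kerρ m hm, mem_C']
  refine forall₂_congr fun x _ => ?_
  rw [mem_bot, mul_inv_eq_one, mul_inv_eq_iff_eq_mul]

theorem pre_ρ : pre ρ ⊥ = H ⊓ C[V] := by
  ext m
  rw [mem_pre_bot, mem_inf]
  exact and_congr_right fun hm => ρ_eq_one h hm

theorem ι_inj (hx : x ∈ V) (hy : y ∈ V) (e : ap ι x = ap ι y) : x = y := by
  have := (h.ker _ (mul_mem hx (inv_mem hy))).1 (by rw [ap_mul _ hx (inv_mem hy), ap_inv _ hy, e, mul_inv_cancel])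
  exact mul_inv_eq_one.1 (mem_bot.1 this)

theorem ι_mem (hX : X ≤ V) (hx : x ∈ V) : ap ι x ∈ img ι X ↔ x ∈ X := by
  refine ⟨fun e => ?_, fun e => ap_mem_img ι e hx⟩
  obtain ⟨y, hy, e⟩ := (mem_img_of_le hX).1 e
  exact ι_inj h (hX hy) hx e ▸ hy

theorem card_ι (hX : X ≤ V) : ♯(img ι X) = ♯X := card_img_of_inf ι hX (by rw [pre_ι h, bot_inf_eq])

theorem ι_le (hX : X ≤ V) (hY : Y ≤ V) (e : img ι X ≤ img ι Y) : X ≤ Y :=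
  le_of_img_le hX hY (by rw [pre_ι h]; exact bot_le) e

theorem card_ρ (hA : A ≤ H) : ♯(img ρ A) = (A ⊓ C[V]).relIndex A := by
  rw [card_img ρ hA, pre_ρ h, ← inf_relIndex_right (H ⊓ C[V]), ← inf_relIndex_right (A ⊓ C[V])]
  congr 1
  ext x
  simp only [mem_inf]
  exact ⟨fun e => ⟨⟨e.2, e.1.2⟩, e.2⟩, fun e => ⟨⟨hA e.2, e.1.2⟩, e.2⟩⟩

theorem ea_ρ (hA : A ≤ H) (h2 : ∀ a ∈ A, a * a ∈ C[V]) : EA (img ρ A) := by
  refine H3.NG.ea_of_sq fun z hz => ?_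
  obtain ⟨a, ha, rfl⟩ := (mem_img_of_le hA).1 hz
  rw [← ap_mul _ (hA ha) (hA ha)]
  exact (ρ_eq_one h (mul_mem (hA ha) (hA ha))).2 (h2 a ha)

variable (hH : H ≤ N[V])
include hH

theorem comm_iff (hm : m ∈ H) (hx : x ∈ V) : ap ι x ∈ C{ap ρ m} ↔ x ∈ C{m} := by
  rw [mem_C1_comm, mem_C1_iff_conj, ← h.act m hm x hx, mem_C1_comm, mem_C1_iff_conj]
  exact ⟨ι_inj h (conj_mem (hH hm) hx) hx, fun e => by rw [e]⟩

theorem ρ_mem_C (hm : m ∈ H) (hX : X ≤ V) : ap ρ m ∈ C[img ι X] ↔ m ∈ C[X] := by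
  rw [mem_C_iff_le_C1, mem_C_iff_le_C1]
  refine ⟨fun e x hx => (comm_iff h hH hm (hX hx)).1 (e (ap_mem_img ι hx (hX hx))), fun e z hz => ?_⟩
  obtain ⟨x, hx, rfl⟩ := (mem_img_of_le hX).1 hz
  exact (comm_iff h hH hm (hX hx)).2 (e hx)

theorem ι_mem_C (hA : A ≤ H) (hx : x ∈ V) : ap ι x ∈ C[img ρ A] ↔ x ∈ C[A] := by
  rw [mem_C_iff_le_C1, mem_C_iff_le_C1]
  refine ⟨fun e a ha => mem_C1_comm.1 ((comm_iff h hH (hA ha) hx).1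
    (mem_C1_comm.1 (e (ap_mem_img ρ ha (hA ha))))), fun e z hz => ?_⟩
  obtain ⟨a, ha, rfl⟩ := (mem_img_of_le hA).1 hz
  exact mem_C1_comm.1 ((comm_iff h hH (hA ha) hx).2 (mem_C1_comm.1 (e ha)))

theorem img_C (hA : A ≤ H) : img ι (V ⊓ C[A]) = ι.range ⊓ C[img ρ A] := by
  ext z
  rw [mem_img_of_le inf_le_left, mem_inf, ← img_dom, mem_img_of_le le_rfl]
  constructor
  · rintro ⟨x, hx, rfl⟩
    exact ⟨⟨x, (mem_inf.1 hx).1, rfl⟩, (ι_mem_C h hH hA (mem_inf.1 hx).1).2 (mem_inf.1 hx).2⟩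
  · rintro ⟨⟨x, hx, rfl⟩, e⟩
    exact ⟨x, mem_inf.2 ⟨hx, (ι_mem_C h hH hA hx).1 e⟩, rfl⟩

theorem img_cj' (hm : m ∈ H) (hX : X ≤ V) : img ι (cj m X) = cj (ap ρ m) (img ι X) := by
  ext z
  rw [mem_img_of_le (cj_le_of_mem_N hX (hH hm)), mem_cj']
  constructor
  · rintro ⟨x, hx, rfl⟩
    obtain ⟨y, hy, rfl⟩ := mem_cj'.1 hx
    exact ⟨_, ap_mem_img ι hy (hX hy), h.act m hm y (hX hy)⟩
  · rintro ⟨z, hz, rfl⟩
    obtain ⟨y, hy, rfl⟩ := (mem_img_of_le hX).1 hz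
    exact ⟨_, conj_mem_cj m hy, h.act m hm y (hX hy)⟩

theorem img_C1 (hm : m ∈ H) : img ι (V ⊓ C{m}) = ι.range ⊓ C{ap ρ m} := by
  rw [← C_zpowers, img_C h hH (zpowers_le.2 hm), img_zpowers _ hm, C_zpowers]

theorem img_comm1 [Finite G] [Finite Γ] (hV : Abl V) (hm : m ∈ H) :
    img ι ⁅V, zpowers m⁆ = ⁅ι.range, zpowers (ap ρ m)⁆ := by
  have h1 : ap ρ m ∈ N[ι.range] := by
    rw [mem_N_iff_cj, ← img_dom, ← img_cj' h hH hm le_rfl, cj_of_mem_N (hH hm)]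
  have h2 : Abl ι.range := img_dom ι ▸ hV.img ι
  have e : ∀ x ∈ V, ap ι (m * x * m⁻¹ * x⁻¹) = ap ρ m * ap ι x * (ap ρ m)⁻¹ * (ap ι x)⁻¹ := fun x hx => by
    rw [ap_mul _ (conj_mem (hH hm) hx) (inv_mem hx), ap_inv _ hx, h.act m hm x hx]
  ext z
  rw [mem_img_of_le (comm1_le (hH hm)), mem_comm1 h2 h1, ← img_dom]
  constructor
  · rintro ⟨y, hy, rfl⟩
    obtain ⟨x, hx, rfl⟩ := (mem_comm1 hV (hH hm)).1 hy
    exact ⟨_, ap_mem_img ι hx hx, (e x hx).symm⟩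
  · rintro ⟨z, hz, rfl⟩
    obtain ⟨x, hx, rfl⟩ := (mem_img_of_le le_rfl).1 hz
    exact ⟨_, (mem_comm1 hV (hH hm)).2 ⟨x, hx, rfl⟩, e x hx⟩

end Sec

end H18.NO
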