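import Cfsg.Agent.H12.NGO2
import Cfsg.Agent.H12.NGL

/-!
# N-groups, case II: the extraspecial configuration of order `32`, first part
-/

set_option autoImplicit false
set_option linter.unusedSectionVars false

namespace H18.NO

open Subgroup Cfsg H24 H11.ZN H12.NG

universe u

variable {G : Type u} [Group G] [Finite G] {V V₁ H M S W K : Subgroup G} {𝓦 : Set (Subgroup G)}
  {a b d f k m s u v w x z : G}

theorem axis (h : Om S M V 𝓦) (h2 : 𝓦.ncard = 2) (h1 : V₁ ≤ V) (hi : V₁.relIndex V = 2) (hm : m ∈ M)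
    (hc : m ∈ C[V₁]) (hn : m ∉ C[V]) : ∃ W ∈ 𝓦, W ≤ V₁ := by
  by_contra hW
  push Not at hW
  have c1 := card_mul_relIndex h1
  rw [hi, h.card_V, h2] at c1
  have n1 : ∀ W ∈ 𝓦, m ∈ N[W] := fun W hW => by_contra fun e => by
    have := (card_le (le_inf h1 (mem_C_iff_le_C1.1 hc))).trans (h.card_C_of_move h2 hm hW e)
    omega
  refine hn (h.C_V fun W w1 => mem_C'.2 fun w hw => ?_)
  by_cases e : w ∈ V₁
  · exact mem_C'.1 hc w e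
  obtain ⟨W', w2, w3, -⟩ := h.exists_other w1
  obtain ⟨w', a1, a2⟩ := SetLike.not_le_iff_exists.1 (hW W' w2)
  have e1 := conj_eq_of_mem_C hc ((mul_mem_idx2 hi (h.W_le w1 hw) (h.W_le w2 a1)).2 (iff_of_false e a2))
  rw [H3.NG.cjm] at e1
  exact H3.NG.ccj (mul_eq_mul_of_inf (eq_bot_of_le (h.ind W w1) (inf_le_inf_left _ (le_Cw w2 w3)))
    (conj_mem (n1 W w1) hw) hw (conj_mem (n1 W' w2) a1) a1 e1).1

theorem fullW (h : Om S M V 𝓦) (hf : f ∉ M) (hW : W ∈ 𝓦) : (V ⊓ cj f V) ⊓ W = ⊥ := by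
  obtain ⟨W', w1, -, w2⟩ := h.exists_other hW
  exact eq_bot_of_le (h.full hf w1) (inf_le_inf_left _ w2)

theorem fpf_pair (h : Om S M V 𝓦) (h2 : 𝓦.ncard = 2) (hd : ∀ W ∈ 𝓦, d ∈ N[W] ∧ W ⊓ C{d} = ⊥) :
    V ⊓ C{d} = ⊥ := by
  obtain ⟨W, w1, W', w2, w3⟩ := h.two
  refine inf_eq_bot_of fun x hx hc => ?_
  rw [h.V_eq w1, h.Cw_pair h2 w1 w2 w3.symm] at hx
  obtain ⟨w, a1, w', a2, rfl⟩ := (mem_sup_of_norm (h.abl.norm (h.W_le w2) (h.W_le w1))).1 hx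
  have e1 := mem_C1_iff_conj.1 (mem_C1_comm.1 hc)
  rw [H3.NG.cjm] at e1
  have e2 := mul_eq_mul_of_inf (eq_bot_of_le (h.ind W w1) (inf_le_inf_left _ (le_Cw w2 w3.symm)))
    (conj_mem (hd W w1).1 a1) a1 (conj_mem (hd W' w2).1 a2) a2 e1
  rw [eq_one_of_inf (hd W w1).2 a1 (mem_C1_comm.1 (mem_C1_iff_conj.2 e2.1)),
    eq_one_of_inf (hd W' w2).2 a2 (mem_C1_comm.1 (mem_C1_iff_conj.2 e2.2)), mul_one]

/-- the product of two different transpositions has no fixed points -/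
theorem two_tr (hW : EA W) (h4 : ♯W = 4) (ha : a ∈ N[W]) (a2 : a * a = 1) (hn : a ∉ C[W]) (hd : d ∈ N[W])
    (hc : W ⊓ C{d} = ⊥) : W ⊓ C{d * a * d⁻¹ * a⁻¹} = ⊥ := by
  have h1 : W ≠ ⊥ := by rintro rfl; simp at h4
  obtain ⟨w, hw, w1⟩ := exists_ne_one ((H3.NG.zp_two a2).inf_C_ne_bot two_prime (ea_pi hW) (zpowers_le.2 ha) h1)
  rw [C_zpowers] at hw
  obtain ⟨hw, c1⟩ := mem_inf.1 hw
  obtain ⟨w', e'⟩ : ∃ w', w' = d * w * d⁻¹ := ⟨_, rfl⟩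
  obtain ⟨b, eb⟩ : ∃ b, b = d * a * d⁻¹ := ⟨_, rfl⟩
  have hw' : w' ∈ W := e' ▸ conj_mem hd hw
  have w1' : w' ≠ 1 := e' ▸ H3.NG.cjne d w1
  have ne : w ≠ w' := fun e => w1 (eq_one_of_inf hc hw (mem_C1_comm.1 (mem_C1_iff_conj.2 (e'.symm.trans e.symm))))
  have hb : b ∈ N[W] := eb ▸ mul_mem (mul_mem hd ha) (inv_mem hd)
  have c2 : b ∈ C{w'} := by rw [eb, e', ← cj_C1]; exact conj_mem_cj d (mem_C1_comm.1 c1)
  have hn' : b ∉ C[W] := fun e => hn ((conj_mem_iff (N_le_NC W hd)).1 (eb ▸ e))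
  have m1 := H3.NG.four_mv hW h4 hw hw' w1 w1' ne ha (mem_C1_comm.1 c1) hn
  have m2 := H3.NG.four_mv hW h4 hw' hw w1' w1 ne.symm hb c2 hn'
  have m3 := mem_C1_iff_conj.1 (mem_C1_comm.1 c1)
  have m4 := mem_C1_iff_conj.1 c2
  rw [← eb]
  refine inf_eq_bot_of fun e he hc' => ?_
  have e1 : b * (a⁻¹ * e * a) * b⁻¹ = a * (a⁻¹ * e * a) * a⁻¹ := by
    rw [show b * (a⁻¹ * e * a) * b⁻¹ = b * a⁻¹ * e * (b * a⁻¹)⁻¹ by group,
      mem_C1_iff_conj.1 (mem_C1_comm.1 hc')]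
    group
  rcases H3.NG.four_cases hW h4 hw hw' w1 w1' ne (conj_mem' ha he) with e2 | e2 | e2 | e2
  · rwa [show a⁻¹ * e * a = a⁻¹ * e * a⁻¹⁻¹ by group, conj_eq_one_iff'] at e2
  · rw [e2, m2, m3] at e1
    exact absurd (by simpa using e1) w1'
  · rw [e2, m4, m1] at e1
    exact absurd (by simpa using e1) w1
  · rw [e2, H3.NG.cjm, H3.NG.cjm, m1, m2, m3, m4, H3.NG.mml (H3.NG.ea_sq hW hw), H3.NG.ea_comm hW hw' hw,
      H3.NG.mmr (H3.NG.ea_sq hW hw')] at e1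
    exact absurd e1 ne

/-- the configuration -/
structure X3 (S M V : Subgroup G) (𝓦 : Set (Subgroup G)) (H V₁ : Subgroup G) (v f z : G) : Prop where
  om : Om S M V 𝓦
  ch : Ch2 H
  SH : S ≤ H
  lc : Lc H S V V₁ v f
  two : 𝓦.ncard = 2
  D : V ⊓ cj f V = zpowers z
  z1 : z ≠ 1

theorem exists_X3 (h : Om S M V 𝓦) (hH : Ch2 H) (hS : S ≤ H) (hn : ¬ V ≤ Q2 H) :
    ∃ V₁ v f z, X3 S M V 𝓦 H V₁ v f z := by
  have nS : V ⊴ S := ⟨h.V_le_S, h.le.trans h.M_le⟩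
  obtain ⟨V₁, v, f, lc⟩ := exists_Lc hH (h.syl.of_le hS le_top) h.ea nS hn
  have fM : f ∉ M := fun e => lc.fN (h.M_le e)
  have c1 := h.card_full inf_le_left fun _ => h.full fM
  have AM := lc.A_le.trans h.le
  have c2 := h.rank AM fun a ha => by
    rw [H3.NG.ea_sq (H3.NG.ea_cj h.ea f) (cj_mono f lc.le ha)]; exact one_mem _
  have e1 : cj f V₁ ⊓ C[V] = V ⊓ cj f V := le_antisymm
    (lc.cA ▸ inf_le_inf_right _ (cj_mono f lc.le))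
    (le_inf (lc.D_le.trans inf_le_right) (inf_le_left.trans h.abl.le_C))
  have c3 := card_mul_relIndex (inf_le_left : cj f V₁ ⊓ C[V] ≤ _)
  have c4 := card_mul_relIndex lc.le
  rw [e1] at c2
  rw [card_cj, e1] at c3
  rw [lc.idx, h.card_V] at c4
  have c5 : 𝓦.ncard = 2 := by
    obtain ⟨k, k1, k2⟩ := h.exists_pow
    have e : 4 ^ 𝓦.ncard = 2 ^ 𝓦.ncard * 2 ^ 𝓦.ncard := by rw [← mul_pow]; rfl
    have c6 : 2 ^ 𝓦.ncard * 2 ^ 𝓦.ncard ≤ 8 * 2 ^ 𝓦.ncard := by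
      have := Nat.mul_le_mul c1 c2
      omega
    have c7 := Nat.le_of_mul_le_mul_right c6 (Nat.two_pow_pos _)
    have c8 := (Nat.pow_le_pow_iff_right (by norm_num : 1 < 2)).1 (show 2 ^ 𝓦.ncard ≤ 2 ^ 3 from c7)
    have c9 : k < 2 := (Nat.pow_lt_pow_iff_right (by norm_num : 1 < 2)).1 (by omega)
    rw [k2, show k = 1 by omega]; rfl
  rw [c5] at c2 c4
  have c6 : ♯V₁ = 8 := by omega
  rw [c6] at c3
  have DV := lc.D_le.trans inf_le_left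
  have c7 : ♯(V ⊓ cj f V) ≠ 4 := fun e => by
    have c8 := card_mul_relIndex DV
    obtain ⟨a, ha, a1⟩ : ∃ a ∈ cj f V₁, a ∉ V := SetLike.not_le_iff_exists.1 fun e' => by
      have := card_le (le_inf e' (cj_mono f lc.le))
      rw [card_cj] at this
      omega
    have e2 := lc.tv h.ea nS (by rw [e, c6] at c8; omega) ha a1
    obtain ⟨W, w1, w2⟩ := axis h c5 lc.le lc.idx (AM ha) (mem_C_iff_le_C1.2 (e2.ge.trans inf_le_right))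
      fun e' => lc.v1 (e2.le (mem_inf.2 ⟨lc.vV, mem_C_iff_le_C1.1 e' lc.vV⟩))
    have c9 := card_sup_of_inf (h.abl.norm (h.W_le w1) inf_le_left) (fullW h fM w1)
    have := card_le (sup_le DV w2)
    rw [c9, e, h.card W w1] at this
    omega
  have c8 : ♯(V ⊓ cj f V) = 2 := by
    obtain ⟨n, hn⟩ : ∃ n, n = ♯(V ⊓ cj f V) := ⟨_, rfl⟩
    rw [← hn] at c1 c3 c7 ⊢
    interval_cases n <;> omega
  obtain ⟨z, hz, z1⟩ := exists_ne_one (ne_bot_of_prime (c8 ▸ two_prime))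
  exact ⟨V₁, v, f, z, h, hH, hS, lc, c5, (zpowers_eq_of_prime (c8 ▸ two_prime) hz z1).symm, z1⟩

namespace X3

variable (h : X3 S M V 𝓦 H V₁ v f z)
include h

theorem ea : EA V := h.om.ea
theorem ea' : EA (cj f V) := H3.NG.ea_cj h.ea f
theorem abl : Abl V := h.om.abl
theorem abl' : Abl (cj f V) := h.abl.cj f
theorem fM : f ∉ M := fun e => h.lc.fN (h.om.M_le e)
theorem cardV : ♯V = 16 := by rw [h.om.card_V, h.two]; rfl
theorem cardV1 : ♯V₁ = 8 := by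
  have := card_mul_relIndex h.lc.le
  rw [h.lc.idx, h.cardV] at this
  omega
theorem cardA : ♯(cj f V₁) = 8 := by rw [card_cj, h.cardV1]
theorem AV : cj f V₁ ≤ cj f V := cj_mono f h.lc.le
theorem AM : cj f V₁ ≤ M := h.lc.A_le.trans h.om.le
theorem AN : cj f V₁ ≤ N[V] := h.AM.trans h.om.M_le
theorem DV1 : zpowers z ≤ V₁ := h.D.ge.trans (h.lc.D_le.trans inf_le_left)
theorem DA : zpowers z ≤ cj f V₁ := h.D.ge.trans (h.lc.D_le.trans inf_le_right)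
theorem zV1 : z ∈ V₁ := h.DV1 (mem_zpowers z)
theorem zA : z ∈ cj f V₁ := h.DA (mem_zpowers z)
theorem zV : z ∈ V := h.lc.le h.zV1
theorem zV' : z ∈ cj f V := h.AV h.zA
theorem z2 : z * z = 1 := H3.NG.ea_sq h.ea h.zV
theorem cardD : ♯(zpowers z) = 2 := H3.NG.card_zp2 h.z2 h.z1
theorem mD (h1 : x ∈ V) (h2 : x ∈ cj f V) : x ∈ zpowers z := h.D.le (mem_inf.2 ⟨h1, h2⟩)
theorem mD' (h1 : x ∈ cj f V) (h2 : x ∈ C[V]) : x ∈ zpowers z :=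
  h.D.le (h.lc.cA.le (mem_inf.2 ⟨h1, h2⟩))
theorem DW (hW : W ∈ 𝓦) : zpowers z ⊓ W = ⊥ := h.D ▸ fullW h.om h.fM hW
theorem cm (ha : a ∈ cj f V₁) (hx : x ∈ V₁) : a * x * a⁻¹ * x⁻¹ ∈ zpowers z :=
  h.D.le (H3.NG.cm_symm (h.lc.comm (H3.NG.cm_mem hx ha)))
theorem AN1 : cj f V₁ ≤ N[V₁] := le_N_iff.2 fun a ha x hx => by
  simpa using mul_mem (h.DV1 (h.cm ha hx)) hx
theorem fz : f ∈ C{z} :=
  sup_le (mem_C_iff_le_C1.1 (h.abl.le_C h.zV)) (mem_C_iff_le_C1.1 (h.abl'.le_C h.zV')) h.lc.f_mem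
theorem fH : f ∈ H := F2_le H h.lc.fF
theorem fD : f * x * f⁻¹ ∈ zpowers z ↔ x ∈ zpowers z :=
  conj_mem_iff (norm_zpowers_of_cent le_rfl h.fz)

theorem noW (hW : W ∈ 𝓦) : ¬ W ≤ V₁ := by
  intro hle
  obtain ⟨W', w1, w2, -⟩ := h.om.exists_other hW
  have n1 : cj f V₁ ≤ N[W] := fun a ha => by_contra fun e => by
    have e1 : cj a W ≠ W := fun e' => e (mem_N_iff_cj.2 e')
    have e2 := h.om.V_eq hW
    rw [h.om.Cw_pair h.two hW (h.om.perm a (h.AM ha) W hW) e1] at e2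
    exact h.lc.v1 (sup_le hle (cj_le_of_mem_N hle (h.AN1 ha)) (e2.le h.lc.vV))
  have n2 : cj f V₁ ≤ C[W] := fun a ha => mem_C'.2 fun w hw => by
    have := eq_one_of_inf (h.DW hW) (h.cm ha (hle hw)) (mul_mem (conj_mem (n1 ha) hw) (inv_mem hw))
    rwa [mul_inv_eq_one, mul_inv_eq_iff_eq_mul] at this
  have c1 := four_le_two (h.om.cs.eaW w1) (h.om.card W' w1)
    (fun a ha => h.om.norm_pair h.two hW w1 (h.AM ha) (n1 ha)) fun a ha => by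
      rw [H3.NG.ea_sq h.ea' (h.AV ha)]; exact one_mem _
  have c2 := card_mul_relIndex (inf_le_left : cj f V₁ ⊓ C[W'] ≤ _)
  have c3 : cj f V₁ ⊓ C[W'] ≤ zpowers z := fun a ha => h.mD' (h.AV (mem_inf.1 ha).1) (h.om.C_V fun X hX => by
    rcases h.om.pair h.two hW w1 w2 hX with rfl | rfl
    · exact n2 (mem_inf.1 ha).1
    · exact (mem_inf.1 ha).2)
  have c4 := Nat.mul_le_mul (card_le c3) c1
  rw [c2, h.cardA, h.cardD] at c4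
  omega

theorem cenV1 (hm : m ∈ M) (hc : m ∈ C[V₁]) : m ∈ C[V] := by
  by_contra hn
  obtain ⟨W, w1, w2⟩ := axis h.om h.two h.lc.le h.lc.idx hm hc hn
  exact h.noW w1 w2

theorem exists_z (ha : a ∈ cj f V₁) (a1 : a ∉ zpowers z) : ∃ x ∈ V₁, a * x * a⁻¹ * x⁻¹ = z := by
  by_contra e
  push Not at e
  refine a1 (h.mD' (h.AV ha) (h.cenV1 (h.AM ha) (mem_C'.2 fun x hx => ?_)))
  have := ((H3.NG.mem_zp2 h.z2).1 (h.cm ha hx)).resolve_right (e x hx)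
  rwa [mul_inv_eq_one, mul_inv_eq_iff_eq_mul] at this

theorem phi_ne (ha : a ∈ cj f V₁) (a1 : a ∉ zpowers z) : v * a * v⁻¹ * a⁻¹ ∉ zpowers z := fun e =>
  a1 (h.mD (h.lc.phi_inj a ha (h.AV (h.DA e))) (h.AV ha))

theorem CVa (ha : a ∈ cj f V₁) (a1 : a ∉ zpowers z) :
    ♯(V ⊓ C{a}) = 4 ∧ V ⊓ C{a} ≤ V₁ ∧ v * a * v⁻¹ * a⁻¹ ∈ V ⊓ C{a} := by
  have aN := h.AN ha
  have k1 := comm1_le_C h.ea aN (by rw [H3.NG.ea_sq h.ea' (h.AV ha)]; exact one_mem _)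
  have k2 := card_comm1 h.abl aN
  obtain ⟨x, hx, e⟩ := h.exists_z ha a1
  have k3 : zpowers z ≤ ⁅V, zpowers a⁆ := zpowers_le.2 ((mem_comm1 h.abl aN).2 ⟨x, h.lc.le hx, e⟩)
  have k4 : v * a * v⁻¹ * a⁻¹ ∈ ⁅V, zpowers a⁆ := H3.NG.cm_mem h.lc.vV (mem_zpowers a)
  have k5 := card_lt (lt_of_le_of_ne k3 fun e => h.phi_ne ha a1 (e ▸ k4))
  have k6 := card_le k1
  rw [h.cardV] at k2
  rw [h.cardD] at k5
  have k7 : ♯(V ⊓ C{a}) = 4 ∧ ♯⁅V, zpowers a⁆ = 4 := by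
    obtain ⟨n, hn⟩ : ∃ n, n = ♯⁅V, zpowers a⁆ := ⟨_, rfl⟩
    rw [← hn] at k2 k5 k6 ⊢
    have : n ≤ 4 := by nlinarith
    interval_cases n <;> omega
  refine ⟨k7.1, ?_, k1 k4⟩
  rw [← eq_of_card_eq k1 (k7.2.trans k7.1.symm)]
  intro y hy
  obtain ⟨w, hw, rfl⟩ := (mem_comm1 h.abl aN).1 hy
  rw [mul_mem_idx2 h.lc.idx (conj_mem aN hw) (inv_mem hw), conj_mem_iff (h.AN1 ha), inv_mem_iff]

theorem zCa (ha : a ∈ cj f V₁) : z ∈ V ⊓ C{a} := mem_inf.2 ⟨h.zV, C_le_C1 (h.AV ha) (h.abl'.le_C h.zV')⟩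

theorem exists_a (hu : u ∈ V₁) (u1 : u ∉ zpowers z) : ∃ a ∈ cj f V₁, a ∉ zpowers z ∧ u ∈ C{a} := by
  obtain ⟨a, ha, e⟩ := h.lc.phi_surj u hu
  have e1 := h.mD (h.lc.le (mul_mem hu (h.lc.phi_mem a ha))) e
  have a1 : a ∉ zpowers z := fun e' => u1 (by
    rwa [H3.NG.cjc (h.abl.comm h.lc.vV (h.lc.le (h.DV1 e'))), mul_inv_cancel, mul_one] at e1)
  refine ⟨a, ha, a1, ?_⟩
  simpa only [mul_inv_cancel_right] using
    mul_mem (zpowers_le.2 (mem_inf.1 (h.zCa ha)).2 e1) (inv_mem (mem_inf.1 (h.CVa ha a1).2.2).2)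

/-! ### the involution `f v` interchanging `V` and `V ^ f` -/

theorem vN1 : v ∈ N[V₁] := h.abl.norm le_rfl h.lc.le h.lc.vV
theorem gg : f * v * (f * v) = 1 := by
  have e := h.lc.inv
  rw [H3.NG.ea_inv h.ea h.lc.vV] at e
  calc f * v * (f * v) = f * (v * f * v) := by group
    _ = 1 := by rw [e]; group
theorem ggx (x : G) : f * v * (f * v * x * (f * v)⁻¹) * (f * v)⁻¹ = x := by
  calc _ = f * v * (f * v) * x * (f * v * (f * v))⁻¹ := by group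
    _ = x := by rw [h.gg]; group
theorem gV : cj (f * v) V = cj f V := by rw [cj_mul, cj_of_mem h.lc.vV]
theorem gV' : cj (f * v) (cj f V) = V := by rw [← h.gV, ← cj_mul, h.gg, cj_one]
theorem gV1 : cj (f * v) V₁ = cj f V₁ := by rw [cj_mul, cj_of_mem_N h.vN1]
theorem gA : cj (f * v) (cj f V₁) = V₁ := by rw [← h.gV1, ← cj_mul, h.gg, cj_one]
theorem gz : f * v ∈ C{z} := mul_mem h.fz (C_le_C1 h.zV (h.abl.le_C h.lc.vV))
theorem gD : f * v * x * (f * v)⁻¹ ∈ zpowers z ↔ x ∈ zpowers z :=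
  conj_mem_iff (norm_zpowers_of_cent le_rfl h.gz)

theorem CVx (hx : x ∈ V₁) (x1 : x ∉ zpowers z) : ♯(cj f V ⊓ C{x}) = 4 := by
  have := (h.CVa (h.gV1 ▸ conj_mem_cj (f * v) hx) fun e => x1 (h.gD.1 e)).1
  rwa [← card_cj (f * v), cj_inf, cj_C1, h.gV, h.ggx] at this

theorem exists_A : ∃ a ∈ cj f V₁, a ∉ zpowers z := SetLike.not_le_iff_exists.1 fun e => by
  have := card_le e
  rw [h.cardA, h.cardD] at this
  omega

theorem CVA (hx : x ∈ V) (hc : x ∈ C[cj f V₁]) : x ∈ zpowers z := by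
  by_contra x1
  obtain ⟨a, ha, a1⟩ := h.exists_A
  have := card_le (le_inf h.AV (mem_C_iff_le_C1.1 hc))
  rw [h.CVx ((h.CVa ha a1).2.1 (mem_inf.2 ⟨hx, C_le_C1 ha hc⟩)) x1, h.cardA] at this
  omega

theorem Sz : S ≤ C{z} := by
  obtain ⟨y, hy, y1, y2, -⟩ := h.om.exists_z le_rfl h.om.ne (h.om.le.trans h.om.M_le)
  have := ((H3.NG.mem_zp2 h.z2).1 (h.CVA hy (C_anti h.lc.A_le (OZ_le_C S y2)))).resolve_left y1
  exact this ▸ mem_C_iff_le_C1.1 (OZ_le_C S y2)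

theorem QS : Q2 H ≤ S := pcore_le_Hall (h.om.syl.of_le h.SH le_top)
theorem HQ : H ≤ N[Q2 H] := (Q2_nml H).2
theorem vH : v ∈ H := h.SH (h.om.V_le_S h.lc.vV)

theorem phi_mem (hv : v ∈ N[K]) (hK : ∀ x ∈ V₁, f * x * f⁻¹ * x⁻¹ ∈ K) (ha : a ∈ cj f V₁) :
    v * a * v⁻¹ * a⁻¹ ∈ K := by
  obtain ⟨x, hx, rfl⟩ := mem_cj'.1 ha
  have := mul_mem (conj_mem hv (hK x hx)) (inv_mem (hK x hx))
  convert this using 1
  calc _ = v * (f * x * f⁻¹ * x⁻¹) * v⁻¹ * (v * x * v⁻¹) * (f * x * f⁻¹)⁻¹ := by group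
    _ = _ := by rw [H3.NG.cjc (h.abl.comm h.lc.vV (h.lc.le hx))]; group

theorem V1_le (hv : v ∈ N[K]) (hK : ∀ x ∈ V₁, f * x * f⁻¹ * x⁻¹ ∈ K) (hz : z ∈ K) : V₁ ≤ K := by
  intro x hx
  obtain ⟨a, ha, e⟩ := h.lc.phi_surj x hx
  have e1 := h.mD (h.lc.le (mul_mem hx (h.lc.phi_mem a ha))) e
  simpa only [mul_inv_cancel_right] using mul_mem (zpowers_le.2 hz e1) (inv_mem (h.phi_mem hv hK ha))

theorem V1Q : V₁ ≤ Q2 H :=
  h.V1_le (h.HQ h.vH) (fun x hx => H3.NG.cm_symm (h.lc.cent x hx))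
    (h.ch.2 (mem_inf.2 ⟨h.SH (h.om.V_le_S h.zV), mem_C_iff_le_C1.2 (h.QS.trans h.Sz)⟩))

theorem V1eq : V ⊓ Q2 H = V₁ := le_antisymm h.lc.q (le_inf h.lc.le h.V1Q)
theorem Aeq : cj f V ⊓ Q2 H = cj f V₁ := by rw [← h.V1eq, cj_inf, cj_of_mem_N (h.HQ h.fH)]
theorem AQ : cj f V₁ ≤ Q2 H := h.Aeq.ge.trans inf_le_right
theorem SN : S ≤ N[V] := h.om.le.trans h.om.M_le
theorem SN1 : S ≤ N[V₁] := h.V1eq ▸ norm_inf h.SN (h.SH.trans h.HQ)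
theorem QN' : Q2 H ≤ N[cj f V] := cj_of_mem_N (h.HQ h.fH) ▸ norm_cj (h.QS.trans h.SN) f
theorem QNA : Q2 H ≤ N[cj f V₁] := h.Aeq ▸ norm_inf h.QN' (norm_self _)

end X3

end H18.NO
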