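import Mathlib

/-! Centralisers of involutions in `PSL₂` in characteristic `2`. -/

set_option autoImplicit false

namespace H18

open Matrix
open scoped MatrixGroups

theorem sl2_center_eq_one {F : Type*} [Field F] (h2 : (2 : F) = 0) {g : SL(2, F)}
    (hg : g ∈ Subgroup.center SL(2, F)) : g = 1 := by
  obtain ⟨r, hr, e⟩ := Matrix.SpecialLinearGroup.mem_center_iff.1 hg
  rw [Fintype.card_fin] at hr
  have h1 : r = 1 := by
    have : (r - 1) ^ 2 = 0 := by linear_combination hr + (1 - r) * h2
    exact sub_eq_zero.1 (pow_eq_zero_iff two_ne_zero |>.1 this)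
  ext i j
  rw [← e, h1, map_one]; rfl

theorem sl2_sq_of_comm {F : Type*} [Field F] (h2 : (2 : F) = 0) {t g : SL(2, F)} (ht : t * t = 1)
    (t1 : t ≠ 1) (h : g * t = t * g) : g * g = 1 := by
  have e1 := fun i j => congrArg (fun m : SL(2, F) => m i j) ht
  have e2 := fun i j => congrArg (fun m : SL(2, F) => m i j) h
  have d1 := t.det_coe
  have d2 := g.det_coe
  rw [det_fin_two] at d1 d2
  simp only [Matrix.SpecialLinearGroup.coe_mul, Matrix.mul_apply, Fin.sum_univ_two, Matrix.SpecialLinearGroup.coe_one] at e1 e2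
  have a00 := e1 0 0
  have a11 := e1 1 1
  have b01 := e2 0 1
  have b10 := e2 1 0
  simp only [one_apply_eq] at a00 a11
  have htr : t 1 1 = t 0 0 := by
    have : (t 1 1 - t 0 0) ^ 2 = 0 := by
      linear_combination a11 - a00 + (t 0 0 * t 0 0 - t 0 0 * t 1 1) * h2
    exact sub_eq_zero.1 (pow_eq_zero_iff two_ne_zero |>.1 this)
  have hg : g 1 1 = g 0 0 := by
    by_contra hne
    have hn : g 1 1 - g 0 0 ≠ 0 := sub_ne_zero.2 hne
    have hb : t 0 1 = 0 := by
      refine (mul_eq_zero.1 (show (g 1 1 - g 0 0) * t 0 1 = 0 from ?_)).resolve_left hn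
      linear_combination -b01 + g 0 1 * htr
    have hc : t 1 0 = 0 := by
      refine (mul_eq_zero.1 (show (g 1 1 - g 0 0) * t 1 0 = 0 from ?_)).resolve_left hn
      linear_combination b10 + g 1 0 * htr
    have ha : t 0 0 = 1 := by
      have : (t 0 0 - 1) ^ 2 = 0 := by
        linear_combination a00 - t 1 0 * hb + (1 - t 0 0) * h2
      exact sub_eq_zero.1 (pow_eq_zero_iff two_ne_zero |>.1 this)
    refine t1 (Matrix.SpecialLinearGroup.ext _ _ fun i j => ?_)
    fin_cases i <;> fin_cases j <;> simp [ha, hb, hc, htr]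
  refine Matrix.SpecialLinearGroup.ext _ _ fun i j => ?_
  fin_cases i <;> fin_cases j <;>
    simp only [Matrix.SpecialLinearGroup.coe_mul, Matrix.mul_apply, Fin.sum_univ_two, Matrix.SpecialLinearGroup.coe_one,
      Fin.zero_eta, Fin.mk_one, Fin.isValue, one_apply_eq, ne_eq, zero_ne_one, one_ne_zero,
      not_false_eq_true, one_apply_ne]
  · linear_combination d2 - g 0 0 * hg + g 0 1 * g 1 0 * h2
  · linear_combination g 0 1 * hg + g 0 0 * g 0 1 * h2
  · linear_combination g 1 0 * hg + g 0 0 * g 1 0 * h2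
  · linear_combination d2 + g 1 1 * hg + g 0 1 * g 1 0 * h2

theorem psl2_sq_of_comm {F : Type*} [Field F] (h2 : (2 : F) = 0) {t g : PSL(2, F)} (ht : t * t = 1)
    (t1 : t ≠ 1) (h : g * t = t * g) : g * g = 1 := by
  have inj : Function.Injective (QuotientGroup.mk' (Subgroup.center SL(2, F))) := by
    rw [injective_iff_map_eq_one]
    exact fun a ha => sl2_center_eq_one h2 ((QuotientGroup.eq_one_iff a).1 ha)
  obtain ⟨t, rfl⟩ := QuotientGroup.mk'_surjective _ t
  obtain ⟨g, rfl⟩ := QuotientGroup.mk'_surjective _ g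
  rw [← map_mul, sl2_sq_of_comm h2 (t := t) (inj (by rw [map_mul, ht, map_one]))
    (fun e => t1 (by rw [e, map_one])) (inj (by rw [map_mul, map_mul, h])), map_one]

end H18
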