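import Mathlib
import Cfsg.Agent.H26.B71C
import Cfsg.Agent.H26.GBase
import Cfsg.Agent.S1174

/-! Classes of involutions with products of order `1`, `2` or `p`: basic lemmas and Lemma Q. -/

set_option autoImplicit false
set_option linter.unusedSectionVars false

namespace H18.R3

open Subgroup H24 Cfsg

universe u

variable {G : Type u} [Group G] {D : Set G} {p : ℕ} {a b c d g u v w x y z : G}

theorem inv_eq (h : a * a = 1) : a⁻¹ = a := inv_eq_of_mul_eq_one_right h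

theorem comm_of_sq (ha : a * a = 1) (hb : b * b = 1) (h : a * b * (a * b) = 1) : Commute a b := by
  have := inv_eq h
  rw [mul_inv_rev, inv_eq ha, inv_eq hb] at this
  exact this.symm

theorem sq_of_comm (ha : a * a = 1) (hb : b * b = 1) (h : Commute a b) : a * b * (a * b) = 1 := by
  rw [← pow_two, h.mul_pow, pow_two, pow_two, ha, hb, one_mul]

theorem pow_odd (h : v * v = 1) (hp : Odd p) : v ^ p = v := by
  obtain ⟨m, rfl⟩ := hp
  rw [pow_succ, pow_mul, pow_two, h, one_pow, one_mul]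

theorem comm_of_pow (hp : p.Prime) (h : x ^ p = 1) {i : ℕ} (hi : ¬ p ∣ i) (hc : Commute c (x ^ i)) :
    Commute c x := by
  obtain ⟨m, hm⟩ := exists_pow_eq_self_of_coprime (x := x) (n := i)
    (((Nat.Prime.coprime_iff_not_dvd hp).2 hi).symm.coprime_dvd_right (orderOf_dvd_of_pow_eq_one h))
  exact hm ▸ hc.pow_right m

theorem refl_pow (ha : a * a = 1) (hb : b * b = 1) (m : ℕ) :
    a * ((a * b) ^ m)⁻¹ = (a * b) ^ m * a := by
  have h1 : SemiconjBy a (a * b)⁻¹ (a * b) := by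
    rw [SemiconjBy, mul_inv_rev, inv_eq ha, inv_eq hb, mul_assoc]
  rw [← inv_pow]
  exact h1.pow_right m

theorem conj_of_odd (ha : a * a = 1) (hb : b * b = 1) (hp : Odd p) (h : (a * b) ^ p = 1) :
    ∃ g, g * a * g⁻¹ = b := by
  obtain ⟨m, rfl⟩ := hp
  refine ⟨(a * b) ^ m, ?_⟩
  have h2 : (a * b) ^ m * (a * b) ^ m = (a * b)⁻¹ := by
    rw [← pow_add, ← two_mul, eq_inv_iff_mul_eq_one, ← pow_succ, h]
  rw [mul_assoc, refl_pow ha hb, ← mul_assoc, h2, mul_inv_rev, inv_mul_cancel_right, inv_eq hb]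

/-- a normal set of involutions with products of order `1`, `2` or `p` -/
structure Good (D : Set G) (p : ℕ) : Prop where
  prime : p.Prime
  five : 5 ≤ p
  ne : ∀ d ∈ D, d ≠ 1
  sq : ∀ d ∈ D, d * d = 1
  conj : ∀ d ∈ D, ∀ g, g * d * g⁻¹ ∈ D
  ord : ∀ a ∈ D, ∀ b ∈ D, Commute a b ∨ (a * b) ^ p = 1

namespace Good

variable (h : Good D p)
include h

theorem odd : Odd p := h.prime.odd_of_ne_two (by have := h.five; omega)

theorem pow (ha : a ∈ D) (hb : b ∈ D) (hn : ¬ Commute a b) : (a * b) ^ p = 1 :=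
  (h.ord a ha b hb).resolve_left hn

theorem sub (H : Subgroup G) : Good {x : H | (x : G) ∈ D} p :=
  ⟨h.prime, h.five, fun d hd e => h.ne d hd (congrArg Subtype.val e),
    fun d hd => Subtype.ext (h.sq d hd), fun d hd g => h.conj d hd g,
    fun a ha b hb => (h.ord a ha b hb).imp (fun e => Subtype.ext e) fun e => Subtype.ext e⟩

theorem map {Y : Type u} [Group Y] {f : G →* Y} (hf : Function.Surjective f) :
    Good {y | y ≠ 1 ∧ ∃ d ∈ D, f d = y} p := by
  refine ⟨h.prime, h.five, fun d hd => hd.1, ?_, ?_, ?_⟩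
  · rintro _ ⟨-, d, hd, rfl⟩
    rw [← map_mul, h.sq d hd, map_one]
  · rintro _ ⟨h1, d, hd, rfl⟩ g
    obtain ⟨g, rfl⟩ := hf g
    exact ⟨fun e => h1 (conj_eq_one_iff'.1 e), _, h.conj d hd g, by simp⟩
  · rintro _ ⟨-, a, ha, rfl⟩ _ ⟨-, b, hb, rfl⟩
    exact (h.ord a ha b hb).imp (fun e => e.map f) fun e => by rw [← map_mul, ← map_pow, e, map_one]

theorem two_p (ha : a ∈ D) (hb : b ∈ D) (hn : ¬ Commute a b) (hv : v * v = 1)
    (hc : Commute (a * b) v) (hbv : b * v ∈ D) : v = 1 := by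
  rcases h.ord a ha _ hbv with e | e
  · have h1 := sq_of_comm (h.sq a ha) (h.sq _ hbv) e
    rw [← mul_assoc a b v, ← pow_two, hc.mul_pow, pow_two v, hv, mul_one, pow_two] at h1
    exact absurd (comm_of_sq (h.sq a ha) (h.sq b hb) h1) hn
  · rwa [← mul_assoc, hc.mul_pow, h.pow ha hb hn, one_mul, pow_odd hv h.odd] at e

theorem F (ha : a ∈ D) (hc : c ∈ D) (hne : a * c ≠ 1) (hac : Commute a c) (hd : d ∈ D)
    (hu : Commute d (a * c)) : Commute d a := by
  by_contra hn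
  refine hne (h.two_p hd ha hn (sq_of_comm (h.sq a ha) (h.sq c hc) hac)
    (hu.mul_left ((Commute.refl a).mul_right hac)) ?_)
  rwa [← mul_assoc, h.sq a ha, one_mul]

theorem dih (hb : b ∈ D) (hu : u * u = 1) (hn : ¬ Commute (u * b * u⁻¹) b) :
    ∃ z, z * z = 1 ∧ Commute z b ∧ Commute z u ∧ u * z ∈ D := by
  have h1 := h.pow (h.conj b hb u) hb hn
  rw [inv_eq hu, mul_assoc (u * b), ← pow_two, ← pow_mul, two_mul, pow_add] at h1
  have h2 : Commute ((u * b) ^ p) u := by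
    have := refl_pow hu (h.sq b hb) p
    rw [inv_eq h1] at this
    exact this.symm
  have h3 : Commute ((u * b) ^ p) (u * b) := (Commute.refl _).pow_left p
  have h4 : Commute ((u * b) ^ p) b := by
    have := h2.mul_right h3
    rwa [← mul_assoc, hu, one_mul] at this
  refine ⟨_, h1, h4, h2, ?_⟩
  obtain ⟨g, hg⟩ := conj_of_odd (h.sq b hb) (sq_of_comm hu h1 h2.symm) h.odd (by
    have h5 : (b * u) ^ p = (u * b) ^ p := by
      rw [← inv_eq h1, ← inv_pow, mul_inv_rev, inv_eq hu, inv_eq (h.sq b hb)]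
    rw [← mul_assoc, (h4.mul_right h2).symm.mul_pow, h5, pow_odd h1 h.odd, h1])
  exact hg ▸ h.conj b hb g

theorem exists_ker (tr : ∀ a ∈ D, ∀ b ∈ D, ∀ c ∈ D, Commute a b → Commute b c → Commute a c) :
    ∃ N : Subgroup G, N.Normal ∧ ∀ g, g ∈ N ↔ ∀ d ∈ D, Commute (g * d * g⁻¹) d := by
  refine ⟨{ carrier := {g | ∀ d ∈ D, Commute (g * d * g⁻¹) d}
            one_mem' := fun d _ => by simp
            mul_mem' := fun {g k} hg hk d hd => ?_
            inv_mem' := fun {g} hg d hd => ?_ }, ⟨fun g hg k d hd => ?_⟩, fun _ => Iff.rfl⟩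
  · refine tr _ (h.conj d hd _) _ (h.conj d hd k) d hd ?_ (hk d hd)
    have := hg _ (h.conj d hd k)
    rwa [show g * (k * d * k⁻¹) * g⁻¹ = g * k * d * (g * k)⁻¹ by group] at this
  · have := hg _ (h.conj d hd g⁻¹)
    rw [show g * (g⁻¹ * d * g⁻¹⁻¹) * g⁻¹ = d by group] at this
    exact this.symm
  · have := (hg _ (h.conj d hd k⁻¹)).conj k
    rwa [show k * (k⁻¹ * d * k⁻¹⁻¹) * k⁻¹ = d by group, show k * (g * (k⁻¹ * d * k⁻¹⁻¹) * g⁻¹) * k⁻¹ =
      k * g * k⁻¹ * d * (k * g * k⁻¹)⁻¹ by group] at this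

theorem perp (hx : x ∈ D) (hy : y ∈ D) (hxy : x * y ∈ D) (hd : d ∈ D) (hc : Commute d x) :
    Commute d y := by
  have h1 := comm_of_sq (h.sq x hx) (h.sq y hy) (h.sq _ hxy)
  have e : y * (x * y) = x := by rw [h1.eq, ← mul_assoc, h.sq y hy, one_mul]
  exact h.F hy hxy (e.symm ▸ h.ne x hx) (h1.symm.mul_right (Commute.refl y)) hd (e.symm ▸ hc)

theorem swap (hx : x ∈ D) (hy : y ∈ D) (hxy : x * y ∈ D) : y * x ∈ D :=
  (comm_of_sq (h.sq x hx) (h.sq y hy) (h.sq _ hxy)).eq ▸ hxy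

theorem not_se [Finite G] [IsSimpleGroup G] (hx : x ∈ D) {H : Subgroup G}
    (hH : IsStronglyEmbedded H) : False := by
  have all : ∀ t : G, t * t = 1 → t ≠ 1 → t ∈ D := fun t h1 h2 => by
    obtain ⟨g, rfl⟩ := H26.BR.conj_of_se hH (H6.orderOf_eq_two_of (h.sq x hx) (h.ne x hx))
      (H6.orderOf_eq_two_of h1 h2)
    exact h.conj x hx g
  obtain ⟨t, Q, s, r, hG⟩ := H3.B71.bender_simple hH
  have ht := all t hG.setup.mul_self hG.setup.ne_one
  have hs := all s hG.s_sq hG.s_ne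
  have r4 : r ^ 4 = 1 := by
    rw [show 4 = 2 * 2 from rfl, pow_mul, pow_two, pow_two]
    by_cases hc : ∀ x ∈ Q, ∀ y ∈ Q, x * y = y * x
    · rw [hG.struct'.ab hc r hG.r_mem, one_mul]
    · push Not at hc
      exact (hG.mem_Q0.1 ((hG.higman le_rfl H8.Suz.Q0_le hG.struct'.two
        (fun _ hk _ hx => hG.conj_Q (H8.Suz.KK_le hk) hx) hc).1 r hG.r_mem)).2
  have h5 : p = 5 := by
    have h1 : orderOf (s * t) = 3 ∨ orderOf (s * t) = 5 := by
      by_cases hr : r * r = 1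
      exacts [Or.inl (hG.r_eq_s hr).2, Or.inr (hG.r_sq_eq_s r4 hr).2]
    have h3 := h.five
    rcases h.ord s hs t ht with e | e
    · have := orderOf_dvd_of_pow_eq_one ((pow_two _).trans (sq_of_comm hG.s_sq hG.setup.mul_self e))
      rcases h1 with h1 | h1 <;> rw [h1] at this <;> omega
    · have := (Nat.dvd_prime h.prime).1 (orderOf_dvd_of_pow_eq_one e)
      omega
  obtain ⟨k, hk, e⟩ := H24.Cyc.exists_gen hG.isCyclic_KK
  obtain ⟨n, hn, hq⟩ := hG.card_Q0
  have h1 := hG.card_KK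
  rw [← e, card_zpowers', hq] at h1
  have h2 : k * t * (k * t) = 1 := by
    rw [show k * t * (k * t) = k * (t * k * t) by group, hG.tKt hk, mul_inv_cancel]
  have h3 : k * t * t = k := by rw [mul_assoc, hG.setup.mul_self, mul_one]
  have h4 : orderOf k ∣ 2 ∨ orderOf k ∣ 5 := by
    by_cases h0 : k * t = 1
    · exact Or.inl (orderOf_dvd_of_pow_eq_one (by
        rw [← h3, h0, one_mul, pow_two, hG.setup.mul_self]))
    refine (h.ord _ (all _ h2 h0) t ht).imp (fun e => ?_) fun e => ?_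
    · exact orderOf_dvd_of_pow_eq_one (by
        rw [← h3, pow_two]; exact sq_of_comm h2 hG.setup.mul_self e)
    · rw [h3, h5] at e
      exact orderOf_dvd_of_pow_eq_one e
  obtain ⟨m, rfl⟩ := Nat.exists_eq_add_of_le hn
  rw [pow_add] at h1
  rcases h4 with e | e
  · have := Nat.le_of_dvd two_pos e
    have := Nat.pos_of_ne_zero (pow_ne_zero m two_ne_zero)
    omega
  · have := (Nat.dvd_prime Nat.prime_five).1 e
    omega

end Good

/-- the statement of Lemma Q for groups of order `< n` -/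
def QQ (n : ℕ) : Prop := ∀ (X : Type u) [Group X] [Finite X], Nat.card X < n → ∀ (D : Set X) (p : ℕ),
  Good D p → ∀ x ∈ D, ∀ y ∈ D, x * y ∈ D → ∀ b ∈ D, Commute b x

theorem qq_step [Finite G] (ih : QQ.{u} (Nat.card G)) (h : Good D p) (hx : x ∈ D) (hy : y ∈ D)
    (hxy : x * y ∈ D) (hb : b ∈ D) (hD : ∀ d ∈ D, ∃ g, d = g * x * g⁻¹) : Commute b x := by
  by_contra hn
  have min : ∀ H : Subgroup G, H ≠ ⊤ → ∀ x ∈ D, ∀ y ∈ D, x * y ∈ D → ∀ b ∈ D, x ∈ H → y ∈ H → b ∈ H →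
      Commute b x := fun H hH x hx y hy hxy b hb h1 h2 h3 =>
    congrArg Subtype.val (ih H (by
      rw [← card_top (G := G)]; exact card_lt (lt_top_iff_ne_top.2 hH)) _ p (h.sub H) ⟨x, h1⟩ hx
      ⟨y, h2⟩ hy hxy ⟨b, h3⟩ hb)
  have hny : ¬ Commute b y := fun e => hn (h.perp hy hx (h.swap hx hy hxy) hb e)
  have : Nontrivial G := ⟨x, 1, h.ne x hx⟩
  have hs : IsSimpleGroup G := ⟨fun N hN => by
    by_contra! hh
    have h1 : ∀ d ∈ D, d ∉ N := fun d hd e => by
      have h2 : ∀ d ∈ D, d ∈ N := fun d' hd' => by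
        obtain ⟨g, rfl⟩ := hD d hd
        obtain ⟨k, rfl⟩ := hD d' hd'
        have := hN.conj_mem _ e (k * g⁻¹)
        rwa [show k * g⁻¹ * (g * x * g⁻¹) * (k * g⁻¹)⁻¹ = k * x * k⁻¹ by group] at this
      exact hn (min N hh.2 x hx y hy hxy b hb (h2 x hx) (h2 y hy) (h2 b hb))
    have hg := h.map (QuotientGroup.mk'_surjective N)
    have hm : ∀ d ∈ D, QuotientGroup.mk' N d ∈ {y | y ≠ 1 ∧ ∃ d ∈ D, QuotientGroup.mk' N d = y} :=
      fun d hd => ⟨fun e => h1 d hd ((QuotientGroup.eq_one_iff d).1 e), d, hd, rfl⟩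
    have hlt : Nat.card (G ⧸ N) < Nat.card G := by
      rw [card_eq_card_quotient_mul_card_subgroup N]
      exact lt_mul_of_one_lt_right Nat.card_pos (one_lt_card hh.1)
    have key : ∀ x ∈ D, ∀ y ∈ D, x * y ∈ D → ¬ Commute b x →
        QuotientGroup.mk' N b * QuotientGroup.mk' N x = 1 := fun x hx y hy hxy hn => by
      have h2 := ih _ hlt _ p hg _ (hm x hx) _ (hm y hy) (by rw [← map_mul]; exact hm _ hxy) _ (hm b hb)
      rw [← pow_odd (sq_of_comm (hg.sq _ (hm b hb)) (hg.sq _ (hm x hx)) h2) h.odd, ← map_mul,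
        ← map_pow, h.pow hb hx hn, map_one]
    have h3 := mul_left_cancel ((key x hx y hy hxy hn).trans (key y hy x hx (h.swap hx hy hxy) hny).symm)
    exact (hm _ hxy).1 (by rw [map_mul, h3, hg.sq _ (hm y hy)])⟩
  have hC : ∀ z : G, z ≠ 1 → C{z} ≠ ⊤ := fun z z1 e => by
    have h1 : zpowers z ⊴ ⊤ := ⟨le_top, norm_zpowers_of_cent e.ge⟩
    rcases (nml_top_iff.1 h1).eq_bot_or_eq_top with e' | e'
    · exact z1 (zpowers_eq_bot.1 e')
    · exact hn ((e' ▸ abl_zpowers z).comm (mem_top b) (mem_top x))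
  have cfg : ∀ d ∈ D, ∃ e ∈ D, d * e ∈ D := fun d hd => by
    obtain ⟨g, rfl⟩ := hD d hd
    exact ⟨_, h.conj y hy g, by simpa [mul_assoc] using h.conj _ hxy g⟩
  have tr : ∀ a ∈ D, ∀ b ∈ D, ∀ c ∈ D, Commute a b → Commute b c → Commute a c :=
    fun a ha w hw c hc h1 h2 => by
      obtain ⟨e, he, hce⟩ := cfg c hc
      exact min C{w} (hC w (h.ne w hw)) c hc e he hce a ha (mem_C1.2 h2.symm)
        (mem_C1.2 (h.perp hc he hce hw h2).symm) (mem_C1.2 h1)
  obtain ⟨N, hN, mem⟩ := h.exists_ker tr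
  have hN0 : N = ⊥ := hN.eq_bot_or_eq_top.resolve_right fun e => by
    obtain ⟨g, rfl⟩ := hD b hb
    exact hn ((mem g).1 (e ▸ mem_top g) x hx)
  have mul : ∀ a ∈ D, ∀ c ∈ D, Commute a c → a * c = 1 ∨ a * c ∈ D := fun a ha c hc hac => by
    by_contra! hh
    refine hh.1 (mem_bot.1 (hN0 ▸ (mem _).2 fun d hd => ?_))
    by_contra hn'
    have hda : ¬ Commute d a := fun e => hn' (by
      rw [← (e.mul_right (tr d hd a ha c hc e hac)).eq, mul_inv_cancel_right])
    obtain ⟨z, z2, h1, h2, h3⟩ := h.dih hd (sq_of_comm (h.sq a ha) (h.sq c hc) hac) hn'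
    have h4 : Commute (a * c * z) a := h.F ha hc hh.1 hac h3 ((Commute.refl _).mul_left h2)
    obtain ⟨e, he, hae⟩ := cfg a ha
    have h5 : ∀ t ∈ D, Commute a t → t ∈ C{z} := fun t ht h6 => by
      have := ((h6.mul_left (tr c hc a ha t ht hac.symm h6)).inv_left).mul_left
        (tr _ h3 a ha t ht h4 h6)
      rw [inv_mul_cancel_left] at this
      exact mem_C1.2 this.symm
    have z1 : z ≠ 1 := fun e => hh.2 (by rwa [e, mul_one] at h3)
    exact hda (min C{z} (hC z z1) a ha e he hae d hd (h5 a ha (Commute.refl a))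
      (h5 e he (comm_of_sq (h.sq a ha) (h.sq e he) (h.sq _ hae))) (mem_C1.2 h1.symm))
  let A : Subgroup G :=
    { carrier := {t | t = 1 ∨ (t ∈ D ∧ Commute t x)}
      one_mem' := Or.inl rfl
      inv_mem' := by
        rintro t (rfl | ht)
        · exact Or.inl inv_one
        · rw [inv_eq (h.sq t ht.1)]; exact Or.inr ht
      mul_mem' := by
        rintro s t (rfl | hs) (rfl | ht)
        · exact Or.inl (one_mul 1)
        · rw [one_mul]; exact Or.inr ht
        · rw [mul_one]; exact Or.inr hs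
        · exact (mul s hs.1 t ht.1 (tr s hs.1 x hx t ht.1 hs.2 ht.2.symm)).imp_right fun e =>
            ⟨e, hs.2.mul_left ht.2⟩ }
  have hxA : x ∈ A := Or.inr ⟨hx, Commute.refl x⟩
  have hA : H26.Gold.EA A := H26.Gold.ea_of_sq (by
    rintro t (rfl | ht)
    exacts [one_mul 1, h.sq t ht.1])
  obtain ⟨S, hS, hAS⟩ := Sylow_superset Nat.prime_two hA.two le_top
  have hcl : IsStronglyClosed A S := ⟨hAS, by
    rintro t (rfl | ht) g hg
    · exact Or.inl (by simp)
    refine Or.inr ⟨h.conj t ht.1 g, (h.ord _ (h.conj t ht.1 g) x hx).elim id fun e => ?_⟩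
    have h1 : g * t * g⁻¹ * x = 1 := (hS.pi.piElt (mul_mem hg (hAS hxA))).eq_one
      (piElt_of_pow_eq_one ((piNat_prime h.prime).2 (by have := h.five; simp; omega)) e)
    rw [eq_inv_of_mul_eq_one_left h1]
    exact (Commute.refl x).inv_left⟩
  obtain ⟨P, rfl⟩ := hS.exists_sylow_top Nat.prime_two
  have A1 := ne_bot_of_mem hxA (h.ne x hx)
  obtain ⟨H, hH⟩ := Cfsg.Agent.S1174.result P A A1 hcl fun e => by
    have h1 : N[A] = ⊤ := top_le_iff.1 (e ▸ iSup_le fun t g hg => mem_N_of_finite (by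
      rintro s (rfl | hs)
      · exact Or.inl (by simp)
      obtain ⟨t, (rfl | ht), t2⟩ := t
      · simp at t2
      have h2 := (tr s hs.1 x hx t ht.1 hs.2 ht.2.symm).conj g
      rw [mem_C1_iff_conj.1 hg] at h2
      exact Or.inr ⟨h.conj s hs.1 g, tr _ (h.conj s hs.1 g) t ht.1 x hx h2 ht.2⟩))
    rcases (normalizer_eq_top_iff.1 h1).eq_bot_or_eq_top with e' | e'
    · exact A1 e'
    · rcases (show b ∈ A from e' ▸ mem_top b) with e'' | e''
      exacts [h.ne b hb e'', hn e''.2]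
  exact h.not_se hx hH

theorem qq_all (n : ℕ) : QQ.{u} n := by
  induction n with
  | zero => intro X _ _ h; exact absurd h (Nat.not_lt_zero _)
  | succ n ih =>
    intro X _ _ hX D p h x hx y hy hxy b hb
    by_contra hn
    have hD : ∀ d ∈ {d | ∃ g, d = g * x * g⁻¹}, d ∈ D := by rintro _ ⟨g, rfl⟩; exact h.conj x hx g
    have h' : Good {d | ∃ g, d = g * x * g⁻¹} p := ⟨h.prime, h.five, fun d hd => h.ne d (hD d hd),
      fun d hd => h.sq d (hD d hd), by rintro _ ⟨g, rfl⟩ k; exact ⟨k * g, by group⟩,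
      fun a ha b hb => h.ord a (hD a ha) b (hD b hb)⟩
    have key : ∀ a ∈ {d | ∃ g, d = g * x * g⁻¹}, ∀ c ∈ D, ¬ Commute a c →
        c ∈ {d | ∃ g, d = g * x * g⁻¹} := fun a ha c hc hac => by
      obtain ⟨g, rfl⟩ := conj_of_odd (h.sq a (hD a ha)) (h.sq c hc) h.odd (h.pow (hD a ha) hc hac)
      exact h'.conj a ha g
    have hx' : x ∈ {d | ∃ g, d = g * x * g⁻¹} := ⟨1, by simp⟩
    have hb' := key x hx' b hb fun e => hn e.symm
    have e : x * y * y = x := by rw [mul_assoc, h.sq y hy, mul_one]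
    exact hn (qq_step (fun Y _ _ hY => ih Y (by omega)) h' hx'
      (key b hb' y hy fun e => hn (h.perp hy hx (h.swap hx hy hxy) hb e))
      (key b hb' _ hxy fun e' => hn (h.perp hxy hx (h.swap hx hxy (by
        rwa [← mul_assoc, h.sq x hx, one_mul])) hb e')) hb' fun d hd => hd)

theorem Good.Q [Finite G] (h : Good D p) (hx : x ∈ D) (hy : y ∈ D) (hxy : x * y ∈ D) (hb : b ∈ D) :
    Commute b x := qq_all _ G (Nat.lt_succ_self _) D p h x hx y hy hxy b hb

end H18.R3
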