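import Mathlib
import Cfsg.Agent.H18.R3a
import Cfsg.Agent.H0.Prim
import Cfsg.Agent.H6.BaerSuzuki

/-! Classes of involutions with products of order `1`, `2` or `p`: Lemma P. -/

set_option autoImplicit false
set_option linter.unusedSectionVars false

namespace H18.R3

open Subgroup H24 Cfsg

universe u

variable {G : Type u} [Group G] [Finite G] {D : Set G} {p : ℕ} {a b c d g u v w x y z : G}

theorem conj_sq' (h : x * x = 1) (g : G) : g * x * g⁻¹ * (g * x * g⁻¹) = 1 := by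
  calc _ = g * (x * x) * g⁻¹ := by group
    _ = 1 := by rw [h]; group

namespace Good

variable (h : Good D p)
include h

theorem T1 (ha : a ∈ D) (hc : c ∈ D) (hne : a * c ≠ 1) (hac : Commute a c) (hb : b ∈ D)
    (hba : ¬ Commute b a) (hbc : ¬ Commute b c) : Commute (a * c * b * (a * c)⁻¹) b := by
  by_contra hn
  obtain ⟨z, z2, h1, h2, h3⟩ := h.dih hb (sq_of_comm (h.sq a ha) (h.sq c hc) hac) hn
  have h4 : Commute (a * c * z) (a * c) := (Commute.refl _).mul_left h2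
  have h5 : Commute (a * c * z) a := h.F ha hc hne hac h3 h4
  have h6 : Commute z a := by
    have := (((Commute.refl a).mul_left hac.symm).inv_left).mul_left h5
    rwa [inv_mul_cancel_left] at this
  have h7 : Commute z c := by
    have := h6.inv_right.mul_right h2
    rwa [inv_mul_cancel_left] at this
  have hz : z ∈ C{z} := self_mem_C1 z
  have hZ : (zpowers (⟨z, hz⟩ : C{z})).Normal := ⟨fun n hn g => by
    have : g * n * g⁻¹ = n := Subtype.ext (mem_C1_iff_conj.1 (C1_le_C1_of_mem_zpowers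
      (x := z) (by obtain ⟨k, rfl⟩ := hn; exact ⟨k, rfl⟩) g.2))
    rwa [this]⟩
  let f := QuotientGroup.mk' (zpowers (⟨z, hz⟩ : C{z}))
  have hf : ∀ t : C{z}, f t = 1 → (t : G) = 1 ∨ (t : G) = z := fun t ht => by
    obtain ⟨k, rfl⟩ := (QuotientGroup.eq_one_iff t).1 ht
    rcases Int.even_or_odd' k with ⟨j, rfl | rfl⟩
    · left; simp [zpow_mul, pow_two, z2]
    · right; simp [zpow_add, zpow_mul, pow_two, z2]
  have hg := (h.sub C{z}).map (QuotientGroup.mk'_surjective (zpowers (⟨z, hz⟩ : C{z})))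
  have hm : ∀ t : C{z}, (t : G) ∈ D → (t : G) ≠ z →
      f t ∈ {y | y ≠ 1 ∧ ∃ d ∈ {x : C{z} | (x : G) ∈ D}, f d = y} := fun t ht hz =>
    ⟨fun e => (hf t e).elim (h.ne _ ht) hz, t, ht, rfl⟩
  let a' : C{z} := ⟨a, mem_C1.2 h6.symm⟩
  let b' : C{z} := ⟨b, mem_C1.2 h1.symm⟩
  let c' : C{z} := ⟨c, mem_C1.2 h7.symm⟩
  have ma := hm a' ha fun e => hba (by rw [show a = z from e]; exact h1.symm)
  have mc := hm c' hc fun e => hbc (by rw [show c = z from e]; exact h1.symm)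
  have mb := hm b' hb fun e => hba (by rw [show b = z from e]; exact h6)
  have md := hm (a' * c' * ⟨z, hz⟩) h3 fun e => hne (mul_right_cancel (e.trans (one_mul z).symm))
  rw [map_mul, show f ⟨z, hz⟩ = 1 from (QuotientGroup.eq_one_iff _).2 (mem_zpowers _), mul_one,
    map_mul] at md
  have h8 := sq_of_comm (hg.sq _ mb) (hg.sq _ ma) (hg.Q ma mc md mb)
  rw [← map_mul, ← map_mul] at h8
  refine hba (comm_of_sq (h.sq b hb) (h.sq a ha) ((hf _ h8).elim id fun e => ?_))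
  have e' : b * a * (b * a) = z := e
  rw [e', ← pow_odd z2 h.odd, ← e', ← pow_two, ← pow_mul, mul_comm, pow_mul, h.pow hb ha hba, one_pow]

theorem T1' (ha : a ∈ D) (hc : c ∈ D) (hne : a * c ≠ 1) (hac : Commute a c) (hb : b ∈ D)
    (hba : ¬ Commute b a) (hbc : ¬ Commute b c) : Commute (b * (a * c) * b⁻¹) (a * c) := by
  have u2 := sq_of_comm (h.sq a ha) (h.sq c hc) hac
  have b2 := h.sq b hb
  have h1 := sq_of_comm (conj_sq' b2 _) b2 (h.T1 ha hc hne hac hb hba hbc)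
  refine comm_of_sq (conj_sq' u2 _) u2 ?_
  rw [inv_eq u2] at h1
  rw [inv_eq b2]
  calc _ = b * (a * c * b * (a * c) * b * (a * c * b * (a * c) * b)) * b⁻¹ := by group
    _ = 1 := by rw [h1]; group

theorem tri (ha : a ∈ D) (hc : c ∈ D) (hac : Commute a c) (hb : b ∈ D)
    (hba : ¬ Commute b a) (hbc : ¬ Commute b c) (hd : d ∈ D) (hda : Commute d a) : Commute d c := by
  by_contra hdc
  have a2 := h.sq a ha
  have c2 := h.sq c hc
  have b2 := h.sq b hb
  have hne : a * c ≠ 1 := fun e => hdc (by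
    rw [eq_inv_of_mul_eq_one_right e]; exact hda.inv_right)
  have u2 := sq_of_comm a2 c2 hac
  have hρ := h.pow ha hb fun e => hba e.symm
  have hau : Commute (a * c) a := (Commute.refl a).mul_left hac.symm
  have cancel : ∀ v : G, Commute v a → Commute v (a * b) → Commute v b := fun v h1 h2 => by
    have := h1.inv_right.mul_right h2
    rwa [inv_mul_cancel_left] at this
  have five := h.five
  have np : ∀ i, 0 < i → i < 5 → ¬ p ∣ i := fun i h1 h2 e => by
    have := Nat.le_of_dvd h1 e; omega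
  have nu : ∀ i, ¬ p ∣ i → ¬ Commute (a * c) ((a * b) ^ i) := fun i hi e =>
    hba (h.F ha hc hne hac hb (cancel _ hau (comm_of_pow h.prime hρ hi e)).symm)
  have T := fun b => h.T1' (b := b) ha hc hne hac
  obtain ⟨ρ, hρd⟩ : ∃ ρ, ρ = a * b := ⟨_, rfl⟩
  obtain ⟨u, hud⟩ : ∃ u, u = a * c := ⟨_, rfl⟩
  rw [← hρd] at hρ cancel nu
  rw [← hud] at u2 hau nu T
  have key : ∀ i, ¬ p ∣ i → ρ ^ i * a ∈ D → Commute (ρ ^ i * u * (ρ ^ i)⁻¹) u := fun i hi hm => by
    have n1 : ∀ v : G, Commute v a → ¬ Commute b v → ¬ Commute (ρ ^ i * a) v := fun v h1 h2 e => by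
      have := e.symm.mul_right h1.inv_right
      rw [mul_inv_cancel_right] at this
      exact h2 (cancel v h1 (comm_of_pow h.prime hρ hi this)).symm
    have := T _ hm (n1 a (Commute.refl a) hba) (n1 c hac.symm hbc)
    rwa [show ρ ^ i * a * u * (ρ ^ i * a)⁻¹ = ρ ^ i * (a * u * a⁻¹) * (ρ ^ i)⁻¹ by group,
      ← hau.eq, mul_inv_cancel_right] at this
  have haρ : a * ρ * a⁻¹ = ρ⁻¹ := by
    rw [hρd, ← mul_assoc, a2, one_mul, mul_inv_rev, inv_eq b2]
  have hρa : ρ * a = a * ρ⁻¹ := by rw [← haρ, ← mul_assoc, ← mul_assoc, a2, one_mul, inv_eq a2]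
  have k1 := key 1 (np 1 one_pos (by omega)) (by
    rw [pow_one, hρd]; simpa [inv_eq a2] using h.conj b hb a)
  have k2 := key 2 (np 2 two_pos (by omega)) (by
    rw [pow_two, mul_assoc, hρa, ← mul_assoc]; exact h.conj a ha ρ)
  rw [pow_one] at k1
  obtain ⟨u1, hu1⟩ : ∃ u1, u1 = ρ * u * ρ⁻¹ := ⟨_, rfl⟩
  obtain ⟨u', hu'⟩ : ∃ u', u' = ρ⁻¹ * u * ρ := ⟨_, rfl⟩
  rw [← hu1] at k1
  have k3 : Commute u u' := by
    have := k1.conj ρ⁻¹
    rwa [show ρ⁻¹ * u1 * ρ⁻¹⁻¹ = u by rw [hu1]; group, inv_inv, ← hu'] at this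
  have k4 : Commute u1 u' := by
    have := k2.conj ρ⁻¹
    rwa [show ρ⁻¹ * (ρ ^ 2 * u * (ρ ^ 2)⁻¹) * ρ⁻¹⁻¹ = u1 by rw [hu1]; group, inv_inv, ← hu'] at this
  have s1 : u1 * u1 = 1 := hu1 ▸ conj_sq' u2 ρ
  have s' : u' * u' = 1 := by simpa only [inv_inv, ← hu'] using conj_sq' u2 ρ⁻¹
  have e1 : a * u1 * a⁻¹ = u' := by
    calc a * u1 * a⁻¹ = (a * ρ * a⁻¹) * (a * u * a⁻¹) * (a * ρ * a⁻¹)⁻¹ := by rw [hu1]; group
      _ = u' := by rw [haρ, ← hau.eq, mul_inv_cancel_right, inv_inv, hu']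
  have e2 : a * u' * a⁻¹ = u1 := by
    rw [← e1, inv_eq a2]
    calc _ = (a * a) * u1 * (a * a) := by group
      _ = u1 := by rw [a2, one_mul, mul_one]
  obtain ⟨w, hw⟩ : ∃ w, w = u1 * u' := ⟨_, rfl⟩
  have w2 : w * w = 1 := hw ▸ sq_of_comm s1 s' k4
  have hwa : Commute w a := by
    have : a * w * a⁻¹ = w := by
      calc _ = (a * u1 * a⁻¹) * (a * u' * a⁻¹) := by rw [hw]; group
        _ = w := by rw [e1, e2, hw, k4.eq]
    exact (mul_inv_eq_iff_eq_mul.1 this).symm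
  have hwu : Commute w u := hw ▸ k1.mul_left k3.symm
  have hwc : Commute w c := by
    have := hwa.inv_right.mul_right hwu
    rwa [hud, inv_mul_cancel_left] at this
  have w1 : w ≠ 1 := fun e => nu 2 (np 2 two_pos (by omega)) (by
    have e3 : u1 = u' := by rw [eq_inv_of_mul_eq_one_left (hw.symm.trans e), inv_eq s']
    calc u * ρ ^ 2 = ρ * u' * ρ := by rw [hu', pow_two]; group
      _ = ρ ^ 2 * u := by rw [← e3, hu1, pow_two]; group)
  have wu : u * w ≠ 1 := fun e => nu 3 (np 3 three_pos (by omega)) (by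
    have e3 : u1 * u' = u := by rw [← hw, eq_inv_of_mul_eq_one_right e, inv_eq u2]
    have e4 : u' = u1 * u := by rw [← e3, ← mul_assoc, s1, one_mul]
    have e5 : ρ * u1 * ρ⁻¹ * u = u1 := by
      calc _ = ρ * (u1 * u') * ρ⁻¹ := by rw [hu']; group
        _ = u1 := by rw [e3, hu1]
    have e6 : ρ * u1 * ρ⁻¹ = u' := by
      rw [e4, eq_mul_inv_of_mul_eq e5, inv_eq u2]
    calc u * ρ ^ 3 = ρ * u' * ρ ^ 2 := by rw [hu']; group
      _ = ρ ^ 3 * u := by rw [← e6, hu1, pow_three, pow_two]; group)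
  have he : a * w ∈ D := by
    have := h.conj a ha u1
    rwa [inv_eq s1, show u1 * a * u1 = a * (a * u1 * a⁻¹) * u1 by
      rw [inv_eq a2, ← mul_assoc, ← mul_assoc, a2, one_mul], e1, mul_assoc, ← k4.eq, ← hw] at this
  have hcu : c = a * u := by rw [hud, ← mul_assoc, a2, one_mul]
  have hf : c * w ∈ D := by
    have := h.conj c hc u1
    rwa [hcu, show u1 * (a * u) * u1⁻¹ = u1 * a * u1⁻¹ * (u1 * u * u1⁻¹) by group, k1.eq,
      mul_inv_cancel_right, inv_eq s1, show u1 * a * u1 = a * (a * u1 * a⁻¹) * u1 by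
      rw [inv_eq a2, ← mul_assoc, ← mul_assoc, a2, one_mul], e1, mul_assoc a u', ← k4.eq, ← hw,
      mul_assoc, hwu.eq, ← mul_assoc, ← hcu] at this
  have n1 : ¬ Commute d (a * w) := fun e => by
    have h1 := hda.inv_right.mul_right e
    rw [inv_mul_cancel_left] at h1
    exact w1 (h.two_p hd hc hdc w2 (h1.mul_left hwc.symm) hf)
  have hcu' : c * u = a := by rw [hud, hac.eq, ← mul_assoc, c2, one_mul]
  have n2 : ¬ Commute d (c * w) := fun e => by
    have h1 := hda.mul_right e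
    rw [← mul_assoc, ← hud] at h1
    refine wu (h.two_p hd hc hdc (sq_of_comm u2 w2 hwu.symm)
      (h1.mul_left ((hud ▸ hac.symm.mul_right (Commute.refl c)).mul_right hwc.symm)) ?_)
    rwa [← mul_assoc, hcu']
  have hce : Commute c (a * w) := hac.symm.mul_right hwc.symm
  have e3 : c * (a * w) = u * w := by rw [← mul_assoc, ← hac.eq, hud]
  have h1 := h.T1' hc he (e3 ▸ wu) hce hd hdc n1
  rw [e3] at h1
  have d2 := h.sq d hd
  have v2 := sq_of_comm u2 w2 hwu.symm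
  have h2 := sq_of_comm (conj_sq' v2 d) v2 h1
  rw [inv_eq d2, mul_assoc (d * (u * w)) d, ← pow_two, ← pow_two, ← pow_mul] at h2
  have h3 := h.pow hd hf n2
  have hav : Commute (d * (u * w)) a := hda.mul_left (hau.mul_left hwa)
  rw [show d * (c * w) = d * (u * w) * a by
    rw [mul_assoc, mul_assoc u, hwa.eq, ← mul_assoc u, hau.eq, ← hcu], hav.mul_pow,
    pow_odd a2 h.odd] at h3
  have h4 : (d * (u * w)) ^ p = a := by rw [eq_inv_of_mul_eq_one_left h3, inv_eq a2]
  have h5 : d * (u * w) * (d * (u * w)) = 1 := by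
    obtain ⟨m, hm⟩ := h.odd
    have h6 : (d * (u * w)) ^ (p + p) = 1 := by rw [pow_add, h4, a2]
    rwa [show p + p = 2 * 2 * m + 2 by omega, pow_add, pow_mul, h2, one_pow, one_mul, pow_two] at h6
  rw [pow_odd h5 h.odd] at h4
  refine hdc ?_
  rw [eq_mul_inv_of_mul_eq h4]
  exact hac.mul_left ((hud ▸ hac.mul_left (Commute.refl c)).mul_left hwc).inv_left

theorem common (hgen : closure D = ⊤) (hD : ∀ d ∈ D, ∃ g, d = g * a * g⁻¹) (ha : a ∈ D) (hb : b ∈ D)
    (hba : ¬ Commute b a) (hc : c ∈ D) (hac : Commute a c) :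
    ∃ b ∈ D, ¬ Commute b a ∧ ¬ Commute b c := by
  let E : Set G := {c | c ∈ D ∧ (¬ Commute c a ∨ ∃ b ∈ D, ¬ Commute b a ∧ ¬ Commute b c)}
  have adj : ∀ c ∈ E, ∀ c' ∈ D, ¬ Commute c c' → c' ∈ E := fun c hc c' hc' hn => ⟨hc', by
    by_cases h1 : Commute c a
    · obtain ⟨b, hb, h2, h3⟩ := hc.2.resolve_left (not_not.2 h1)
      by_cases h4 : Commute b c'
      · refine Or.inr ⟨_, h.conj b hb c, fun e => h2 ?_, fun e => hn ?_⟩
        · rw [← Commute.conj_iff c, h1.eq, mul_inv_cancel_right]; exact e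
        · have h5 := (e.mul_left h4).symm
          rw [inv_eq (h.sq c hc.1), mul_assoc (c * b), ← pow_two] at h5
          have h6 := (comm_of_pow h.prime (h.pow hc.1 hb fun e => h3 e.symm) (fun e => by
            have := Nat.le_of_dvd two_pos e; have := h.five; omega) h5).mul_right h4.symm.inv_right
          rw [mul_inv_cancel_right] at h6
          exact h6.symm
      · exact Or.inr ⟨b, hb, h2, h4⟩
    · exact Or.inr ⟨c, hc.1, h1, hn⟩⟩
  have hn : closure D ≤ normalizer E := (closure_le _).2 fun d hd => by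
    have h1 : ∀ c ∈ E, d * c * d⁻¹ ∈ E := fun c hc => by
      by_cases h1 : Commute c d
      · rwa [← h1.eq, mul_inv_cancel_right]
      · refine adj d (adj c hc d hd h1) _ (h.conj c hc.1 d) fun e => h1 ?_
        rw [← Commute.conj_iff d, mul_inv_cancel_right]; exact e.symm
    refine mem_set_normalizer_iff.2 fun c => ⟨h1 c, fun e => ?_⟩
    have := h1 _ e
    rwa [inv_eq (h.sq d hd), show d * (d * c * d) * d = d * d * c * (d * d) by group, h.sq d hd,
      one_mul, mul_one] at this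
  obtain ⟨g, rfl⟩ := hD c hc
  exact (conj_mem_set (hn (hgen ▸ mem_top g)) (show a ∈ E from ⟨ha, Or.inr ⟨b, hb, hba, hba⟩⟩)).2.resolve_left
    (not_not.2 hac.symm)

theorem P (hsol : ∀ N : Subgroup G, N.Normal → Group.IsSolvable ↥N → N = ⊥) (hgen : closure D = ⊤)
    (hD : ∀ a ∈ D, ∀ d ∈ D, ∃ g, d = g * a * g⁻¹) (hadj : ∀ a ∈ D, ∃ b ∈ D, ¬ Commute b a)
    (ha : a ∈ D) (hc : c ∈ D) (hac : Commute a c) : a * c = 1 := by
  have tr : ∀ a ∈ D, ∀ b ∈ D, ∀ c ∈ D, Commute a b → Commute b c → Commute a c :=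
    fun d hd a ha c hc h1 h2 => by
      obtain ⟨b, hb, hba⟩ := hadj a ha
      obtain ⟨b, hb, h3, h4⟩ := h.common hgen (hD a ha) ha hb hba hc h2
      exact h.tri ha hc h2 hb h3 h4 hd h1
  obtain ⟨N, hN, mem⟩ := h.exists_ker tr
  by_contra hne
  have hu : a * c ∈ N := (mem _).2 fun d hd => by
    by_cases hda : Commute d a
    · rw [← (hda.mul_right (tr d hd a ha c hc hda hac)).eq, mul_inv_cancel_right]
    · exact h.T1 ha hc hne hac hd hda fun e => hda (tr d hd c hc a ha e hac.symm)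
  let A := closure {d | d ∈ D ∧ Commute d a}
  have hA : Abl A := isMulCommutative_closure fun s hs t ht => tr s hs.1 a ha t ht.1 hs.2 ht.2.symm
  have hn : N ≤ N[A] := norm_closure fun g hg s hs => subset_closure
    ⟨h.conj s hs.1 g, tr _ (h.conj s hs.1 g) s hs.1 a ha ((mem g).1 hg s hs.1) hs.2⟩
  have h0 := H0.eq_bot_of_solvable_subnormal hsol (N := N) (K := N ⊓ A) inf_le_left
    (nml_inf_of_norm hn).normal (hA.of_le inf_le_right).sol
  exact hne (mem_bot.1 (h0 ▸ ⟨hu, mul_mem (subset_closure ⟨ha, Commute.refl a⟩)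
    (subset_closure ⟨hc, hac.symm⟩)⟩))

end Good

end H18.R3
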