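import Cfsg.Agent.H1.JRMain
import Cfsg.Agent.H12.JRSetup
import Cfsg.Agent.H18.JRCore

/-! A simple `JR` group has an inverted element of order three. -/

set_option autoImplicit false
open Cfsg H24 H26 H26.Gold H1 Subgroup
open scoped MatrixGroups

namespace H18.SFE

variable {G : Type*} [Group G] [Finite G]

theorem cent_of_s3 (hS : ∀ x t : G, x ^ 3 = 1 → t * x * t⁻¹ = x⁻¹ → x = 1) {t : G}
    (tt : t * t = 1) {R : Subgroup G} (hR : IsPi {3} R) (hn : t ∈ N[R]) : R ≤ C{t} := by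
  intro r hr
  have ti : t⁻¹ = t := inv_eq_of_mul_eq_one_right tt
  have hy : r⁻¹ * (t * r * t⁻¹) ∈ R := R.mul_mem (R.inv_mem hr) ((mem_N.1 hn r).1 hr)
  have hi : t * (r⁻¹ * (t * r * t⁻¹)) * t⁻¹ = (r⁻¹ * (t * r * t⁻¹))⁻¹ := by
    calc _ = t * r⁻¹ * t * r * (t * t)⁻¹ := by group
      _ = t * r⁻¹ * t⁻¹ * r := by rw [tt, ti]; group
      _ = _ := by group
  have e : r⁻¹ * (t * r * t⁻¹) = 1 := by
    generalize r⁻¹ * (t * r * t⁻¹) = y at hy hi
    by_contra y1
    have d := (hR.piElt hy).dvd_orderOf y1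
    have o := orderOf_pow_orderOf_div (orderOf_pos y).ne' d
    have := hS (y ^ (orderOf y / 3)) t (by
      have := pow_orderOf_eq_one (y ^ (orderOf y / 3))
      rwa [o] at this) (by rw [← conj_pow, hi, inv_pow])
    rw [this, orderOf_one] at o
    omega
  rw [mem_C1_comm, mem_C1_iff_conj]
  exact (inv_mul_eq_one.1 e).symm

theorem exists_three {P : Subgroup G} (hP : IsPi {3} P) (h1 : P ≠ ⊥) :
    ∃ z ∈ P, P ≤ C{z} ∧ orderOf z = 3 := by
  have h2 := IsPi.inf_C_ne_bot Nat.prime_three hP hP (norm_self P) h1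
  obtain ⟨y, hy, y1⟩ := (bot_or_exists_ne_one _).resolve_left h2
  have d := (hP.piElt hy.1).dvd_orderOf y1
  have hz := pow_mem hy (orderOf y / 3)
  exact ⟨_, hz.1, mem_C_iff_le_C1.1 hz.2, orderOf_pow_orderOf_div (orderOf_pos y).ne' d⟩

theorem jr_s3 [IsSimpleGroup G] {F : Type} [Field F] [Fintype F] {t : G} {ι : PSL(2, F) →* G}
    {φ : G} {σ : F ≃+* F} (h : JR t ι φ σ) (q3 : 3 < Fintype.card F)
    (hS : ∀ x t : G, x ^ 3 = 1 → t * x * t⁻¹ = x⁻¹ → x = 1) : False := by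
  have hφ := h.isRee_or.1
  rcases (h.idx_simple hφ).2.cases with ⟨e, -⟩ | ⟨e, -⟩ | ⟨m, c, e1, e2, -⟩
  · omega
  · obtain ⟨e⟩ := H16.psl2_five e
    obtain ⟨w, s, o1, -, e1⟩ := a5_inv (p := 3) (Or.inl rfl)
    let j := ι.comp e.symm.toMonoidHom
    have ji : Function.Injective j := h.inj.comp e.symm.injective
    have := hS (j w) (j s) (by rw [← map_pow, ← o1, pow_orderOf_eq_one, map_one])
      (by rw [← map_inv, ← map_inv, ← map_mul, ← map_mul, e1])
    rw [map_eq_one_iff j ji] at this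
    rw [this, orderOf_one] at o1
    omega
  have d3 : 3 ∣ Fintype.card F := e1 ▸ dvd_pow_self 3 (by omega)
  obtain ⟨U, hU⟩ := Sylow_exists Nat.prime_three C{t}
  have key : ∀ u ∈ C{t}, orderOf u = 3 → ∀ X ≤ C{u}, IsPi {3} X → ♯X ∣ ♯U := by
    intro u hu o3 X hX h3
    have pu := piElt_of_orderOf_prime Nat.prime_three o3
    have uL : u ∈ ι.range := by
      refine h.mem_L_of_odd ?_ (pu.mono (singleton_subset_compl (by omega)))
      obtain ⟨y, k, hy⟩ := h.dec u hu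
      rw [hφ, one_pow, mul_one, mul_one] at hy
      exact h.mem_KK.2 ⟨y, hy⟩
    have tu : zpowers t ≤ C{u} := zpowers_le.2 (mem_C1_comm.1 hu)
    have nc : NCompl {2} C{u} := H12.ncompl_two fun c4 => by
      obtain ⟨V, hV, l⟩ := Sylow_superset Nat.prime_two h.two_t tu
      have := (hV.dvd_card (piNat_self_pow Nat.prime_two 2) c4).trans (card_dvd (h.two_cent
        Nat.prime_three (by omega) (by omega) uL o3 hV.pi (l (mem_zpowers t)) hV.le))
      rw [card_zpowers', h.ord] at this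
      omega
    obtain ⟨P, hP, tP⟩ := sol_coprime_Sylow_exists Nat.prime_three
      (norm_pcore {2}ᶜ (tu.trans (norm_self _))) (cop (Od_odd _) h.two_t)
      (Or.inl (h.two_t.sol Nat.prime_two))
    exact (hP.card_dvd h3 (nc.le_pcore (h3.compl_of_ne (by omega)) hX)).trans
      (hU.card_dvd hP.pi (cent_of_s3 hS h.tt hP.pi (tP (mem_zpowers t))))
  have U1 : U ≠ ⊥ := hU.ne_bot Nat.prime_three rfl (by
    rw [h.card_C, h.card_L]
    exact (d3.mul_right _).mul_right _)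
  obtain ⟨P, hP, UP⟩ := Sylow_superset Nat.prime_three hU.pi (le_top (a := U))
  obtain ⟨u, u1, u2, u3⟩ := exists_three hU.pi U1
  obtain ⟨z, z1, z2, z3⟩ := exists_three hP.pi (fun e => U1 (le_bot_iff.1 (e ▸ UP)))
  have e3 : U = P ⊓ C{u} := eq_of_card_ge (le_inf UP u2) (Nat.le_of_dvd (card_pos _)
    (key u (hU.le u1) u3 _ inf_le_right (hP.pi.inf_left _)))
  have zU : z ∈ U := e3 ▸ ⟨z1, mem_C1_comm.1 (z2 (UP u1))⟩
  have e4 : U = P := eq_of_card_ge UP (Nat.le_of_dvd (card_pos _)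
    (key z (hU.le zU) z3 _ z2 hP.pi))
  apply Syl.not_dvd Nat.prime_three hP
  rw [← e4, relIndex_top_right]
  refine Dvd.dvd.trans ?_ (index_dvd_of_le hU.le)
  rw [e2]
  exact (d3.trans (dvd_pow_self _ two_ne_zero)).mul_right _

theorem not_e8 {G : Type*} [Group G] [Finite G] [IsSimpleGroup G] (hG : ¬ IsMulCommutative G)
    (S : Sylow 2 G) (hS : IsMulCommutative (S : Subgroup G)) (h8 : Nat.card (S : Subgroup G) = 8)
    (hse : ¬ ∃ H : Subgroup G, IsStronglyEmbedded H)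
    (h3 : ∀ x t : G, x ^ 3 = 1 → t * x * t⁻¹ = x⁻¹ → x = 1) : False := by
  have hT := syl_top_of_sylow Nat.prime_two S
  obtain ⟨t, -, ht⟩ := exists_orderOf_eq (H := (S : Subgroup G)) Nat.prime_two
    (by rw [h8]; norm_num)
  obtain ⟨cnj, K, V, h1, h2, h3', h4, h5, h6, h7, h9⟩ :=
    exists_comp hG hT hS (by rw [h8]; norm_num) hse ht
  obtain ⟨F, _, _, ι, φ, σ, h, hq⟩ := exists_jr (fun P hP g hg k hk => by
    obtain ⟨c, -, e⟩ := Sylow_subJ Nat.prime_two hT (isPi_of_isPGroup Nat.prime_two hP) le_top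
    exact (Abl.cj hS c).comm (e hg) (e hk)) ht cnj h1 h2 h3' h4 h5 h6 h7 h9
  exact jr_s3 h hq h3

end H18.SFE
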