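import Cfsg.Agent.H26.Coprime
import Cfsg.Agent.H24.Base5

/-! A group of characteristic two with an inverted element of order three involves `S₄`. -/

set_option autoImplicit false
open Cfsg H24 H26 Subgroup

namespace H18.SFS

/-- `S₄` is involved -/
def Inv (G : Type*) [Group G] : Prop :=
  ∃ (K : Subgroup G) (f : K →* Equiv.Perm (Fin 4)), Function.Surjective f

variable {G : Type*} [Group G]

theorem Inv.of_surj {B : Type*} [Group B] (π : G →* B) (hπ : Function.Surjective π) (h : Inv B) :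
    Inv G := by
  obtain ⟨K, f, hf⟩ := h
  exact ⟨K.comap π, f.comp (π.subgroupComap K),
    hf.comp (π.subgroupComap_surjective_of_surjective K hπ)⟩

theorem Inv.of_sub (M : Subgroup G) (h : Inv M) : Inv G := by
  obtain ⟨K, f, hf⟩ := h
  exact ⟨K.map M.subtype, f.comp (K.equivMapOfInjective _ M.subtype_injective).symm.toMonoidHom,
    hf.comp (K.equivMapOfInjective _ M.subtype_injective).symm.surjective⟩

theorem Inv.sec (h : Inv G) : ∃ (K R : Subgroup G) (_ : (R.subgroupOf K).Normal),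
    Nonempty ((K ⧸ R.subgroupOf K) ≃* Equiv.Perm (Fin 4)) := by
  obtain ⟨K, f, hf⟩ := h
  have e : (f.ker.map K.subtype).subgroupOf K = f.ker :=
    comap_map_eq_self_of_injective K.subtype_injective _
  have hn : ((f.ker.map K.subtype).subgroupOf K).Normal := e.symm ▸ inferInstance
  exact ⟨K, _, hn, ⟨(QuotientGroup.quotientMulEquivOfEq e).trans
    (QuotientGroup.quotientKerEquivOfSurjective f hf)⟩⟩

/-- pairs of an element and the permutation it induces on four points -/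
def Gm {X : Type*} [MulAction G X] (p : Fin 4 → X) : Subgroup (G × Equiv.Perm (Fin 4)) where
  carrier := {z | ∀ i, z.1 • p i = p (z.2 i)}
  one_mem' i := one_smul _ _
  mul_mem' {a b} ha hb i := by
    rw [Prod.fst_mul, mul_smul, hb i, ha]; rfl
  inv_mem' {a} ha i := by
    rw [Prod.fst_inv, inv_smul_eq_iff, ha]; simp

theorem inv_of_pts {X : Type*} [MulAction G X] (p : Fin 4 → X) (hp : Function.Injective p)
    {a x t : G} (ha : (a, Equiv.swap 0 1 * Equiv.swap 2 3) ∈ Gm p)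
    (hx : (x, Equiv.swap 1 3 * Equiv.swap 1 2) ∈ Gm p) (ht : (t, Equiv.swap 2 3) ∈ Gm p) :
    Inv G := by
  have hi : Function.Injective ((MonoidHom.fst G _).comp (Gm (G := G) p).subtype) := by
    rw [injective_iff_map_eq_one]
    rintro ⟨⟨g, s⟩, hz⟩ (rfl : g = 1)
    refine Subtype.ext (Prod.ext rfl (Equiv.ext fun i => hp ?_))
    exact (hz i).symm.trans (one_smul _ _)
  have key : ∀ s : Equiv.Perm (Fin 4), ∃ i j k l : Fin 3,
      s = (Equiv.swap 1 3 * Equiv.swap 1 2) ^ j.1 *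
        (Equiv.swap 0 1 * Equiv.swap 2 3) ^ i.1 * (Equiv.swap 1 3 * Equiv.swap 1 2) ^ k.1 *
        Equiv.swap 2 3 ^ l.1 := by decide +kernel
  have hs : Function.Surjective ((MonoidHom.snd G _).comp (Gm (G := G) p).subtype) := by
    intro s
    obtain ⟨i, j, k, l, rfl⟩ := key s
    exact ⟨⟨_, mul_mem (mul_mem (mul_mem (pow_mem hx j.1)
      (pow_mem ha i.1)) (pow_mem hx k.1)) (pow_mem ht l.1)⟩, rfl⟩
  exact ⟨_, ((MonoidHom.snd G _).comp (Gm (G := G) p).subtype).comp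
    (MonoidHom.ofInjective hi).symm.toMonoidHom,
    hs.comp (MonoidHom.ofInjective hi).symm.surjective⟩

theorem inv_of_four {a b x t : G} (aa : a * a = 1) (bb : b * b = 1) (ab : b * a = a * b)
    (a1 : a ≠ 1) (x3 : x ^ 3 = 1) (tx : t * x * t⁻¹ = x⁻¹) (xa : x * a * x⁻¹ = b)
    (xb : x * b * x⁻¹ = a * b) (ta : t * a * t⁻¹ = a) : Inv G := by
  have ai : a⁻¹ = a := inv_eq_of_mul_eq_one_right aa
  have bi : b⁻¹ = b := inv_eq_of_mul_eq_one_right bb
  have b1 : b ≠ 1 := fun e => a1 (by rw [e] at xa; simpa using xa)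
  have ab1 : a * b ≠ 1 := fun e => b1 (by rw [e] at xb; simpa using xb)
  have xab : x * (a * b) * x⁻¹ = a := by
    rw [← conj_mul, xa, xb, ← mul_assoc, ab, mul_assoc, bb, mul_one]
  have tb : t * b * t⁻¹ = a * b := by
    calc _ = (t * x * t⁻¹) * (t * a * t⁻¹) * (t * x * t⁻¹)⁻¹ := by rw [← xa]; group
      _ = x⁻¹ * (x * (a * b) * x⁻¹) * x := by rw [tx, ta, xab, inv_inv]
      _ = _ := by group
  have tab : t * (a * b) * t⁻¹ = b := by
    rw [← conj_mul, ta, tb, ← mul_assoc, aa, one_mul]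
  have xH : x ∈ N[zpowers x] := norm_self _ (mem_zpowers x)
  have tH : t ∈ N[zpowers x] := by rw [mem_N_iff_cj, cj_zpowers, tx, zpowers_inv]
  have nH : ∀ u, u ∈ N[zpowers x] → (u * (x * u * x⁻¹)⁻¹) ^ 2 = 1 → x * u * x⁻¹ = u := by
    intro u hu h2
    have h3 : u * (x * u * x⁻¹)⁻¹ ∈ zpowers x := by
      have := mul_mem ((mem_N.1 hu x).1 (mem_zpowers x)) (inv_mem (mem_zpowers x))
      have e : u * x * u⁻¹ * x⁻¹ = u * (x * u * x⁻¹)⁻¹ := by group
      rwa [e] at this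
    obtain ⟨k, hk⟩ := h3
    have h4 : (u * (x * u * x⁻¹)⁻¹) ^ 3 = 1 := by
      rw [← hk]
      simp only
      rw [← zpow_natCast, ← zpow_mul, mul_comm, zpow_mul, zpow_natCast, x3, one_zpow]
    rw [pow_succ, h2, one_mul] at h4
    exact (mul_inv_eq_one.1 h4).symm
  have sq : (a * b) ^ 2 = 1 := by
    rw [pow_two, mul_assoc, ← mul_assoc b, ab, mul_assoc, bb, mul_one, aa]
  have na : a ∉ N[zpowers x] := fun h => ab1 (by
    have := nH a h (by rw [xa, bi, sq])
    rw [← xa, this, aa])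
  have nb : b ∉ N[zpowers x] := fun h => a1 (by
    have := nH b h (by
      rw [xb, mul_inv_rev, ← mul_assoc, mul_inv_cancel, one_mul, ai, pow_two, aa])
    rw [xb] at this
    simpa using this)
  have nab : a * b ∉ N[zpowers x] := fun h => b1 (by
    have := nH _ h (by
      rw [xab, ai, ← ab, mul_assoc, aa, mul_one, pow_two, bb])
    rw [xab] at this
    simpa using this)
  have act : ∀ g ∈ N[zpowers x], ∀ u : G,
      g • (u : G ⧸ N[zpowers x]) = ((g * u * g⁻¹ : G) : G ⧸ N[zpowers x]) := fun g hg u =>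
    (QuotientGroup.mk_mul_of_mem _ (inv_mem hg)).symm
  have e1 : a * (a * b) = b := by rw [← mul_assoc, aa, one_mul]
  have e2 : b * (a * b) = a := by rw [← ab, ← mul_assoc, bb, one_mul]
  have e3 : a * b * a = b := by rw [← ab, mul_assoc, aa, mul_one]
  have e4 : a * b * b = a := by rw [mul_assoc, bb, mul_one]
  have abi : (a * b)⁻¹ = a * b := by rw [mul_inv_rev, ai, bi, ab]
  refine inv_of_pts (X := G ⧸ N[zpowers x])
    ![((1 : G) : G ⧸ N[zpowers x]), (a : G), (b : G), (a * b : G)] ?_ (a := a) (x := x) (t := t)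
    ?_ ?_ ?_
  · intro i j h
    fin_cases i <;> fin_cases j <;>
      first
      | rfl
      | (exfalso
         have h' := QuotientGroup.eq.1 h
         simp only [inv_one, one_mul, mul_one, ai, bi, abi, e1, e2, e3, e4, ab] at h'
         contradiction)
  · intro i
    fin_cases i
    · exact congrArg QuotientGroup.mk (mul_one a)
    · exact congrArg QuotientGroup.mk aa
    · rfl
    · exact congrArg QuotientGroup.mk e1
  · intro i
    fin_cases i
    · exact (act x xH 1).trans (congrArg QuotientGroup.mk (by group))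
    · exact (act x xH a).trans (congrArg QuotientGroup.mk xa)
    · exact (act x xH b).trans (congrArg QuotientGroup.mk xb)
    · exact (act x xH _).trans (congrArg QuotientGroup.mk xab)
  · intro i
    fin_cases i
    · exact (act t tH 1).trans (congrArg QuotientGroup.mk (by group))
    · exact (act t tH a).trans (congrArg QuotientGroup.mk ta)
    · exact (act t tH b).trans (congrArg QuotientGroup.mk tb)
    · exact (act t tH _).trans (congrArg QuotientGroup.mk tab)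

theorem inv_of_mod {V : Subgroup G} {x t : G} (sq : ∀ a ∈ V, a * a = 1)
    (hx : ∀ a ∈ V, x * a * x⁻¹ ∈ V) (ht : ∀ a ∈ V, t * a * t⁻¹ ∈ V) (x3 : x ^ 3 = 1)
    (tx : t * x * t⁻¹ = x⁻¹) (tt : ∀ a ∈ V, t * (t * a * t⁻¹) * t⁻¹ = a) {q : G} (hq : q ∈ V)
    (qx : x * q * x⁻¹ ≠ q) : Inv G := by
  have iv : ∀ a ∈ V, a⁻¹ = a := fun a ha => inv_eq_of_mul_eq_one_right (sq a ha)
  have cm : ∀ a ∈ V, ∀ b ∈ V, a * b = b * a := fun a ha b hb => by
    rw [← iv _ (mul_mem ha hb), mul_inv_rev, iv a ha, iv b hb]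
  have xi : x⁻¹ = x * x := by
    rw [pow_succ, pow_two] at x3
    exact inv_eq_of_mul_eq_one_left x3
  have xxx : ∀ a, x * (x * (x * a * x⁻¹) * x⁻¹) * x⁻¹ = a := fun a => by
    calc _ = x ^ 3 * a * (x ^ 3)⁻¹ := by rw [pow_three]; group
      _ = a := by rw [x3]; group
  have fin : ∀ a ∈ V, a ≠ 1 → x * (x * a * x⁻¹) * x⁻¹ = a * (x * a * x⁻¹) → t * a * t⁻¹ = a →
      Inv G := fun a ha a1 h1 h2 =>
    inv_of_four (sq a ha) (sq _ (hx a ha)) (cm _ (hx a ha) a ha) a1 x3 tx rfl h1 h2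
  have cj : ∀ g a b : G, g * (a * b) * g⁻¹ = g * a * g⁻¹ * (g * b * g⁻¹) :=
    fun _ _ _ => conj_mul.symm
  have q1 := hx q hq
  have q2 := hx _ q1
  have hw : q * (x * q * x⁻¹) ∈ V := mul_mem hq q1
  have w1 : q * (x * q * x⁻¹) ≠ 1 := fun e =>
    qx ((eq_inv_of_mul_eq_one_right e).trans (iv q hq))
  have w2 : x * (x * (q * (x * q * x⁻¹)) * x⁻¹) * x⁻¹ =
      q * (x * q * x⁻¹) * (x * (q * (x * q * x⁻¹)) * x⁻¹) := by
    rw [cj x q, cj x (x * q * x⁻¹), xxx, mul_assoc q, ← mul_assoc (x * q * x⁻¹),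
      sq _ q1, one_mul, cm _ q2 q hq]
  generalize q * (x * q * x⁻¹) = w at hw w1 w2
  by_cases e : t * w * t⁻¹ = w
  · exact fin w hw w1 w2 e
  have hw' := ht w hw
  refine fin (w * (t * w * t⁻¹)) (mul_mem hw hw') (fun e' => e (by
    rw [eq_inv_of_mul_eq_one_right e', iv w hw])) ?_ (by rw [cj t w, tt w hw, cm _ hw' w hw])
  have xt : x * t = t * (x * x) := by
    rw [← xi]
    calc x * t = (x⁻¹)⁻¹ * t := by rw [inv_inv]
      _ = t * x⁻¹ := by nth_rewrite 1 [← tx]; group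
  have f1 : ∀ a, x * (t * a * t⁻¹) * x⁻¹ = t * (x * (x * a * x⁻¹) * x⁻¹) * t⁻¹ := fun a => by
    calc _ = (x * t) * a * (x * t)⁻¹ := by group
      _ = _ := by rw [xt]; group
  have w3 := hx w hw
  have f2 : x * (x * (t * w * t⁻¹) * x⁻¹) * x⁻¹ = t * w * t⁻¹ * (x * (t * w * t⁻¹) * x⁻¹) := by
    rw [f1 w, f1, xxx, w2, ← cj, ← mul_assoc w w, sq w hw, one_mul]
  rw [cj x w, cj x (x * w * x⁻¹), w2, f2]
  have := cm _ w3 _ hw'
  generalize x * w * x⁻¹ = a at this
  generalize x * (t * w * t⁻¹) * x⁻¹ = c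
  generalize t * w * t⁻¹ = b at this
  rw [mul_assoc w a, ← mul_assoc a, this]
  group

theorem inv_of_pgroup [Finite G] {Q : Subgroup G} {x t : G} (hQ : IsPi {2} Q) (hx : x ∈ N[Q])
    (ht : t ∈ N[Q]) (x3 : orderOf x = 3) (tx : t * x * t⁻¹ = x⁻¹) (tt : t * t ∈ C[Q])
    (nc : x ∉ C[Q]) : Inv G := by
  have px : IsPi {2}ᶜ (zpowers x) :=
    ((piElt_of_orderOf_prime Nat.prime_three x3).isPi).compl_of_ne (by omega)
  have hM : Q ≤ N[Phi Q] := (Phi_nml Q).norm
  have xM := norm_Phi (zpowers_le.2 hx)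
  have tM := norm_Phi (zpowers_le.2 ht) (mem_zpowers t)
  let π := QuotientGroup.mk' ((Phi Q).subgroupOf N[Phi Q])
  obtain ⟨q, hq, h1⟩ : ∃ (q : G) (hq : q ∈ Q), π ⟨x, xM (mem_zpowers x)⟩ * π ⟨q, hM hq⟩ *
      (π ⟨x, xM (mem_zpowers x)⟩)⁻¹ ≠ π ⟨q, hM hq⟩ := by
    by_contra hn
    push Not at hn
    refine nc (coprime_cent_Phi (hQ.coprime px) (commutator_le.2 ?_) (mem_zpowers x))
    rintro q hq _ ⟨k, rfl⟩
    have c : Commute (π ⟨x, xM (mem_zpowers x)⟩) (π ⟨q, hM hq⟩) :=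
      mul_inv_eq_iff_eq_mul.1 (hn q hq)
    have : π (⟨q, hM hq⟩ * ⟨x, xM (mem_zpowers x)⟩ ^ k * ⟨q, hM hq⟩⁻¹ *
        (⟨x, xM (mem_zpowers x)⟩ ^ k)⁻¹) = 1 := by
      simp only [map_mul, map_inv, map_zpow]
      rw [← (c.zpow_left k).eq]
      group
    exact (QuotientGroup.eq_one_iff (N := (Phi Q).subgroupOf N[Phi Q]) _).1 this
  refine Inv.of_sub N[Phi Q] (Inv.of_surj π (QuotientGroup.mk'_surjective _) ?_)
  replace xM := xM (mem_zpowers x)
  refine inv_of_mod (V := (Q.subgroupOf N[Phi Q]).map π) (x := π ⟨x, xM⟩) (t := π ⟨t, tM⟩)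
    ?_ ?_ ?_ ?_ ?_ ?_ (q := π ⟨q, hM hq⟩) ⟨_, hq, rfl⟩ h1
  · rintro _ ⟨a, ha, rfl⟩
    rw [← map_mul, ← pow_two]
    exact (QuotientGroup.eq_one_iff _).2 (hQ.pow_mem_Phi Nat.prime_two ha)
  · rintro _ ⟨a, ha, rfl⟩
    exact ⟨⟨x, xM⟩ * a * ⟨x, xM⟩⁻¹, (mem_N.1 hx a).1 ha, by simp only [map_mul, map_inv]⟩
  · rintro _ ⟨a, ha, rfl⟩
    exact ⟨⟨t, tM⟩ * a * ⟨t, tM⟩⁻¹, (mem_N.1 ht a).1 ha, by simp only [map_mul, map_inv]⟩
  · rw [← map_pow, ← map_one π]
    exact congrArg π (Subtype.ext (by rw [← x3]; exact pow_orderOf_eq_one x))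
  · rw [← map_inv, ← map_inv, ← map_mul, ← map_mul]
    exact congrArg π (Subtype.ext tx)
  · rintro _ ⟨a, ha, rfl⟩
    rw [← map_inv, ← map_mul, ← map_mul, ← map_mul, ← map_mul]
    refine congrArg π (Subtype.ext ?_)
    have := tt a ha
    calc t * (t * a * t⁻¹) * t⁻¹ = (t * t * a) * (t * t)⁻¹ := by group
      _ = a := by rw [← this]; group

theorem s3f [Finite G] (h : ¬ Inv G) (hc : centralizer (pCore 2 G : Set G) ≤ pCore 2 G)
    (x t : G) (x3 : x ^ 3 = 1) (tx : t * x * t⁻¹ = x⁻¹) : x = 1 := by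
  by_contra x1
  have := Fact.mk Nat.prime_three
  have o3 : orderOf x = 3 := orderOf_eq_prime x3 x1
  obtain ⟨k, m, hm, e⟩ := Nat.exists_eq_two_pow_mul_odd (orderOf_pos t).ne'
  have sx : t ^ m * x * (t ^ m)⁻¹ = x⁻¹ := by
    obtain ⟨j, rfl⟩ := hm
    have c : Commute (t ^ 2) x := by
      have : t ^ 2 * x * (t ^ 2)⁻¹ = x := by
        calc _ = t * (t * x * t⁻¹) * t⁻¹ := by rw [pow_two]; group
          _ = (t * x * t⁻¹)⁻¹ := by nth_rewrite 1 [tx]; group
          _ = x := by rw [tx, inv_inv]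
      exact mul_inv_eq_iff_eq_mul.1 this
    rw [pow_succ', pow_mul, mul_assoc t, (c.pow_left j).eq, ← tx]
    group
  have s2 : PiElt {2} (t ^ m) := piElt_of_pow_eq_one (piNat_self_pow Nat.prime_two k)
    (by rw [← pow_mul, mul_comm, ← e, pow_orderOf_eq_one])
  generalize t ^ m = s at sx s2
  have hQ : IsPi {2} (pCore 2 G) := isPi_of_isPGroup Nat.prime_two (H2.pCore_isPGroup 2 G)
  have nQ : ∀ A : Subgroup G, A ≤ N[pCore 2 G] := fun A => le_top.trans (nml_top _).norm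
  have px : IsPi {2}ᶜ (zpowers x) :=
    ((piElt_of_orderOf_prime Nat.prime_three o3).isPi).compl_of_ne (by omega)
  have ssx : s * s ∈ C{x} := mem_C1_iff_conj.2 (by
    calc _ = s * (s * x * s⁻¹) * s⁻¹ := by group
      _ = (s * x * s⁻¹)⁻¹ := by nth_rewrite 1 [sx]; group
      _ = x := by rw [sx, inv_inv])
  have nN : ∀ g ∈ C{s * s}, g ∈ N[pCore 2 G ⊓ C[zpowers (s * s)]] := fun g hg =>
    norm_inf (nQ _) (norm_C (norm_zpowers_of_cent (zpowers_le.2 hg))) (mem_zpowers g)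
  refine h (inv_of_pgroup (Q := pCore 2 G ⊓ C[zpowers (s * s)]) (hQ.inf_left _)
    (nN x (mem_C1_comm.1 ssx)) (nN s (mem_C1.2 (mul_assoc _ _ _).symm)) o3 sx
    (cents_symm inf_le_right (mem_zpowers _)) fun nc => x1 ?_)
  have := Thompson_PxQ (U := pCore 2 G) Nat.prime_two (s2.mul s2 rfl).isPi px hQ
    (by rw [C_zpowers]; exact zpowers_le.2 ssx) (nQ _) (nQ _) (cents_symm (zpowers_le.2 nc))
  exact (hQ.piElt (hc (this (mem_zpowers x)))).eq_one (px.piElt (mem_zpowers x))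

end H18.SFS
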