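import Mathlib
import Cfsg.Agent.H18.Elem

/-!
# Normalizers of Sylow subgroups in symmetric and alternating groups (helper18)
-/

set_option autoImplicit false

open MulAction Subgroup Equiv

namespace H18

variable {α : Type*} [Fintype α] [DecidableEq α]

theorem card_normalizer_sylow_perm (p : ℕ) [hp : Fact p.Prime]
    (hα : Fintype.card α = p ∨ Fintype.card α = p + 1) (P : Sylow p (Perm α)) :
    Nat.card ↥(normalizer ((P : Subgroup (Perm α)) : Set (Perm α))) = p * (p - 1) := by
  have hp2 := hp.out.two_le
  have hG : Nat.card (Perm α) = (Fintype.card α).factorial := by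
    rw [Nat.card_perm, Nat.card_eq_fintype_card]
  have hPc : Nat.card (P : Subgroup (Perm α)) = p := by
    rw [P.card_eq_multiplicity, hG]
    have h1 : p.factorial.factorization p = 1 := by
      obtain ⟨k, rfl⟩ : ∃ k, p = k + 1 := ⟨p - 1, by omega⟩
      rw [Nat.factorial_succ, Nat.factorization_mul (by omega) (Nat.factorial_ne_zero _),
        hp.out.factorization, Finsupp.add_apply, Finsupp.single_eq_same,
        Nat.factorization_eq_zero_of_not_dvd]
      rw [hp.out.dvd_factorial]; omega
    rcases hα with h | h
    · rw [h, h1, pow_one]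
    · rw [h, Nat.factorial_succ, Nat.factorization_mul (by omega) (Nat.factorial_ne_zero _),
        Finsupp.add_apply, h1, Nat.factorization_eq_zero_of_not_dvd, pow_one]
      intro hd
      have := (Nat.dvd_add_right dvd_rfl).1 hd
      exact hp.out.one_lt.ne' (Nat.dvd_one.1 this)
  have hcyc : ∀ g : Perm α, orderOf g = p ↔ g.cycleType = {p} := by
    intro g
    constructor
    · intro hg
      obtain ⟨n, hn⟩ := Perm.cycleType_prime_order (σ := g) (hg ▸ hp.out)
      have h2 := g.sum_cycleType_le
      rw [hn, hg, Multiset.sum_replicate, smul_eq_mul] at h2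
      have : n = 0 := by
        by_contra h0
        have : 2 * p ≤ (n + 1) * p := Nat.mul_le_mul_right _ (by omega)
        omega
      rw [hn, this, hg]; rfl
    · intro hg
      rw [← Perm.lcm_cycleType, hg]; simp
  have h1 := card_orderOf_eq_prime P hPc
  have h2 := Perm.card_of_cycleType_mul_eq α ({p} : Multiset ℕ)
  rw [if_pos ⟨by simp; omega, by simpa using hp2⟩] at h2
  have h3 : Nat.card {g : Perm α // orderOf g = p} =
      (Finset.univ.filter fun g : Perm α => g.cycleType = {p}).card := by
    rw [← Fintype.card_subtype, ← Nat.card_eq_fintype_card]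
    exact Nat.card_congr (Equiv.subtypeEquivRight hcyc)
  have h4 : (Fintype.card α - p).factorial = 1 := by
    rcases hα with h | h <;> simp [h]
  simp only [Multiset.sum_singleton, Multiset.prod_singleton, Multiset.toFinset_singleton,
    Finset.prod_singleton, Multiset.count_singleton_self, Nat.factorial_one, mul_one, h4,
    one_mul] at h2
  rw [← h3, h1, ← hG, ← card_sylow_mul_card_normalizer P, mul_assoc] at h2
  rw [← Nat.eq_of_mul_eq_mul_left Nat.card_pos h2, mul_comm]

theorem le_alternatingGroup_of_odd {H : Subgroup (Perm α)} (h : Odd (Nat.card H)) :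
    H ≤ alternatingGroup α := fun g hg => by
  rw [Perm.mem_alternatingGroup]
  have h1 : Odd (orderOf g) := h.of_dvd_nat (H.orderOf_dvd_natCard hg)
  have h2 : Perm.sign g ^ orderOf g = 1 := by rw [← map_pow, pow_orderOf_eq_one, map_one]
  rcases Int.units_eq_one_or (Perm.sign g) with h3 | h3
  · exact h3
  · rw [h3, h1.neg_one_pow] at h2
    exact absurd h2 (by decide)

theorem card_normalizer_sylow_alternating (hα : 2 ≤ Fintype.card α) (p : ℕ) [hp' : Fact p.Prime]
    (hp : p ≠ 2) (P : Sylow p (Perm α)) :
    (P : Subgroup (Perm α)) ≤ alternatingGroup α ∧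
      2 * Nat.card ↥(normalizer ((((P : Subgroup (Perm α)).subgroupOf (alternatingGroup α) :
        Subgroup ↥(alternatingGroup α)) : Set ↥(alternatingGroup α)))) =
      Nat.card ↥(normalizer ((P : Subgroup (Perm α)) : Set (Perm α))) := by
  have hPA : (P : Subgroup (Perm α)) ≤ alternatingGroup α := by
    apply le_alternatingGroup_of_odd
    rw [P.card_eq_multiplicity]
    exact (hp'.out.odd_of_ne_two hp).pow
  refine ⟨hPA, ?_⟩
  have : Nontrivial α := Fintype.one_lt_card_iff_nontrivial.1 hα
  have h1 := Sylow.normalizer_sup_eq_top' P hPA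
  rw [← subgroupOf_normalizer_eq hPA]
  set N := normalizer ((P : Subgroup (Perm α)) : Set (Perm α))
  have h2 : (alternatingGroup α).relIndex N = 2 := by
    rw [← relIndex_sup_right, show N ⊔ alternatingGroup α = ⊤ from h1, relIndex_top_right,
      alternatingGroup.index_eq_two]
  have h3 : Nat.card (N.subgroupOf (alternatingGroup α)) =
      Nat.card ((alternatingGroup α).subgroupOf N) := by
    rw [← inf_subgroupOf_right, ← inf_subgroupOf_left (K := N),
      Nat.card_congr (subgroupOfEquivOfLe inf_le_right).toEquiv,
      Nat.card_congr (subgroupOfEquivOfLe inf_le_left).toEquiv]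
  rw [h3, ← h2, relIndex, index_mul_card]

end H18
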