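import Mathlib
import Cfsg.Agent.H13.ZR3
import Cfsg.Agent.H18.XZc

/-!
S1763: an element `σ` of odd order of `C(z)` fixing `v` normalises the Sylow model; its action on the
`y^w` and on `t` is determined by its action on `Q`.
-/

set_option autoImplicit false
set_option linter.unusedSectionVars false
set_option linter.unusedVariables false

namespace H13
namespace ZR

open Subgroup H24 H15 H15.XP Module H6.XS H6.XS.ZA H29

/-- the codes of the members of `C_{Q_v}(z)` -/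
def rh (k : ℕ) : ℕ := k % 16 + 256 * (k / 16)

/-- the images of the `y^w` from the images of `y1, y2, y3` -/
def wl (T : SD) (a b d : ℕ) : List ℕ := [0, a, b, T.sm a b, d, T.sm a d, T.sm b d, T.sm a (T.sm b d)]

/-- evaluate first -/
def frc (u : ℕ) (f : ℕ → Bool) : Bool :=
  match u with
  | 0 => f 0
  | k + 1 => f (k + 1)

theorem frc_eq (u : ℕ) (f : ℕ → Bool) : frc u f = f u := by cases u <;> rfl

/-- the image of `y^w` is `b` up to `z` -/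
def sg1 (T : SD) (M : List ℕ) (w b : ℕ) : Bool :=
  ((List.range 8).all fun j => decide (T.aw w (2 ^ j) < 512) &&
    T.sm (T.aw w (2 ^ j)) (512 * w) == T.sm (512 * w) (2 ^ j)) &&
  (List.range 256).all fun k => frc (rh k) fun r =>
    !((List.range 8).all fun j => T.sm r (M.getD j 0) == T.sm (au M (T.aw w (2 ^ j))) r) ||
      r == b || r == b ^^^ 256

/-- the signs and the image of `t` -/
def sg2 (T : SD) (M W W' : List ℕ) (r2 : ℕ) : Bool :=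
  frc (step T ⟨2, 0, 0, M, 1, W'⟩ (T.tm 16)) fun u1 => frc (step T ⟨2, 0, 0, M, 1, W'⟩ (T.tm 32)) fun u2 =>
  frc (step T ⟨2, 0, 0, M, 1, W'⟩ (T.tm 64)) fun u3 => frc (step T ⟨2, 0, 0, M, 1, W'⟩ r2) fun e =>
  frc (T.tm u1) fun p1 => frc (T.tm u2) fun p2 => frc (T.tm u3) fun p3 =>
  decide (u1 < 4096) && decide (u2 < 4096) && decide (u3 < 4096) && decide (e < 4096) &&
  decide (u1 % 256 < 128) && decide (u2 % 256 < 128) && decide (u3 % 256 < 128) &&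
  (List.range 256).all fun k => frc (rh k) fun r =>
    !(T.sm p1 r == T.sm r (M.getD 4 0) && T.sm p2 r == T.sm r (M.getD 5 0) && T.sm p3 r == T.sm r (M.getD 6 0) &&
      T.sm (T.tm r) r == 0) || (W' == W && (T.sm r e == r2 || T.sm r e == T.sm r2 1))

/-- the whole check -/
def sigB (T : SD) (M W : List ℕ) (r2 : ℕ) : Bool :=
  M.getD 0 0 == 1 && T.R.length == 8 && wl T 512 1024 2048 == (List.range 8).map (512 * ·) &&
  decide (r2 < 4096) && (T.ti.all fun m => decide (m < 4096)) &&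
  sg1 T M 1 (W.getD 1 0) && sg1 T M 2 (W.getD 2 0) && sg1 T M 4 (W.getD 4 0) &&
  [W.getD 1 0, W.getD 1 0 ^^^ 256].all fun a => [W.getD 2 0, W.getD 2 0 ^^^ 256].all fun b =>
    [W.getD 4 0, W.getD 4 0 ^^^ 256].all fun d => sg2 T M W (wl T a b d) r2

variable {G : Type*} [Group G] [Finite G] {D : Set G} {Q : G → Subgroup G} {z : G}
variable {V : Type*} [AddCommGroup V] [Module (ZMod 2) V] [Finite V]
variable {F : Fr z (Q z) V} {E : V → Submodule (ZMod 2) V} {R : V → Subgroup (ofQuad F.q).Isom}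
variable {c : ℕ → V} {T : SD} {ψ : ℕ → G} {t : G}

namespace Bs

variable (h : Bs D Q F c T ψ t)
include h

theorem vQ : ψ 1 ∈ Q z := h.sb.lf.mem 1 (by norm_num)

theorem v_ne : ψ 1 ≠ z := fun e => by
  have := h.inj (a := 1) (b := 256) (by norm_num) (by norm_num) (by rw [h.sb.lf.zz, e])
  omega

theorem zQ : z ∈ Q (ψ 1) := h.sit.symm h.mem h.sb.vD h.vQ

theorem tinv : t⁻¹ = t := inv_eq_of_mul_eq_one_right h.sb.tt

theorem tzt : t * z * t⁻¹ = ψ 1 * z :=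
  (h.sit.cj_or h.sb.vD h.sb.tQ h.zQ).resolve_left fun e => h.sb.tz (mem_C1_iff_conj.2 e)

/-- the members of `C_{Q_v}(z)` -/
theorem memRH (hl : Lift D Q F E R) (hp : At c E R ⟨1, List.range 16, T.R⟩) (h8 : T.R.length = 8) {g : G}
    (gz : g ∈ C{z}) (gv : g ∈ Q (ψ 1)) : ∃ a < 4096, a % 256 < 16 ∧ g = ψ a := by
  have p1 : F.π (ψ 1) = c 1 := h.sb.lf.pi 1 (by norm_num)
  have e1 := hl.eqR _ h.sb.vD h.vQ h.v_ne
  have e2 := hl.eqE _ h.sb.vD h.vQ h.v_ne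
  rw [p1] at e1 e2
  obtain ⟨M, hM, r⟩ := hp.ofR (F.ρ ⟨g, gz⟩) (by change _ ∈ R (c 1); rw [e1]; exact ⟨⟨g, gz⟩, gv, rfl⟩)
  obtain ⟨w, hw, rfl⟩ := List.getElem_of_mem hM
  have w8 : w < 8 := h8 ▸ hw
  have r1 := h.sb.rp w w8 ⟨_, h.sb.cz (512 * w) (by omega)⟩ rfl
  rw [List.getD_eq_getElem _ _ hw] at r1
  have r3 : g * (ψ (512 * w))⁻¹ ∈ Q z := (F.ker (⟨g, gz⟩ * ⟨_, h.sb.cz (512 * w) (by omega)⟩⁻¹)).1 (by
    rw [map_mul, map_inv, h.cd.ext r r1, mul_inv_cancel])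
  obtain ⟨n, hn, en⟩ := h.sb.lf.surj h.sit h.mem h.cd r3
  have r4 : c (n % 256) ∈ E (c 1) := by
    rw [e2, ← h.sb.lf.pi n hn, en]
    exact ⟨_, mul_mem gv (inv_mem (h.sb.memv _ (by omega) (by omega))), r3, rfl⟩
  have r5 := List.mem_range.1 ((hp.memE _ (Nat.mod_lt _ (by norm_num))).1 r4)
  refine ⟨n + 512 * w, by omega, by omega, ?_⟩
  rw [← sm_split h.tok hn w8, h.sb.mul _ (by omega) _ (by omega), en, inv_mul_cancel_right]

variable (hl : Lift D Q F E R) (hp : At c E R ⟨1, List.range 16, T.R⟩) {x : G} {M : List ℕ} (hx : x ∈ C{z})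
  (a : Ac ψ x M)
include hl hp hx a

theorem nv (e : M.getD 0 0 = 1) {g : G} (gv : g ∈ Q (ψ 1)) : x * g * x⁻¹ ∈ Q (ψ 1) := by
  have := a.pow2 (i := 0) (by norm_num)
  rw [e, pow_zero] at this
  rw [← this, h.sit.eqv _ h.sb.vD]
  exact conj_mem_cj x gv

theorem sg1_ok (e : M.getD 0 0 = 1) (h8 : T.R.length = 8) {w b : ℕ} (hw : w < 8) (k : sg1 T M w b = true) :
    ∃ r ∈ [b, b ^^^ 256], r < 4096 ∧ x * ψ (512 * w) * x⁻¹ = ψ r := by
  simp only [sg1, frc_eq, Bool.and_eq_true, decide_eq_true_eq, beq_iff_eq, List.all_eq_true, List.mem_range,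
    Bool.or_eq_true, Bool.not_eq_true', ← Bool.not_eq_true] at k
  have w4 : 512 * w < 4096 := by omega
  obtain ⟨r, r1, r2, r3⟩ := h.memRH hl hp h8 (mul_mem (mul_mem hx (h.sb.cz _ w4)) (inv_mem hx))
    (h.nv hl hp hx a e (h.sb.memv _ w4 (by omega)))
  have e1 : rh (r % 256 + 16 * (r / 256)) = r := by unfold rh; omega
  have k2 := k.2 (r % 256 + 16 * (r / 256)) (by omega)
  rw [e1, or_assoc] at k2
  refine ⟨r, List.mem_pair.2 (k2.resolve_left (not_not.2 fun j hj => ?_)), r1, r3⟩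
  obtain ⟨q1, q2⟩ := k.1 j hj
  have j4 := (pow_lt hj).trans (by norm_num : 256 < 4096)
  have m4 := (getD_lt a.1 j).trans (by norm_num : 512 < 4096)
  have u4 := (au_lt M (T.aw w (2 ^ j))).trans (by norm_num : 512 < 4096)
  have q3 := congrArg ψ q2
  rw [h.sb.mul _ (by omega) _ w4, h.sb.mul _ w4 _ j4] at q3
  refine h.inj (sm_lt T r1 m4) (sm_lt T u4 r1) ?_
  rw [h.sb.mul _ r1 _ m4, h.sb.mul _ u4 _ r1, ← r3, ← a.pow2 hj, ← a.2 _ q1]
  calc _ = x * (ψ (512 * w) * ψ (2 ^ j)) * x⁻¹ := by group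
    _ = _ := by rw [← q3]; group

/-- the action of `σ` on the `y^w`, and the involution `t ψ(r2)` centralised by `σ` -/
theorem sigma {W : List ℕ} {n r2 : ℕ} (od : Odd n) (hn : x ^ n = 1) (k : sigB T M W r2 = true) :
    OKL z T ψ t ⟨2, 0, 0, M, n, W⟩ x ∧ x * (t * ψ r2) * x⁻¹ = t * ψ r2 := by
  simp only [sigB, Bool.and_eq_true, decide_eq_true_eq, beq_iff_eq, List.all_eq_true] at k
  obtain ⟨⟨⟨⟨⟨⟨⟨⟨e, h8⟩, k0⟩, k1⟩, k2⟩, s1⟩, s2⟩, s4⟩, k3⟩ := k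
  obtain ⟨b1, a1, l1, c1⟩ := h.sg1_ok hl hp hx a e h8 (by norm_num) s1
  obtain ⟨b2, a2, l2, c2⟩ := h.sg1_ok hl hp hx a e h8 (by norm_num) s2
  obtain ⟨b4, a4, l4, c4⟩ := h.sg1_ok hl hp hx a e h8 (by norm_num) s4
  have k4 := k3 b1 a1 b2 a2 b4 a4
  have cm : ∀ {p q p' q' : ℕ}, p < 4096 → q < 4096 → p' < 4096 → q' < 4096 → x * ψ p * x⁻¹ = ψ p' →
      x * ψ q * x⁻¹ = ψ q' → x * ψ (T.sm p q) * x⁻¹ = ψ (T.sm p' q') := fun hp hq hp' hq' e1 e2 => by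
    rw [h.sb.mul _ hp _ hq, h.sb.mul _ hp' _ hq', ← e1, ← e2]; group
  have wt : ∀ w < 8, x * ψ (512 * w) * x⁻¹ = ψ ((wl T b1 b2 b4).getD w 4096) := fun w hw => by
    have e1 : 512 * w = (wl T 512 1024 2048).getD w 4096 := by rw [k0]; interval_cases w <;> rfl
    rw [e1]
    norm_num at c1 c2 c4
    interval_cases w
    · simp [wl, h.one]
    · exact c1
    · exact c2
    · exact cm (by norm_num) (by norm_num) l1 l2 c1 c2
    · exact c4
    · exact cm (by norm_num) (by norm_num) l1 l4 c1 c4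
    · exact cm (by norm_num) (by norm_num) l2 l4 c2 c4
    · exact cm (by norm_num) (sm_lt T (by norm_num) (by norm_num)) l1 (sm_lt T l2 l4) c1
        (cm (by norm_num) (by norm_num) l2 l4 c2 c4)
  have st : ∀ {b : ℕ}, step T ⟨2, 0, 0, M, 1, wl T b1 b2 b4⟩ b < 4096 →
      b < 4096 ∧ x * ψ b * x⁻¹ = ψ (step T ⟨2, 0, 0, M, 1, wl T b1 b2 b4⟩ b) := fun hb =>
    h.step_ok (l := ⟨2, 0, 0, M, n, wl T b1 b2 b4⟩) ⟨fun e => by simp at e, fun e => by simp at e,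
      fun _ => ⟨hx, a⟩, fun _ => ⟨od, hn⟩, fun _ _ w hw _ => wt w hw⟩ hb
  have xv : x * ψ 1 * x⁻¹ = ψ 1 := by
    have := a.pow2 (i := 0) (by norm_num)
    rwa [e, pow_zero] at this
  have tv : t * ψ 1 * t⁻¹ = ψ 1 := mem_C1_iff_conj.1 (h.sit.le h.sb.vD h.sb.tQ)
  have xz := mem_C1_iff_conj.1 hx
  obtain ⟨r, r1, r2', r3⟩ := h.memRH hl hp h8 (g := t * (x * t * x⁻¹)) (mem_C1_iff_conj.2 (by
      calc _ = t * (x * (t * (x⁻¹ * z * x) * t⁻¹) * x⁻¹) * t⁻¹ := by group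
        _ = t * (x * ψ 1 * x⁻¹ * (x * z * x⁻¹)) * t⁻¹ := by
          rw [show x⁻¹ * z * x = z by rw [← xz]; nth_rewrite 2 [xz]; group, h.tzt]; group
        _ = (t * ψ 1 * t⁻¹) * (t * z * t⁻¹) := by rw [xv, xz]; group
        _ = z := by rw [tv, h.tzt, ← mul_assoc, h.sit.sq h.sb.vD, one_mul]))
    (mul_mem h.sb.tQ (h.nv hl hp hx a e h.sb.tQ))
  have r4 : x * t * x⁻¹ = t * ψ r := by rw [← r3, ← mul_assoc t t, h.sb.tt, one_mul]
  simp only [sg2, frc_eq, Bool.and_eq_true, decide_eq_true_eq, beq_iff_eq, List.all_eq_true, List.mem_range,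
    Bool.or_eq_true, Bool.not_eq_true', ← Bool.not_eq_true] at k4
  obtain ⟨⟨⟨⟨⟨⟨⟨u1, u2⟩, u3⟩, u4⟩, v1⟩, v2⟩, v3⟩, k5⟩ := k4
  have e1 : rh (r % 256 + 16 * (r / 256)) = r := by unfold rh; omega
  have k6 := k5 (r % 256 + 16 * (r / 256)) (by omega)
  rw [e1] at k6
  have tl : ∀ b, T.tm b < 4096 := fun b => pr_lt T _ k2 b
  have ti := h.tinv
  have key : ∀ i, 4 ≤ i → i < 7 → step T ⟨2, 0, 0, M, 1, wl T b1 b2 b4⟩ (T.tm (2 ^ i)) < 4096 →
      step T ⟨2, 0, 0, M, 1, wl T b1 b2 b4⟩ (T.tm (2 ^ i)) % 256 < 128 →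
      T.sm (T.tm (step T ⟨2, 0, 0, M, 1, wl T b1 b2 b4⟩ (T.tm (2 ^ i)))) r = T.sm r (M.getD i 0) :=
    fun i i4 i7 q1 q2 => by
      have m4 := (getD_lt a.1 i).trans (by norm_num : 512 < 4096)
      have j : 2 ^ i < 4096 ∧ 2 ^ i % 256 < 128 := by interval_cases i <;> norm_num
      refine h.inj (sm_lt T (tl _) r1) (sm_lt T r1 m4) ?_
      rw [h.sb.mul _ (tl _) _ r1, h.sb.mul _ r1 _ m4, ← h.sb.cj _ q1 q2, ← (st q1).2, ← h.sb.cj _ j.1 j.2,
        ← a.pow2 (by omega), ← r3]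
      calc _ = t * (x * t * ψ (2 ^ i) * t * x⁻¹ * (t * t) * x * t * x⁻¹) := by group
        _ = t * (x * t * ψ (2 ^ i) * (t * t) * x⁻¹) := by
          nth_rewrite 1 [h.sb.tt]; simp only [mul_assoc, mul_one, inv_mul_cancel_left]
        _ = _ := by rw [h.sb.tt]; group
  obtain ⟨e2, e3⟩ := k6.resolve_left (not_not.2 ⟨⟨⟨key 4 le_rfl (by norm_num) u1 v1,
    key 5 (by norm_num) (by norm_num) u2 v2⟩, key 6 (by norm_num) (by norm_num) u3 v3⟩,
    h.inj (sm_lt T (tl _) r1) (by norm_num) (by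
      rw [h.sb.mul _ (tl _) _ r1, ← h.sb.cj _ r1 (by omega), h.one]
      calc _ = (t * ψ r) * (t * ψ r) := by group
        _ = x * (t * t) * x⁻¹ := by rw [← r4]; group
        _ = 1 := by rw [h.sb.tt]; group)⟩)
  refine ⟨⟨fun e => by simp at e, fun e => by simp at e, fun _ => ⟨hx, a⟩, fun _ => ⟨od, hn⟩,
    fun _ _ w hw _ => e2 ▸ wt w hw⟩, ?_⟩
  have e4 : x * (t * ψ r2) * x⁻¹ = t * ψ (T.sm r (step T ⟨2, 0, 0, M, 1, wl T b1 b2 b4⟩ r2)) := by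
    rw [h.sb.mul _ r1 _ u4, ← (st u4).2, ← mul_assoc t, ← r4]; group
  rcases e3 with e3 | e3
  · rw [e4, e3]
  rw [e3, h.sb.mul _ k1 _ (by norm_num), ← mul_assoc t] at e4
  have e5 : ∀ m : ℕ, x ^ m * (t * ψ r2) * (x ^ m)⁻¹ = t * ψ r2 * ψ 1 ^ m := fun m => by
    induction m with
    | zero => simp
    | succ m ih =>
      calc _ = x * (x ^ m * (t * ψ r2) * (x ^ m)⁻¹) * x⁻¹ := by group
        _ = x * (t * ψ r2) * x⁻¹ * (x * ψ 1 * x⁻¹) ^ m := by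
          rw [ih, conj_pow]; simp only [mul_assoc, inv_mul_cancel_left]
        _ = _ := by rw [e4, xv, pow_succ']; group
  have e6 := e5 n
  rw [hn, z_pow_odd h.sit h.sb.vD od] at e6
  exact absurd (by simpa using e6) (h.sit.ne_one h.sb.vD)

end Bs

theorem sig7 : sigB s7 [1, 11, 15, 6, 48, 119, 95, 207] [0, 1799, 3587, 2308, 2826, 3084, 1289, 527] 14 = true := by
  decide +kernel

theorem sig3 : sigB s3 [1, 6, 2, 8, 32, 56, 66, 128] [0, 1024, 1536, 512, 2050, 3074, 3587, 2563] 0 = true := by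
  decide +kernel

end ZR
end H13
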